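import Mathlib.RingTheory.RegularLocalRing.Defs
import Mathlib.RingTheory.KrullDimension.Regular
import Mathlib.RingTheory.Regular.RegularSequence
import Mathlib.RingTheory.Nakayama
import Mathlib.RingTheory.KrullDimension.Zero
import Mathlib.RingTheory.Ideal.KrullsHeightTheorem

/-!
Basic facts about regular local rings.
-/

universe u

open IsLocalRing
open scoped Pointwise

namespace Groth.L01

section Local

variable {R : Type u} [CommRing R] [IsLocalRing R]

theorem exists_dim_eq_nat [IsNoetherianRing R] : ∃ n : ℕ, ringKrullDim R = n := by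
  rw [← maximalIdeal_height_eq_ringKrullDim]
  have h := (maximalIdeal R).height_ne_top (maximalIdeal.isMaximal R).ne_top
  obtain ⟨n, hn⟩ := ENat.ne_top_iff_exists.mp h
  exact ⟨n, by rw [← hn]; rfl⟩

theorem isLocalRing_quotient {I : Ideal R} (hI : I ≠ ⊤) : IsLocalRing (R ⧸ I) :=
  have : Nontrivial (R ⧸ I) := Ideal.Quotient.nontrivial_iff.mpr hI
  IsLocalRing.of_surjective' (Ideal.Quotient.mk I) Ideal.Quotient.mk_surjective

theorem maximalIdeal_quotient_eq_map {I : Ideal R} [IsLocalRing (R ⧸ I)] :
    maximalIdeal (R ⧸ I) = (maximalIdeal R).map (Ideal.Quotient.mk I) := by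
  have hc : (maximalIdeal (R ⧸ I)).comap (Ideal.Quotient.mk I) = maximalIdeal R :=
    eq_maximalIdeal (Ideal.comap_isMaximal_of_surjective _ Ideal.Quotient.mk_surjective)
  rw [← hc, Ideal.map_comap_of_surjective _ Ideal.Quotient.mk_surjective]

/-- Generators of the maximal ideal lift modulo an element. -/
theorem maximalIdeal_eq_span_insert {x : R} (hx : x ∈ maximalIdeal R)
    [IsLocalRing (R ⧸ Ideal.span {x})] {s : Set R}
    (hs : Ideal.span (Ideal.Quotient.mk (Ideal.span {x}) '' s) = maximalIdeal (R ⧸ Ideal.span {x})) :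
    Ideal.span (insert x s) = maximalIdeal R := by
  rw [maximalIdeal_quotient_eq_map, ← Ideal.map_span] at hs
  have := congrArg (Ideal.comap (Ideal.Quotient.mk (Ideal.span {x}))) hs
  rw [Ideal.comap_map_of_surjective' _ Ideal.Quotient.mk_surjective,
    Ideal.comap_map_of_surjective' _ Ideal.Quotient.mk_surjective, Ideal.mk_ker] at this
  rw [Ideal.span_insert, sup_comm, this, sup_eq_left]
  exact (Ideal.span_singleton_le_iff_mem _).mpr hx

theorem spanFinrank_le_succ [IsNoetherianRing R] {x : R} (hx : x ∈ maximalIdeal R)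
    [IsLocalRing (R ⧸ Ideal.span {x})] :
    (maximalIdeal R).spanFinrank ≤ (maximalIdeal (R ⧸ Ideal.span {x})).spanFinrank + 1 := by
  have fg : (maximalIdeal (R ⧸ Ideal.span {x})).FG := Ideal.fg_of_isNoetherianRing _
  classical
  obtain ⟨t, ht⟩ : ∃ t : Set R, t.Finite ∧ t.ncard ≤ (maximalIdeal (R ⧸ Ideal.span {x})).spanFinrank ∧
      Ideal.span (Ideal.Quotient.mk (Ideal.span {x}) '' t) = maximalIdeal (R ⧸ Ideal.span {x}) := by
    refine ⟨Function.surjInv Ideal.Quotient.mk_surjective '' (maximalIdeal (R ⧸ Ideal.span {x})).generators,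
      (Submodule.FG.finite_generators fg).image _, ?_, ?_⟩
    · exact (Set.ncard_image_le (Submodule.FG.finite_generators fg)).trans_eq
        (Submodule.FG.generators_ncard fg)
    · rw [← Set.image_comp, (funext (Function.surjInv_eq _) :
        Ideal.Quotient.mk (Ideal.span {x}) ∘ Function.surjInv Ideal.Quotient.mk_surjective = id),
        Set.image_id]
      exact Submodule.span_generators _
  rw [← maximalIdeal_eq_span_insert hx ht.2.2]
  exact (Submodule.spanFinrank_span_le_ncard_of_finite (ht.1.insert x)).trans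
    ((Set.ncard_insert_le _ _).trans (by have := ht.2.1; omega))

theorem spanFinrank_quotient_add_one_le [IsNoetherianRing R] {x : R} (hx : x ∈ maximalIdeal R)
    (hx2 : x ∉ maximalIdeal R ^ 2) [IsLocalRing (R ⧸ Ideal.span {x})] :
    (maximalIdeal (R ⧸ Ideal.span {x})).spanFinrank + 1 ≤ (maximalIdeal R).spanFinrank := by
  classical
  have fg : (maximalIdeal R).FG := Ideal.fg_of_isNoetherianRing _
  obtain ⟨G, hG, hGfin, hcard⟩ : ∃ G : Set R, Ideal.span G = maximalIdeal R ∧ G.Finite ∧
      G.ncard = (maximalIdeal R).spanFinrank :=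
    ⟨_, Submodule.span_generators _, Submodule.FG.finite_generators fg,
      Submodule.FG.generators_ncard fg⟩
  obtain ⟨s, rfl⟩ := hGfin.exists_finset_coe
  rw [Set.ncard_coe_finset] at hcard
  have hxs : x ∈ Submodule.span R ((s : Set R)) := by
    rw [Ideal.span] at hG; rw [hG]; exact hx
  obtain ⟨c, -, hc⟩ := Submodule.mem_span_finset.mp hxs
  obtain ⟨g, hg, hu⟩ : ∃ g ∈ s, IsUnit (c g) := by
    by_contra! h
    apply hx2
    rw [← hc, pow_two]
    exact Submodule.sum_mem _ fun g hg => Ideal.mul_mem_mul ((mem_maximalIdeal _).mpr (h g hg))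
      (hG ▸ Ideal.subset_span hg)
  have hI : maximalIdeal (R ⧸ Ideal.span {x}) =
      Ideal.span (Ideal.Quotient.mk (Ideal.span {x}) '' ↑(s.erase g)) := by
    rw [maximalIdeal_quotient_eq_map, ← hG, Ideal.map_span]
    apply le_antisymm
    · rw [Ideal.span_le]
      rintro _ ⟨y, hy, rfl⟩
      by_cases hyg : y = g
      · subst hyg
        obtain ⟨v, hv⟩ := hu
        have h0 : Ideal.Quotient.mk (Ideal.span {x}) (c y * y) +
            ∑ i ∈ s.erase y, Ideal.Quotient.mk (Ideal.span {x}) (c i * i) = 0 := by
          rw [← map_sum, ← map_add, Finset.add_sum_erase _ (fun i => c i * i) hy]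
          rw [show (∑ i ∈ s, c i * i) = x from hc, Ideal.Quotient.eq_zero_iff_mem]
          exact Ideal.mem_span_singleton_self x
        have hm : Ideal.Quotient.mk (Ideal.span {x}) (c y * y) ∈
            Ideal.span (Ideal.Quotient.mk (Ideal.span {x}) '' ↑(s.erase y)) := by
          rw [eq_neg_of_add_eq_zero_left h0]
          refine neg_mem (Submodule.sum_mem _ fun i hi => ?_)
          rw [map_mul]
          exact Ideal.mul_mem_left _ _ (Ideal.subset_span ⟨i, hi, rfl⟩)
        rw [map_mul, ← hv] at hm
        exact (Ideal.unit_mul_mem_iff_mem _ (v.isUnit.map _)).mp hm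
      · exact Ideal.subset_span ⟨y, Finset.mem_coe.mpr (Finset.mem_erase.mpr ⟨hyg, hy⟩), rfl⟩
    · exact Ideal.span_mono (Set.image_mono (Finset.coe_subset.mpr (Finset.erase_subset _ _)))
  rw [hI, ← hcard, ← Finset.card_erase_add_one hg, add_le_add_iff_right, ← Finset.coe_image]
  exact (Submodule.spanFinrank_span_le_ncard_of_finite (Finset.finite_toSet _)).trans
    (by rw [Set.ncard_coe_finset]; exact Finset.card_image_le)

end Local

variable {R : Type u} [CommRing R]

theorem regular_quotient_of_notMem_sq [IsRegularLocalRing R] {x : R} (hx : x ∈ maximalIdeal R)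
    (hx2 : x ∉ maximalIdeal R ^ 2) :
    IsRegularLocalRing (R ⧸ Ideal.span {x}) ∧
      ringKrullDim (R ⧸ Ideal.span {x}) + 1 = ringKrullDim R := by
  have hne : Ideal.span {x} ≠ ⊤ :=
    ne_top_of_le_ne_top (maximalIdeal.isMaximal R).ne_top ((Ideal.span_singleton_le_iff_mem _).mpr hx)
  have := isLocalRing_quotient hne
  obtain ⟨a, ha⟩ := exists_dim_eq_nat (R := R)
  obtain ⟨b, hb⟩ := exists_dim_eq_nat (R := R ⧸ Ideal.span {x})
  have h1 := spanFinrank_quotient_add_one_le hx hx2
  have h2 : ringKrullDim R ≤ ringKrullDim (R ⧸ Ideal.span {x}) + 1 := by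
    have e : x • (⊤ : Ideal R) = Ideal.span {x} := by
      rw [← Submodule.ideal_span_singleton_smul, smul_eq_mul, Ideal.mul_top]
    rw [← ringKrullDim_eq_of_ringEquiv (Ideal.quotEquivOfEq e)]
    exact ringKrullDim_le_ringKrullDim_quotSMulTop_succ hx
  have h3 := ringKrullDim_le_spanFinrank_maximalIdeal (R ⧸ Ideal.span {x})
  have h4 := (isRegularLocalRing_iff R).mp ‹_›
  rw [ha, hb] at h2
  rw [hb] at h3
  rw [ha] at h4
  norm_cast at h2 h3 h4
  refine ⟨IsRegularLocalRing.of_spanFinrank_maximalIdeal_le _ ?_, ?_⟩
  · rw [hb]; norm_cast; omega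
  · rw [ha, hb]; norm_cast; omega

private theorem isDomain_aux : ∀ (d : ℕ) (R : Type u) [CommRing R] [IsRegularLocalRing R],
    (maximalIdeal R).spanFinrank = d → IsDomain R := by
  intro d
  induction d using Nat.strong_induction_on with
  | _ d ih =>
    intro R _ _ hd
    rcases Nat.eq_zero_or_pos d with rfl | hpos
    · have h : maximalIdeal R = ⊥ :=
        (Submodule.spanFinrank_eq_zero_iff_eq_bot (Ideal.fg_of_isNoetherianRing _)).mp hd
      exact (isField_iff_maximalIdeal_eq.mpr h).isDomain
    have hreg := (isRegularLocalRing_iff R).mp ‹_›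
    have hdim : ringKrullDim R = d := by rw [← hreg, hd]
    -- prime avoidance
    obtain ⟨x, hx, hx2, hxmin⟩ : ∃ x ∈ maximalIdeal R, x ∉ maximalIdeal R ^ 2 ∧
        ∀ p ∈ minimalPrimes R, x ∉ p := by
      by_contra! h
      classical
      set S := insert (maximalIdeal R ^ 2)
        (minimalPrimes.finite_of_isNoetherianRing R).toFinset with hS
      have hsub : ((maximalIdeal R : Ideal R) : Set R) ⊆ ⋃ i ∈ (↑S : Set (Ideal R)), (i : Ideal R) := by
        intro x hx
        by_cases hx2 : x ∈ maximalIdeal R ^ 2
        · exact Set.mem_biUnion (by simp [hS]) hx2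
        · obtain ⟨p, hp, hxp⟩ := h x hx hx2
          exact Set.mem_biUnion (by simp [hS, hp]) hxp
      obtain ⟨I, hI, hle⟩ := (Ideal.subset_union_prime (f := id) (maximalIdeal R ^ 2)
        (maximalIdeal R ^ 2) (fun i hi h1 _ => by
          simp only [hS, Finset.mem_insert, h1, false_or, Set.Finite.mem_toFinset] at hi
          exact hi.1.1)).mp hsub
      simp only [hS, Finset.mem_insert, Set.Finite.mem_toFinset] at hI
      rcases hI with rfl | hI
      · have hm : maximalIdeal R ≤ maximalIdeal R • (maximalIdeal R : Submodule R R) := by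
          simpa [pow_two] using hle
        have := Submodule.eq_bot_of_le_smul_of_le_jacobson_bot (maximalIdeal R) (maximalIdeal R)
          (Ideal.fg_of_isNoetherianRing _) hm (maximalIdeal_le_jacobson _)
        rw [this, Submodule.spanFinrank_bot] at hd
        omega
      · have : I.IsPrime := hI.1.1
        have hIm : I = maximalIdeal R := le_antisymm (le_maximalIdeal this.ne_top) hle
        subst hIm
        have h0 : (maximalIdeal R).height = 0 := Ideal.height_eq_zero_iff.mpr hI
        have := maximalIdeal_height_eq_ringKrullDim (R := R)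
        rw [h0, hdim] at this
        norm_cast at this
        omega
    obtain ⟨hq, hqdim⟩ := regular_quotient_of_notMem_sq hx hx2
    obtain ⟨b, hb⟩ := exists_dim_eq_nat (R := R ⧸ Ideal.span {x})
    have hbd : b + 1 = d := by rw [hb, hdim] at hqdim; exact_mod_cast hqdim
    have hsp : (maximalIdeal (R ⧸ Ideal.span {x})).spanFinrank = b := by
      have := (isRegularLocalRing_iff _).mp hq
      rw [hb] at this; exact_mod_cast this
    have hdom := ih b (by omega) (R ⧸ Ideal.span {x}) hsp
    have hP : (Ideal.span {x}).IsPrime := (Ideal.Quotient.isDomain_iff_prime _).mp hdom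
    obtain ⟨q, hq', hqle⟩ := Ideal.exists_minimalPrimes_le (J := Ideal.span {x}) (bot_le : ⊥ ≤ _)
    have hqp : q.IsPrime := hq'.1.1
    have hxq : x ∉ q := hxmin q hq'
    have hqbot : q = ⊥ := by
      refine Submodule.eq_bot_of_le_smul_of_le_jacobson_bot (maximalIdeal R) q
        (Ideal.fg_of_isNoetherianRing _) ?_ (maximalIdeal_le_jacobson _)
      intro y hy
      obtain ⟨z, rfl⟩ := Ideal.mem_span_singleton'.mp (hqle hy)
      have hz : z ∈ q := (hqp.mem_or_mem hy).resolve_right hxq
      rw [mul_comm]
      exact Submodule.smul_mem_smul hx hz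
    subst hqbot
    exact IsDomain.of_bot_isPrime R

theorem isDomain_of_regular (R : Type u) [CommRing R] [IsRegularLocalRing R] : IsDomain R :=
  isDomain_aux _ R rfl

theorem ne_zero_of_notMem_sq {x : R} [IsLocalRing R] (hx2 : x ∉ maximalIdeal R ^ 2) : x ≠ 0 :=
  fun h => hx2 (h ▸ zero_mem _)

theorem exists_regular_of_quotient [IsLocalRing R] [IsNoetherianRing R] {x : R}
    (hx : x ∈ maximalIdeal R) (hreg : x ∈ nonZeroDivisors R)
    [IsRegularLocalRing (R ⧸ Ideal.span {x})] : IsRegularLocalRing R := by
  apply IsRegularLocalRing.of_spanFinrank_maximalIdeal_le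
  rw [← ringKrullDim_quotient_span_singleton_succ_eq_ringKrullDim_of_mem_nonZeroDivisors hreg hx,
    ← (isRegularLocalRing_iff (R ⧸ Ideal.span {x})).mp inferInstance]
  exact_mod_cast spanFinrank_le_succ hx

theorem spanFinrank_ofList_le (l : List R) : (Ideal.ofList l).spanFinrank ≤ l.length := by
  classical
  have : Ideal.ofList l = Ideal.span (l.toFinset : Set R) := by
    simp [Ideal.ofList]
  rw [this]
  exact (Submodule.spanFinrank_span_le_ncard_of_finite (Finset.finite_toSet _)).trans
    (by rw [Set.ncard_coe_finset]; exact List.toFinset_card_le l)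

theorem isRegular_of_ofList_eq_maximalIdeal : ∀ (rs : List R) [IsRegularLocalRing R],
    Ideal.ofList rs = maximalIdeal R → ringKrullDim R = rs.length →
    RingTheory.Sequence.IsRegular R rs := by
  suffices H : ∀ (n : ℕ) (R : Type u) [CommRing R] [IsRegularLocalRing R] (rs : List R),
      rs.length = n → Ideal.ofList rs = maximalIdeal R → ringKrullDim R = n →
      RingTheory.Sequence.IsWeaklyRegular R rs by
    intro rs _ hgen hdim
    refine ⟨H _ R rs rfl hgen hdim, ?_⟩
    rw [smul_eq_mul, Ideal.mul_top, hgen]
    exact (maximalIdeal.isMaximal R).ne_top.symm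
  intro n
  induction n with
  | zero =>
    intro R _ _ rs hl _ _
    rw [List.length_eq_zero_iff.mp hl]
    exact .nil R R
  | succ n ih =>
    intro R _ _ rs hl hgen hdim
    obtain ⟨x, rest, rfl⟩ := List.exists_cons_of_length_eq_add_one hl
    have hx : x ∈ maximalIdeal R := hgen ▸ Ideal.subset_span (by simp)
    rw [Ideal.ofList_cons] at hgen
    have hx2 : x ∉ maximalIdeal R ^ 2 := by
      intro h
      have hle : maximalIdeal R ≤ Ideal.ofList rest := by
        apply Submodule.le_of_le_smul_of_le_jacobson_bot (I := maximalIdeal R)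
          (Ideal.fg_of_isNoetherianRing _) (maximalIdeal_le_jacobson _)
        rw [smul_eq_mul, ← pow_two]
        conv_lhs => rw [← hgen]
        exact sup_le (((Ideal.span_singleton_le_iff_mem _).mpr h).trans le_sup_right) le_sup_left
      have heq : maximalIdeal R = Ideal.ofList rest :=
        le_antisymm hle (le_sup_right.trans hgen.le)
      have h3 := (isRegularLocalRing_iff R).mp ‹_›
      rw [hdim, heq] at h3
      have h4 := spanFinrank_ofList_le rest
      norm_cast at h3
      simp only [List.length_cons] at hl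
      omega
    obtain ⟨hq, hqdim⟩ := regular_quotient_of_notMem_sq hx hx2
    obtain ⟨b, hb⟩ := exists_dim_eq_nat (R := R ⧸ Ideal.span {x})
    have hbn : b = n := by
      rw [hb, hdim] at hqdim
      norm_cast at hqdim
      omega
    subst hbn
    have hdom := isDomain_of_regular R
    have hih := ih (R ⧸ Ideal.span {x}) (rest.map (Ideal.Quotient.mk _))
      (by simpa using hl) (by
        rw [← Ideal.map_ofList, maximalIdeal_quotient_eq_map, ← hgen, Ideal.map_sup,
          Ideal.map_quotient_self, bot_sup_eq]) hb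
    rw [← Ideal.Quotient.algebraMap_eq,
      RingTheory.Sequence.isWeaklyRegular_map_algebraMap_iff] at hih
    refine RingTheory.Sequence.IsWeaklyRegular.cons
      (Module.Flat.isSMulRegular_of_nonZeroDivisors
        (mem_nonZeroDivisors_of_ne_zero (ne_zero_of_notMem_sq hx2))) ?_
    exact (LinearEquiv.isWeaklyRegular_congr (Submodule.quotEquivOfEq _ _ (by
      rw [← Submodule.ideal_span_singleton_smul, smul_eq_mul, Ideal.mul_top])) _).mpr hih

theorem maximalIdeal_le_of_le_sup_sq [IsLocalRing R] [IsNoetherianRing R] {J : Ideal R}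
    (h : maximalIdeal R ≤ J ⊔ maximalIdeal R ^ 2) : maximalIdeal R ≤ J :=
  Submodule.le_of_le_smul_of_le_jacobson_bot (I := maximalIdeal R)
    (Ideal.fg_of_isNoetherianRing _) (maximalIdeal_le_jacobson _)
    (by rwa [smul_eq_mul, ← pow_two])

/-- An ideal with regular quotient is generated by part of a regular system of parameters. -/
theorem exists_lists_of_regular_quotient : ∀ (d : ℕ) (R : Type u) [CommRing R] [IsRegularLocalRing R],
    ringKrullDim R = d → ∀ (I : Ideal R), IsRegularLocalRing (R ⧸ I) →
    ∃ l₁ l₂ : List R, (l₁ ++ l₂).length = d ∧ Ideal.ofList (l₁ ++ l₂) = maximalIdeal R ∧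
      I = Ideal.ofList l₁ := by
  intro d
  induction d using Nat.strong_induction_on with
  | _ d ih =>
    intro R _ _ hd I hI
    have hne : I ≠ ⊤ := Ideal.Quotient.nontrivial_iff.mp inferInstance
    have hreg := (isRegularLocalRing_iff R).mp ‹_›
    have hsp : (maximalIdeal R).spanFinrank = d := by rw [hd] at hreg; exact_mod_cast hreg
    by_cases hbot : I = ⊥
    · have hfg : Submodule.FG (maximalIdeal R) := Ideal.fg_of_isNoetherianRing (maximalIdeal R)
      obtain ⟨s, hs, hsg⟩ := hfg.exists_span_finset_card_eq_spanFinrank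
      refine ⟨[], s.toList, by simp [hs, hsp], ?_, by simp [hbot]⟩
      rw [← hsg]
      simp [Ideal.ofList]
    by_cases h2 : I ≤ maximalIdeal R ^ 2
    · exfalso
      have hdom := isDomain_of_regular R
      obtain ⟨a, haI, ha0⟩ := Submodule.exists_mem_ne_zero_of_ne_bot hbot
      have hq := (isRegularLocalRing_iff (R ⧸ I)).mp hI
      obtain ⟨b, hb⟩ := exists_dim_eq_nat (R := R ⧸ I)
      have h1 : b + 1 ≤ d := by
        have := ringKrullDim_quotient_succ_le_of_nonZeroDivisor
          (mem_nonZeroDivisors_of_ne_zero ha0)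
        have h' : ringKrullDim (R ⧸ I) + 1 ≤ ringKrullDim (R ⧸ Ideal.span {a}) + 1 :=
          add_le_add_left (ringKrullDim_le_of_surjective
            (Ideal.Quotient.factor ((Ideal.span_singleton_le_iff_mem _).mpr haI))
            (Ideal.Quotient.factor_surjective _)) 1
        have h'' : ringKrullDim (R ⧸ Ideal.span {a}) + 1 ≤ ringKrullDim R := this
        have := h'.trans h''
        rw [hb, hd] at this
        exact_mod_cast this
      classical
      obtain ⟨s, hs, hsg⟩ := Submodule.FG.exists_span_finset_card_eq_spanFinrank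
        (Ideal.fg_of_isNoetherianRing (maximalIdeal (R ⧸ I)))
      let t := s.image (Function.surjInv Ideal.Quotient.mk_surjective)
      have hle : maximalIdeal R ≤ Ideal.span (t : Set R) := by
        apply maximalIdeal_le_of_le_sup_sq
        have himg : (Ideal.span (t : Set R)).map (Ideal.Quotient.mk I) = maximalIdeal (R ⧸ I) := by
          rw [← hsg, Ideal.map_span, Finset.coe_image, ← Set.image_comp,
            (funext (Function.surjInv_eq _) : Ideal.Quotient.mk I ∘
              Function.surjInv Ideal.Quotient.mk_surjective = id), Set.image_id]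
        intro y hy
        have hy' : Ideal.Quotient.mk I y ∈ (Ideal.span (t : Set R)).map (Ideal.Quotient.mk I) := by
          rw [himg, maximalIdeal_quotient_eq_map]
          exact Ideal.mem_map_of_mem _ hy
        rw [← Ideal.mem_comap, Ideal.comap_map_of_surjective' _ Ideal.Quotient.mk_surjective,
          Ideal.mk_ker] at hy'
        exact sup_le_sup_left h2 _ hy'
      have h3 : Ideal.span (t : Set R) = maximalIdeal R := by
        refine le_antisymm (le_maximalIdeal ?_) hle
        intro htop
        have himg : (Ideal.span (t : Set R)).map (Ideal.Quotient.mk I) = maximalIdeal (R ⧸ I) := by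
          rw [← hsg, Ideal.map_span, Finset.coe_image, ← Set.image_comp,
            (funext (Function.surjInv_eq _) : Ideal.Quotient.mk I ∘
              Function.surjInv Ideal.Quotient.mk_surjective = id), Set.image_id]
        rw [htop, Ideal.map_top] at himg
        exact (maximalIdeal.isMaximal (R ⧸ I)).ne_top himg.symm
      have h4 : (maximalIdeal R).spanFinrank ≤ s.card := by
        rw [← h3]
        exact (Submodule.spanFinrank_span_le_ncard_of_finite (Finset.finite_toSet _)).trans
          (by rw [Set.ncard_coe_finset]; exact Finset.card_image_le)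
      rw [hb] at hq
      norm_cast at hq
      omega
    obtain ⟨x, hxI, hx2⟩ := SetLike.not_le_iff_exists.mp h2
    have hx : x ∈ maximalIdeal R := le_maximalIdeal hne hxI
    obtain ⟨hq, hqdim⟩ := regular_quotient_of_notMem_sq hx hx2
    obtain ⟨b, hb⟩ := exists_dim_eq_nat (R := R ⧸ Ideal.span {x})
    have hbd : b + 1 = d := by rw [hb, hd] at hqdim; exact_mod_cast hqdim
    have hle : Ideal.span {x} ≤ I := (Ideal.span_singleton_le_iff_mem _).mpr hxI
    obtain ⟨l₁, l₂, hlen, hgen, hI'⟩ := ih b (by omega) (R ⧸ Ideal.span {x}) hb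
      (I.map (Ideal.Quotient.mk _))
      (IsRegularLocalRing.of_ringEquiv (DoubleQuot.quotQuotEquivQuotOfLE hle).symm)
    have hs : Function.Surjective (Ideal.Quotient.mk (Ideal.span {x})) :=
      Ideal.Quotient.mk_surjective
    have hcomp : ∀ l : List (R ⧸ Ideal.span {x}),
        (Ideal.ofList (l.map (Function.surjInv hs))).map (Ideal.Quotient.mk _) = Ideal.ofList l := by
      intro l
      rw [Ideal.map_ofList, List.map_map, (funext (Function.surjInv_eq hs) :
        Ideal.Quotient.mk (Ideal.span {x}) ∘ Function.surjInv hs = id), List.map_id]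
    have key : ∀ (l : List (R ⧸ Ideal.span {x})) (J : Ideal R), Ideal.span {x} ≤ J →
        J.map (Ideal.Quotient.mk _) = Ideal.ofList l →
        Ideal.ofList (x :: l.map (Function.surjInv hs)) = J := by
      intro l J hJ hJl
      rw [← hcomp l] at hJl
      have := congrArg (Ideal.comap (Ideal.Quotient.mk (Ideal.span {x}))) hJl
      rw [Ideal.comap_map_of_surjective' _ hs, Ideal.comap_map_of_surjective' _ hs, Ideal.mk_ker,
        sup_eq_left.mpr hJ] at this
      rw [Ideal.ofList_cons, sup_comm, ← this]
    refine ⟨x :: l₁.map (Function.surjInv hs), l₂.map (Function.surjInv hs), ?_, ?_, ?_⟩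
    · simp only [List.cons_append, List.length_cons, ← List.map_append, List.length_map, hlen, hbd]
    · rw [List.cons_append, ← List.map_append]
      exact key _ _ ((Ideal.span_singleton_le_iff_mem _).mpr hx)
        (by rw [← maximalIdeal_quotient_eq_map, hgen])
    · exact (key _ _ hle hI').symm

end Groth.L01
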