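import Mathlib.RingTheory.AdicCompletion.Noetherian
import Mathlib.RingTheory.AdicCompletion.Completeness
import Mathlib.RingTheory.AdicCompletion.LocalRing
import Mathlib.RingTheory.AdicCompletion.Algebra
import Mathlib.RingTheory.MvPolynomial.Homogeneous
import Mathlib.RingTheory.Polynomial.Basic

/-!
A ring complete for a finitely generated ideal with Noetherian quotient is Noetherian.
-/

universe u
open MvPolynomial

namespace Groth.L01.AdicNoeth

theorem homogeneousComponent_mul {σ R : Type*} [CommSemiring R] (a p : MvPolynomial σ R) {e : ℕ}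
    (hp : p.IsHomogeneous e) (d : ℕ) :
    homogeneousComponent d (a * p) = if e ≤ d then homogeneousComponent (d - e) a * p else 0 := by
  classical
  have hterm : ∀ i, homogeneousComponent d (homogeneousComponent i a * p)
      = if d = i + e then homogeneousComponent i a * p else 0 := fun i =>
    homogeneousComponent_of_mem ((homogeneousComponent_isHomogeneous i a).mul hp)
  have hsum : homogeneousComponent d (a * p) =
      ∑ i ∈ Finset.range (a.totalDegree + 1), if d = i + e then homogeneousComponent i a * p else 0 := by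
    conv_lhs => rw [← sum_homogeneousComponent a]
    rw [Finset.sum_mul, map_sum]
    exact Finset.sum_congr rfl fun i _ => hterm i
  rw [hsum]
  split_ifs with hed
  · rw [Finset.sum_eq_single (d - e)]
    · rw [if_pos (by omega)]
    · intro b _ hb
      rw [if_neg (by omega)]
    · intro hb
      rw [Finset.mem_range, not_lt] at hb
      rw [if_pos (by omega), homogeneousComponent_eq_zero (h := by omega), zero_mul]
  · exact Finset.sum_eq_zero fun i _ => by rw [if_neg (by omega)]

variable {A : Type u} [CommRing A]

theorem eval_mem_pow {σ : Type u} (x : σ → A) {p : MvPolynomial σ A} {d : ℕ} (hp : p.IsHomogeneous d) :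
    eval x p ∈ (Ideal.span (Set.range x)) ^ d :=
  (Ideal.mem_span_pow_iff_exists_isHomogeneous x _).mpr ⟨p, hp, rfl⟩

theorem eval_mem_pow_succ {σ : Type u} (x : σ → A) {p : MvPolynomial σ A} {d : ℕ} (hp : p.IsHomogeneous d)
    (h0 : ∀ m, coeff m p ∈ Ideal.span (Set.range x)) :
    eval x p ∈ (Ideal.span (Set.range x)) ^ (d + 1) := by
  classical
  rw [p.as_sum, map_sum]
  refine Submodule.sum_mem _ fun m hm => ?_
  have hc : coeff m p ∈ Ideal.span (Set.range x) := h0 m
  have hdeg : m.degree = d := by
    by_contra hne
    exact mem_support_iff.mp hm (hp.coeff_eq_zero hne)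
  have h1 : eval x (monomial m (1 : A)) ∈ (Ideal.span (Set.range x)) ^ d :=
    eval_mem_pow x (isHomogeneous_monomial 1 hdeg)
  have h2 : eval x (monomial m (coeff m p)) = coeff m p * eval x (monomial m (1 : A)) := by
    simp [eval_monomial]
  rw [h2, mul_comm, pow_succ]
  exact Ideal.mul_mem_mul h1 hc

theorem isNoetherianRing_of_quotient (I : Ideal A) (hI : I.FG) [IsAdicComplete I A]
    [IsNoetherianRing (A ⧸ I)] : IsNoetherianRing A := by
  classical
  obtain ⟨s, rfl⟩ := hI
  let x : ↥(s : Set A) → A := Subtype.val
  have hx : Ideal.span (Set.range x) = Ideal.span (s : Set A) := by rw [Subtype.range_coe]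
  set I := Ideal.span (s : Set A) with hIdef
  let f := MvPolynomial.map (σ := (s : Set A)) (Ideal.Quotient.mk I)
  refine isNoetherianRing_iff_ideal_fg A |>.mpr fun J => ?_
  let G : Set (MvPolynomial (↥(s : Set A)) (A ⧸ I)) :=
    {g | ∃ d, ∃ p : MvPolynomial (s : Set A) A, p.IsHomogeneous d ∧ f p = g ∧
      ∃ j ∈ J, j - eval x p ∈ I ^ (d + 1)}
  obtain ⟨T, hTG, hT⟩ := (Submodule.fg_span_iff_fg_span_finset_subset G).mp
    (IsNoetherian.noetherian (Submodule.span (MvPolynomial (↥(s : Set A)) (A ⧸ I)) G))
  have hmem : ∀ k : T, ∃ d, ∃ p : MvPolynomial (s : Set A) A, p.IsHomogeneous d ∧ f p = k.1 ∧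
      ∃ j ∈ J, j - eval x p ∈ I ^ (d + 1) := fun k => hTG k.2
  choose e p hp hfp j hjJ hj using hmem
  have hev : ∀ {q : MvPolynomial (↥(s : Set A)) A} {n : ℕ}, q.IsHomogeneous n → eval x q ∈ I ^ n := by
    intro q n hq
    have h := eval_mem_pow x hq
    rwa [hx] at h
  have step : ∀ (d : ℕ) (z : A), z ∈ J → z ∈ I ^ d →
      ∃ q : T → A, (∀ k, q k ∈ I ^ (d - e k)) ∧ z - ∑ k, q k * j k ∈ I ^ (d + 1) := by
    intro d z hzJ hzI
    obtain ⟨P, hP, hPz⟩ := (Ideal.mem_span_pow_iff_exists_isHomogeneous x z).mp (by rwa [hx])
    have hG : f P ∈ Submodule.span (MvPolynomial (↥(s : Set A)) (A ⧸ I)) (T : Set _) := by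
      rw [← hT]
      exact Submodule.subset_span ⟨d, P, hP, rfl, z, hzJ, by rw [hPz, sub_self]; exact zero_mem _⟩
    obtain ⟨c, -, hc⟩ := Submodule.mem_span_finset.mp hG
    have hc' : f P = ∑ k : T, c k.1 * k.1 := by
      rw [← hc, ← Finset.sum_coe_sort T]
      rfl
    have hsur : Function.Surjective f := MvPolynomial.map_surjective _ Ideal.Quotient.mk_surjective
    choose C hC using hsur
    let Q : T → MvPolynomial (s : Set A) A := fun k =>
      if e k ≤ d then homogeneousComponent (d - e k) (C (c k.1)) else 0
    have hmapcomp : ∀ n (B : MvPolynomial (s : Set A) A),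
        f (homogeneousComponent n B) = homogeneousComponent n (f B) := by
      intro n B
      ext m
      simp only [f, coeff_map, coeff_homogeneousComponent]
      split_ifs <;> simp
    have hQ : ∀ k, (Q k).IsHomogeneous (d - e k) := by
      intro k
      simp only [Q]
      split_ifs
      · exact homogeneousComponent_isHomogeneous _ _
      · exact isHomogeneous_zero _ _ _
    have hR : (P - ∑ k, Q k * p k).IsHomogeneous d := by
      refine hP.sub (IsHomogeneous.sum _ _ _ fun k _ => ?_)
      simp only [Q]
      split_ifs with hk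
      · have h := (homogeneousComponent_isHomogeneous (d - e k) (C (c k.1))).mul (hp k)
        rwa [Nat.sub_add_cancel hk] at h
      · rw [zero_mul]
        exact isHomogeneous_zero _ _ _
    have hR0 : f (P - ∑ k, Q k * p k) = 0 := by
      rw [map_sub, sub_eq_zero, map_sum]
      calc f P = homogeneousComponent d (f P) := (homogeneousComponent_eq_self (hP.map _)).symm
        _ = ∑ k : T, f (Q k * p k) := by
          rw [hc', map_sum]
          refine Finset.sum_congr rfl fun k _ => ?_
          have hk1 : (k.1).IsHomogeneous (e k) := hfp k ▸ (hp k).map _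
          rw [homogeneousComponent_mul _ _ hk1, map_mul, hfp]
          simp only [Q]
          split_ifs with hk
          · rw [hmapcomp, hC]
          · rw [map_zero, zero_mul]
    refine ⟨fun k => eval x (Q k), fun k => hev (hQ k), ?_⟩
    have h1 : eval x (P - ∑ k, Q k * p k) ∈ I ^ (d + 1) := by
      have := eval_mem_pow_succ x hR (fun m => by rw [hx, ← Ideal.Quotient.eq_zero_iff_mem, ← coeff_map]; exact (congrArg (coeff m) hR0).trans (coeff_zero m))
      rwa [hx] at this
    have h2 : z - ∑ k, eval x (Q k) * j k
        = eval x (P - ∑ k, Q k * p k) - ∑ k, eval x (Q k) * (j k - eval x (p k)) := by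
      rw [map_sub, hPz, map_sum]
      simp only [map_mul, mul_sub, Finset.sum_sub_distrib]
      ring
    rw [h2]
    refine sub_mem h1 (Submodule.sum_mem _ fun k _ => ?_)
    by_cases hk : e k ≤ d
    · have h3 := Ideal.mul_mem_mul (hev (hQ k)) (hj k)
      rw [← pow_add] at h3
      exact Ideal.pow_le_pow_right (by omega) h3
    · simp [Q, hk]
  suffices J = Ideal.span (Set.range j) by
    rw [this]
    exact Submodule.fg_span (Set.finite_range j)
  refine le_antisymm (fun z hz => ?_) (Ideal.span_le.mpr (by rintro _ ⟨k, rfl⟩; exact hjJ k))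
  choose! q hq1 hq2 using step
  let W : ℕ → T → A := fun t => Nat.rec (fun _ => 0)
    (fun t w k => w k + q t (z - ∑ l, w l * j l) k) t
  have hWJ : ∀ t, z - ∑ l, W t l * j l ∈ J := fun t =>
    sub_mem hz (Submodule.sum_mem _ fun l _ => J.mul_mem_left _ (hjJ l))
  have hWI : ∀ t, z - ∑ l, W t l * j l ∈ I ^ t := by
    intro t
    induction t with
    | zero => simp
    | succ t ih =>
      have h := hq2 t _ (hWJ t) ih
      have he : z - ∑ l, W (t + 1) l * j l
          = z - ∑ l, W t l * j l - ∑ l, q t (z - ∑ i, W t i * j i) l * j l := by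
        simp only [W, add_mul, Finset.sum_add_distrib]
        ring
      rw [he]
      exact h
  let D := Finset.univ.sup e
  have hlim : ∀ k, ∃ L : A, ∀ t, W (t + D) k - L ∈ I ^ t := by
    intro k
    have hstep : ∀ t, W (t + 1 + D) k - W (t + D) k ∈ I ^ t := by
      intro t
      have he : W (t + 1 + D) k = W (t + D) k + q (t + D) (z - ∑ l, W (t + D) l * j l) k := by
        rw [show t + 1 + D = t + D + 1 by omega]
      rw [he, add_sub_cancel_left]
      refine Ideal.pow_le_pow_right ?_ (hq1 _ _ (hWJ _) (hWI _) k)
      have : e k ≤ D := Finset.le_sup (Finset.mem_univ k)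
      omega
    obtain ⟨L, hL⟩ := IsPrecomplete.prec (I := I) (M := A) inferInstance (f := fun t => W (t + D) k) (by
      intro m n hmn
      rw [SModEq.sub_mem, smul_eq_mul, Ideal.mul_top, ← neg_sub, neg_mem_iff]
      induction n, hmn using Nat.le_induction with
      | base => simp
      | succ n hn ih =>
        rw [show W (n + 1 + D) k - W (m + D) k
          = (W (n + 1 + D) k - W (n + D) k) + (W (n + D) k - W (m + D) k) by ring]
        exact add_mem (Ideal.pow_le_pow_right hn (hstep n)) ih)
    exact ⟨L, fun t => by simpa [SModEq.sub_mem] using hL t⟩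
  choose L hL using hlim
  have hzero : z - ∑ k, L k * j k = 0 := by
    apply IsHausdorff.haus' (I := I)
    intro t
    rw [SModEq.sub_mem, sub_zero, smul_eq_mul, Ideal.mul_top,
      show z - ∑ k, L k * j k = (z - ∑ k, W (t + D) k * j k) + ∑ k, (W (t + D) k - L k) * j k by
        simp only [sub_mul, Finset.sum_sub_distrib]; ring]
    exact add_mem (Ideal.pow_le_pow_right (Nat.le_add_right t D) (hWI _))
      (Submodule.sum_mem _ fun k _ => Ideal.mul_mem_right _ _ (hL k t))
  rw [sub_eq_zero.mp hzero]
  exact Submodule.sum_mem _ fun k _ => Ideal.mul_mem_left _ _ (Ideal.subset_span ⟨k, rfl⟩)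

/-- The completion along a finitely generated ideal with Noetherian quotient is Noetherian. -/
theorem isNoetherianRing_adicCompletion (I : Ideal A) (hI : I.FG) [IsNoetherianRing (A ⧸ I)] :
    IsNoetherianRing (AdicCompletion I A) := by
  haveI := AdicCompletion.isAdicComplete_self I hI
  haveI : IsNoetherianRing (AdicCompletion I A ⧸ I.map (algebraMap A (AdicCompletion I A))) :=
    isNoetherianRing_of_ringEquiv (A ⧸ I)
      ((RingHom.quotientKerEquivOfSurjective (f := (AdicCompletion.evalOneₐ I).toRingHom)
        (AdicCompletion.evalOneₐ_surjective I)).symm.trans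
        (Ideal.quotEquivOfEq (AdicCompletion.ker_evalOneₐ_eq_map I hI)))
  exact isNoetherianRing_of_quotient (I.map (algebraMap A (AdicCompletion I A))) (hI.map _)

end Groth.L01.AdicNoeth
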