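import Mathlib.RingTheory.AdjoinRoot
import Mathlib.RingTheory.MvPolynomial.Basic
import Mathlib.RingTheory.Ideal.Quotient.Operations
import Mathlib.RingTheory.IntegralClosure.IsIntegral.Basic
import Mathlib.RingTheory.IntegralClosure.Algebra.Basic
import Mathlib.RingTheory.Finiteness.Basic
import Mathlib.RingTheory.Adjoin.Basic

/-!
The ring `A[X_P]/(P(X_P))` adjoining a root of every monic polynomial of positive degree.
-/

set_option autoImplicit false
set_option linter.style.haveILetI false
universe u

namespace Groth.L01.AllRoots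

open Polynomial

variable (A : Type u) [CommRing A]

/-- index type -/
abbrev Idx := {P : Polynomial A // P.Monic ∧ 0 < P.natDegree}

/-- relations -/
noncomputable abbrev relI : Ideal (MvPolynomial (Idx A) A) :=
  Ideal.span (Set.range fun P : Idx A => Polynomial.aeval (MvPolynomial.X (R := A) P) P.1)

/-- the ring with all roots -/
noncomputable abbrev AR := MvPolynomial (Idx A) A ⧸ relI A

theorem aeval_root (P : Idx A) :
    Polynomial.aeval (Ideal.Quotient.mk (relI A) (MvPolynomial.X P)) P.1 = 0 := by
  rw [show Ideal.Quotient.mk (relI A) (MvPolynomial.X P) =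
    Ideal.Quotient.mkₐ A (relI A) (MvPolynomial.X P) from rfl, Polynomial.aeval_algHom_apply]
  exact Ideal.Quotient.eq_zero_iff_mem.mpr (Ideal.subset_span ⟨P, rfl⟩)

theorem isIntegral : Algebra.IsIntegral A (AR A) := by
  refine ⟨fun t => ?_⟩
  obtain ⟨q, rfl⟩ := Ideal.Quotient.mk_surjective t
  induction q using MvPolynomial.induction_on with
  | C a => exact isIntegral_algebraMap
  | add p q hp hq => rw [map_add]; exact hp.add hq
  | mul_X p P hp =>
    rw [map_mul]
    exact hp.mul ⟨P.1, P.2.1, aeval_root A P⟩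

theorem exists_finite_roots (s : Finset (Idx A)) :
    ∃ (C : Type u) (_ : CommRing C) (φ : A →+* C) (r : Idx A → C), Function.Injective φ ∧
      ∀ P ∈ s, Polynomial.eval₂ φ (r P) P.1 = 0 := by
  classical
  induction s using Finset.induction with
  | empty => exact ⟨A, inferInstance, RingHom.id A, fun _ => 0, Function.injective_id, by simp⟩
  | insert P₀ s hP ih =>
    obtain ⟨C, _, φ, r, hφ, hr⟩ := ih
    have hmon : (P₀.1.map φ).Monic := P₀.2.1.map φ
    refine ⟨AdjoinRoot (P₀.1.map φ), inferInstance, (AdjoinRoot.of _).comp φ,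
      Function.update (fun P => AdjoinRoot.of _ (r P)) P₀ (AdjoinRoot.root _), ?_, ?_⟩
    · suffices h : Function.Injective (AdjoinRoot.of (P₀.1.map φ)) from h.comp hφ
      intro x y hxy
      have h1 : AdjoinRoot.mk (P₀.1.map φ) (Polynomial.C x) = AdjoinRoot.mk (P₀.1.map φ) (Polynomial.C y) := by
        rw [AdjoinRoot.mk_C, AdjoinRoot.mk_C]; exact hxy
      rw [AdjoinRoot.mk_eq_mk] at h1
      by_contra hne
      have hz : Polynomial.C (x - y) = 0 := by
        by_contra hz
        refine hmon.not_dvd_of_natDegree_lt hz ?_ (by rwa [map_sub])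
        rw [Polynomial.natDegree_C]
        haveI : Nontrivial C := ⟨⟨x, y, hne⟩⟩
        rw [P₀.2.1.natDegree_map]
        exact P₀.2.2
      exact hne (sub_eq_zero.mp (Polynomial.C_eq_zero.mp hz))
    · intro P hP'
      by_cases h : P = P₀
      · subst h
        rw [Function.update_self, ← Polynomial.eval₂_map, AdjoinRoot.eval₂_root]
      · rw [Function.update_of_ne h, ← Polynomial.hom_eval₂, hr P (by simpa [h] using hP'), map_zero]

theorem algebraMap_injective : Function.Injective (algebraMap A (AR A)) := by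
  classical
  rw [injective_iff_map_eq_zero]
  intro a ha
  have h1 : MvPolynomial.C a ∈ relI A := Ideal.Quotient.eq_zero_iff_mem.mp ha
  obtain ⟨T, hT, hTmem⟩ := Submodule.mem_span_finite_of_mem_span h1
  have : ∀ t ∈ T, ∃ P : Idx A, Polynomial.aeval (MvPolynomial.X (R := A) P) P.1 = t := fun t ht => hT ht
  choose P hP using this
  obtain ⟨C, _, φ, r, hφ, hr⟩ := exists_finite_roots A (Finset.image (fun t : {x // x ∈ T} => P t.1 t.2) T.attach)
  letI : Algebra A C := φ.toAlgebra
  have hker : Ideal.span (T : Set (MvPolynomial (Idx A) A)) ≤ RingHom.ker (MvPolynomial.aeval (R := A) r) := by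
    rw [Ideal.span_le]
    intro t ht
    show MvPolynomial.aeval r t = 0
    rw [← hP t ht, ← Polynomial.aeval_algHom_apply, MvPolynomial.aeval_X]
    exact hr _ (Finset.mem_image.mpr ⟨⟨t, ht⟩, Finset.mem_attach _ _, rfl⟩)
  have h2 := hker hTmem
  rw [RingHom.mem_ker, MvPolynomial.aeval_C] at h2
  exact hφ (by rw [map_zero]; exact h2)

theorem exists_root (P : Polynomial A) (hP : P.Monic) (hd : 0 < P.natDegree) :
    ∃ t : AR A, Polynomial.aeval t P = 0 :=
  ⟨_, aeval_root A ⟨P, hP, hd⟩⟩

end Groth.L01.AllRoots
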