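import Mathlib.RingTheory.DiscreteValuationRing.TFAE
import Mathlib.RingTheory.Ideal.AssociatedPrime.Basic
import Mathlib.RingTheory.IntegralClosure.IntegrallyClosed
import Mathlib.RingTheory.LocalProperties.IntegrallyClosed
import Mathlib.LinearAlgebra.Matrix.Charpoly.LinearMap
import Mathlib.RingTheory.Ideal.Height
import Mathlib.RingTheory.KrullDimension.PID
import Mathlib.RingTheory.Localization.AtPrime.Basic

/-!
Associated primes of principal ideals in normal Noetherian domains have height one.
-/

universe u

namespace Groth.L01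

open IsLocalRing Polynomial

theorem isDVR_of_maximalIdeal_mul_le {A : Type u} [CommRing A] [IsDomain A] [IsNoetherianRing A]
    [IsLocalRing A] [IsIntegrallyClosed A] {b c : A} (hb : b ≠ 0) (hc : c ∉ Ideal.span {b})
    (hm : ∀ t ∈ maximalIdeal A, t * c ∈ Ideal.span {b}) : IsDiscreteValuationRing A := by
  have hbu : ¬ IsUnit b := fun h => hc (by rw [Ideal.span_singleton_eq_top.mpr h]; trivial)
  have hnf : ¬ IsField A := fun h => hbu (IsUnit.of_mul_eq_one _ (h.mul_inv_cancel hb).choose_spec)
  choose! φ hφ using fun t ht => Ideal.mem_span_singleton'.mp (hm t ht)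
  have : (maximalIdeal A).IsPrincipal := by
    by_cases hu : ∃ t ∈ maximalIdeal A, IsUnit (φ t)
    · obtain ⟨t, ht, hu⟩ := hu
      refine ⟨t, le_antisymm (fun s hs => ?_) ((Submodule.span_singleton_le_iff_mem _ _).mpr ht)⟩
      obtain ⟨v, hv⟩ := hu
      refine Submodule.mem_span_singleton.mpr ⟨φ s * (↑v⁻¹ : A), ?_⟩
      apply mul_right_cancel₀ hb
      have e1 := hφ s hs
      have e2 := hφ t ht
      have hvv : (v : A) * (↑v⁻¹ : A) = 1 := v.mul_inv
      simp only [smul_eq_mul]
      rw [← hv] at e2
      linear_combination (t * (↑v⁻¹ : A)) * e1 - (s * (↑v⁻¹ : A)) * e2 + (s * b) * hvv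
    · exfalso
      push Not at hu
      let ψ : maximalIdeal A →ₗ[A] maximalIdeal A :=
        { toFun := fun t => ⟨φ t, (mem_maximalIdeal _).mpr (hu t t.2)⟩
          map_add' := fun s t => Subtype.ext <| mul_right_cancel₀ hb <| by
            simp only [Submodule.coe_add]
            rw [add_mul, hφ _ s.2, hφ _ t.2, hφ _ (add_mem s.2 t.2)]; ring
          map_smul' := fun r t => Subtype.ext <| mul_right_cancel₀ hb <| by
            simp only [RingHom.id_apply, SetLike.val_smul, smul_eq_mul]
            rw [mul_assoc, hφ _ t.2, hφ _ (Ideal.mul_mem_left _ r t.2)]; ring }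
      obtain ⟨p, hp, hp0⟩ := LinearMap.exists_monic_and_aeval_eq_zero A ψ
      let K := FractionRing A
      have hbK : algebraMap A K b ≠ 0 := by simpa using hb
      set x : K := algebraMap A K c / algebraMap A K b with hx
      have hstep : ∀ t : maximalIdeal A,
          algebraMap A K (ψ t : A) = x * algebraMap A K (t : A) := by
        intro t
        rw [hx, div_mul_eq_mul_div, eq_div_iff hbK, ← map_mul, ← map_mul, mul_comm c]
        exact congrArg _ (hφ _ t.2)
      have haeval : ∀ (q : A[X]) (t : maximalIdeal A),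
          algebraMap A K (aeval ψ q t : A) = aeval x q * algebraMap A K (t : A) := by
        intro q
        induction q using Polynomial.induction_on' with
        | add q₁ q₂ h₁ h₂ => intro t; simp [map_add, h₁, h₂, add_mul]
        | monomial n r =>
          intro t
          have hpow : algebraMap A K ((ψ ^ n) t : A) = x ^ n * algebraMap A K (t : A) := by
            induction n with
            | zero => simp
            | succ n ih => rw [pow_succ', Module.End.mul_apply, hstep, ih, pow_succ', mul_assoc]
          simp [aeval_monomial, hpow, mul_assoc]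
      obtain ⟨t, ht, ht0⟩ := Submodule.exists_mem_ne_zero_of_ne_bot
        (mt isField_iff_maximalIdeal_eq.mpr hnf)
      have hroot : aeval x p = 0 := by
        have := haeval p ⟨t, ht⟩
        rw [hp0] at this
        simpa [ht0] using this.symm
      obtain ⟨d, hd⟩ := IsIntegrallyClosed.algebraMap_eq_of_integral
        (R := A) (K := K) ⟨p, hp, by rwa [← aeval_def]⟩
      apply hc
      refine Ideal.mem_span_singleton'.mpr ⟨d, ?_⟩
      apply IsFractionRing.injective A K
      rw [map_mul, hd, hx, div_mul_cancel₀ _ hbK]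
  exact ((IsDiscreteValuationRing.TFAE A hnf).out 4 0).mp this

theorem isDVR_of_maximalIdeal_mem_associatedPrimes {A : Type u} [CommRing A] [IsDomain A]
    [IsNoetherianRing A] [IsLocalRing A] [IsIntegrallyClosed A] {b : A} (hb : b ≠ 0)
    (h : maximalIdeal A ∈ associatedPrimes A (A ⧸ Ideal.span {b})) : IsDiscreteValuationRing A := by
  obtain ⟨-, x, hx⟩ := isAssociatedPrime_iff.mp h
  obtain ⟨c, rfl⟩ := Ideal.Quotient.mk_surjective x
  refine isDVR_of_maximalIdeal_mul_le hb (c := c) (fun hc => ?_) (fun t ht => ?_)
  · apply (maximalIdeal.isMaximal A).ne_top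
    rw [hx, Ideal.Quotient.eq_zero_iff_mem.mpr hc]
    simp
  · rw [hx, Submodule.mem_colon_singleton, Submodule.mem_bot] at ht
    exact Ideal.Quotient.eq_zero_iff_mem.mp ht

theorem isDVR_localization_of_mem_associatedPrimes {A : Type u} [CommRing A] [IsDomain A]
    [IsNoetherianRing A] [IsIntegrallyClosed A] {b : A} (hb : b ≠ 0) {p : Ideal A} [p.IsPrime]
    (hp : p ∈ associatedPrimes A (A ⧸ Ideal.span {b})) :
    IsDiscreteValuationRing (Localization.AtPrime p) := by
  obtain ⟨-, x, hx⟩ := isAssociatedPrime_iff.mp hp
  obtain ⟨c, rfl⟩ := Ideal.Quotient.mk_surjective x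
  have hmem : ∀ s, s ∈ p ↔ s * c ∈ Ideal.span {b} := fun s => by
    rw [hx, Submodule.mem_colon_singleton, Submodule.mem_bot, ← Ideal.Quotient.eq_zero_iff_mem]
    rfl
  let S := Localization.AtPrime p
  have hle : p.primeCompl ≤ nonZeroDivisors A := Ideal.primeCompl_le_nonZeroDivisors p
  have : IsIntegrallyClosed S := isIntegrallyClosed_of_isLocalization S p.primeCompl hle
  have hinj : Function.Injective (algebraMap A S) := IsLocalization.injective S hle
  refine isDVR_of_maximalIdeal_mul_le (b := algebraMap A S b) (c := algebraMap A S c)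
    ((map_ne_zero_iff _ hinj).mpr hb) (fun hc => ?_) (fun t ht => ?_)
  · rw [← Set.image_singleton, ← Ideal.map_span] at hc
    obtain ⟨s, hs, hsc⟩ := (IsLocalization.algebraMap_mem_map_algebraMap_iff p.primeCompl S _ _).mp hc
    exact hs ((hmem s).mpr hsc)
  · rw [← Localization.AtPrime.map_eq_maximalIdeal] at ht
    rw [← Set.image_singleton, ← Ideal.map_span]
    have : (p.map (algebraMap A S)) * Ideal.span {algebraMap A S c} ≤
        (Ideal.span {b}).map (algebraMap A S) := by
      rw [← Set.image_singleton, ← Ideal.map_span, ← Ideal.map_mul]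
      refine Ideal.map_mono (Ideal.mul_le.mpr fun r hr y hy => ?_)
      obtain ⟨z, rfl⟩ := Ideal.mem_span_singleton'.mp hy
      rw [mul_left_comm]
      exact Ideal.mul_mem_left _ z ((hmem r).mp hr)
    exact this (Ideal.mul_mem_mul ht (Ideal.mem_span_singleton_self _))

theorem height_eq_one_of_mem_associatedPrimes {A : Type u} [CommRing A] [IsDomain A]
    [IsNoetherianRing A] [IsIntegrallyClosed A] {b : A} (hb : b ≠ 0) {p : Ideal A} [p.IsPrime]
    (hp : p ∈ associatedPrimes A (A ⧸ Ideal.span {b})) : p.height = 1 := by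
  have := isDVR_localization_of_mem_associatedPrimes hb hp
  have h := IsLocalization.AtPrime.ringKrullDim_eq_height p (Localization.AtPrime p)
  rw [IsPrincipalIdealRing.ringKrullDim_eq_one _ (IsDiscreteValuationRing.not_isField _)] at h
  exact_mod_cast h.symm

end Groth.L01
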