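import Groth.Agent.L01.FormalInverse
import Mathlib.RingTheory.MvPowerSeries.Inverse
import Mathlib.RingTheory.MvPowerSeries.Equiv
import Mathlib.RingTheory.MvPowerSeries.NoZeroDivisors
import Mathlib.RingTheory.RegularLocalRing.Defs
import Mathlib.RingTheory.AdicCompletion.Functoriality
import Mathlib.RingTheory.Ideal.KrullsHeightTheorem
import Mathlib.RingTheory.PowerSeries.Inverse
import Mathlib.RingTheory.KrullDimension.NonZeroDivisors

universe u
open MvPowerSeries Finset

namespace Groth.L01.PowSerReg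

section
variable {R : Type u} [CommRing R] {n : ℕ}

/-- The ideal generated by the variables. -/
noncomputable def varIdeal (R : Type u) [CommRing R] (n : ℕ) : Ideal (MvPowerSeries (Fin n) R) :=
  Ideal.span (Set.range X)

theorem mem_pow_of_order : ∀ (m : ℕ) (f : MvPowerSeries (Fin n) R), (m : ℕ∞) ≤ f.order → f ∈ varIdeal R n ^ m
  | 0, f, _ => by simp
  | m + 1, f, hf => by
    obtain ⟨g, rfl, hg⟩ := FormalInverse.exists_decomp hf
    refine Submodule.sum_mem _ fun i _ => ?_
    rw [pow_succ']
    exact Ideal.mul_mem_mul (Ideal.subset_span ⟨i, rfl⟩) (mem_pow_of_order m _ (hg i))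

theorem constantCoeff_eq_zero_of_mem {f : MvPowerSeries (Fin n) R} (hf : f ∈ varIdeal R n) :
    constantCoeff f = 0 := by
  have hle : varIdeal R n ≤ RingHom.ker (constantCoeff : MvPowerSeries (Fin n) R →+* R) := by
    refine Ideal.span_le.mpr ?_
    rintro _ ⟨i, rfl⟩
    simp
  exact hle hf

theorem order_of_mem_pow : ∀ (m : ℕ) (f : MvPowerSeries (Fin n) R), f ∈ varIdeal R n ^ m → (m : ℕ∞) ≤ f.order
  | 0, f, _ => by simp
  | m + 1, f, hf => by
    rw [pow_succ'] at hf
    refine Submodule.mul_induction_on hf (fun a ha b hb => ?_)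
      (fun a b ha hb => (le_min ha hb).trans min_order_le_add)
    refine le_trans ?_ le_order_mul
    rw [Nat.cast_add, add_comm, Nat.cast_one]
    exact add_le_add (one_le_order_iff_constCoeff_eq_zero.mpr (constantCoeff_eq_zero_of_mem ha))
      (order_of_mem_pow m b hb)

instance : IsPrecomplete (varIdeal R n) (MvPowerSeries (Fin n) R) := by
  refine ⟨fun f hf => ⟨fun d => coeff d (f (Finsupp.degree d + 1)), fun m => ?_⟩⟩
  rw [SModEq.sub_mem, smul_eq_mul, Ideal.mul_top]
  refine mem_pow_of_order m _ (nat_le_order fun d hd => ?_)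
  rw [map_sub, sub_eq_zero]
  change coeff d (f m) = coeff d (f (Finsupp.degree d + 1))
  have h := hf (Nat.succ_le_of_lt hd)
  rw [SModEq.sub_mem, smul_eq_mul, Ideal.mul_top] at h
  have h2 := coeff_of_lt_order (lt_of_lt_of_le (Nat.cast_lt.mpr (Nat.lt_succ_self (Finsupp.degree d)))
    (order_of_mem_pow _ _ h))
  rw [map_sub, sub_eq_zero] at h2
  exact h2.symm

end

section
variable (k : Type u) [Field k]

theorem maximalIdeal_eq (n : ℕ) :
    IsLocalRing.maximalIdeal (MvPowerSeries (Fin n) k) = varIdeal k n := by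
  refine le_antisymm (fun f hf => ?_) (fun f hf => ?_)
  · rw [IsLocalRing.mem_maximalIdeal, mem_nonunits_iff, isUnit_iff_constantCoeff, isUnit_iff_ne_zero,
      not_not] at hf
    simpa using mem_pow_of_order 1 f (by exact_mod_cast one_le_order_iff_constCoeff_eq_zero.mpr hf)
  · rw [IsLocalRing.mem_maximalIdeal, mem_nonunits_iff, isUnit_iff_constantCoeff, isUnit_iff_ne_zero,
      not_not]
    exact constantCoeff_eq_zero_of_mem hf

theorem le_ringKrullDim : ∀ n : ℕ, (n : WithBot ℕ∞) ≤ ringKrullDim (MvPowerSeries (Fin n) k)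
  | 0 => by simpa using ringKrullDim_nonneg_of_nontrivial
  | n + 1 => by
    rw [ringKrullDim_eq_of_ringEquiv (MvPowerSeries.finSuccEquiv k n).toRingEquiv]
    have h := ringKrullDim_quotient_succ_le_of_nonZeroDivisor
      (r := (PowerSeries.X : PowerSeries (MvPowerSeries (Fin n) k)))
      (mem_nonZeroDivisors_of_ne_zero PowerSeries.X_ne_zero)
    refine le_trans ?_ h
    push_cast
    refine add_le_add ((le_ringKrullDim n).trans ?_) le_rfl
    refine ringKrullDim_le_of_surjective (Ideal.Quotient.lift (Ideal.span {PowerSeries.X}) PowerSeries.constantCoeff ?_) ?_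
    · intro a ha
      obtain ⟨b, rfl⟩ := Ideal.mem_span_singleton'.mp ha
      simp
    · exact fun a => ⟨Ideal.Quotient.mk _ (PowerSeries.C a), by simp⟩

theorem spanFinrank_maximalIdeal_le (n : ℕ) :
    (IsLocalRing.maximalIdeal (MvPowerSeries (Fin n) k)).spanFinrank ≤ n := by
  rw [maximalIdeal_eq, varIdeal, Ideal.span]
  refine (Submodule.spanFinrank_span_le_ncard_of_finite (Set.finite_range _)).trans ?_
  rw [← Nat.card_coe_set_eq]
  exact (Finite.card_range_le _).trans (by simp)

instance isRegularLocalRing (n : ℕ) : IsRegularLocalRing (MvPowerSeries (Fin n) k) :=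
  IsRegularLocalRing.of_spanFinrank_maximalIdeal_le _
    ((Nat.cast_le.mpr (spanFinrank_maximalIdeal_le k n)).trans (le_ringKrullDim k n))

theorem ringKrullDim_eq (n : ℕ) : ringKrullDim (MvPowerSeries (Fin n) k) = n :=
  le_antisymm ((ringKrullDim_le_spanFinrank_maximalIdeal _).trans
    (Nat.cast_le.mpr (spanFinrank_maximalIdeal_le k n))) (le_ringKrullDim k n)

end

end Groth.L01.PowSerReg
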