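import Groth.Agent.L01.CohenRing
import Groth.Agent.L01.PowSerReg
import Groth.Agent.L22.AffineDim
import Groth.Agent.S0544
import Mathlib.RingTheory.Finiteness.Cardinality
import Mathlib.RingTheory.Filtration
import Mathlib.RingTheory.MvPowerSeries.Equiv

/-!
A complete Noetherian local domain is finite over a power series ring inside it.
-/

universe u

namespace Groth.L01.CohenFinite

open IsLocalRing

open Groth.L01.PowSerReg in
theorem isHausdorff_varIdeal (A : Type u) [CommRing A] (n : ℕ) :
    IsHausdorff (varIdeal A n) (MvPowerSeries (Fin n) A) := by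
  refine ⟨fun f hf => ?_⟩
  rw [← MvPowerSeries.order_eq_top_iff]
  refine ENat.eq_top_iff_forall_ge.mpr fun m => order_of_mem_pow m f ?_
  simpa [SModEq.zero, smul_eq_mul, Ideal.mul_top] using hf m

theorem spanFinrank_maximalIdeal_mvPowerSeries_le (A : Type u) [CommRing A] [IsLocalRing A]
    [IsNoetherianRing A] (n : ℕ) :
    (maximalIdeal (MvPowerSeries (Fin n) A)).spanFinrank ≤ (maximalIdeal A).spanFinrank + n := by
  classical
  let C : A →+* MvPowerSeries (Fin n) A := MvPowerSeries.C
  have h : maximalIdeal (MvPowerSeries (Fin n) A) =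
      (maximalIdeal A).map C ⊔ Groth.L01.PowSerReg.varIdeal A n := by
    refine le_antisymm (fun f hf => ?_) ?_
    · have hc : MvPowerSeries.constantCoeff f ∈ maximalIdeal A := by
        intro hu
        exact hf (MvPowerSeries.isUnit_iff_constantCoeff.mpr hu)
      have h1 : f - C (MvPowerSeries.constantCoeff f) ∈ Groth.L01.PowSerReg.varIdeal A n := by
        have := Groth.L01.PowSerReg.mem_pow_of_order 1 (f - C (MvPowerSeries.constantCoeff f))
          (by exact_mod_cast MvPowerSeries.one_le_order_iff_constCoeff_eq_zero.mpr (by simp [C]))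
        rwa [pow_one] at this
      have h2 : f = C (MvPowerSeries.constantCoeff f) + (f - C (MvPowerSeries.constantCoeff f)) := by ring
      rw [h2]
      exact Submodule.add_mem_sup (Ideal.mem_map_of_mem _ hc) h1
    · refine sup_le (Ideal.map_le_iff_le_comap.mpr fun a ha => ?_) (Ideal.span_le.mpr ?_)
      · intro hu
        exact ha (by simpa [C] using MvPowerSeries.isUnit_iff_constantCoeff.mp hu)
      · rintro _ ⟨i, rfl⟩ hu
        simpa using MvPowerSeries.isUnit_iff_constantCoeff.mp hu
  obtain ⟨s, hs, hspan⟩ := Submodule.FG.exists_span_set_encard_eq_spanFinrank (maximalIdeal A).fg_of_isNoetherianRing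
  have hsf : s.Finite := Set.finite_of_encard_eq_coe hs
  rw [h, ← hspan, Groth.L01.PowSerReg.varIdeal, ← Ideal.submodule_span_eq, Ideal.map_span, ← Ideal.span_union]
  refine (Submodule.spanFinrank_span_le_ncard_of_finite ((hsf.image _).union (Set.finite_range _))).trans ?_
  refine (Set.ncard_union_le _ _).trans (add_le_add ?_ ?_)
  · refine (Set.ncard_image_le hsf).trans (le_of_eq ?_)
    rw [Ideal.submodule_span_eq] at hspan
    rw [Ideal.span] at *
    have := hsf.cast_ncard_eq
    rw [hs] at this
    rw [hspan]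
    exact_mod_cast this
  · rw [← Nat.card_coe_set_eq]
    exact (Finite.card_range_le _).trans (by simp)

theorem ringKrullDim_mvPowerSeries_le (A : Type u) [CommRing A] [IsLocalRing A]
    [IsNoetherianRing A] (n : ℕ) :
    ringKrullDim (MvPowerSeries (Fin n) A) ≤ (((maximalIdeal A).spanFinrank + n : ℕ) : WithBot ℕ∞) :=
  (ringKrullDim_le_spanFinrank_maximalIdeal _).trans
    (Nat.cast_le.mpr (spanFinrank_maximalIdeal_mvPowerSeries_le A n))

variable {A R : Type u} [CommRing A] [IsLocalRing A] [CommRing R] [IsLocalRing R] [IsNoetherianRing R]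

/-- quotients by powers of the maximal ideal are finite over a ring surjecting on the residue field -/
theorem exists_finite_span_sup_pow [Algebra A R]
    (hres : Function.Surjective ((residue R).comp (algebraMap A R))) (N : ℕ) :
    ∃ S : Set R, S.Finite ∧ ∀ r : R, ∃ s ∈ Submodule.span A S, r - s ∈ maximalIdeal R ^ N := by
  classical
  induction N with
  | zero => exact ⟨∅, Set.finite_empty, fun r => ⟨0, zero_mem _, by simp⟩⟩
  | succ N ih =>
    obtain ⟨S, hS, h⟩ := ih
    obtain ⟨G, hG⟩ := (maximalIdeal R ^ N).fg_of_isNoetherianRing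
    refine ⟨S ∪ G, hS.union G.finite_toSet, fun r => ?_⟩
    obtain ⟨s, hs, hrs⟩ := h r
    have key : ∀ y ∈ maximalIdeal R ^ N, ∃ t ∈ Submodule.span A (G : Set R), y - t ∈ maximalIdeal R ^ (N + 1) := by
      intro y hy
      rw [← hG] at hy
      induction hy using Submodule.span_induction with
      | mem z hz => exact ⟨z, Submodule.subset_span hz, by simp⟩
      | zero => exact ⟨0, zero_mem _, by simp⟩
      | add a b _ _ ha hb =>
        obtain ⟨t, ht, ht'⟩ := ha
        obtain ⟨t', ht2, ht2'⟩ := hb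
        refine ⟨t + t', add_mem ht ht2, ?_⟩
        rw [add_sub_add_comm]
        exact add_mem ht' ht2'
      | smul c a ha' ha =>
        obtain ⟨t, ht, ht'⟩ := ha
        obtain ⟨a', haa⟩ := hres (residue R c)
        refine ⟨a' • t, Submodule.smul_mem _ _ ht, ?_⟩
        have hm : c - algebraMap A R a' ∈ maximalIdeal R := by
          rw [← residue_eq_zero_iff, map_sub, ← haa]
          exact sub_self _
        have hmem : a ∈ maximalIdeal R ^ N := hG ▸ ha'
        rw [smul_eq_mul, Algebra.smul_def,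
          show c * a - algebraMap A R a' * t = (c - algebraMap A R a') * a + algebraMap A R a' * (a - t) by ring]
        refine add_mem ?_ (Ideal.mul_mem_left _ _ ht')
        rw [pow_succ']
        exact Ideal.mul_mem_mul hm hmem
    obtain ⟨t, ht, ht'⟩ := key _ hrs
    refine ⟨s + t, ?_, ?_⟩
    · rw [Submodule.span_union]
      exact Submodule.add_mem_sup hs ht
    · rwa [← sub_sub]

theorem finite_quotient_of_pow_le [Algebra A R]
    (hres : Function.Surjective ((residue R).comp (algebraMap A R))) (N : ℕ)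
    (Q : Submodule A R) (hQ : ∀ r ∈ maximalIdeal R ^ N, r ∈ Q) : Module.Finite A (R ⧸ Q) := by
  obtain ⟨S, hS, h⟩ := exists_finite_span_sup_pow hres N
  refine ⟨Submodule.fg_def.mpr ⟨Q.mkQ '' S, hS.image _, eq_top_iff.mpr fun x _ => ?_⟩⟩
  obtain ⟨r, rfl⟩ := Q.mkQ_surjective x
  obtain ⟨s, hs, hrs⟩ := h r
  rw [show Q.mkQ r = Q.mkQ s from (Submodule.Quotient.eq Q).mpr (hQ _ hrs), Submodule.span_image]
  exact Submodule.mem_map_of_mem hs

/-- The structure map from a power series ring attached to a coefficient ring and a system of parameters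
is finite and injective. -/
theorem exists_finite_injective [IsDomain A] [IsNoetherianRing A] [IsAdicComplete (maximalIdeal A) A] [IsDomain R]
    [IsAdicComplete (maximalIdeal R) R] (F : A →+* R) [IsLocalHom F]
    (hres : Function.Surjective ((residue R).comp F)) (N : ℕ) {n : ℕ} (x : Fin n → R)
    (hx : ∀ i, x i ∈ maximalIdeal R)
    (hN : maximalIdeal R ^ N ≤ Ideal.span (Set.range x) ⊔ (maximalIdeal A).map F)
    (hdim : (((maximalIdeal A).spanFinrank + n : ℕ) : WithBot ℕ∞) ≤ ringKrullDim R) :
    ∃ f : MvPowerSeries (Fin n) A →+* R, Function.Injective f ∧ f.Finite ∧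
      Function.Surjective ((residue R).comp f) := by
  classical
  letI := F.toAlgebra
  obtain ⟨φ, hφ⟩ := Groth.L12.exists_evalPS (R := A) (maximalIdeal R) x hx
  let T := MvPowerSeries (Fin n) A
  let f : T →+* R := φ.toRingHom
  have hfC : ∀ a, f (algebraMap A T a) = F a := φ.commutes
  -- the closed fibre
  let Q : Ideal R := Ideal.span (Set.range x)
  have hQm : Q ≤ maximalIdeal R := Ideal.span_le.mpr (by rintro _ ⟨i, rfl⟩; exact hx i)
  have hFm : (maximalIdeal A).map F ≤ maximalIdeal R :=
    Ideal.map_le_iff_le_comap.mpr fun a ha => map_nonunit F a ha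
  haveI : Nontrivial (R ⧸ Q) := Ideal.Quotient.nontrivial_iff.mpr
    (fun h => (maximalIdeal.isMaximal R).ne_top (top_le_iff.mp (h ▸ hQm)))
  haveI : IsLocalRing (R ⧸ Q) := IsLocalRing.of_surjective' _ Ideal.Quotient.mk_surjective
  haveI : IsHausdorff (maximalIdeal A) (R ⧸ Q) := by
    refine ⟨fun z hz => ?_⟩
    have hb : (⨅ i, ((maximalIdeal A).map (algebraMap A (R ⧸ Q))) ^ i) = ⊥ := by
      refine Ideal.iInf_pow_eq_bot_of_isLocalRing _ fun h => ?_
      have hle : (maximalIdeal A).map (algebraMap A (R ⧸ Q)) ≤ (maximalIdeal R).map (Ideal.Quotient.mk Q) := by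
        rw [show algebraMap A (R ⧸ Q) = (Ideal.Quotient.mk Q).comp F from rfl, ← Ideal.map_map]
        exact Ideal.map_mono hFm
      have h1 : (1 : R ⧸ Q) ∈ (maximalIdeal R).map (Ideal.Quotient.mk Q) := hle (h ▸ Submodule.mem_top)
      rw [Ideal.mem_map_iff_of_surjective _ Ideal.Quotient.mk_surjective] at h1
      obtain ⟨r, hr, hr1⟩ := h1
      rw [← map_one (Ideal.Quotient.mk Q), Ideal.Quotient.eq] at hr1
      exact (maximalIdeal.isMaximal R).ne_top ((Ideal.eq_top_iff_one _).mpr
        (by simpa using sub_mem hr (hQm hr1)))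
    rw [← Submodule.mem_bot (R ⧸ Q), ← hb, Submodule.mem_iInf]
    intro i
    have := SModEq.zero.mp (hz i)
    rwa [Ideal.smul_top_eq_map, Submodule.restrictScalars_mem, Ideal.map_pow] at this
  have hA : Module.Finite A (R ⧸ Q) := by
    refine Groth.Agent.S0544.result A (maximalIdeal A) (R ⧸ Q) ?_
    let Q' : Submodule A R := (Q ⊔ (maximalIdeal A).map F).restrictScalars A
    haveI : Module.Finite A (R ⧸ Q') := finite_quotient_of_pow_le hres N Q' fun r hr => hN hr
    let g : (R ⧸ Q') →ₗ[A] ((R ⧸ Q) ⧸ (maximalIdeal A • ⊤ : Submodule A (R ⧸ Q))) :=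
      Q'.liftQ ((Submodule.mkQ _).comp (Ideal.Quotient.mkₐ A Q).toLinearMap) (fun r hr => by
        rw [LinearMap.mem_ker, LinearMap.comp_apply, Submodule.mkQ_apply, Submodule.Quotient.mk_eq_zero,
          Ideal.smul_top_eq_map, Submodule.restrictScalars_mem]
        obtain ⟨a, ha, b, hb, rfl⟩ := Submodule.mem_sup.mp (show r ∈ Q ⊔ (maximalIdeal A).map F from hr)
        rw [map_add]
        refine add_mem ?_ ?_
        · have : (Ideal.Quotient.mkₐ A Q).toLinearMap a = 0 := Ideal.Quotient.eq_zero_iff_mem.mpr ha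
          rw [this]; exact zero_mem _
        · rw [show algebraMap A (R ⧸ Q) = (Ideal.Quotient.mk Q).comp F from rfl, ← Ideal.map_map]
          exact Ideal.mem_map_of_mem _ hb)
    refine Module.Finite.of_surjective g fun y => ?_
    obtain ⟨y, rfl⟩ := Submodule.mkQ_surjective _ y
    obtain ⟨r, rfl⟩ := Ideal.Quotient.mk_surjective y
    exact ⟨Q'.mkQ r, rfl⟩
  letI : Algebra T R := f.toAlgebra
  haveI : IsScalarTower A T R := IsScalarTower.of_algebraMap_eq fun a => (hfC a).symm
  let I : Ideal T := Groth.L01.PowSerReg.varIdeal A n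
  have hI : I.map f = Q := by
    simp only [I, Groth.L01.PowSerReg.varIdeal, Ideal.map_span, ← Set.range_comp, Q]
    exact congrArg (fun s => Ideal.span (Set.range s)) (funext hφ)
  haveI := isHausdorff_varIdeal A n
  haveI : IsAdicComplete I T := {}
  haveI : IsHausdorff I R := by
    refine ⟨fun z hz => IsHausdorff.haus (I := maximalIdeal R) inferInstance z fun i => ?_⟩
    have := SModEq.zero.mp (hz i)
    rw [Ideal.smul_top_eq_map, Submodule.restrictScalars_mem, Ideal.map_pow] at this
    rw [SModEq.zero, smul_eq_mul, Ideal.mul_top]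
    exact Ideal.pow_right_mono (hI.trans_le hQm) i this
  have hT : Module.Finite T R := by
    refine Groth.Agent.S0544.result T I R ?_
    obtain ⟨G, hG⟩ := hA.fg_top
    choose m hm using fun g : R ⧸ Q => Ideal.Quotient.mk_surjective g
    let P : Submodule T R := I • ⊤
    refine ⟨Submodule.fg_def.mpr ⟨P.mkQ '' (m '' (G : Set (R ⧸ Q))), (G.finite_toSet.image _).image _,
      eq_top_iff.mpr fun y _ => ?_⟩⟩
    obtain ⟨r, rfl⟩ := Submodule.mkQ_surjective _ y
    have key : ∀ z ∈ Submodule.span A (G : Set (R ⧸ Q)),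
        ∃ w ∈ Submodule.span T (m '' (G : Set (R ⧸ Q))), Ideal.Quotient.mk Q w = z := by
      intro z hz
      induction hz using Submodule.span_induction with
      | mem g hg => exact ⟨m g, Submodule.subset_span ⟨g, hg, rfl⟩, hm g⟩
      | zero => exact ⟨0, zero_mem _, map_zero _⟩
      | add a b _ _ ha hb =>
        obtain ⟨v, hv, rfl⟩ := ha
        obtain ⟨w, hw, rfl⟩ := hb
        exact ⟨v + w, add_mem hv hw, map_add _ _ _⟩
      | smul c a _ ha =>
        obtain ⟨v, hv, rfl⟩ := ha
        exact ⟨algebraMap A T c • v, Submodule.smul_mem _ _ hv, by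
          rw [algebraMap_smul, Algebra.smul_def, Algebra.smul_def, map_mul]; rfl⟩
    obtain ⟨w, hw, hwr⟩ := key (Ideal.Quotient.mk Q r) (hG ▸ Submodule.mem_top)
    have hP : P.mkQ r = P.mkQ w := by
      refine (Submodule.Quotient.eq P).mpr ?_
      rw [show P = (I.map f).restrictScalars T from Ideal.smul_top_eq_map I, Submodule.restrictScalars_mem, hI]
      exact Ideal.Quotient.eq.mp hwr.symm
    rw [hP, Submodule.span_image]
    exact Submodule.mem_map_of_mem hw
  refine ⟨f, ?_, RingHom.finite_algebraMap.mpr hT, fun k => ?_⟩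
  · rw [RingHom.injective_iff_ker_eq_bot]
    by_contra hne
    have hP : (RingHom.ker f).IsPrime := RingHom.ker_isPrime f
    obtain ⟨t, ht, ht0⟩ := Submodule.exists_mem_ne_zero_of_ne_bot hne
    have h1 : ringKrullDim R ≤ ringKrullDim (T ⧸ RingHom.ker f) := by
      letI : Algebra (T ⧸ RingHom.ker f) R := (RingHom.kerLift f).toAlgebra
      haveI : Algebra.IsIntegral (T ⧸ RingHom.ker f) R := ⟨fun r =>
        RingHom.IsIntegral.tower_top (Ideal.Quotient.mk (RingHom.ker f)) (RingHom.kerLift f)
          ((RingHom.finite_algebraMap.mpr hT).to_isIntegral) r⟩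
      exact (Groth.L22.AffineDim.ringKrullDim_eq_of_isIntegral (RingHom.kerLift_injective f)).le
    have h2 : ringKrullDim (T ⧸ RingHom.ker f) + 1 ≤ ringKrullDim T := by
      refine le_trans (add_le_add ?_ le_rfl) (ringKrullDim_quotient_succ_le_of_nonZeroDivisor (r := t)
        (mem_nonZeroDivisors_of_ne_zero ht0))
      exact ringKrullDim_le_of_surjective (Ideal.Quotient.factor
        ((Ideal.span_singleton_le_iff_mem _).mpr ht)) (Ideal.Quotient.factor_surjective _)
    have h3 := (add_le_add h1 le_rfl).trans (h2.trans ((ringKrullDim_mvPowerSeries_le A n).trans hdim))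
    have hfin : ringKrullDim R ≠ ⊤ := ringKrullDim_lt_top.ne
    have hbot : ringKrullDim R ≠ ⊥ := ringKrullDim_ne_bot
    revert h3 hfin hbot
    generalize ringKrullDim R = D
    intro h3 hfin hbot
    lift D to ℕ∞ using hbot
    have hfin' : D ≠ ⊤ := fun h => hfin (by rw [h]; rfl)
    lift D to ℕ using hfin'
    exact Nat.not_succ_le_self D (by exact_mod_cast h3)
  · obtain ⟨a, ha⟩ := hres k
    exact ⟨algebraMap A T a, by rw [RingHom.comp_apply, hfC, ← ha]; rfl⟩

end Groth.L01.CohenFinite

namespace Groth.L01.CohenFinite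

open IsLocalRing

/-- systems of parameters modulo an ideal -/
theorem exists_sop {R : Type u} [CommRing R] [IsLocalRing R] [IsNoetherianRing R] (J : Ideal R)
    (hJ : J ≤ maximalIdeal R) :
    ∃ (n : ℕ) (x : Fin n → R) (N : ℕ), (∀ i, x i ∈ maximalIdeal R) ∧
      maximalIdeal R ^ N ≤ Ideal.span (Set.range x) ⊔ J ∧ (n : WithBot ℕ∞) = ringKrullDim (R ⧸ J) := by
  classical
  haveI : Nontrivial (R ⧸ J) := Ideal.Quotient.nontrivial_iff.mpr
    (fun h => (maximalIdeal.isMaximal R).ne_top (top_le_iff.mp (h ▸ hJ)))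
  haveI : IsLocalRing (R ⧸ J) := IsLocalRing.of_surjective' _ Ideal.Quotient.mk_surjective
  obtain ⟨s, hs, hcard⟩ := (maximalIdeal (R ⧸ J)).exists_finset_card_eq_height_of_isNoetherianRing
  choose l hl using fun y : R ⧸ J => Ideal.Quotient.mk_surjective y
  let x : Fin s.card → R := fun i => l (s.equivFin.symm i : R ⧸ J)
  have hrad : maximalIdeal (R ⧸ J) ≤ (Ideal.span (s : Set (R ⧸ J))).radical := by
    rw [Ideal.radical_eq_sInf]
    refine le_sInf fun P ⟨hP, hPp⟩ => ?_
    haveI := hPp
    exact hs.2 ⟨hPp, hP⟩ (le_maximalIdeal hPp.ne_top)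
  obtain ⟨N, hN⟩ := Ideal.exists_pow_le_of_le_radical_of_fg hrad (IsNoetherian.noetherian _)
  have hmap : (Ideal.span (Set.range x)).map (Ideal.Quotient.mk J) = Ideal.span (s : Set (R ⧸ J)) := by
    rw [Ideal.map_span, ← Set.range_comp]
    congr 1
    ext y
    constructor
    · rintro ⟨i, rfl⟩
      simp only [Function.comp_apply, x, hl]
      exact (s.equivFin.symm i).2
    · intro hy
      exact ⟨s.equivFin ⟨y, hy⟩, by simp [x, hl]⟩
  have hm : (maximalIdeal R).map (Ideal.Quotient.mk J) ≤ maximalIdeal (R ⧸ J) :=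
    le_maximalIdeal fun h => by
      have h1 := congrArg (Ideal.comap (Ideal.Quotient.mk J)) h
      rw [Ideal.comap_map_of_surjective _ Ideal.Quotient.mk_surjective, ← RingHom.ker_eq_comap_bot, Ideal.mk_ker,
        sup_eq_left.mpr hJ, Ideal.comap_top] at h1
      exact (maximalIdeal.isMaximal R).ne_top h1
  refine ⟨s.card, x, N, fun i => ?_, ?_, ?_⟩
  · intro hu
    have h1 : Ideal.Quotient.mk J (x i) ∈ maximalIdeal (R ⧸ J) := by
      rw [show Ideal.Quotient.mk J (x i) = (s.equivFin.symm i : R ⧸ J) from hl _]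
      exact hs.1.2 (Ideal.subset_span (s.equivFin.symm i).2)
    exact h1 (hu.map _)
  · have h1 : (maximalIdeal R ^ N).map (Ideal.Quotient.mk J) ≤ (Ideal.span (Set.range x)).map (Ideal.Quotient.mk J) := by
      rw [hmap, Ideal.map_pow]
      exact (Ideal.pow_right_mono hm N).trans hN
    rw [Ideal.map_le_iff_le_comap, Ideal.comap_map_of_surjective _ Ideal.Quotient.mk_surjective,
      ← RingHom.ker_eq_comap_bot, Ideal.mk_ker] at h1
    exact h1
  · rw [← IsLocalRing.maximalIdeal_height_eq_ringKrullDim, ← hcard]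
    rfl

end Groth.L01.CohenFinite
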