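import Groth.Agent.L01.NagataComplete
import Groth.Agent.L01.NormalDomain
import Mathlib.RingTheory.AdicCompletion.LocalRing
import Mathlib.RingTheory.AdicCompletion.AsTensorProduct
import Mathlib.RingTheory.AdicCompletion.Noetherian
import Mathlib.RingTheory.AdicCompletion.RingHom
import Mathlib.RingTheory.Flat.Stability
import Mathlib.RingTheory.Flat.FaithfullyFlat.Algebra
import Mathlib.RingTheory.TensorProduct.Quotient
import Mathlib.RingTheory.Ideal.AssociatedPrime.Finiteness
import Mathlib.RingTheory.Regular.IsSMulRegular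
import Mathlib.LinearAlgebra.TensorProduct.Quotient
import Mathlib.RingTheory.Ideal.MinimalPrime.Noetherian
import Mathlib.RingTheory.Finiteness.Descent
import Groth.Agent.L01.AdicNoeth
import Groth.Agent.S0581

/-!
Analytically unramified local rings.
-/

universe u

open scoped TensorProduct

namespace Groth.L01.AnalUnram

open IsLocalRing

/-- reducedness of a flat algebra over a domain from reducedness over the associated primes of a
principal ideal -/
theorem isReduced_of_flat {B T : Type u} [CommRing B] [IsDomain B] [IsNoetherianRing B] [CommRing T]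
    [Algebra B T] [Module.Flat B T] [IsNoetherianRing T] {x : B} (hx : x ≠ 0)
    (hjac : algebraMap B T x ∈ Ideal.jacobson (⊥ : Ideal T))
    (hP : ∀ P ∈ associatedPrimes B (B ⧸ Ideal.span {x}), IsReduced (T ⧸ P.map (algebraMap B T)) ∧
      ∃ π : B, π ≠ 0 ∧ ∃ t, t ∉ P ∧ (∀ a ∈ P, π ∣ t * a) ∧ ∃ (e : ℕ) (u : B), u ∉ P ∧ x ∣ u * π ^ e) :
    IsReduced T := by
  have hreg : ∀ b : B, b ≠ 0 → ∀ z : T, algebraMap B T b * z = 0 → z = 0 := by
    intro b hb z hz
    have h1 : IsSMulRegular B b := isSMulRegular_iff_right_eq_zero_of_smul.mpr fun a ha =>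
      (mul_eq_zero.mp ha).resolve_left hb
    refine (IsSMulRegular.of_flat (S := T) h1).right_eq_zero_of_smul ?_
    simpa [Algebra.smul_def] using hz
  have key : ∀ z : T, IsNilpotent z → algebraMap B T x ∣ z := by
    intro z hz
    let J : Ideal B := (Ideal.span {algebraMap B T x}).colon {z} |>.comap (algebraMap B T)
    have hJ : ∀ P ∈ associatedPrimes B (B ⧸ Ideal.span {x}), ¬ J ≤ P := by
      intro P hPa hle
      obtain ⟨hred, π, hπ, t, ht, htP, e, u, hu, hxu⟩ := hP P hPa
      haveI := hred
      have hprime : P.IsPrime := hPa.isPrime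
      have hk : ∀ k : ℕ, ∃ z', algebraMap B T (t ^ k) * z = algebraMap B T (π ^ k) * z' ∧ IsNilpotent z' := by
        intro k
        induction k with
        | zero => exact ⟨z, by simp, hz⟩
        | succ k ih =>
          obtain ⟨z', hz', hn⟩ := ih
          have hmem : z' ∈ P.map (algebraMap B T) :=
            Ideal.Quotient.eq_zero_iff_mem.mp (hn.map (Ideal.Quotient.mk _)).eq_zero
          have hdiv : ∀ w ∈ P.map (algebraMap B T), algebraMap B T π ∣ algebraMap B T t * w := by
            intro w hw
            induction hw using Submodule.span_induction with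
            | mem v hv =>
              obtain ⟨a, ha, rfl⟩ := hv
              rw [← map_mul]
              exact map_dvd _ (htP a ha)
            | zero => simp
            | add a b _ _ ha hb => rw [mul_add]; exact dvd_add ha hb
            | smul c a _ ha => rw [smul_eq_mul, mul_left_comm]; exact ha.mul_left c
          obtain ⟨z'', hz''⟩ := hdiv z' hmem
          refine ⟨z'', ?_, ?_⟩
          · rw [pow_succ, pow_succ, map_mul, map_mul, mul_assoc (algebraMap B T (π ^ k)), ← hz'',
              mul_left_comm (algebraMap B T (π ^ k)), ← hz']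
            ring
          · obtain ⟨N, hN⟩ := hn
            refine ⟨N, hreg (π ^ N) (pow_ne_zero _ hπ) _ ?_⟩
            rw [map_pow, ← mul_pow, ← hz'', mul_pow, hN, mul_zero]
      obtain ⟨z', hz', -⟩ := hk e
      have hmemJ : u * t ^ e ∈ J := by
        obtain ⟨c, hc⟩ := hxu
        rw [Ideal.mem_comap, Submodule.mem_colon_singleton, smul_eq_mul, map_mul, mul_assoc, hz',
          ← mul_assoc, ← map_mul, hc, map_mul, mul_assoc]
        exact Ideal.mul_mem_right _ _ (Ideal.mem_span_singleton_self _)
      exact (hprime.mem_or_mem (hle hmemJ)).elim hu fun h => ht (hprime.mem_of_pow_mem e h)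
    have hnot : ¬ ((J : Set B) ⊆ ⋃ P ∈ associatedPrimes B (B ⧸ Ideal.span {x}), (P : Set B)) := by
      intro hsub
      have hfin : (associatedPrimes B (B ⧸ Ideal.span {x})).Finite := associatedPrimes.finite B (B ⧸ Ideal.span {x})
      obtain ⟨P, hPa, hle⟩ := (Ideal.subset_union_prime_finite hfin (f := id) ⊥ ⊥
        fun P hPs _ _ => hPs.isPrime).mp hsub
      exact hJ P hPa hle
    obtain ⟨s, hsJ, hs⟩ := Set.not_subset.mp hnot
    rw [biUnion_associatedPrimes_eq_compl_regular, Set.notMem_compl_iff] at hs
    -- flatness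
    have hs' : IsSMulRegular (T ⊗[B] (B ⧸ Ideal.span {x})) s := by
      intro a b hab
      refine Module.Flat.lTensor_preserves_injective_linearMap (M := T)
        (LinearMap.lsmul B (B ⧸ Ideal.span {x}) s) hs ?_
      have : LinearMap.lTensor T (LinearMap.lsmul B (B ⧸ Ideal.span {x}) s) = LinearMap.lsmul B _ s := by
        ext a' b'; simp
      rw [this]
      exact hab
    change algebraMap B T s ∈ (Ideal.span {algebraMap B T x}).colon {z} at hsJ
    rw [Submodule.mem_colon_singleton, smul_eq_mul, Ideal.mem_span_singleton'] at hsJ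
    obtain ⟨y, hy⟩ := hsJ
    let one : B ⧸ Ideal.span {x} := Ideal.Quotient.mk _ 1
    have h1 : s • (z ⊗ₜ[B] one) = 0 := by
      rw [TensorProduct.smul_tmul', Algebra.smul_def, ← hy, mul_comm y, ← Algebra.smul_def, TensorProduct.smul_tmul,
        show x • one = 0 from Ideal.Quotient.eq_zero_iff_mem.mpr (Ideal.mem_span_singleton'.mpr ⟨1, by ring⟩),
        TensorProduct.tmul_zero]
    have h2 := hs'.right_eq_zero_of_smul h1
    have h3 : (TensorProduct.tensorQuotEquivQuotSMul T (Ideal.span {x})) (z ⊗ₜ[B] one) = 0 := by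
      rw [h2, map_zero]
    simp [one, TensorProduct.tensorQuotEquivQuotSMul, Submodule.Quotient.mk_eq_zero, Ideal.smul_top_eq_map,
      Ideal.map_span, Ideal.mem_span_singleton] at h3
    exact h3
  refine ⟨fun z hz => ?_⟩
  have hall : ∀ n : ℕ, ∃ z', z = algebraMap B T x ^ n * z' ∧ IsNilpotent z' := by
    intro n
    induction n with
    | zero => exact ⟨z, by simp, hz⟩
    | succ n ih =>
      obtain ⟨z', rfl, hn⟩ := ih
      obtain ⟨z'', rfl⟩ := key z' hn
      refine ⟨z'', by ring, ?_⟩
      obtain ⟨N, hN⟩ := hn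
      exact ⟨N, hreg (x ^ N) (pow_ne_zero _ hx) _ (by rw [map_pow, ← mul_pow, hN])⟩
  have h0 : z ∈ ⨅ n : ℕ, (Ideal.span {algebraMap B T x}) ^ n • (⊤ : Submodule T T) := by
    rw [Submodule.mem_iInf]
    intro n
    obtain ⟨z', rfl, -⟩ := hall n
    rw [smul_eq_mul, Ideal.mul_top, Ideal.span_singleton_pow]
    exact Ideal.mul_mem_right _ _ (Ideal.mem_span_singleton_self _)
  rwa [Ideal.iInf_pow_smul_eq_bot_of_le_jacobson _ ((Ideal.span_singleton_le_iff_mem _).mpr hjac),
    Submodule.mem_bot] at h0

variable (R : Type u) [CommRing R] [IsLocalRing R] [IsNoetherianRing R]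

local notation "Rh" => AdicCompletion (maximalIdeal R) R

theorem completion_map_maximalIdeal :
    (maximalIdeal R).map (algebraMap R Rh) = maximalIdeal Rh := by
  rw [AdicCompletion.maximalIdeal_eq_map]

theorem exists_sub_mem (a : Rh) : ∃ r : R, a - algebraMap R Rh r ∈ maximalIdeal Rh := by
  obtain ⟨z, hz⟩ := (AdicCompletion.residueField_map_bijective_of_fg (R := R)
    (maximalIdeal R).fg_of_isNoetherianRing).2 (residue _ a)
  obtain ⟨r, rfl⟩ := Ideal.Quotient.mk_surjective z
  exact ⟨r, (residue_eq_zero_iff _).mp (by rw [map_sub, ← hz]; exact sub_self _)⟩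

theorem isNoetherianRing_completion : IsNoetherianRing Rh := by
  haveI : IsNoetherianRing (R ⧸ maximalIdeal R) := isNoetherianRing_of_surjective R _ _ Ideal.Quotient.mk_surjective
  exact Groth.L01.AdicNoeth.isNoetherianRing_adicCompletion _ (IsNoetherian.noetherian (maximalIdeal R))

open Algebra.TensorProduct in
/-- Completion of a finite domain algebra over a Nagata local ring is reduced. -/
theorem isReduced_tensor (hR : CAlg.IsNagata R) : ∀ (q : Ideal R) [q.IsPrime] (B : Type u) [CommRing B] [IsDomain B]
    [Algebra R B] [Module.Finite R B], RingHom.ker (algebraMap R B) = q → IsReduced (Rh ⊗[R] B) := by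
  intro q
  induction q using WellFoundedGT.induction with
  | _ q IH =>
  intro _ B _ _ _ _ hker
  haveI := isNoetherianRing_completion R
  -- reduce to normal B
  suffices H : ∀ (B : Type u) [CommRing B] [IsDomain B] [IsIntegrallyClosed B] [Algebra R B] [Module.Finite R B],
      RingHom.ker (algebraMap R B) = q → IsReduced (Rh ⊗[R] B) by
    letI : Algebra (R ⧸ q) B := (Ideal.Quotient.lift q (algebraMap R B) fun a ha => by
      rwa [← hker] at ha).toAlgebra
    haveI : IsScalarTower R (R ⧸ q) B := IsScalarTower.of_algebraMap_eq fun _ => rfl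
    haveI : Module.Finite (R ⧸ q) B := Module.Finite.of_restrictScalars_finite R _ _
    have hinj : Function.Injective (algebraMap (R ⧸ q) B) := by
      rw [injective_iff_map_eq_zero]
      intro a ha
      obtain ⟨a, rfl⟩ := Ideal.Quotient.mk_surjective a
      exact Ideal.Quotient.eq_zero_iff_mem.mpr (hker ▸ (ha : algebraMap R B a = 0))
    have hN1 := Groth.L01.N2.isN1_of_isN2 B (Groth.L01.N2.isN2_of_finite hinj (hR.2 q))
    let B' := integralClosure B (FractionRing B)
    haveI : Module.Finite B B' := hN1
    haveI : Module.Finite R B' := Module.Finite.trans B B'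
    haveI : IsIntegrallyClosed B' := integralClosure.isIntegrallyClosedOfFiniteExtension (FractionRing B)
    have hBB : Function.Injective (algebraMap B B') := fun a b h =>
      IsFractionRing.injective B (FractionRing B) (congrArg Subtype.val h)
    have hker' : RingHom.ker (algebraMap R B') = q := by
      rw [← hker, IsScalarTower.algebraMap_eq R B B']
      exact RingHom.ker_comp_of_injective _ hBB
    haveI := H B' hker'
    refine isReduced_of_injective (Algebra.TensorProduct.map (AlgHom.id R Rh) (IsScalarTower.toAlgHom R B B')) ?_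
    exact Module.Flat.lTensor_preserves_injective_linearMap (M := Rh)
      (IsScalarTower.toAlgHom R B B').toLinearMap hBB
  intro B _ _ _ _ _ hker
  by_cases hqm : q = maximalIdeal R
  · haveI : Algebra.IsIntegral R B := inferInstance
    have hfield : IsField B := by
      letI : Algebra (R ⧸ q) B := (Ideal.Quotient.lift q (algebraMap R B) fun a ha => by
        rwa [← hker] at ha).toAlgebra
      haveI : IsScalarTower R (R ⧸ q) B := IsScalarTower.of_algebraMap_eq fun _ => rfl
      haveI : q.IsMaximal := hqm ▸ maximalIdeal.isMaximal R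
      haveI : Algebra.IsIntegral (R ⧸ q) B := Algebra.IsIntegral.tower_top R
      exact isField_of_isIntegral_of_isField' ((Ideal.Quotient.maximal_ideal_iff_isField_quotient q).mp inferInstance)
    letI := hfield.toField
    rcases subsingleton_or_nontrivial (Rh ⊗[R] B) with h | h
    · exact ⟨fun z _ => Subsingleton.elim _ _⟩
    let g : B →+* Rh ⊗[R] B := (includeRight : B →ₐ[R] Rh ⊗[R] B).toRingHom
    have hm : ∀ a ∈ maximalIdeal Rh, ∀ b : B, a ⊗ₜ[R] b = 0 := by
      intro a ha
      rw [← completion_map_maximalIdeal] at ha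
      induction ha using Submodule.span_induction with
      | mem v hv =>
        obtain ⟨r, hr, rfl⟩ := hv
        intro b
        have hr0 : algebraMap R B r = 0 := by
          rw [← RingHom.mem_ker, hker, hqm]; exact hr
        rw [Algebra.algebraMap_eq_smul_one, TensorProduct.smul_tmul, Algebra.smul_def, hr0, zero_mul,
          TensorProduct.tmul_zero]
      | zero => intro b; rw [TensorProduct.zero_tmul]
      | add v w _ _ hv hw => intro b; rw [TensorProduct.add_tmul, hv b, hw b, add_zero]
      | smul c v _ hv =>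
        intro b
        rw [show (c • v) ⊗ₜ[R] b = (c ⊗ₜ[R] (1 : B)) * (v ⊗ₜ[R] b) by simp, hv b, mul_zero]
    have hsurj : Function.Surjective g := by
      intro z
      induction z using TensorProduct.induction_on with
      | zero => exact ⟨0, map_zero g⟩
      | tmul a b =>
        obtain ⟨r, hr⟩ := exists_sub_mem R a
        refine ⟨r • b, ?_⟩
        change (1 : Rh) ⊗ₜ[R] (r • b) = a ⊗ₜ[R] b
        rw [← TensorProduct.smul_tmul, ← Algebra.algebraMap_eq_smul_one, eq_comm, ← sub_eq_zero,
          ← TensorProduct.sub_tmul]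
        exact hm _ hr b
      | add v w hv hw =>
        obtain ⟨b, hb⟩ := hv
        obtain ⟨c, hc⟩ := hw
        exact ⟨b + c, by rw [map_add, hb, hc]⟩
    exact isReduced_of_injective (RingEquiv.ofBijective g ⟨g.injective, hsurj⟩).symm
      (RingEquiv.injective _)
  obtain ⟨x, hxm, hxq⟩ : ∃ x ∈ maximalIdeal R, x ∉ q := by
    by_contra! h
    exact hqm (le_antisymm (le_maximalIdeal (Ideal.IsPrime.ne_top inferInstance)) h)
  let T := Rh ⊗[R] B
  letI : Algebra B T := (includeRight : B →ₐ[R] T).toRingHom.toAlgebra
  haveI : Module.Flat B T := by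
    haveI : IsScalarTower R B T := IsScalarTower.of_algebraMap_eq fun r => ((includeRight : B →ₐ[R] T).commutes r).symm
    exact Module.Flat.of_linearEquiv
      (AlgEquiv.ofRingEquiv (f := (Algebra.TensorProduct.comm R Rh B).toRingEquiv) (fun b => by rfl) :
        T ≃ₐ[B] B ⊗[R] Rh).toLinearEquiv
  haveI : IsNoetherianRing B := IsNoetherianRing.of_finite R B
  haveI : IsNoetherianRing T := IsNoetherianRing.of_finite Rh T
  have hxB : algebraMap R B x ≠ 0 := fun h => hxq (hker ▸ h)
  refine isReduced_of_flat hxB ?_ fun P hPa => ?_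
  · rw [Ideal.jacobson, Ideal.mem_sInf]
    rintro Q ⟨-, hQ⟩
    haveI : Q.IsMaximal := hQ
    haveI : Algebra.IsIntegral Rh T := inferInstance
    haveI := Ideal.isMaximal_comap_of_isIntegral_of_isMaximal (R := Rh) Q
    have h1 : Q.comap (algebraMap Rh T) = maximalIdeal Rh := eq_maximalIdeal inferInstance
    have h2 : algebraMap R Rh x ∈ Q.comap (algebraMap Rh T) := by
      rw [h1, ← completion_map_maximalIdeal]
      exact Ideal.mem_map_of_mem _ hxm
    rw [Ideal.mem_comap] at h2
    have h3 : algebraMap B T (algebraMap R B x) = algebraMap Rh T (algebraMap R Rh x) :=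
      (AlgHom.commutes (includeRight : B →ₐ[R] T) x).trans (IsScalarTower.algebraMap_apply R Rh T x)
    rwa [h3]
  haveI := hPa.isPrime
  have hxP : algebraMap R B x ∈ P := by
    obtain ⟨-, c, hc⟩ := isAssociatedPrime_iff.mp hPa
    obtain ⟨c, rfl⟩ := Ideal.Quotient.mk_surjective c
    rw [hc, Submodule.mem_colon_singleton, Submodule.mem_bot]
    exact Ideal.Quotient.eq_zero_iff_mem.mpr (Ideal.mul_mem_right _ _ (Ideal.mem_span_singleton_self _))
  refine ⟨?_, ?_⟩
  · let q' := P.comap (algebraMap R B)
    have hlt : q < q' := lt_of_le_of_ne (fun r hr => by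
      rw [Ideal.mem_comap, show algebraMap R B r = 0 by rwa [← hker] at hr]; exact zero_mem _)
      fun h => hxq (h ▸ hxP : x ∈ q)
    haveI := IH q' hlt (B ⧸ P) (by
      ext r
      rw [RingHom.mem_ker, IsScalarTower.algebraMap_apply R B (B ⧸ P), Ideal.Quotient.algebraMap_eq,
        Ideal.Quotient.eq_zero_iff_mem]
      rfl)
    let e := (Algebra.TensorProduct.tensorQuotientEquiv (R := R) R B Rh P).toRingEquiv
    have hr := isReduced_of_injective e.symm e.symm.injective
    exact hr
  · let S := Localization.AtPrime P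
    haveI := Groth.L01.isDVR_localization_of_mem_associatedPrimes hxB hPa
    obtain ⟨ϖ, hϖ⟩ := IsDiscreteValuationRing.exists_irreducible S
    obtain ⟨⟨π, s⟩, hπ⟩ := IsLocalization.surj P.primeCompl ϖ
    have hs : IsUnit (algebraMap B S s) := IsLocalization.map_units S s
    have hmax : maximalIdeal S = (Ideal.span {π}).map (algebraMap B S) := by
      rw [Ideal.map_span, Set.image_singleton, ← show ϖ * algebraMap B S s = algebraMap B S π from hπ,
        Ideal.span_singleton_mul_right_unit hs, hϖ.maximalIdeal_eq]
    have hsing : ∀ a ∈ P, ∃ t, t ∉ P ∧ π ∣ t * a := by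
      intro a ha
      have h1 : algebraMap B S a ∈ maximalIdeal S := by
        rw [← Localization.AtPrime.map_eq_maximalIdeal]; exact Ideal.mem_map_of_mem _ ha
      rw [hmax, IsLocalization.algebraMap_mem_map_algebraMap_iff P.primeCompl] at h1
      obtain ⟨t, ht, hta⟩ := h1
      exact ⟨t, ht, Ideal.mem_span_singleton.mp hta⟩
    obtain ⟨G, hG⟩ := IsNoetherian.noetherian P
    choose t ht htd using fun a : G => hsing a (hG ▸ Ideal.subset_span a.2)
    have hπ0 : π ≠ 0 := by
      intro h
      have h' : ϖ * algebraMap B S s = 0 := by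
        rw [show ϖ * algebraMap B S s = algebraMap B S π from hπ, h, map_zero]
      exact hϖ.ne_zero (hs.mul_left_eq_zero.mp h')
    refine ⟨π, hπ0, ∏ a : G, t a, ?_, ?_, ?_⟩
    · intro hmem
      obtain ⟨a, -, ha⟩ := (Ideal.IsPrime.prod_mem_iff).mp hmem
      exact ht a ha
    · intro a ha
      rw [← hG] at ha
      induction ha using Submodule.span_induction with
      | mem v hv => exact (htd ⟨v, hv⟩).trans (mul_dvd_mul_right (Finset.dvd_prod_of_mem _ (Finset.mem_univ _)) _)
      | zero => simp
      | add v w _ _ hv hw => rw [mul_add]; exact dvd_add hv hw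
      | smul c v _ hv => rw [smul_eq_mul, mul_left_comm]; exact hv.mul_left c
    · have hx0 : algebraMap B S (algebraMap R B x) ≠ 0 :=
        (map_ne_zero_iff _ (IsLocalization.injective S (Ideal.primeCompl_le_nonZeroDivisors P))).mpr hxB
      obtain ⟨e, he⟩ := IsDiscreteValuationRing.associated_pow_irreducible hx0 hϖ
      have h1 : algebraMap B S (π ^ e) ∈ (Ideal.span {algebraMap R B x}).map (algebraMap B S) := by
        rw [Ideal.map_span, Set.image_singleton, Ideal.mem_span_singleton, map_pow,
          ← show ϖ * algebraMap B S s = algebraMap B S π from hπ, mul_pow]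
        exact he.dvd.mul_right _
      rw [IsLocalization.algebraMap_mem_map_algebraMap_iff P.primeCompl] at h1
      obtain ⟨u, hu, hux⟩ := h1
      exact ⟨e, u, hu, Ideal.mem_span_singleton.mp hux⟩

theorem isReduced_completion [IsDomain R] (hR : CAlg.IsNagata R) : IsReduced Rh := by
  haveI := isReduced_tensor R hR ⊥ R ((RingHom.injective_iff_ker_eq_bot _).mp Function.injective_id)
  exact isReduced_of_injective (Algebra.TensorProduct.rid R R Rh).symm (AlgEquiv.injective _)

/-- An analytically unramified local domain is N-1. -/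
theorem isN1 [IsDomain R] [IsReduced Rh] : CAlg.IsN1 R := by
  classical
  haveI := isNoetherianRing_completion R
  haveI : IsLocalHom (algebraMap R Rh) := ⟨fun r hr => by
    by_contra h
    have h1 : algebraMap R Rh r ∈ maximalIdeal Rh := by
      rw [← completion_map_maximalIdeal]
      exact Ideal.mem_map_of_mem _ h
    exact h1 hr⟩
  haveI : Module.FaithfullyFlat R Rh := Module.FaithfullyFlat.of_flat_of_isLocalHom
  let K := FractionRing R
  let R' := integralClosure R K
  change Module.Finite R R'
  haveI : Fintype (minimalPrimes Rh) := (minimalPrimes.finite_of_isNoetherianRing Rh).fintype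
  let P : minimalPrimes Rh → Ideal Rh := fun P => P.1
  haveI : ∀ i, (P i).IsPrime := fun i => Ideal.minimalPrimes_isPrime i.2
  let F : minimalPrimes Rh → Type u := fun i => FractionRing (Rh ⧸ P i)
  have hne : ∀ i, ∀ r : R, algebraMap R (F i) r = 0 → r = 0 := by
    intro i r hr
    by_contra hr0
    rw [IsScalarTower.algebraMap_apply R (Rh ⧸ P i) (F i), map_eq_zero_iff _ (IsFractionRing.injective _ _),
      IsScalarTower.algebraMap_apply R Rh (Rh ⧸ P i), Ideal.Quotient.algebraMap_eq,
      Ideal.Quotient.eq_zero_iff_mem] at hr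
    refine (Ideal.disjoint_nonZeroDivisors_of_mem_minimalPrimes i.2).le_bot ⟨hr, ?_⟩
    rw [SetLike.mem_coe, mem_nonZeroDivisors_iff_right]
    intro z hz
    have h1 : IsSMulRegular R r := isSMulRegular_iff_right_eq_zero_of_smul.mpr fun a ha =>
      (mul_eq_zero.mp ha).resolve_left hr0
    refine (IsSMulRegular.of_flat (S := Rh) h1).right_eq_zero_of_smul ?_
    simpa [Algebra.smul_def, mul_comm] using hz
  have hfin : ∀ i, Module.Finite Rh (integralClosure (Rh ⧸ P i) (F i)) := by
    intro i
    haveI : IsLocalRing (Rh ⧸ P i) := IsLocalRing.of_surjective' _ Ideal.Quotient.mk_surjective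
    haveI := Groth.L01.NagataComplete.isAdicComplete_quotient (P i)
    obtain ⟨Λ, _, n, f, hΛ, hinj, hf, -⟩ := Groth.Agent.S0581.result (Rh ⧸ P i)
    have : Module.Finite (Rh ⧸ P i) (integralClosure (Rh ⧸ P i) (F i)) := Groth.L01.N2.isN1_of_isN2 _
      (Groth.L01.NagataComplete.isN2_complete_local_domain (Rh ⧸ P i) f hΛ hinj hf)
    exact Module.Finite.trans (Rh ⧸ P i) _
  let φ : ∀ i, K →ₐ[R] F i := fun i => IsFractionRing.liftAlgHom
    (show Function.Injective (Algebra.ofId R (F i)) from (injective_iff_map_eq_zero _).mpr (hne i))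
  let W := ∀ i, integralClosure (Rh ⧸ P i) (F i)
  haveI : Module.Finite Rh W := inferInstance
  let ψ0 : ∀ i, R' →ₗ[R] integralClosure (Rh ⧸ P i) (F i) := fun i =>
    { toFun := fun z => ⟨φ i z, (z.2.map (φ i)).tower_top⟩
      map_add' := fun a b => Subtype.ext (map_add (φ i) _ _)
      map_smul' := fun r a => Subtype.ext (map_smul (φ i) r (a : K)) }
  let ψ : Rh ⊗[R] R' →ₗ[Rh] W := (LinearMap.pi ψ0).liftBaseChange Rh
  haveI : Module.Finite Rh (Rh ⊗[R] R') := by
    refine Module.Finite.of_injective ψ ?_
    rw [← LinearMap.ker_eq_bot, LinearMap.ker_eq_bot']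
    intro z hz
    obtain ⟨d, hd0, a, ha⟩ : ∃ d : R, d ≠ 0 ∧ ∃ a : Rh, d • z = a ⊗ₜ[R] (1 : R') := by
      clear hz
      induction z using TensorProduct.induction_on with
      | zero => exact ⟨1, one_ne_zero, 0, by simp⟩
      | tmul a r =>
        obtain ⟨c, d, hd, hcd⟩ := IsFractionRing.div_surjective (A := R) (r : K)
        refine ⟨d, nonZeroDivisors.ne_zero hd, c • a, ?_⟩
        rw [← TensorProduct.tmul_smul, TensorProduct.smul_tmul]
        congr 1
        apply Subtype.ext
        rw [SetLike.val_smul, SetLike.val_smul, OneMemClass.coe_one, Algebra.smul_def, Algebra.smul_def, ← hcd,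
          mul_one, mul_div_cancel₀]
        exact (map_ne_zero_iff _ (IsFractionRing.injective R K)).mpr (nonZeroDivisors.ne_zero hd)
      | add v w hv hw =>
        obtain ⟨d, hd, a, ha⟩ := hv
        obtain ⟨e, he, b, hb⟩ := hw
        refine ⟨d * e, mul_ne_zero hd he, e • a + d • b, ?_⟩
        rw [smul_add, mul_comm, mul_smul, ha, TensorProduct.smul_tmul', mul_comm, mul_smul, hb,
          TensorProduct.smul_tmul', TensorProduct.add_tmul]
    have hψ : ψ (d • z) = 0 := by rw [LinearMap.map_smul_of_tower, hz, smul_zero]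
    rw [ha, LinearMap.liftBaseChange_tmul] at hψ
    have ha0 : a = 0 := by
      have hmem : a ∈ sInf (minimalPrimes Rh) := by
        rw [Submodule.mem_sInf]
        intro Q hQ
        have h2 : algebraMap Rh (F ⟨Q, hQ⟩) a * φ ⟨Q, hQ⟩ ((1 : R') : K) = 0 := by
          rw [← Algebra.smul_def]
          exact congrArg Subtype.val (congrFun hψ ⟨Q, hQ⟩)
        rw [OneMemClass.coe_one, map_one, mul_one, IsScalarTower.algebraMap_apply Rh (Rh ⧸ Q) (F ⟨Q, hQ⟩),
          map_eq_zero_iff _ (IsFractionRing.injective _ _), Ideal.Quotient.algebraMap_eq,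
          Ideal.Quotient.eq_zero_iff_mem] at h2
        exact h2
      rw [minimalPrimes, Ideal.sInf_minimalPrimes] at hmem
      exact (show IsNilpotent a from hmem).eq_zero
    rw [ha0, TensorProduct.zero_tmul] at ha
    have hreg : IsSMulRegular (Rh ⊗[R] R') d := by
      intro v w hvw
      refine Module.Flat.lTensor_preserves_injective_linearMap (M := Rh) (LinearMap.lsmul R R' d)
        (fun a b h => Subtype.ext (mul_left_cancel₀
          ((map_ne_zero_iff _ (IsFractionRing.injective R K)).mpr hd0)
          (by simpa [Algebra.smul_def] using congrArg Subtype.val h))) ?_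
      have : LinearMap.lTensor Rh (LinearMap.lsmul R R' d) = LinearMap.lsmul R _ d := by
        ext a' b'; simp
      rw [this]
      exact hvw
    exact hreg.right_eq_zero_of_smul ha
  exact Module.Finite.of_finite_tensorProduct_of_faithfullyFlat Rh

end Groth.L01.AnalUnram
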