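import Mathlib.RingTheory.Jacobson.Ideal
import Mathlib.RingTheory.Localization.Away.Basic
import Mathlib.LinearAlgebra.Matrix.Adjugate
import Groth.Agent.L02.CAlg.Horrocks.MonicLocal

/-!
Projective modules over `A[1/t]` and over `S[1/t]` when `A → S` is an isomorphism modulo every power
of `t` and `t` lies in both Jacobson radicals.
-/

set_option autoImplicit false

open Matrix L02.CAlg.Horrocks TensorProduct

namespace L01.ApproxProj

universe u

variable (A S L L' : Type*) [CommRing A] [CommRing S] [CommRing L] [CommRing L'] [Algebra A S]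
  [Algebra A L] [Algebra L L'] [Algebra S L'] [Algebra A L'] [IsScalarTower A L L']
  [IsScalarTower A S L'] (t : A)

/-- The hypotheses: `A → S` is an isomorphism modulo `t ^ m`, `t` is in both Jacobson radicals and
`L`, `L'` are the localisations at `t`. -/
structure Setup : Prop where
  locL : IsLocalization.Away t L
  locS : IsLocalization.Away (algebraMap A S t) L'
  jacA : t ∈ (⊥ : Ideal A).jacobson
  jacS : algebraMap A S t ∈ (⊥ : Ideal S).jacobson
  dense : ∀ (m : ℕ) (s : S), ∃ a : A, algebraMap A S t ^ m ∣ s - algebraMap A S a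
  sep : ∀ (m : ℕ) (a : A), algebraMap A S t ^ m ∣ algebraMap A S a → t ^ m ∣ a

variable {A S L L'} {t}

/-- `Sm t k M`: the entries of `M` lie in `t ^ k S`. -/
def Sm (S : Type*) {A L' : Type*} [CommRing A] [CommRing S] [CommRing L'] [Algebra A L'] [Algebra S L']
    (t : A) (k : ℤ) {ι κ : Type*} (M : Matrix ι κ L') : Prop :=
  ∀ i j, ∃ (a b : ℕ) (s : S), (k + b ≤ a) ∧
    algebraMap A L' t ^ b * M i j = algebraMap A L' t ^ a * algebraMap S L' s

section
variable (h : Setup A S L L' t) {ι κ μ : Type*}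
include h

theorem unit_t : IsUnit (algebraMap A L' t) := by
  rw [IsScalarTower.algebraMap_apply A S L']
  haveI := h.locS
  exact IsLocalization.Away.algebraMap_isUnit _

theorem sm_scalar_add {k : ℤ} {x y : L'} (hx : ∃ (a b : ℕ) (s : S), (k + b ≤ a) ∧
      algebraMap A L' t ^ b * x = algebraMap A L' t ^ a * algebraMap S L' s)
    (hy : ∃ (a b : ℕ) (s : S), (k + b ≤ a) ∧
      algebraMap A L' t ^ b * y = algebraMap A L' t ^ a * algebraMap S L' s) :
    ∃ (a b : ℕ) (s : S), (k + b ≤ a) ∧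
      algebraMap A L' t ^ b * (x + y) = algebraMap A L' t ^ a * algebraMap S L' s := by
  obtain ⟨a, b, s, hk, e⟩ := hx
  obtain ⟨a', b', s', hk', e'⟩ := hy
  have hle : min (b' + a) (b + a') ≤ b' + a := min_le_left _ _
  obtain ⟨c, hc⟩ := Nat.exists_eq_add_of_le hle
  obtain ⟨c', hc'⟩ := Nat.exists_eq_add_of_le (min_le_right (b' + a) (b + a'))
  refine ⟨min (b' + a) (b + a'), b + b', algebraMap A S t ^ c * s + algebraMap A S t ^ c' * s', by omega, ?_⟩
  rw [map_add, map_mul, map_mul, map_pow, map_pow, ← IsScalarTower.algebraMap_apply, mul_add, mul_add,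
    ← mul_assoc (algebraMap A L' t ^ min (b' + a) (b + a')), ← pow_add, ← hc,
    ← mul_assoc (algebraMap A L' t ^ min (b' + a) (b + a')), ← pow_add, ← hc', pow_add, pow_add, pow_add]
  linear_combination algebraMap A L' t ^ b' * e + algebraMap A L' t ^ b * e'

theorem Sm.add {k : ℤ} {M N : Matrix ι κ L'} (hM : Sm S t k M) (hN : Sm S t k N) : Sm S t k (M + N) :=
  fun i j => sm_scalar_add h (hM i j) (hN i j)

theorem Sm.mono {k l : ℤ} {M : Matrix ι κ L'} (hkl : l ≤ k) (hM : Sm S t k M) : Sm S t l M := fun i j => by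
  obtain ⟨a, b, s, hk, e⟩ := hM i j
  exact ⟨a, b, s, by omega, e⟩

theorem sm_scalar_sum {k : ℤ} {α : Type*} (F : Finset α) (x : α → L') (hx : ∀ i ∈ F, ∃ (a b : ℕ) (s : S),
      (k + b ≤ a) ∧ algebraMap A L' t ^ b * x i = algebraMap A L' t ^ a * algebraMap S L' s) :
    ∃ (a b : ℕ) (s : S), (k + b ≤ a) ∧
      algebraMap A L' t ^ b * ∑ i ∈ F, x i = algebraMap A L' t ^ a * algebraMap S L' s := by
  classical
  induction F using Finset.induction with
  | empty => exact ⟨k.toNat, 0, 0, by omega, by simp⟩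
  | insert i F hi ih =>
    rw [Finset.sum_insert hi]
    exact sm_scalar_add h (hx i (Finset.mem_insert_self i F))
      (ih fun j hj => hx j (Finset.mem_insert_of_mem hj))

theorem Sm.mul [Fintype κ] {k l : ℤ} {M : Matrix ι κ L'} {N : Matrix κ μ L'} (hM : Sm S t k M)
    (hN : Sm S t l N) : Sm S t (k + l) (M * N) := fun i j => by
  refine sm_scalar_sum h _ _ fun r _ => ?_
  obtain ⟨a, b, s, hk, e⟩ := hM i r
  obtain ⟨a', b', s', hk', e'⟩ := hN r j
  refine ⟨a + a', b + b', s * s', by omega, ?_⟩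
  rw [map_mul, pow_add, pow_add]
  calc _ = (algebraMap A L' t ^ b * M i r) * (algebraMap A L' t ^ b' * N r j) := by ring
    _ = _ := by rw [e, e']; ring

theorem Sm.neg {k : ℤ} {M : Matrix ι κ L'} (hM : Sm S t k M) : Sm S t k (-M) := fun i j => by
  obtain ⟨a, b, s, hk, e⟩ := hM i j
  exact ⟨a, b, -s, hk, by rw [map_neg, Matrix.neg_apply, mul_neg, mul_neg, e]⟩

theorem Sm.sub {k : ℤ} {M N : Matrix ι κ L'} (hM : Sm S t k M) (hN : Sm S t k N) :
    Sm S t k (M - N) := by
  rw [sub_eq_add_neg]; exact Sm.add h hM (Sm.neg h hN)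

theorem exists_sm [Fintype ι] [Fintype κ] (M : Matrix ι κ L') : ∃ r : ℕ, Sm S t (-(r : ℤ)) M := by
  haveI := h.locS
  choose b s e using fun i j => IsLocalization.Away.surj (algebraMap A S t) (M i j)
  refine ⟨Finset.univ.sup fun ij : ι × κ => b ij.1 ij.2, fun i j => ⟨0, b i j, s i j, ?_, ?_⟩⟩
  · have := Finset.le_sup (f := fun ij : ι × κ => b ij.1 ij.2) (Finset.mem_univ (i, j))
    simp only at this
    omega
  · rw [pow_zero, one_mul, IsScalarTower.algebraMap_apply A S L', mul_comm]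
    exact e i j

theorem sm_one [DecidableEq ι] : Sm S t 0 (1 : Matrix ι ι L') := fun i j => by
  by_cases hij : i = j
  · exact ⟨0, 0, 1, by omega, by subst hij; simp⟩
  · exact ⟨0, 0, 0, by omega, by simp [hij]⟩

/-- Approximation: `A[1/t]` is dense in `S[1/t]`. -/
theorem exists_approx (M : Matrix ι κ L') (k : ℕ) :
    ∃ M' : Matrix ι κ L, Sm S t k (M - M'.map (algebraMap L L')) := by
  haveI := h.locS
  haveI := h.locL
  have key : ∀ x : L', ∃ x' : L, ∃ (a b : ℕ) (s : S), ((k : ℤ) + b ≤ a) ∧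
      algebraMap A L' t ^ b * (x - algebraMap L L' x') = algebraMap A L' t ^ a * algebraMap S L' s := by
    intro x
    obtain ⟨b, s, e⟩ := IsLocalization.Away.surj (algebraMap A S t) x
    obtain ⟨a, s', ha⟩ := h.dense (k + b) s
    refine ⟨IsLocalization.mk' L a (⟨t ^ b, b, rfl⟩ : Submonoid.powers t), k + b, b, s', by omega, ?_⟩
    have e2 : algebraMap A L' t ^ b * algebraMap L L' (IsLocalization.mk' L a
        (⟨t ^ b, b, rfl⟩ : Submonoid.powers t)) = algebraMap A L' a := by
      rw [← map_pow, IsScalarTower.algebraMap_apply A L L', ← map_mul,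
        IsLocalization.mk'_spec' (S := L) a (⟨t ^ b, b, rfl⟩ : Submonoid.powers t),
        ← IsScalarTower.algebraMap_apply]
    rw [mul_sub, e2, IsScalarTower.algebraMap_apply A S L' a, IsScalarTower.algebraMap_apply A S L' t,
      mul_comm, e, ← map_pow, ← map_sub, ← map_mul, ha]
  choose x hx using fun i j => key (M i j)
  exact ⟨Matrix.of x, fun i j => hx i j⟩

/-- A matrix over `A[1/t]` whose entries are in `t S` has entries in the image of `t A`. -/
theorem descend {M : Matrix ι κ L} (hM : Sm S t 1 (M.map (algebraMap L L'))) :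
    ∃ N : Matrix ι κ A, M = (t • N).map (algebraMap A L) := by
  haveI := h.locS
  haveI := h.locL
  have key : ∀ i j, ∃ c : A, M i j = algebraMap A L (t * c) := by
    intro i j
    obtain ⟨a, b, s, hk, e⟩ := hM i j
    obtain ⟨n, a₀, e₀⟩ := IsLocalization.Away.surj t (M i j)
    have e1 : algebraMap S L' (algebraMap A S (t ^ b * a₀)) =
        algebraMap S L' (algebraMap A S t ^ (n + a) * s) := by
      rw [← IsScalarTower.algebraMap_apply, map_mul (algebraMap A L'),
        IsScalarTower.algebraMap_apply A L L' a₀, ← e₀, map_mul (algebraMap L L'), map_pow (algebraMap L L'),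
        ← IsScalarTower.algebraMap_apply, map_mul (algebraMap S L'), map_pow (algebraMap S L'),
        ← IsScalarTower.algebraMap_apply, map_pow, pow_add]
      rw [Matrix.map_apply] at e
      linear_combination algebraMap A L' t ^ n * e
    obtain ⟨⟨_, c, rfl⟩, hc⟩ := (IsLocalization.eq_iff_exists
      (Submonoid.powers (algebraMap A S t)) L').1 e1
    have hdvd : t ^ (c + (n + a)) ∣ t ^ c * (t ^ b * a₀) := by
      refine h.sep _ _ ⟨s, ?_⟩
      simp only [map_mul, map_pow, pow_add] at hc ⊢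
      linear_combination hc
    obtain ⟨d, hd⟩ := hdvd
    refine ⟨t ^ (a - b - 1) * d, ?_⟩
    have hu : IsUnit (algebraMap A L t ^ (c + b + n)) :=
      (IsLocalization.Away.algebraMap_isUnit t).pow _
    refine hu.mul_left_cancel ?_
    rw [← map_pow, ← map_mul]
    calc algebraMap A L (t ^ (c + b + n)) * M i j
        = algebraMap A L (t ^ c * (t ^ b * a₀)) := by
          rw [map_mul, map_mul, ← e₀]
          simp only [map_pow, map_mul, pow_add]; ring
      _ = _ := by
          rw [hd]; congr 1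
          rw [← mul_assoc, ← mul_assoc, ← pow_succ, ← pow_add]
          congr 2; omega
  choose c hc using key
  exact ⟨Matrix.of c, Matrix.ext hc⟩

theorem isUnit_one_add [Fintype ι] [DecidableEq ι] {M : Matrix ι ι L}
    (hM : Sm S t 1 (M.map (algebraMap L L'))) : IsUnit (1 + M) := by
  obtain ⟨N, rfl⟩ := descend h hM
  have : IsUnit (1 + t • N).det := by
    have h1 : Ideal.Quotient.mk (Ideal.span {t}) (1 + t • N).det = 1 := by
      rw [RingHom.map_det, RingHom.mapMatrix_apply,
        show (1 + t • N).map (Ideal.Quotient.mk (Ideal.span {t})) = 1 from Matrix.ext fun i j => by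
          simp [Matrix.one_apply, apply_ite (Ideal.Quotient.mk (Ideal.span {t})),
            Ideal.Quotient.eq_zero_iff_mem.2 (Ideal.mem_span_singleton_self t)], Matrix.det_one]
    rw [← map_one (Ideal.Quotient.mk (Ideal.span {t})), Ideal.Quotient.eq, Ideal.mem_span_singleton'] at h1
    obtain ⟨y, hy⟩ := h1
    rw [show (1 + t • N).det = t * y + 1 by linear_combination -hy]
    exact Ideal.mem_jacobson_bot.1 h.jacA y
  have h2 := ((Matrix.isUnit_iff_isUnit_det _).2 this).map (algebraMap A L).mapMatrix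
  rwa [map_add, map_one] at h2

theorem isUnit_one_add' [Fintype ι] [DecidableEq ι] {M : Matrix ι ι L'} (hM : Sm S t 1 M) :
    IsUnit (1 + M) := by
  have key : ∀ i j, ∃ c : S, M i j = algebraMap S L' (algebraMap A S t * c) := by
    intro i j
    obtain ⟨a, b, s, hk, e⟩ := hM i j
    refine ⟨algebraMap A S t ^ (a - b - 1) * s, ((unit_t h).pow b).mul_left_cancel ?_⟩
    rw [e, map_mul, map_mul, map_pow, ← IsScalarTower.algebraMap_apply, ← mul_assoc, ← mul_assoc,
      ← pow_succ, ← pow_add]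
    congr 2; omega
  choose c hc using key
  obtain rfl : M = (algebraMap A S t • Matrix.of c).map (algebraMap S L') := Matrix.ext hc
  set t' := algebraMap A S t
  have : IsUnit (1 + t' • Matrix.of c).det := by
    have h1 : Ideal.Quotient.mk (Ideal.span {t'}) (1 + t' • Matrix.of c).det = 1 := by
      rw [RingHom.map_det, RingHom.mapMatrix_apply,
        show (1 + t' • Matrix.of c).map (Ideal.Quotient.mk (Ideal.span {t'})) = 1 from Matrix.ext fun i j => by
          simp [Matrix.one_apply, apply_ite (Ideal.Quotient.mk (Ideal.span {t'})),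
            Ideal.Quotient.eq_zero_iff_mem.2 (Ideal.mem_span_singleton_self t')], Matrix.det_one]
    rw [← map_one (Ideal.Quotient.mk (Ideal.span {t'})), Ideal.Quotient.eq, Ideal.mem_span_singleton'] at h1
    obtain ⟨y, hy⟩ := h1
    rw [show (1 + t' • Matrix.of c).det = t' * y + 1 by linear_combination -hy]
    exact Ideal.mem_jacobson_bot.1 h.jacS y
  have h2 := ((Matrix.isUnit_iff_isUnit_det _).2 this).map (algebraMap S L').mapMatrix
  rwa [map_add, map_one] at h2

/-- Idempotents over `A[1/t]` which are equivalent over `S[1/t]` are equivalent. -/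
theorem eqv_of_eqv_map {n m : ℕ} {e : Matrix (Fin n) (Fin n) L} {f : Matrix (Fin m) (Fin m) L}
    (he : e * e = e) (hf : f * f = f)
    (hef : Eqv (e.map (algebraMap L L')) (f.map (algebraMap L L'))) : Eqv e f := by
  classical
  obtain ⟨U, V, hUV, hVU⟩ := hef
  set α := algebraMap L L'
  have fα : f.map α * f.map α = f.map α := by rw [← Matrix.map_mul, hf]
  have eα : e.map α * e.map α = e.map α := by rw [← Matrix.map_mul, he]
  obtain ⟨r₁, hU⟩ := exists_sm h U
  obtain ⟨r₂, hV⟩ := exists_sm h V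
  obtain ⟨r₃, hE⟩ := exists_sm h (e.map α)
  obtain ⟨r₄, hF⟩ := exists_sm h (f.map α)
  set r := r₁ + r₂ + r₃ + r₄
  set k := 8 * r + 1
  obtain ⟨U', hU'⟩ := exists_approx h U k
  obtain ⟨V', hV'⟩ := exists_approx h V k
  replace hU := Sm.mono h (show -(r : ℤ) ≤ -r₁ by omega) hU
  replace hV := Sm.mono h (show -(r : ℤ) ≤ -r₂ by omega) hV
  replace hE := Sm.mono h (show -(r : ℤ) ≤ -r₃ by omega) hE
  replace hF := Sm.mono h (show -(r : ℤ) ≤ -r₄ by omega) hF
  have hU₁ : Sm S t (-(r : ℤ)) (U'.map α) := by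
    rw [← sub_sub_cancel U (U'.map α)]
    exact Sm.sub h hU (Sm.mono h (by omega) hU')
  have hV₁ : Sm S t (-(r : ℤ)) (V'.map α) := by
    rw [← sub_sub_cancel V (V'.map α)]
    exact Sm.sub h hV (Sm.mono h (by omega) hV')
  set X := f * U' * e with hX
  set Y := e * V' * f with hY
  have hfX : f * X = X := by rw [hX, ← Matrix.mul_assoc, ← Matrix.mul_assoc, hf]
  have hXe : X * e = X := by rw [hX, Matrix.mul_assoc, he]
  have heY : e * Y = Y := by rw [hY, ← Matrix.mul_assoc, ← Matrix.mul_assoc, he]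
  have hYf : Y * f = Y := by rw [hY, Matrix.mul_assoc, hf]
  have hW : IsUnit (1 + (X * Y - f)) := by
    refine isUnit_one_add h ?_
    have : (X * Y - f).map α = f.map α * (U'.map α - U) * e.map α * V'.map α * f.map α +
        f.map α * U * e.map α * (V'.map α - V) * f.map α := by
      rw [Matrix.map_sub _ (map_sub α), hX, hY, Matrix.mul_assoc (f * U') e, ← Matrix.mul_assoc e (e * V'),
        ← Matrix.mul_assoc e e, he]
      simp only [Matrix.map_mul, Matrix.mul_sub, Matrix.sub_mul, Matrix.mul_assoc]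
      have h3 : f.map α * (U * (e.map α * (V * f.map α))) = f.map α := by
        rw [← hVU]
        simp only [Matrix.mul_assoc]
        rw [← Matrix.mul_assoc U V, hUV, ← Matrix.mul_assoc U V, hUV, fα, fα, fα]
      rw [h3]; abel
    rw [this]
    refine Sm.add h ?_ ?_
    · refine Sm.mono h ?_ (Sm.mul h (Sm.mul h (Sm.mul h (Sm.mul h hF
        (by rw [← neg_sub]; exact Sm.neg h hU')) hE) hV₁) hF)
      omega
    · refine Sm.mono h ?_ (Sm.mul h (Sm.mul h (Sm.mul h (Sm.mul h hF hU) hE)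
        (by rw [← neg_sub]; exact Sm.neg h hV')) hF)
      omega
  have hZ : IsUnit (1 + (Y * X - e)) := by
    refine isUnit_one_add h ?_
    have : (Y * X - e).map α = e.map α * (V'.map α - V) * f.map α * U'.map α * e.map α +
        e.map α * V * f.map α * (U'.map α - U) * e.map α := by
      rw [Matrix.map_sub _ (map_sub α), hX, hY, Matrix.mul_assoc (e * V') f, ← Matrix.mul_assoc f (f * U'),
        ← Matrix.mul_assoc f f, hf]
      simp only [Matrix.map_mul, Matrix.mul_sub, Matrix.sub_mul, Matrix.mul_assoc]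
      have h3 : e.map α * (V * (f.map α * (U * e.map α))) = e.map α := by
        rw [← hUV]
        simp only [Matrix.mul_assoc]
        rw [← Matrix.mul_assoc V U, hVU, ← Matrix.mul_assoc V U, hVU, eα, eα, eα]
      rw [h3]; abel
    rw [this]
    refine Sm.add h ?_ ?_
    · refine Sm.mono h ?_ (Sm.mul h (Sm.mul h (Sm.mul h (Sm.mul h hE
        (by rw [← neg_sub]; exact Sm.neg h hV')) hF) hU₁) hE)
      omega
    · refine Sm.mono h ?_ (Sm.mul h (Sm.mul h (Sm.mul h (Sm.mul h hE hV) hF)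
        (by rw [← neg_sub]; exact Sm.neg h hU')) hE)
      omega
  set W := 1 + (X * Y - f) with hWdef
  set Z := 1 + (Y * X - e) with hZdef
  have hfW : f * W = X * Y := by
    rw [hWdef, Matrix.mul_add, Matrix.mul_one, Matrix.mul_sub, ← Matrix.mul_assoc, hfX, hf, add_sub_cancel]
  have hZe : Z * e = Y * X := by
    rw [hZdef, Matrix.add_mul, Matrix.one_mul, Matrix.sub_mul, Matrix.mul_assoc, hXe, he, add_sub_cancel]
  set Wi : Matrix (Fin m) (Fin m) L := ↑hW.unit⁻¹
  set Zi : Matrix (Fin n) (Fin n) L := ↑hZ.unit⁻¹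
  have hXY' : X * (Y * Wi) = f := by
    rw [← Matrix.mul_assoc, ← hfW, Matrix.mul_assoc, hW.mul_val_inv, Matrix.mul_one]
  have hY'X : Zi * Y * X = e := by
    rw [Matrix.mul_assoc, ← hZe, ← Matrix.mul_assoc, hZ.val_inv_mul, Matrix.one_mul]
  refine ⟨X, Y * Wi, hXY', ?_⟩
  have h4 : Y * Wi = Zi * Y * f := by
    calc Y * Wi = e * (Y * Wi) := by rw [← Matrix.mul_assoc, heY]
      _ = Zi * Y * (X * (Y * Wi)) := by rw [← hY'X, Matrix.mul_assoc (Zi * Y) X]
      _ = _ := by rw [hXY']
  rw [h4, Matrix.mul_assoc _ f, hfX, hY'X]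

/-- A split surjection over `S[1/t]` has a kernel which is defined over `A[1/t]`. -/
theorem exists_kernel {n m : ℕ} (π : Matrix (Fin n) (Fin m) L') (σ : Matrix (Fin m) (Fin n) L')
    (hπσ : π * σ = 1) :
    ∃ (π' : Matrix (Fin n) (Fin m) L) (σ' : Matrix (Fin m) (Fin n) L), π' * σ' = 1 ∧
      Eqv (1 - σ * π) ((1 - σ' * π').map (algebraMap L L')) := by
  classical
  set α := algebraMap L L'
  obtain ⟨r₁, hp⟩ := exists_sm h π
  obtain ⟨r₂, hs⟩ := exists_sm h σ
  set r := r₁ + r₂
  obtain ⟨π', hπ'⟩ := exists_approx h π (2 * r + 1)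
  obtain ⟨σ', hσ'⟩ := exists_approx h σ (2 * r + 1)
  replace hp := Sm.mono h (show -(r : ℤ) ≤ -r₁ by omega) hp
  replace hs := Sm.mono h (show -(r : ℤ) ≤ -r₂ by omega) hs
  have hp₁ : Sm S t (-(r : ℤ)) (π'.map α) := by
    rw [← sub_sub_cancel π (π'.map α)]
    exact Sm.sub h hp (Sm.mono h (by omega) hπ')
  have hW : IsUnit (1 + (π' * σ' - 1)) := by
    refine isUnit_one_add h ?_
    have : (π' * σ' - 1).map α = π'.map α * (σ'.map α - σ) + (π'.map α - π) * σ := by
      rw [Matrix.map_sub _ (map_sub α), Matrix.map_mul, Matrix.map_one _ (map_zero α) (map_one α),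
        Matrix.mul_sub, Matrix.sub_mul, hπσ]
      abel
    rw [this]
    refine Sm.add h ?_ ?_
    · refine Sm.mono h ?_ (Sm.mul h hp₁ (by rw [← neg_sub]; exact Sm.neg h hσ'))
      omega
    · refine Sm.mono h ?_ (Sm.mul h (by rw [← neg_sub]; exact Sm.neg h hπ') hs)
      omega
  rw [add_sub_cancel] at hW
  have hG : IsUnit (π'.map α * σ) := by
    have h1 : IsUnit (1 + (π'.map α - π) * σ) := by
      refine isUnit_one_add' h (Sm.mono h ?_ (Sm.mul h (by rw [← neg_sub]; exact Sm.neg h hπ') hs))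
      omega
    rwa [Matrix.sub_mul, hπσ, add_sub_cancel] at h1
  set Gi : Matrix (Fin n) (Fin n) L' := ↑hG.unit⁻¹
  set Wi : Matrix (Fin n) (Fin n) L := ↑hW.unit⁻¹
  refine ⟨π', σ' * Wi, by rw [← Matrix.mul_assoc, hW.mul_val_inv], ?_⟩
  set τ := σ' * Wi
  have hτ : π' * τ = 1 := by rw [← Matrix.mul_assoc, hW.mul_val_inv]
  set q := 1 - σ * Gi * π'.map α with hq
  set e₁ := (1 - τ * π').map α with he₁
  set e₀ := 1 - σ * π with he₀
  have hqσ : q * σ = 0 := by
    rw [hq, Matrix.sub_mul, Matrix.one_mul, Matrix.mul_assoc, Matrix.mul_assoc σ, hG.val_inv_mul,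
      Matrix.mul_one, sub_self]
  have hπq : π'.map α * q = 0 := by
    rw [hq, Matrix.mul_sub, Matrix.mul_one, ← Matrix.mul_assoc, ← Matrix.mul_assoc, hG.mul_val_inv,
      Matrix.one_mul, sub_self]
  have hπe : π'.map α * e₁ = 0 := by
    rw [he₁, ← Matrix.map_mul, Matrix.mul_sub, Matrix.mul_one, ← Matrix.mul_assoc, hτ, Matrix.one_mul,
      sub_self, Matrix.map_zero _ (map_zero α)]
  have hqe₀ : q * e₀ = q := by
    rw [he₀, Matrix.mul_sub, Matrix.mul_one, ← Matrix.mul_assoc, hqσ, Matrix.zero_mul, sub_zero]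
  have he₀q : e₀ * q = e₀ := by
    rw [hq, Matrix.mul_sub, Matrix.mul_one, ← Matrix.mul_assoc, ← Matrix.mul_assoc,
      show e₀ * σ = 0 by rw [he₀, Matrix.sub_mul, Matrix.one_mul, Matrix.mul_assoc, hπσ, Matrix.mul_one,
        sub_self], Matrix.zero_mul, Matrix.zero_mul, sub_zero]
  have hqe₁ : q * e₁ = e₁ := by
    rw [hq, Matrix.sub_mul, Matrix.one_mul, Matrix.mul_assoc, hπe, Matrix.mul_zero, sub_zero]
  have he₁q : e₁ * q = q := by
    rw [he₁, Matrix.map_sub _ (map_sub α), Matrix.map_one _ (map_zero α) (map_one α), Matrix.sub_mul,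
      Matrix.one_mul, Matrix.map_mul, Matrix.mul_assoc, hπq, Matrix.mul_zero, sub_zero]
  have e₁e₁ : e₁ * e₁ = e₁ :=
    calc e₁ * e₁ = e₁ * (q * e₁) := by rw [hqe₁]
      _ = q * e₁ := by rw [← Matrix.mul_assoc, he₁q]
      _ = e₁ := hqe₁
  refine ⟨e₁ * q, e₀ * e₁, ?_, ?_⟩
  · rw [Matrix.mul_assoc, ← Matrix.mul_assoc q, hqe₀, hqe₁, e₁e₁]
  · rw [Matrix.mul_assoc, ← Matrix.mul_assoc e₁ e₁, e₁e₁, he₁q, he₀q]

end

section Modules

variable {A S : Type*} {L L' : Type u} [CommRing A] [CommRing S] [CommRing L] [CommRing L'] [Algebra A S]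
  [Algebra A L] [Algebra L L'] [Algebra S L'] [Algebra A L'] [IsScalarTower A L L']
  [IsScalarTower A S L'] {t : A} (h : Setup A S L L' t)
include h

theorem nonempty_linearEquiv (M N : Type u) [AddCommGroup M] [Module L M] [Module.Finite L M]
    [Module.Projective L M] [AddCommGroup N] [Module L N] [Module.Finite L N] [Module.Projective L N]
    (e : L' ⊗[L] M ≃ₗ[L'] L' ⊗[L] N) : Nonempty (M ≃ₗ[L] N) := by
  classical
  obtain ⟨n, iM, pM, hM⟩ := exists_retract L M
  obtain ⟨m, iN, pN, hN⟩ := exists_retract L N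
  refine nonempty_linearEquiv_of_eqv iM pM iN pN (fun x => LinearMap.congr_fun hM x)
    (fun x => LinearMap.congr_fun hN x) (E := LinearMap.toMatrix' (iM ∘ₗ pM))
    (F := LinearMap.toMatrix' (iN ∘ₗ pN)) (fun v => ?_) (fun v => ?_)
    (eqv_of_eqv_map h (toMatrix'_idem iM pM hM) (toMatrix'_idem iN pN hN)
      ⟨LinearMap.toMatrix' (inclS L' iN ∘ₗ e.toLinearMap ∘ₗ projS L' pM),
        LinearMap.toMatrix' (inclS L' iM ∘ₗ e.symm.toLinearMap ∘ₗ projS L' pN), ?_, ?_⟩)
  · rw [← Matrix.toLin'_apply, Matrix.toLin'_toMatrix', LinearMap.comp_apply]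
  · rw [← Matrix.toLin'_apply, Matrix.toLin'_toMatrix', LinearMap.comp_apply]
  · rw [← LinearMap.toMatrix'_comp]
    refine Matrix.toLin'.injective (LinearMap.ext fun v => ?_)
    rw [Matrix.toLin'_toMatrix', Matrix.toLin'_apply, ← inclS_projS]
    simp [projS_inclS iM pM hM]
  · rw [← LinearMap.toMatrix'_comp]
    refine Matrix.toLin'.injective (LinearMap.ext fun v => ?_)
    rw [Matrix.toLin'_toMatrix', Matrix.toLin'_apply, ← inclS_projS]
    simp [projS_inclS iN pN hN]

theorem exists_stablyFree (M' : Type u) [AddCommGroup M'] [Module L' M']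
    (hM' : ∃ n m : ℕ, Nonempty ((M' × (Fin n → L')) ≃ₗ[L'] (Fin m → L'))) :
    ∃ (M : Type u) (_ : AddCommGroup M) (_ : Module L M), Module.Finite L M ∧
      (∃ n m : ℕ, Nonempty ((M × (Fin n → L)) ≃ₗ[L] (Fin m → L))) ∧
      Nonempty (L' ⊗[L] M ≃ₗ[L'] M') := by
  classical
  obtain ⟨n, m, ⟨φ⟩⟩ := hM'
  let πl : (Fin m → L') →ₗ[L'] (Fin n → L') := LinearMap.snd L' M' (Fin n → L') ∘ₗ φ.symm.toLinearMap
  let σl : (Fin n → L') →ₗ[L'] (Fin m → L') := φ.toLinearMap ∘ₗ LinearMap.inr L' M' (Fin n → L')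
  let i₀ : M' →ₗ[L'] (Fin m → L') := φ.toLinearMap ∘ₗ LinearMap.inl L' M' (Fin n → L')
  let p₀ : (Fin m → L') →ₗ[L'] M' := LinearMap.fst L' M' (Fin n → L') ∘ₗ φ.symm.toLinearMap
  obtain ⟨π, σ, hπσ, hE⟩ := exists_kernel h (LinearMap.toMatrix' πl) (LinearMap.toMatrix' σl) (by
    rw [← LinearMap.toMatrix'_comp, ← LinearMap.toMatrix'_id]
    congr 1
    exact LinearMap.ext fun w => by simp [πl, σl])
  let e := 1 - σ * π
  have he : e * e = e := by
    show (1 - σ * π) * (1 - σ * π) = 1 - σ * π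
    rw [Matrix.mul_sub, Matrix.mul_one, Matrix.sub_mul, Matrix.one_mul, Matrix.mul_assoc σ π,
      ← Matrix.mul_assoc π σ, hπσ, Matrix.one_mul, sub_self, sub_zero]
  have hπe : π * e = 0 := by
    show π * (1 - σ * π) = 0
    rw [Matrix.mul_sub, Matrix.mul_one, ← Matrix.mul_assoc, hπσ, Matrix.one_mul, sub_self]
  have heσ : e * σ = 0 := by
    show (1 - σ * π) * σ = 0
    rw [Matrix.sub_mul, Matrix.one_mul, Matrix.mul_assoc, hπσ, Matrix.mul_one, sub_self]
  let M := LinearMap.range e.mulVecLin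
  let p : (Fin m → L) →ₗ[L] M := e.mulVecLin.rangeRestrict
  have hfix : ∀ x : M, e *ᵥ (x : Fin m → L) = x := fun ⟨x, v, hv⟩ => by
    subst hv
    simp [Matrix.mulVec_mulVec, he]
  have hp : p ∘ₗ M.subtype = LinearMap.id := LinearMap.ext fun x => Subtype.ext (hfix x)
  refine ⟨M, inferInstance, inferInstance, Module.Finite.range _, ⟨n, m, ⟨LinearEquiv.ofLinearMap
    (LinearMap.coprod M.subtype σ.mulVecLin) (LinearMap.prod p π.mulVecLin) ?_ ?_⟩⟩, ?_⟩
  · refine LinearMap.ext fun v => ?_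
    show e *ᵥ v + σ *ᵥ (π *ᵥ v) = v
    rw [Matrix.mulVec_mulVec, ← Matrix.add_mulVec, sub_add_cancel, Matrix.one_mulVec]
  · refine LinearMap.ext fun x => Prod.ext (Subtype.ext ?_) ?_
    · show e *ᵥ ((x.1 : Fin m → L) + σ *ᵥ x.2) = x.1
      rw [Matrix.mulVec_add, hfix, Matrix.mulVec_mulVec, heσ, Matrix.zero_mulVec, add_zero]
    · show π *ᵥ ((x.1 : Fin m → L) + σ *ᵥ x.2) = x.2
      rw [← hfix x.1, Matrix.mulVec_add, Matrix.mulVec_mulVec, hπe, Matrix.zero_mulVec, zero_add,
        Matrix.mulVec_mulVec, hπσ, Matrix.one_mulVec]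
  refine ⟨(Classical.choice (nonempty_linearEquiv_of_eqv i₀ p₀ (inclS L' M.subtype) (projS L' p)
    (fun x => by simp [i₀, p₀]) (projS_inclS M.subtype p hp) (fun v => ?_) (fun v => ?_) hE)).symm⟩
  · have hsum : φ ((φ.symm v).1, 0) + φ (0, (φ.symm v).2) = v := by
      rw [← map_add, Prod.mk_add_mk, add_zero, zero_add, φ.apply_symm_apply]
    rw [Matrix.sub_mulVec, Matrix.one_mulVec, ← Matrix.mulVec_mulVec, eq_sub_iff_add_eq,
      ← Matrix.toLin'_apply, ← Matrix.toLin'_apply, Matrix.toLin'_toMatrix', Matrix.toLin'_toMatrix']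
    exact hsum
  · rw [inclS_projS, show M.subtype ∘ₗ p = Matrix.toLin' e from
      LinearMap.ext fun w => (Matrix.toLin'_apply e w).symm, LinearMap.toMatrix'_toLin']

end Modules

end L01.ApproxProj
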