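import Mathlib.RingTheory.Henselian
import Mathlib.LinearAlgebra.Matrix.Charpoly.Coeff
import Groth.Agent.L01.ApproxProj
import Groth.Agent.L05.Hensel.Perm

/-!
For a henselian pair `(A, t)` finite projective modules over `S[1/t]` descend to `A[1/t]`.
-/

set_option autoImplicit false

open Matrix L02.CAlg.Horrocks Polynomial

namespace L01.ApproxProj

universe u

variable {A S L L' : Type u} [CommRing A] [CommRing S] [CommRing L] [CommRing L'] [Algebra A S]
  [Algebra A L] [Algebra L L'] [Algebra S L'] [Algebra A L'] [IsScalarTower A L L']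
  [IsScalarTower A S L'] {t : A}

theorem sm_map_pow_smul (h : Setup A S L L' t) {ι κ : Type*} (K : ℕ) (N : Matrix ι κ A) :
    Sm S t (K : ℤ) (((t ^ K) • N).map (algebraMap A L')) := fun i j =>
  ⟨K, 0, algebraMap A S (N i j), by omega, by
    rw [pow_zero, one_mul, Matrix.map_apply, Matrix.smul_apply, smul_eq_mul, map_mul, map_pow,
      ← IsScalarTower.algebraMap_apply]⟩

theorem descend_pow (h : Setup A S L L' t) {ι κ : Type*} {M : Matrix ι κ L} (K : ℕ)
    (hM : Sm S t ((K : ℤ) + 1) (M.map (algebraMap L L'))) :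
    ∃ N : Matrix ι κ A, M = ((t ^ (K + 1)) • N).map (algebraMap A L) := by
  haveI := h.locL
  have hu : IsUnit (algebraMap A L t ^ K) := (IsLocalization.Away.algebraMap_isUnit t).pow K
  obtain ⟨N, hN⟩ := descend h (M := (↑hu.unit⁻¹ : L) • M) (fun i j => by
    obtain ⟨a, b, s, hk, e⟩ := hM i j
    refine ⟨a, b + K, s, by omega, ?_⟩
    rw [← e, Matrix.map_apply, Matrix.map_apply, Matrix.smul_apply, smul_eq_mul, map_mul, pow_add,
      show algebraMap A L' t ^ K = algebraMap L L' (algebraMap A L t ^ K) by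
        rw [map_pow, ← IsScalarTower.algebraMap_apply]]
    rw [mul_assoc, ← mul_assoc (algebraMap L L' (algebraMap A L t ^ K)), ← map_mul, hu.mul_val_inv,
      map_one, one_mul])
  refine ⟨N, Matrix.ext fun i j => ?_⟩
  have h1 := congrFun (congrFun hN i) j
  rw [Matrix.smul_apply, smul_eq_mul, Matrix.map_apply, Matrix.smul_apply, smul_eq_mul] at h1
  rw [Matrix.map_apply, Matrix.smul_apply, smul_eq_mul, pow_succ, mul_assoc, map_mul, map_pow, ← h1,
    ← mul_assoc, hu.mul_val_inv, one_mul]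

/-- Idempotents over `S[1/t]` descend to `A[1/t]`. -/
theorem exists_idempotent (h : Setup A S L L' t) [HenselianRing A (Ideal.span {t})] {n : ℕ}
    (e₁ : Matrix (Fin n) (Fin n) L') (he₁ : e₁ * e₁ = e₁) :
    ∃ e : Matrix (Fin n) (Fin n) L, e * e = e ∧ Eqv e₁ (e.map (algebraMap L L')) := by
  classical
  haveI := h.locL
  set α := algebraMap L L'
  obtain ⟨r, hr⟩ := exists_sm h e₁
  obtain ⟨e₀, he₀⟩ := exists_approx h e₁ (4 * r + 4)
  have hr₀ : Sm S t (-(r : ℤ)) (e₀.map α) := by
    rw [← sub_sub_cancel e₁ (e₀.map α)]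
    exact Sm.sub h hr (Sm.mono h (by omega) he₀)
  have hε : Sm S t ((3 * r + 3 : ℕ) + 1 : ℤ) ((e₀ * e₀ - e₀).map α) := by
    have : (e₀ * e₀ - e₀).map α = (e₁ - e₀.map α) - (e₁ * (e₁ - e₀.map α) + (e₁ - e₀.map α) * e₀.map α) := by
      rw [Matrix.map_sub _ (map_sub α), Matrix.map_mul, Matrix.mul_sub, Matrix.sub_mul, he₁]
      abel
    rw [this]
    exact Sm.sub h (Sm.mono h (by omega) he₀) (Sm.add h (Sm.mono h (by omega) (Sm.mul h hr he₀))
      (Sm.mono h (by omega) (Sm.mul h he₀ hr₀)))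
  obtain ⟨N, hN⟩ := descend_pow h (3 * r + 3) hε
  set K := 3 * r + 3 + 1
  -- a finite algebra containing `N`
  have hm : N.charpoly.Monic := Matrix.charpoly_monic N
  let C := AdjoinRoot N.charpoly
  haveI : Module.Finite A C := hm.finite_adjoinRoot
  haveI hC := Groth.L05.henselianRing_map_of_isIntegral (Ideal.span {t}) C
  set tC := algebraMap A C t
  let x : C := AdjoinRoot.root N.charpoly
  have hI : tC ∈ (Ideal.span {t}).map (algebraMap A C) := Ideal.mem_map_of_mem _ (Ideal.mem_span_singleton_self t)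
  have hu : IsUnit (1 + 4 * (tC ^ K * x)) := by
    have h1 := Ideal.mem_jacobson_bot.1 (hC.jac hI) (4 * (tC ^ (3 * r + 3) * x))
    rw [show (1 : C) + 4 * (tC ^ K * x) = tC * (4 * (tC ^ (3 * r + 3) * x)) + 1 by
      simp only [K, pow_succ]; ring]
    exact h1
  obtain ⟨iu, hiu⟩ := hu.exists_right_inv
  set δ := iu * (tC ^ K * x) with hδ
  have hδI : δ ∈ (Ideal.span {t}).map (algebraMap A C) := by
    rw [hδ, show tC ^ K * x = tC * (tC ^ (3 * r + 3) * x) by simp only [K, pow_succ]; ring]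
    exact Ideal.mul_mem_left _ _ (Ideal.mul_mem_right _ _ hI)
  obtain ⟨w, hw, hw0⟩ : ∃ w : C, w ^ 2 - w + δ = 0 ∧ w ∈ (Ideal.span {t}).map (algebraMap A C) := by
    rcases subsingleton_or_nontrivial C with hs | hs
    · exact ⟨0, Subsingleton.elim _ _, zero_mem _⟩
    obtain ⟨w, hw, hw'⟩ := hC.is_henselian (Polynomial.X ^ 2 - Polynomial.X + Polynomial.C δ)
      (by monicity!) 0 (by simpa using hδI) (by simp)
    exact ⟨w, by simpa [Polynomial.IsRoot] using hw, by simpa using hw'⟩
  have hw1 : IsUnit (1 - w) := by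
    have h1 := Ideal.mem_jacobson_bot.1 (hC.jac hw0) (-1)
    rwa [mul_neg_one, neg_add_eq_sub] at h1
  obtain ⟨iw, hiw⟩ := hw1.exists_right_inv
  have hwK : w = tC ^ K * (iw * iu * x) := by
    refine hw1.mul_left_cancel ?_
    calc (1 - w) * w = δ := by linear_combination -hw
      _ = ((1 - w) * iw) * δ := by rw [hiw, one_mul]
      _ = _ := by rw [hδ]; ring
  let φ₀ : C →+* Matrix (Fin n) (Fin n) A :=
    Ideal.Quotient.lift (Ideal.span {N.charpoly}) (Polynomial.aeval N).toRingHom fun p hp => by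
      obtain ⟨c, rfl⟩ := Ideal.mem_span_singleton'.1 hp
      show Polynomial.aeval N (c * N.charpoly) = 0
      rw [map_mul, Matrix.aeval_self_charpoly, mul_zero]
  let φ : C →ₐ[A] Matrix (Fin n) (Fin n) A :=
    { φ₀ with commutes' := fun a => Polynomial.aeval_C N a }
  let ρ : Matrix (Fin n) (Fin n) A →+* Matrix (Fin n) (Fin n) L := (algebraMap A L).mapMatrix
  have hρt : ∀ (k : ℕ) (M : Matrix (Fin n) (Fin n) A), ρ (t ^ k • M) = algebraMap A L t ^ k • ρ M := fun k M =>
    Matrix.ext fun i j => by simp [ρ, Matrix.smul_apply]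
  have hφx : φ x = N := Polynomial.aeval_X N
  have hN' : ρ (φ (tC ^ K * x)) = e₀ * e₀ - e₀ := by
    rw [hN, ← map_pow, ← Algebra.smul_def, map_smul, hφx]
    rfl
  set W := ρ (φ w) with hWdef
  -- `W` commutes with `e₀`
  have hcomm : Commute W e₀ := by
    have h1 : Commute (ρ N) e₀ := by
      have h2 : (algebraMap A L t ^ K • ρ N) * e₀ = e₀ * (algebraMap A L t ^ K • ρ N) := by
        rw [← hρt, show ρ (t ^ K • N) = e₀ * e₀ - e₀ from hN.symm, Matrix.sub_mul, Matrix.mul_sub,
          Matrix.mul_assoc]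
      rw [Matrix.smul_mul, Matrix.mul_smul] at h2
      exact ((IsLocalization.Away.algebraMap_isUnit (S := L) t).pow K).smul_left_cancel.1 h2
    obtain ⟨p, hwp⟩ := AdjoinRoot.mk_surjective w
    rw [hWdef, ← hwp]
    clear hwp
    show Commute ((ρ.comp φ.toRingHom) (AdjoinRoot.mk N.charpoly p)) e₀
    induction p using Polynomial.induction_on with
    | C a =>
      show Commute (ρ (φ (AdjoinRoot.mk N.charpoly (Polynomial.C a)))) e₀
      rw [AdjoinRoot.mk_C, ← AdjoinRoot.algebraMap_eq, φ.commutes, show ρ (algebraMap A _ a) =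
        algebraMap L _ (algebraMap A L a) from Matrix.ext fun i j => by
          simp [ρ, Matrix.algebraMap_matrix_apply, apply_ite (algebraMap A L)]]
      exact Algebra.commutes _ _
    | add p q hp hq => rw [map_add, map_add]; exact hp.add_left hq
    | monomial k a ih =>
      rw [pow_succ, ← mul_assoc, map_mul, map_mul]
      refine ih.mul_left ?_
      show Commute (ρ (φ (AdjoinRoot.mk N.charpoly Polynomial.X))) e₀
      rw [AdjoinRoot.mk_X, hφx]
      exact h1
  have hWq : (1 + 4 * (e₀ * e₀ - e₀)) * (W * W - W) = -(e₀ * e₀ - e₀) := by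
    have h1 : (1 + 4 * (tC ^ K * x)) * (w ^ 2 - w) = -(tC ^ K * x) := by
      rw [eq_neg_iff_add_eq_zero, show w ^ 2 - w = -δ by linear_combination hw, hδ, mul_neg, ← mul_assoc,
        hiu, one_mul, neg_add_cancel]
    have h2 := congrArg (ρ.comp φ.toRingHom) h1
    simp only [map_mul, map_add, map_one, map_sub, map_neg, pow_two, map_ofNat, RingHom.comp_apply,
      AlgHom.toRingHom_eq_coe, RingHom.coe_coe] at h2
    simp only [map_mul, pow_two] at hN'
    rw [hN'] at h2
    exact h2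
  set e := e₀ + (1 - 2 * e₀) * W with he
  have hee : e * e = e := by
    have hc : W * e₀ = e₀ * W := hcomm
    refine sub_eq_zero.1 ?_
    have h3 : e * e - e = (e₀ * e₀ - e₀) + (1 + 4 * (e₀ * e₀ - e₀)) * (W * W - W) := by
      simp only [he, two_mul, Matrix.mul_add, Matrix.add_mul, Matrix.sub_mul, Matrix.mul_sub, Matrix.one_mul,
        Matrix.mul_one, show (4 : Matrix (Fin n) (Fin n) L) = 1 + 1 + 1 + 1 by norm_num]
      simp only [← Matrix.mul_assoc, hc]
      simp only [Matrix.mul_assoc, hc]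
      simp only [← Matrix.mul_assoc]
      abel
    rw [h3, hWq, add_neg_cancel]
  refine ⟨e, hee, ?_⟩
  set e' := e.map α with he'
  have he'e' : e' * e' = e' := by rw [he', ← Matrix.map_mul, hee]
  have hWo : Sm S t (K : ℤ) (W.map α) := by
    have h1 : W.map α = ((t ^ K) • φ (iw * iu * x)).map (algebraMap A L') := by
      rw [hWdef]
      conv_lhs => rw [hwK, ← map_pow, ← Algebra.smul_def, map_smul]
      exact Matrix.ext fun i j => (IsScalarTower.algebraMap_apply A L L' _).symm
    rw [h1]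
    exact sm_map_pow_smul h K _
  have hdiff : Sm S t ((2 * r + 1 : ℕ) : ℤ) (e' - e₁) := by
    have : e' - e₁ = -(e₁ - e₀.map α) + (W.map α - (e₀.map α * W.map α + e₀.map α * W.map α)) := by
      rw [he', he, Matrix.map_add _ (map_add α), Matrix.map_mul, Matrix.map_sub _ (map_sub α),
        Matrix.map_one _ (map_zero α) (map_one α), two_mul, Matrix.map_add _ (map_add α), Matrix.sub_mul,
        Matrix.one_mul, Matrix.add_mul]
      abel
    rw [this]
    refine Sm.add h (Sm.mono h (by omega) (Sm.neg h he₀)) (Sm.sub h (Sm.mono h (by omega) hWo) ?_)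
    exact Sm.mono h (by omega) (Sm.add h (Sm.mul h hr₀ hWo) (Sm.mul h hr₀ hWo))
  have hr' : Sm S t (-(r : ℤ)) e' := by
    rw [← sub_add_cancel e' e₁]
    exact Sm.add h (Sm.mono h (by omega) hdiff) hr
  set u := e' * e₁ + (1 - e') * (1 - e₁) with hu'
  have huu : IsUnit u := by
    have h1 : u = 1 + (e' * (e₁ - e') + (e' - e₁) * e₁) := by
      rw [hu']
      simp only [Matrix.sub_mul, Matrix.mul_sub, he₁, he'e', Matrix.one_mul, Matrix.mul_one]
      abel
    rw [h1]
    have hd' : Sm S t ((2 * r + 1 : ℕ) : ℤ) (e₁ - e') := by rw [← neg_sub e' e₁]; exact Sm.neg h hdiff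
    exact isUnit_one_add' h (Sm.add h (Sm.mono h (by omega) (Sm.mul h hr' hd'))
      (Sm.mono h (by omega) (Sm.mul h hdiff hr)))
  have hue₁ : u * e₁ = e' * e₁ := by
    rw [hu', Matrix.add_mul, Matrix.mul_assoc, he₁, Matrix.mul_assoc (1 - e'), Matrix.sub_mul 1 e₁,
      Matrix.one_mul, he₁, sub_self, Matrix.mul_zero, add_zero]
  have he'u : e' * u = e' * e₁ := by
    rw [hu', Matrix.mul_add, ← Matrix.mul_assoc, he'e', ← Matrix.mul_assoc e' (1 - e'), Matrix.mul_sub e' 1,
      Matrix.mul_one, he'e', sub_self, Matrix.zero_mul, add_zero]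
  set ui : Matrix (Fin n) (Fin n) L' := ↑huu.unit⁻¹
  refine ⟨u * e₁, ui * e', ?_, ?_⟩
  · rw [hue₁, ← he'u, ← Matrix.mul_assoc, Matrix.mul_assoc e' u, huu.mul_val_inv, Matrix.mul_one, he'e']
  · rw [Matrix.mul_assoc, ← Matrix.mul_assoc e' u, he'u, Matrix.mul_assoc e', he₁, ← hue₁, ← Matrix.mul_assoc,
      huu.val_inv_mul, Matrix.one_mul]

end L01.ApproxProj
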