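import Mathlib.RingTheory.AdicCompletion.Completeness
import Mathlib.RingTheory.AdicCompletion.LocalRing
import Groth.Agent.L01.HensIdem

/-!
Finite projective modules over `S[1/t]` are base changes from `A[1/t]` for a henselian pair `(A, t)`.
-/

set_option autoImplicit false

open Matrix L02.CAlg.Horrocks TensorProduct

namespace L01.ApproxProj

universe u

variable {A S L L' : Type u} [CommRing A] [CommRing S] [CommRing L] [CommRing L'] [Algebra A S]
  [Algebra A L] [Algebra L L'] [Algebra S L'] [Algebra A L'] [IsScalarTower A L L']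
  [IsScalarTower A S L'] {t : A}

theorem exists_finiteProjective (h : Setup A S L L' t) [HenselianRing A (Ideal.span {t})]
    (M' : Type u) [AddCommGroup M'] [Module L' M'] [Module.Finite L' M'] [Module.Projective L' M'] :
    ∃ (M : Type u) (_ : AddCommGroup M) (_ : Module L M),
      Module.Finite L M ∧ Module.Projective L M ∧ Nonempty (L' ⊗[L] M ≃ₗ[L'] M') := by
  classical
  obtain ⟨n, i₀, p₀, h₀⟩ := exists_retract L' M'
  obtain ⟨e, he, hE⟩ := exists_idempotent h (LinearMap.toMatrix' (i₀ ∘ₗ p₀)) (toMatrix'_idem i₀ p₀ h₀)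
  let M := LinearMap.range e.mulVecLin
  let p : (Fin n → L) →ₗ[L] M := e.mulVecLin.rangeRestrict
  have hfix : ∀ x : M, e *ᵥ (x : Fin n → L) = x := fun ⟨x, v, hv⟩ => by
    subst hv
    simp [Matrix.mulVec_mulVec, he]
  have hp : p ∘ₗ M.subtype = LinearMap.id := LinearMap.ext fun x => Subtype.ext (hfix x)
  refine ⟨M, inferInstance, inferInstance, Module.Finite.range _,
    Module.Projective.of_split M.subtype p hp,
    ⟨(Classical.choice (nonempty_linearEquiv_of_eqv i₀ p₀ (inclS L' M.subtype) (projS L' p)
      (fun x => LinearMap.congr_fun h₀ x) (projS_inclS M.subtype p hp) (fun v => ?_) (fun v => ?_) hE)).symm⟩⟩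
  · rw [← Matrix.toLin'_apply, Matrix.toLin'_toMatrix', LinearMap.comp_apply]
  · rw [inclS_projS, show M.subtype ∘ₗ p = Matrix.toLin' e from
      LinearMap.ext fun w => (Matrix.toLin'_apply e w).symm, LinearMap.toMatrix'_toLin']

/-- The setup `A → Â`. -/
theorem setup_adicCompletion (A : Type u) [CommRing A] (t : A) (ht : t ∈ (⊥ : Ideal A).jacobson)
    (L L' : Type u) [CommRing L] [CommRing L'] [Algebra A L] [Algebra L L']
    [Algebra (AdicCompletion (Ideal.span {t}) A) L'] [Algebra A L'] [IsScalarTower A L L']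
    [IsScalarTower A (AdicCompletion (Ideal.span {t}) A) L'] [IsLocalization.Away t L]
    [IsLocalization.Away (algebraMap A (AdicCompletion (Ideal.span {t}) A) t) L'] :
    Setup A (AdicCompletion (Ideal.span {t}) A) L L' t := by
  have hfg : (Ideal.span {t}).FG := ⟨{t}, by simp⟩
  haveI := AdicCompletion.isAdicComplete_self (Ideal.span {t}) hfg
  refine ⟨inferInstance, inferInstance, ht, IsAdicComplete.le_jacobson_bot
      ((Ideal.span {t}).map (algebraMap A (AdicCompletion (Ideal.span {t}) A))) (Ideal.mem_map_of_mem _ (Ideal.mem_span_singleton_self t)),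
      fun m x => ?_, fun m a ha => ?_⟩
  · obtain ⟨a, ha⟩ := Submodule.Quotient.mk_surjective _ (AdicCompletion.eval (Ideal.span {t}) A m x)
    have hker : x - algebraMap A (AdicCompletion (Ideal.span {t}) A) a ∈ (AdicCompletion.eval (Ideal.span {t}) A m).ker := by
      rw [LinearMap.mem_ker, map_sub, AdicCompletion.algebraMap_apply]
      refine sub_eq_zero.2 ?_
      exact ha.symm
    rw [← AdicCompletion.pow_smul_top_eq_ker_eval hfg, Ideal.span_singleton_pow,
      Submodule.ideal_span_singleton_smul] at hker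
    obtain ⟨y, -, hy⟩ := (Submodule.mem_smul_pointwise_iff_exists _ _ _).1 hker
    refine ⟨a, y, ?_⟩
    rw [← hy, Algebra.smul_def, map_pow]
  · obtain ⟨y, hy⟩ := ha
    have h1 := congrArg (AdicCompletion.evalₐ (Ideal.span {t}) m) hy
    rw [map_mul, map_pow, AlgHom.commutes, AlgHom.commutes, ← map_pow] at h1
    have h2 : algebraMap A (A ⧸ (Ideal.span {t}) ^ m) (t ^ m) = 0 :=
      Ideal.Quotient.eq_zero_iff_mem.2 (Ideal.pow_mem_pow (Ideal.mem_span_singleton_self t) m)
    rw [h2, zero_mul] at h1
    have h3 := Ideal.Quotient.eq_zero_iff_mem.1 h1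
    rwa [Ideal.span_singleton_pow, Ideal.mem_span_singleton] at h3

end L01.ApproxProj
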