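import Mathlib.RingTheory.Flat.Equalizer
import Mathlib.RingTheory.LocalRing.ResidueField.Basic
import Mathlib.RingTheory.Artinian.Module
import Mathlib.LinearAlgebra.TensorProduct.RightExactness
import Mathlib.LinearAlgebra.TensorProduct.Quotient
import Mathlib.LinearAlgebra.TensorProduct.Tower
import Mathlib.RingTheory.Ideal.Quotient.Operations
import Mathlib.Algebra.Module.Torsion.Basic
import Mathlib.RingTheory.Flat.Tensor
import Mathlib.RingTheory.Ideal.KrullsHeightTheorem

/-!
Flatness and injectivity detected modulo a nilpotent maximal ideal.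
-/

universe u v w
open TensorProduct

namespace Groth.L01.ArtinFlat

variable {A : Type u} [CommRing A] [IsLocalRing A]

theorem lTensor_injective_of_killed {M N : Type v} [AddCommGroup M] [Module A M] [AddCommGroup N] [Module A N]
    (h : M →ₗ[A] N) (hk : Function.Injective (h.lTensor (IsLocalRing.ResidueField A)))
    (X : Type w) [AddCommGroup X] [Module A X] :
    Function.Injective (h.lTensor (X ⧸ (IsLocalRing.maximalIdeal A • ⊤ : Submodule A X))) := by
  let m := IsLocalRing.maximalIdeal A
  letI : Field (A ⧸ m) := Ideal.Quotient.field m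
  let Q := X ⧸ (m • ⊤ : Submodule A X)
  have h1 : Function.Injective ((h.baseChange (A ⧸ m)).lTensor Q) :=
    Module.Flat.lTensor_preserves_injective_linearMap _ hk
  let eM : Q ⊗[A ⧸ m] ((A ⧸ m) ⊗[A] M) ≃ₗ[A ⧸ m] Q ⊗[A] M :=
    AlgebraTensorModule.cancelBaseChange A (A ⧸ m) (A ⧸ m) Q M
  let eN : Q ⊗[A ⧸ m] ((A ⧸ m) ⊗[A] N) ≃ₗ[A ⧸ m] Q ⊗[A] N :=
    AlgebraTensorModule.cancelBaseChange A (A ⧸ m) (A ⧸ m) Q N
  have hnat : ∀ z, h.lTensor Q (eM z) = eN ((h.baseChange (A ⧸ m)).lTensor Q z) := by
    intro z
    induction z using TensorProduct.induction_on with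
    | zero => simp
    | tmul q w =>
      induction w using TensorProduct.induction_on with
      | zero => simp
      | tmul a x => simp [eM, eN]
      | add w₁ w₂ h₁ h₂ => simp only [tmul_add, map_add, h₁, h₂]
    | add z₁ z₂ h₁ h₂ => simp only [map_add, h₁, h₂]
  intro a b hab
  obtain ⟨a, rfl⟩ := eM.surjective a
  obtain ⟨b, rfl⟩ := eM.surjective b
  rw [hnat, hnat] at hab
  exact congrArg eM (h1 (eN.injective hab))

variable [IsArtinianRing A]

/-- Injectivity modulo the maximal ideal into a flat module is universal injectivity. -/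
theorem lTensor_injective {M N : Type v} [AddCommGroup M] [Module A M] [AddCommGroup N] [Module A N]
    [Module.Flat A N] (h : M →ₗ[A] N) (hk : Function.Injective (h.lTensor (IsLocalRing.ResidueField A)))
    (X : Type w) [AddCommGroup X] [Module A X] : Function.Injective (h.lTensor X) := by
  obtain ⟨n, hn⟩ := (isArtinianRing_iff_isNilpotent_maximalIdeal A).mp ‹_›
  have key : ∀ (i : ℕ) (X : Type w) [AddCommGroup X] [Module A X],
      (IsLocalRing.maximalIdeal A ^ i • ⊤ : Submodule A X) = ⊥ → Function.Injective (h.lTensor X) := by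
    intro i
    induction i with
    | zero =>
      intro X _ _ hX
      rw [pow_zero, Ideal.one_eq_top, Submodule.top_smul] at hX
      haveI : Subsingleton X := ⟨fun a b => ((Submodule.mem_bot A).mp (hX ▸ Submodule.mem_top : a ∈ (⊥ : Submodule A X))).trans
        ((Submodule.mem_bot A).mp (hX ▸ Submodule.mem_top : b ∈ (⊥ : Submodule A X))).symm⟩
      intro a b _
      exact Subsingleton.elim a b
    | succ i ih =>
      intro X _ _ hX
      let W : Submodule A X := IsLocalRing.maximalIdeal A • ⊤
      have hW : (IsLocalRing.maximalIdeal A ^ i • ⊤ : Submodule A W) = ⊥ := by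
        apply Submodule.map_injective_of_injective W.injective_subtype
        rw [Submodule.map_smul'', Submodule.map_top, Submodule.range_subtype, Submodule.map_bot, ← hX,
          ← Submodule.smul_assoc, smul_eq_mul, ← pow_succ]
      rw [injective_iff_map_eq_zero]
      intro z hz
      have hzq : W.mkQ.rTensor M z = 0 := by
        apply lTensor_injective_of_killed h hk X
        rw [map_zero, ← LinearMap.comp_apply, LinearMap.lTensor_comp_rTensor, ← LinearMap.rTensor_comp_lTensor,
          LinearMap.comp_apply, hz, map_zero]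
      obtain ⟨y, rfl⟩ := ((rTensor_exact M (LinearMap.exact_subtype_mkQ W) W.mkQ_surjective) z).mp hzq
      have hy : h.lTensor W y = 0 := by
        apply Module.Flat.rTensor_preserves_injective_linearMap (M := N) W.subtype W.injective_subtype
        rw [map_zero, ← LinearMap.comp_apply, LinearMap.rTensor_comp_lTensor, ← LinearMap.lTensor_comp_rTensor,
          LinearMap.comp_apply, hz]
      rw [(injective_iff_map_eq_zero _).mp (ih W hW) y hy, map_zero]
  exact key n X (by rw [hn, Ideal.zero_eq_bot, Submodule.bot_smul])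

theorem injective_of_residue {M N : Type v} [AddCommGroup M] [Module A M] [AddCommGroup N] [Module A N]
    [Module.Flat A N] (h : M →ₗ[A] N) (hk : Function.Injective (h.lTensor (IsLocalRing.ResidueField A))) :
    Function.Injective h := by
  intro a b hab
  apply (TensorProduct.lid A M).symm.injective
  apply lTensor_injective h hk A
  simp [hab]

theorem surjective_of_residue {M N : Type v} [AddCommGroup M] [Module A M] [AddCommGroup N] [Module A N]
    (h : M →ₗ[A] N) (hk : Function.Surjective (h.lTensor (IsLocalRing.ResidueField A))) :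
    Function.Surjective h := by
  obtain ⟨n, hn⟩ := (isArtinianRing_iff_isNilpotent_maximalIdeal A).mp ‹_›
  have h1 : (⊤ : Submodule A N) ≤ LinearMap.range h ⊔ IsLocalRing.maximalIdeal A • ⊤ := by
    intro y _
    obtain ⟨w, hw⟩ := hk ((1 : A ⧸ IsLocalRing.maximalIdeal A) ⊗ₜ y)
    have hq := congrArg (quotTensorEquivQuotSMul N (IsLocalRing.maximalIdeal A)) hw
    have hr : ∀ w, quotTensorEquivQuotSMul N (IsLocalRing.maximalIdeal A) (h.lTensor _ w) ∈
        (LinearMap.range h).map (IsLocalRing.maximalIdeal A • ⊤ : Submodule A N).mkQ := by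
      intro w
      induction w using TensorProduct.induction_on with
      | zero => simp
      | tmul a x =>
        obtain ⟨a, rfl⟩ := Ideal.Quotient.mk_surjective a
        rw [LinearMap.lTensor_tmul, quotTensorEquivQuotSMul_mk_tmul]
        exact ⟨a • h x, Submodule.smul_mem _ a ⟨x, rfl⟩, rfl⟩
      | add a b ha hb => rw [map_add, map_add]; exact add_mem ha hb
    have h2 := hr w
    erw [hq, ← map_one (Ideal.Quotient.mk (IsLocalRing.maximalIdeal A)), quotTensorEquivQuotSMul_mk_tmul, one_smul] at h2
    obtain ⟨z, hz, hzy⟩ := h2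
    rw [Submodule.mkQ_apply, Submodule.Quotient.eq] at hzy
    rw [show y = z - (z - y) by abel]
    exact sub_mem (Submodule.mem_sup_left hz) (Submodule.mem_sup_right hzy)
  have h2 : ∀ i : ℕ, (⊤ : Submodule A N) ≤ LinearMap.range h ⊔ IsLocalRing.maximalIdeal A ^ i • ⊤ := by
    intro i
    induction i with
    | zero => simp
    | succ i ih =>
      refine ih.trans (sup_le le_sup_left ?_)
      refine (Submodule.smul_mono le_rfl h1).trans ?_
      rw [Submodule.smul_sup, ← Submodule.smul_assoc, smul_eq_mul, ← pow_succ]
      exact sup_le (Submodule.smul_le_right.trans le_sup_left) le_sup_right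
  have h3 := h2 n
  rw [hn, Ideal.zero_eq_bot, Submodule.bot_smul, sup_bot_eq, top_le_iff] at h3
  exact LinearMap.range_eq_top.mp h3

theorem flat_cokernel {M N P : Type v} [AddCommGroup M] [Module A M] [AddCommGroup N] [Module A N]
    [AddCommGroup P] [Module A P] [Module.Flat A N] (f : M →ₗ[A] N) (g : N →ₗ[A] P)
    (hfg : Function.Exact f g) (hg : Function.Surjective g)
    (hk : Function.Injective (f.lTensor (IsLocalRing.ResidueField A))) : Module.Flat A P := by
  rw [Module.Flat.iff_rTensor_injective']
  intro I
  rw [injective_iff_map_eq_zero]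
  intro z hz
  obtain ⟨n, rfl⟩ := g.lTensor_surjective I hg z
  have hn : g.lTensor A (I.subtype.rTensor N n) = 0 := by
    rw [← LinearMap.comp_apply, LinearMap.lTensor_comp_rTensor, ← LinearMap.rTensor_comp_lTensor,
      LinearMap.comp_apply, hz]
  obtain ⟨a, ha⟩ := ((lTensor_exact A hfg hg) _).mp hn
  have ha0 : I.mkQ.rTensor M a = 0 := by
    apply lTensor_injective f hk (A ⧸ I)
    rw [map_zero, ← LinearMap.comp_apply, LinearMap.lTensor_comp_rTensor, ← LinearMap.rTensor_comp_lTensor,
      LinearMap.comp_apply, ha]
    exact (rTensor_exact N (LinearMap.exact_subtype_mkQ I) I.mkQ_surjective).apply_apply_eq_zero n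
  obtain ⟨b, rfl⟩ := ((rTensor_exact M (LinearMap.exact_subtype_mkQ I) I.mkQ_surjective) a).mp ha0
  have hnb : n = f.lTensor I b := by
    apply Module.Flat.rTensor_preserves_injective_linearMap (M := N) I.subtype I.injective_subtype
    rw [← ha, ← LinearMap.comp_apply, ← LinearMap.comp_apply, LinearMap.lTensor_comp_rTensor,
      ← LinearMap.rTensor_comp_lTensor]
  rw [hnb]
  exact (lTensor_exact I hfg hg).apply_apply_eq_zero b

end Groth.L01.ArtinFlat
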