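import Mathlib.RingTheory.Regular.RegularSequence
import Mathlib.RingTheory.Flat.Basic
import Mathlib.RingTheory.Artinian.Ring
import Mathlib.RingTheory.Ideal.Quotient.Basic
import Mathlib.Algebra.Module.Torsion.Basic
import Mathlib.LinearAlgebra.DirectSum.Finsupp
import Mathlib.LinearAlgebra.Basis.VectorSpace
import Mathlib.RingTheory.TensorProduct.Quotient
import Mathlib.RingTheory.Nakayama

/-!
Regular sequences on modules flat over an Artinian local ring.
-/

set_option autoImplicit false
universe u v w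

open scoped TensorProduct Pointwise
open IsLocalRing RingTheory.Sequence

namespace Groth.L01.ArtinianFlatRegular

variable {A : Type u} [CommRing A] [IsArtinianRing A] [IsLocalRing A]
  {S : Type v} [CommRing S] [Algebra A S]
  {M : Type w} [AddCommGroup M] [Module A M] [Module S M] [IsScalarTower A S M]

/-- The map induced on `M ⊗ -`, over `S`. -/
noncomputable abbrev LT (S : Type v) [CommRing S] [Algebra A S] (M : Type w) [AddCommGroup M]
    [Module A M] [Module S M] [IsScalarTower A S M] {N N' : Type u} [AddCommGroup N] [Module A N]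
    [AddCommGroup N'] [Module A N'] (g : N →ₗ[A] N') : M ⊗[A] N →ₗ[S] M ⊗[A] N' :=
  TensorProduct.AlgebraTensorModule.lTensor S M g

theorem exists_injective_residue {N : Type u} [AddCommGroup N] [Module A N] [Nontrivial N] :
    ∃ g : (A ⧸ maximalIdeal A) →ₗ[A] N, Function.Injective g := by
  obtain ⟨n, hn⟩ := (IsArtinianRing.isNilpotent_jacobson_bot (R := A))
  rw [jacobson_eq_maximalIdeal ⊥ bot_ne_top] at hn
  have key : ∀ n : ℕ, ∀ y : N, y ≠ 0 → (∀ a ∈ maximalIdeal A ^ n, a • y = 0) →
      ∃ y : N, y ≠ 0 ∧ ∀ a ∈ maximalIdeal A, a • y = 0 := by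
    intro n
    induction n with
    | zero => exact fun y hy h => absurd ((one_smul A y).symm.trans (h 1 (by simp))) hy
    | succ n ih =>
      intro y hy h
      by_cases hall : ∀ a ∈ maximalIdeal A, a • y = 0
      · exact ⟨y, hy, hall⟩
      · push Not at hall
        obtain ⟨a, ha, hay⟩ := hall
        exact ih (a • y) hay fun r hr => by
          rw [smul_smul]
          exact h _ (by rw [pow_succ]; exact Ideal.mul_mem_mul hr ha)
  obtain ⟨y₀, hy₀⟩ := exists_ne (0 : N)
  obtain ⟨y, hy, hmy⟩ := key n y₀ hy₀ fun a ha => by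
    rw [hn] at ha
    rw [(Ideal.mem_bot.mp ha), zero_smul]
  have hle : maximalIdeal A ≤ LinearMap.ker (LinearMap.toSpanSingleton A N y) := fun a ha => hmy a ha
  refine ⟨Submodule.liftQ _ (LinearMap.toSpanSingleton A N y) hle, ?_⟩
  refine (injective_iff_map_eq_zero _).mpr fun z hz => ?_
  obtain ⟨a, rfl⟩ := Submodule.mkQ_surjective _ z
  refine (Submodule.Quotient.mk_eq_zero _).mpr ?_
  by_contra ha
  exact hy ((notMem_maximalIdeal.mp ha).smul_eq_zero.mp hz)

variable [Module.Flat A M]

omit [IsArtinianRing A] [IsLocalRing A] in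
theorem isSMulRegular_of_injective {f : S} {N N' : Type u} [AddCommGroup N] [Module A N]
    [AddCommGroup N'] [Module A N'] {g : N →ₗ[A] N'} (hg : Function.Injective g)
    (h : IsSMulRegular (M ⊗[A] N') f) : IsSMulRegular (M ⊗[A] N) f := fun x y hxy => by
  refine Module.Flat.lTensor_preserves_injective_linearMap g hg ?_
  refine h ?_
  show f • LT S M g x = f • LT S M g y
  rw [← map_smul, ← map_smul]
  exact congrArg (LT S M g) hxy

omit [IsArtinianRing A] [Module.Flat A M] in
theorem isSMulRegular_of_torsion {f : S} (h : IsSMulRegular (M ⊗[A] (A ⧸ maximalIdeal A)) f)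
    (N : Type u) [AddCommGroup N] [Module A N]
    (hN : Module.IsTorsionBySet A N (maximalIdeal A : Set A)) : IsSMulRegular (M ⊗[A] N) f := by
  classical
  letI := Ideal.Quotient.field (maximalIdeal A)
  letI : Module (A ⧸ maximalIdeal A) N := hN.module
  haveI : IsScalarTower A (A ⧸ maximalIdeal A) N := hN.isScalarTower
  let b := Module.Basis.ofVectorSpace (A ⧸ maximalIdeal A) N
  let e : N ≃ₗ[A] _ →₀ (A ⧸ maximalIdeal A) := b.repr.restrictScalars A
  refine (isSMulRegular_iff_right_eq_zero_of_smul).mpr fun z hz => ?_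
  refine (TensorProduct.congr (LinearEquiv.refl A M) e).injective ?_
  rw [map_zero]
  refine (TensorProduct.finsuppRight A A M (A ⧸ maximalIdeal A) _).injective (Finsupp.ext fun i => ?_)
  rw [map_zero, Finsupp.zero_apply, TensorProduct.finsuppRight_apply]
  refine (isSMulRegular_iff_right_eq_zero_of_smul).mp h _ ?_
  have h1 : ∀ x, (LinearMap.lTensor M (Finsupp.lapply i)) (TensorProduct.congr (LinearEquiv.refl A M) e x) =
      LT S M (Finsupp.lapply i ∘ₗ e.toLinearMap) x := fun x => by
    show _ = (Finsupp.lapply i ∘ₗ e.toLinearMap).lTensor M x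
    rw [LinearMap.lTensor_comp]
    rfl
  rw [h1, ← map_smul, hz, map_zero]

theorem isSMulRegular_all {f : S} (h : IsSMulRegular (M ⊗[A] (A ⧸ maximalIdeal A)) f)
    (N : Type u) [AddCommGroup N] [Module A N] : IsSMulRegular (M ⊗[A] N) f := by
  obtain ⟨n, hn⟩ := (IsArtinianRing.isNilpotent_jacobson_bot (R := A))
  rw [jacobson_eq_maximalIdeal ⊥ bot_ne_top] at hn
  suffices key : ∀ n : ℕ, ∀ (N : Type u) [AddCommGroup N] [Module A N],
      (∀ a ∈ maximalIdeal A ^ n, ∀ y : N, a • y = 0) → IsSMulRegular (M ⊗[A] N) f from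
    key n N fun a ha y => by rw [hn] at ha; rw [Ideal.mem_bot.mp ha, zero_smul]
  intro n
  induction n with
  | zero =>
    intro N _ _ hN
    have : Subsingleton N := ⟨fun x y => by
      rw [← one_smul A x, ← one_smul A y, hN 1 (by simp) x, hN 1 (by simp) y]⟩
    intro x y _
    exact Subsingleton.elim x y
  | succ n ih =>
    intro N _ _ hN
    let N' : Submodule A N := maximalIdeal A • ⊤
    have h' : IsSMulRegular (M ⊗[A] N') f := ih N' fun a ha y => Subtype.ext (by
      show a • (y : N) = 0
      refine Submodule.smul_induction_on y.2 (fun b hb x _ => ?_) (fun x x' hx hx' => ?_)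
      · rw [smul_smul]; exact hN _ (by rw [pow_succ]; exact Ideal.mul_mem_mul ha hb) x
      · rw [smul_add, hx, hx', add_zero])
    have hq : IsSMulRegular (M ⊗[A] (N ⧸ N')) f := isSMulRegular_of_torsion h _ fun y a => by
      obtain ⟨y, rfl⟩ := Submodule.mkQ_surjective _ y
      exact (Submodule.Quotient.mk_eq_zero _).mpr (Submodule.smul_mem_smul a.2 Submodule.mem_top)
    refine (isSMulRegular_iff_right_eq_zero_of_smul).mpr fun z hz => ?_
    have h1 : LT S M N'.mkQ z = 0 :=
      (isSMulRegular_iff_right_eq_zero_of_smul).mp hq _ (by rw [← map_smul, hz, map_zero])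
    obtain ⟨w, rfl⟩ := ((lTensor_exact M (LinearMap.exact_subtype_mkQ N') N'.mkQ_surjective) z).mp h1
    have h2 : f • w = 0 := by
      refine Module.Flat.lTensor_preserves_injective_linearMap N'.subtype N'.injective_subtype ?_
      rw [map_zero]
      exact ((LT S M N'.subtype).map_smul f w).trans hz
    rw [(isSMulRegular_iff_right_eq_zero_of_smul).mp h' w h2, map_zero]

/-- Regularity after tensoring with one nonzero module is regularity after tensoring with any. -/
theorem isSMulRegular_of_nontrivial {f : S} (N₀ : Type u) [AddCommGroup N₀] [Module A N₀]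
    [Nontrivial N₀] (h : IsSMulRegular (M ⊗[A] N₀) f) (N : Type u) [AddCommGroup N] [Module A N] :
    IsSMulRegular (M ⊗[A] N) f := by
  obtain ⟨g, hg⟩ := exists_injective_residue (A := A) (N := N₀)
  exact isSMulRegular_all (isSMulRegular_of_injective hg h) N

set_option maxHeartbeats 1000000 in
omit [IsArtinianRing A] [IsLocalRing A] in
/-- The quotient by such an element is flat. -/
theorem flat_quotSMulTop {f : S}
    (h : ∀ (N : Type u) [AddCommGroup N] [Module A N], IsSMulRegular (M ⊗[A] N) f) :
    Module.Flat A (QuotSMulTop f M) := by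
  refine (Module.Flat.iff_lTensor_preserves_injective_linearMap' (R := A)
    (M := QuotSMulTop f M)).mpr fun (J : Type u) (N' : Type u) _ _ _ _ g hg => ?_
  refine (injective_iff_map_eq_zero _).mpr fun z hz => ?_
  let π : M →ₗ[A] QuotSMulTop f M := (f • (⊤ : Submodule S M)).mkQ.restrictScalars A
  let μ : M →ₗ[A] M := (LinearMap.lsmul S M f).restrictScalars A
  have hπ : Function.Surjective π := Submodule.mkQ_surjective _
  have hμ : ∀ (N : Type u) [AddCommGroup N] [Module A N] (x : M ⊗[A] N), μ.rTensor N x = f • x := by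
    intro N _ _ x
    induction x using TensorProduct.induction_on with
    | zero => simp
    | tmul a b => rfl
    | add a b ha hb => rw [map_add, smul_add, ha, hb]
  have hex : Function.Exact μ π := fun x =>
    ((Submodule.Quotient.mk_eq_zero _).trans (Submodule.mem_smul_pointwise_iff_exists _ _ _)).trans
      ⟨fun ⟨y, _, hy⟩ => ⟨y, hy⟩, fun ⟨y, hy⟩ => ⟨y, trivial, hy⟩⟩
  obtain ⟨z, rfl⟩ := LinearMap.rTensor_surjective J hπ z
  rw [← LinearMap.comp_apply, LinearMap.lTensor_comp_rTensor, ← LinearMap.rTensor_comp_lTensor,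
    LinearMap.comp_apply] at hz
  obtain ⟨w, hw⟩ := ((rTensor_exact N' hex hπ) _).mp hz
  rw [hμ] at hw
  have h1 : LT S M (LinearMap.range g).mkQ (f • w) = 0 :=
    (congrArg ((LinearMap.range g).mkQ.lTensor M) hw).trans
      ((lTensor_exact M (show Function.Exact g (LinearMap.range g).mkQ from LinearMap.exact_iff.mpr (Submodule.ker_mkQ _))
        (LinearMap.range g).mkQ_surjective _).mpr ⟨z, rfl⟩)
  rw [map_smul] at h1
  obtain ⟨w', rfl⟩ := ((lTensor_exact M (show Function.Exact g (LinearMap.range g).mkQ from LinearMap.exact_iff.mpr (Submodule.ker_mkQ _))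
        (LinearMap.range g).mkQ_surjective) w).mp
    ((isSMulRegular_iff_right_eq_zero_of_smul).mp (h (N' ⧸ LinearMap.range g)) _ h1)
  have h2 : z = f • w' := by
    refine Module.Flat.lTensor_preserves_injective_linearMap g hg ?_
    rw [← hw]
    exact ((LT S M g).map_smul f w').symm
  rw [h2, ← hμ]
  exact ((rTensor_exact J hex hπ) _).mpr ⟨w', rfl⟩

omit [IsArtinianRing A] [IsLocalRing A] [Module.Flat A M] in
theorem nonempty_quotSMulTop_tensor (f : S) (N : Type u) [AddCommGroup N] [Module A N] :
    Nonempty (QuotSMulTop f (M ⊗[A] N) ≃ₗ[S] QuotSMulTop f M ⊗[A] N) := by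
  let π := (f • (⊤ : Submodule S M)).mkQ
  let G : M ⊗[A] N →ₗ[S] QuotSMulTop f M ⊗[A] N := TensorProduct.AlgebraTensorModule.rTensor A N π
  have hπ : Function.Surjective π := Submodule.mkQ_surjective _
  have hex : Function.Exact ((LinearMap.lsmul S M f).restrictScalars A) (π.restrictScalars A) := fun x =>
    ((Submodule.Quotient.mk_eq_zero _).trans (Submodule.mem_smul_pointwise_iff_exists _ _ _)).trans
      ⟨fun ⟨y, _, hy⟩ => ⟨y, hy⟩, fun ⟨y, hy⟩ => ⟨y, trivial, hy⟩⟩
  have hμ : ∀ x : M ⊗[A] N, ((LinearMap.lsmul S M f).restrictScalars A).rTensor N x = f • x := by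
    intro x
    induction x using TensorProduct.induction_on with
    | zero => simp
    | tmul a b => rfl
    | add a b ha hb => rw [map_add, smul_add, ha, hb]
  have hker : LinearMap.ker G = f • ⊤ := by
    ext x
    refine ((rTensor_exact N hex hπ) x).trans (Iff.trans ?_ (Submodule.mem_smul_pointwise_iff_exists _ _ _).symm)
    exact ⟨fun ⟨y, hy⟩ => ⟨y, trivial, (hμ y).symm.trans hy⟩, fun ⟨y, _, hy⟩ => ⟨y, (hμ y).trans hy⟩⟩
  exact ⟨(Submodule.quotEquivOfEq _ _ hker.symm).trans
    (G.quotKerEquivOfSurjective (LinearMap.rTensor_surjective N (g := π.restrictScalars A) hπ))⟩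

/-- Weakly regular sequences are detected after tensoring with any nonzero module. -/
theorem isWeaklyRegular_iff (N : Type u) [AddCommGroup N] [Module A N] [Nontrivial N] (rs : List S) :
    IsWeaklyRegular M rs ↔ IsWeaklyRegular (M ⊗[A] N) rs := by
  induction rs generalizing M with
  | nil => simp
  | cons f rs ih =>
    rw [isWeaklyRegular_cons_iff, isWeaklyRegular_cons_iff]
    have key : IsSMulRegular M f → ∀ (N : Type u) [AddCommGroup N] [Module A N],
        IsSMulRegular (M ⊗[A] N) f := fun h =>
      isSMulRegular_of_nontrivial A ((TensorProduct.AlgebraTensorModule.rid A S M).isSMulRegular_congr f |>.mpr h)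
    obtain ⟨e⟩ := nonempty_quotSMulTop_tensor (A := A) (M := M) f N
    constructor
    · rintro ⟨h1, h2⟩
      have := flat_quotSMulTop (key h1)
      exact ⟨key h1 N, (e.isWeaklyRegular_congr rs).mpr ((ih (M := QuotSMulTop f M)).mp h2)⟩
    · rintro ⟨h1, h2⟩
      have h1' : IsSMulRegular M f :=
        (TensorProduct.AlgebraTensorModule.rid A S M).isSMulRegular_congr f |>.mp
          (isSMulRegular_of_nontrivial N h1 A)
      have := flat_quotSMulTop (key h1')
      exact ⟨h1', (ih (M := QuotSMulTop f M)).mpr ((e.isWeaklyRegular_congr rs).mp h2)⟩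

omit [IsLocalRing A] in
theorem map_le_jacobson [IsLocalRing A] (I : Ideal A) (hI : I ≠ ⊤) :
    Ideal.map (algebraMap A S) I ≤ (⊥ : Ideal S).jacobson := by
  obtain ⟨n, hn⟩ := (IsArtinianRing.isNilpotent_jacobson_bot (R := A))
  rw [jacobson_eq_maximalIdeal ⊥ bot_ne_top] at hn
  refine Ideal.map_le_iff_le_comap.mpr fun a ha => ?_
  refine Ideal.radical_le_jacobson ⟨n, ?_⟩
  have hpow := Ideal.pow_mem_pow (le_maximalIdeal hI ha) n
  rw [hn, Ideal.zero_eq_bot, Ideal.mem_bot] at hpow
  rw [← map_pow, Ideal.mem_bot, hpow, map_zero]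

end Groth.L01.ArtinianFlatRegular
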