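import Groth.Prelude.Def_CAlg
import Mathlib.RingTheory.Nakayama
import Mathlib.RingTheory.Localization.AtPrime.Basic
import Mathlib.RingTheory.KrullDimension.Module
import Mathlib.RingTheory.Finiteness.Basic

/-!
Depth zero and depth at least one.
-/

universe u v

namespace Groth.L01

open IsLocalRing

variable {R : Type u} [CommRing R] [IsLocalRing R] {M : Type v} [AddCommGroup M] [Module R M]

theorem one_le_depth {x : R} (hx : x ∈ maximalIdeal R) (hreg : IsSMulRegular M x) :
    1 ≤ LocCoh.depth R M := by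
  unfold LocCoh.depth LocCoh.idealDepth
  split
  · exact le_top
  · exact le_iSup₂_of_le [x] ⟨(RingTheory.Sequence.isWeaklyRegular_singleton_iff M x).mpr hreg,
      by simpa using hx⟩ (by simp)

theorem depth_eq_zero_of_smul_eq_zero [Module.Finite R M] {m : M} (hm : m ≠ 0)
    (h : ∀ x ∈ maximalIdeal R, x • m = 0) : LocCoh.depth R M = 0 := by
  unfold LocCoh.depth LocCoh.idealDepth
  rw [if_neg]
  · refine le_antisymm (iSup₂_le fun rs ⟨hrs, hmem⟩ => ?_) zero_le
    rcases rs with _ | ⟨x, rs⟩
    · simp
    · exfalso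
      obtain ⟨hx, -⟩ := (RingTheory.Sequence.isWeaklyRegular_cons_iff M x rs).mp hrs
      exact hm (hx (by simp [h x (hmem x List.mem_cons_self)]))
  · intro htop
    have := Submodule.eq_bot_of_le_smul_of_le_jacobson_bot (maximalIdeal R) (⊤ : Submodule R M)
      Module.Finite.fg_top htop.ge (maximalIdeal_le_jacobson _)
    exact hm ((Submodule.eq_bot_iff _).mp this m trivial)

theorem coe_zero_le_depth : (0 : WithBot ℕ∞) ≤ ((LocCoh.depth R M : ℕ∞) : WithBot ℕ∞) := by
  exact_mod_cast zero_le

end Groth.L01
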