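import Groth.Agent.L04.Depth2
import Groth.Agent.L04.RegularPd
import Groth.Agent.L01.DepthBasic
import Mathlib.Algebra.Category.ModuleCat.Ext.Finite
import Mathlib.RingTheory.Regular.ProjectiveDimension
import Mathlib.RingTheory.LocalRing.Module

/-!
The Auslander–Buchsbaum formula and the top `Ext` into the ring.
-/

set_option autoImplicit false
universe u

open CategoryTheory CategoryTheory.Abelian IsLocalRing

namespace Groth.L01.AusBuch

variable {R : Type u} [CommRing R] [IsNoetherianRing R]

theorem subsingleton_ext_free {M : ModuleCat.{u} R} {i : ℕ} (h : Subsingleton (Ext M (ModuleCat.of R R) i)) :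
    ∀ k : ℕ, Subsingleton (Ext M (ModuleCat.of R (Fin k → R)) i) := by
  intro k
  induction k with
  | zero =>
    refine subsingleton_of_forall_eq 0 fun z => ?_
    have h0 : 𝟙 (ModuleCat.of R (Fin 0 → R)) = 0 := (ModuleCat.isZero_of_subsingleton _).eq_of_src _ _
    rw [← Ext.comp_mk₀_id z, h0, Ext.mk₀_zero, Ext.comp_zero]
  | succ k ih =>
    have e : ModuleCat.of R (R × (Fin k → R)) ≅ ModuleCat.of R (Fin (k + 1) → R) :=
      (Fin.consLinearEquiv R fun _ : Fin (k + 1) => R).toModuleIso
    haveI : Subsingleton (Ext M (ModuleCat.of R (R × (Fin k → R))) i) := Groth.L04.subsingleton_ext_mid (X := M) (Groth.L04.shortExact_mk (N' := R) (N := R × (Fin k → R))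
      (N'' := Fin k → R) LinearMap.inl_injective LinearMap.snd_surjective Function.Exact.inl_snd) h ih
    refine subsingleton_of_forall_eq 0 fun z => ?_
    rw [← Ext.comp_mk₀_id z, ← e.inv_hom_id, ← Ext.mk₀_comp_mk₀, ← Ext.comp_assoc_of_second_deg_zero,
      Subsingleton.elim (z.comp (Ext.mk₀ e.inv) (add_zero i)) 0, Ext.zero_comp]

/-- If the top `Ext` into the ring vanishes the projective dimension drops. -/
theorem hasProjectiveDimensionLT_of_ext_self {M : ModuleCat.{u} R} [Module.Finite R M] {e : ℕ}
    [HasProjectiveDimensionLT M (e + 1)] (h : Subsingleton (Ext M (ModuleCat.of R R) e)) :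
    HasProjectiveDimensionLT M e := by
  refine ModuleCat.hasProjectiveDimensionLT_of_forall_finite M e fun L _ => ?_
  obtain ⟨k, q, hq⟩ := Module.Finite.exists_fin' R L
  have hT := LinearMap.shortExact_shortComplexKer hq
  exact Groth.L04.subsingleton_ext_right hT (subsingleton_ext_free h k)
    (HasProjectiveDimensionLT.subsingleton M (e + 1) (e + 1) le_rfl _)

theorem hasProjectiveDimensionLT_of_ext_vanish {M : ModuleCat.{u} R} [Module.Finite R M] {d : ℕ} :
    ∀ t : ℕ, HasProjectiveDimensionLT M (t + d) →
      (∀ i : ℕ, d ≤ i → Subsingleton (Ext M (ModuleCat.of R R) i)) → HasProjectiveDimensionLT M d := by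
  intro t
  induction t with
  | zero => intro h _; simpa using h
  | succ t ih =>
    intro h hd
    haveI : HasProjectiveDimensionLT M (t + d + 1) := by rwa [show t + d + 1 = t + 1 + d by omega]
    exact ih (hasProjectiveDimensionLT_of_ext_self (hd (t + d) (by omega))) hd

/-- In projective dimension `e` the group `Ext^e(M, R)` is nonzero. -/
theorem nontrivial_ext_self {M : ModuleCat.{u} R} [Module.Finite R M] {e : ℕ}
    (he : projectiveDimension M = e) : Nontrivial (Ext M (ModuleCat.of R R) e) := by
  haveI : HasProjectiveDimensionLT M (e + 1) := (projectiveDimension_le_iff M e).1 he.le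
  by_contra h
  rw [not_nontrivial_iff_subsingleton] at h
  exact (not_le.mpr ((projectiveDimension_lt_iff).2 (hasProjectiveDimensionLT_of_ext_self h))) he.ge

variable [IsLocalRing R]

/-- A minimal surjection from a free module. -/
theorem exists_minimal_cover (M : Type u) [AddCommGroup M] [Module R M] [Module.Finite R M] :
    ∃ (n : ℕ) (f : (Fin n → R) →ₗ[R] M), Function.Surjective f ∧
      LinearMap.ker f ≤ maximalIdeal R • (⊤ : Submodule R (Fin n → R)) := by
  classical
  obtain ⟨s, hs, hs'⟩ := Submodule.FG.exists_span_finset_card_eq_spanFinrank (Module.Finite.fg_top (R := R) (M := M))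
  let e := s.equivFin.symm
  let v : Fin s.card → M := fun i => (e i : M)
  have hv : Submodule.span R (Set.range v) = ⊤ := by
    rw [← hs']
    congr 1
    ext z
    exact ⟨fun ⟨i, hi⟩ => hi ▸ (e i).2, fun hz => ⟨s.equivFin ⟨z, hz⟩, by simp [v, e]⟩⟩
  refine ⟨s.card, Fintype.linearCombination R v, ?_, fun a ha => ?_⟩
  · rw [← LinearMap.range_eq_top, Fintype.range_linearCombination, hv]
  have hmem : ∀ i, a i ∈ maximalIdeal R := by
    intro i
    by_contra hi
    obtain ⟨u, hu⟩ := IsLocalRing.notMem_maximalIdeal.1 hi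
    have hsum : ∑ j, a j • v j = 0 := by simpa [Fintype.linearCombination_apply] using ha
    rw [← Finset.add_sum_erase _ _ (Finset.mem_univ i), add_eq_zero_iff_eq_neg, ← hu] at hsum
    have hgen : Submodule.span R ((Finset.univ.erase i).image v : Set M) = ⊤ := by
      rw [eq_top_iff, ← hv, Submodule.span_le]
      rintro _ ⟨j, rfl⟩
      by_cases hj : j = i
      · subst hj
        rw [← one_smul R (v j), ← Units.inv_mul u, mul_smul, hsum]
        exact Submodule.smul_mem _ _ (Submodule.neg_mem _ (Submodule.sum_mem _ fun l hl =>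
          Submodule.smul_mem _ _ (Submodule.subset_span (Finset.mem_image_of_mem v hl))))
      · exact Submodule.subset_span (Finset.mem_image_of_mem v (Finset.mem_erase.2 ⟨hj, Finset.mem_univ _⟩))
    have h1 : Submodule.spanFinrank (⊤ : Submodule R M) ≤ ((Finset.univ.erase i).image v).card := by
      rw [← hgen]
      exact (Submodule.spanFinrank_span_le_ncard_of_finite (Finset.finite_toSet _)).trans_eq (Set.ncard_coe_finset _)
    have h2 := h1.trans Finset.card_image_le
    rw [Finset.card_erase_of_mem (Finset.mem_univ i), Finset.card_univ, Fintype.card_fin, ← hs] at h2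
    have := i.2
    omega
  rw [pi_eq_sum_univ' a]
  exact Submodule.sum_mem _ fun i _ => Submodule.smul_mem_smul (hmem i) Submodule.mem_top

/-- Free modules have the depth of the ring. -/
theorem le_depth_pi_iff : ∀ (n k : ℕ), (n : ℕ∞) ≤ LocCoh.depth R (Fin (k + 1) → R) ↔ (n : ℕ∞) ≤ LocCoh.depth R R := by
  intro n
  induction n with
  | zero => intro k; simp
  | succ n ih =>
    intro k
    refine ⟨fun h => ?_, fun h => Groth.L04.le_idealDepth_pi _ h _⟩
    have hn : (n : ℕ∞) ≤ LocCoh.depth R R := (ih k).1 (le_trans (by exact_mod_cast n.le_succ) h)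
    rw [LocCoh.depth, Groth.L04.idealDepth_congr (Fin.consLinearEquiv R fun _ : Fin (k + 1) => R).symm] at h
    exact Groth.L04.le_idealDepth_left LinearMap.inl_injective LinearMap.snd_surjective Function.Exact.inl_snd h
      (Groth.L04.le_idealDepth_pi _ hn _)

theorem depth_free (F : Type u) [AddCommGroup F] [Module R F] [Module.Finite R F] [Module.Free R F] [Nontrivial F]
    (n : ℕ) : (n : ℕ∞) ≤ LocCoh.depth R F ↔ (n : ℕ∞) ≤ LocCoh.depth R R := by
  have e := (Module.finBasis R F).equivFun
  obtain ⟨k, hk⟩ : ∃ k, Module.finrank R F = k + 1 := Nat.exists_eq_add_one.2 (by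
    rcases Nat.eq_zero_or_pos (Module.finrank R F) with h0 | h0
    · haveI : IsEmpty (Fin (Module.finrank R F)) := h0.symm ▸ Fin.isEmpty'
      exact absurd e.toEquiv.subsingleton (not_subsingleton F)
    · exact h0)
  rw [LocCoh.depth, Groth.L04.idealDepth_congr (e.trans (LinearEquiv.funCongrLeft R R (finCongr hk.symm)))]
  exact le_depth_pi_iff n k

/-- Auslander–Buchsbaum, tested on natural numbers. -/
theorem le_depth_iff : ∀ (e : ℕ) (M : Type u) [AddCommGroup M] [Module R M] [Module.Finite R M],
    projectiveDimension (ModuleCat.of R M) = e → ∀ n : ℕ,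
      (n : ℕ∞) ≤ LocCoh.depth R M ↔ ((n + e : ℕ) : ℕ∞) ≤ LocCoh.depth R R := by
  intro e
  induction e with
  | zero =>
    intro M _ _ _ he n
    have h1 := (projectiveDimension_le_iff (ModuleCat.of R M) 0).1 he.le
    rw [HasProjectiveDimensionLE, zero_add, ← projective_iff_hasProjectiveDimensionLT_one] at h1
    haveI : Module.Projective R M := (IsProjective.iff_projective M).2 h1
    haveI : Nontrivial M := by
      by_contra h
      rw [not_nontrivial_iff_subsingleton] at h
      rw [(projectiveDimension_eq_bot_iff _).2 (ModuleCat.isZero_of_subsingleton _)] at he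
      exact WithBot.coe_ne_bot he.symm
    haveI : Module.Free R M := Module.free_of_flat_of_isLocalRing
    rw [add_zero]
    exact depth_free M n
  | succ e ih =>
    intro M _ _ _ he n
    obtain ⟨k, f, hf, hker⟩ := exists_minimal_cover (R := R) M
    have hT := LinearMap.shortExact_shortComplexKer hf
    haveI : Projective (ModuleCat.of R (Fin k → R)) :=
      (IsProjective.iff_projective (Fin k → R)).mp inferInstance
    have hM := (projectiveDimension_le_iff (ModuleCat.of R M) (e + 1)).1 he.le
    have hK₁ : HasProjectiveDimensionLT (ModuleCat.of R (LinearMap.ker f)) (e + 1) :=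
      hT.hasProjectiveDimensionLT_X₁ (e + 1) (hasProjectiveDimensionLT_of_ge _ 1 _ (by omega)) hM
    have hK₂ : ¬ HasProjectiveDimensionLT (ModuleCat.of R (LinearMap.ker f)) e := fun h => by
      have h2 : HasProjectiveDimensionLT (ModuleCat.of R M) (e + 1) :=
        hT.hasProjectiveDimensionLT_X₃ e h (hasProjectiveDimensionLT_of_ge _ 1 _ (by omega))
      exact (not_le.mpr ((projectiveDimension_lt_iff).2 h2)) he.ge
    have hK : projectiveDimension (ModuleCat.of R (LinearMap.ker f)) = e :=
      le_antisymm ((projectiveDimension_le_iff _ e).2 hK₁)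
        (not_lt.1 fun h => hK₂ (projectiveDimension_lt_iff.1 h))
    have hKd := ih (LinearMap.ker f) hK
    have hF : ∀ j : ℕ, (j : ℕ∞) ≤ LocCoh.depth R R → (j : ℕ∞) ≤ LocCoh.depth R (Fin k → R) :=
      fun j hj => Groth.L04.le_idealDepth_pi _ hj _
    have hex : Function.Exact (LinearMap.ker f).subtype f := LinearMap.exact_subtype_ker_map f
    refine ⟨fun h => ?_, fun h => Groth.L04.le_idealDepth_right (Submodule.injective_subtype _) hf hex
      ((hKd (n + 1)).2 (by rwa [show n + 1 + e = n + (e + 1) by omega]))
      (hF n (le_trans (by exact_mod_cast (by omega : n ≤ n + (e + 1))) h))⟩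
    by_cases hn : ((n + 1 : ℕ) : ℕ∞) ≤ LocCoh.depth R R
    · rw [show n + (e + 1) = n + 1 + e by omega]
      exact (hKd (n + 1)).1 (Groth.L04.le_idealDepth_left (Submodule.injective_subtype _) hf hex (hF _ hn) h)
    exfalso
    obtain ⟨d, hd, hdn⟩ : ∃ d : ℕ, LocCoh.depth R R = d ∧ d ≤ n := by
      obtain ⟨d, hd⟩ := ENat.ne_top_iff_exists.1 (fun ht => hn (ht ▸ le_top) : LocCoh.depth R R ≠ ⊤)
      refine ⟨d, hd.symm, ?_⟩
      rw [← hd] at hn
      exact Nat.lt_succ_iff.mp (not_le.1 (fun hh => hn (Nat.cast_le.2 hh)))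
    have hKle : ∀ j : ℕ, (j : ℕ∞) ≤ LocCoh.depth R (LinearMap.ker f) → j + e ≤ d := fun j hj => by
      have h3 := (hKd j).1 hj
      rw [hd] at h3
      exact Nat.cast_le.1 h3
    have he0 : e = 0 := by
      rcases Nat.eq_zero_or_pos d with rfl | hd0
      · have := hKle 0 (by simp)
        omega
      obtain ⟨d', rfl⟩ := Nat.exists_eq_add_one.2 hd0
      have := hKle (d' + 1) (Groth.L04.le_idealDepth_left (Submodule.injective_subtype _) hf hex
        (hF _ hd.ge) (le_trans (by exact_mod_cast (by omega : d' ≤ n)) h))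
      omega
    subst he0
    haveI : Module.Projective R (LinearMap.ker f) := by
      rw [IsProjective.iff_projective, projective_iff_hasProjectiveDimensionLT_one]
      exact hK₁
    haveI : Module.Free R (LinearMap.ker f) := Module.free_of_flat_of_isLocalRing
    let b := Module.finBasis R (LinearMap.ker f)
    have hzero : ∀ (i : ℕ) (z : Ext (ModuleCat.of R (R ⧸ maximalIdeal R)) (ModuleCat.of R (LinearMap.ker f)) i),
        z.comp (Ext.mk₀ f.shortComplexKer.f) (add_zero i) = 0 := by
      intro i z
      have hdecomp : f.shortComplexKer.f = ∑ l : Fin k, ∑ c, ((b c : Fin k → R) l) •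
          ModuleCat.ofHom ((LinearMap.single R (fun _ : Fin k => R) l).comp (b.coord c)) := by
        refine ModuleCat.hom_ext (b.ext fun c => ?_)
        simp only [ModuleCat.hom_sum, ModuleCat.hom_smul, LinearMap.coe_sum, Finset.sum_apply,
          LinearMap.smul_apply, ModuleCat.hom_ofHom, LinearMap.comp_apply, Module.Basis.coord_apply,
          Module.Basis.repr_self]
        funext m
        simp [Finsupp.single_apply, Pi.single_apply, apply_ite, Finset.sum_apply]
      rw [hdecomp, Ext.mk₀_sum, Ext.comp_sum]
      refine Finset.sum_eq_zero fun l _ => ?_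
      rw [Ext.mk₀_sum, Ext.comp_sum]
      refine Finset.sum_eq_zero fun c _ => ?_
      have hmem : (b c : Fin k → R) l ∈ maximalIdeal R := by
        have h1 := hker (b c).2
        have h2 : maximalIdeal R • (⊤ : Submodule R (Fin k → R)) ≤ Submodule.pi Set.univ fun _ => maximalIdeal R := by
          rw [Submodule.smul_le]
          intro r hr x _ m _
          exact Ideal.mul_mem_right _ _ hr
        exact h2 h1 l (Set.mem_univ l)
      rw [Ext.mk₀_smul, Ext.comp_smul, ← Ext.smul_comp]
      have h3 := ConcreteCategory.congr_hom (Ext.postcomp_smul_id_eq_zero_of_mem_annihilator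
        (M := ModuleCat.of R (LinearMap.ker f)) (N := ModuleCat.of R (R ⧸ maximalIdeal R)) (r := (b c : Fin k → R) l)
        (by rwa [Ideal.annihilator_quotient]) i) z
      have h4 : z.comp (Ext.mk₀ ((b c : Fin k → R) l • 𝟙 (ModuleCat.of R (LinearMap.ker f)))) (add_zero i) = 0 := h3
      rw [Ext.mk₀_smul, Ext.comp_smul, Ext.comp_mk₀_id] at h4
      rw [h4, Ext.zero_comp]
    have hvan : Groth.L04.ExtVanish (maximalIdeal R) (LinearMap.ker f) (d + 1) := by
      intro i hi
      refine subsingleton_of_forall_eq 0 fun z => ?_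
      rcases i with _ | i
      · exact Groth.L04.ext_left_zero hT z (hzero 0 z)
      · obtain ⟨w, rfl⟩ := Ext.covariant_sequence_exact₁ _ hT z (hzero (i + 1) z) rfl
        have hMv := (Groth.L04.le_idealDepth_iff_extVanish (I := maximalIdeal R) (M := M) n).1 h i (by omega)
        rw [@Subsingleton.elim _ hMv w 0, Ext.zero_comp]
    have := hKle (d + 1) ((Groth.L04.le_idealDepth_iff_extVanish (d + 1)).2 hvan)
    omega

theorem auslander_buchsbaum (M : Type u) [AddCommGroup M] [Module R M] [Module.Finite R M] {e : ℕ}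
    (he : projectiveDimension (ModuleCat.of R M) = e) :
    LocCoh.depth R R = e + LocCoh.depth R M := by
  have key := le_depth_iff e M he
  have he' : (e : ℕ∞) ≤ LocCoh.depth R R := by simpa using (key 0).1 (by simp)
  refine le_antisymm (ENat.forall_natCast_le_iff_le.1 fun a ha => ?_) (ENat.forall_natCast_le_iff_le.1 fun a ha => ?_)
  · rcases le_total a e with hae | hae
    · exact (Nat.cast_le.2 hae).trans le_self_add
    · obtain ⟨n, rfl⟩ := Nat.exists_eq_add_of_le hae
      rw [Nat.cast_add]
      exact add_le_add_right ((key n).2 (by rwa [add_comm])) _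
  · rcases le_total a e with hae | hae
    · exact (Nat.cast_le.2 hae).trans he'
    · obtain ⟨n, rfl⟩ := Nat.exists_eq_add_of_le hae
      rw [Nat.cast_add] at ha
      rw [add_comm]
      exact (key n).1 ((ENat.add_le_add_iff_left (ENat.natCast_ne_top e)).1 ha)

end Groth.L01.AusBuch
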