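import Groth.Agent.L01.HensWeier
import Mathlib.RingTheory.Localization.Away.Basic
import Mathlib.RingTheory.Ideal.GoingUp

/-!
Ideals of `R[s]` and of a localization `L` of a `t = 1/s`-adic ring avoiding the special fibre.
-/

set_option autoImplicit false

open Polynomial IsLocalRing

namespace L01.AvoidFibre

universe u

variable {R : Type u} [CommRing R] [IsLocalRing R] {L : Type u} [CommRing L] [Algebra R L]
  (ψ : R[X] →ₐ[R] L)

/-- Evaluation of a reflected polynomial at an invertible element. -/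
theorem aeval_reflect {A : Type*} [CommRing A] [Algebra R A] {a b : A} (hab : a * b = 1) (n : ℕ)
    (p : R[X]) (hp : p.natDegree ≤ n) : aeval a (reflect n p) = a ^ n * aeval b p := by
  refine Polynomial.induction_with_natDegree_le
    (fun q => aeval a (reflect n q) = a ^ n * aeval b q) n (by simp) (fun m r _ hm => ?_)
    (fun f g _ _ hf hg => by simp only [reflect_add, map_add, hf, hg, mul_add]) p hp
  rw [reflect_C_mul_X_pow, revAt_le hm, map_mul, map_mul, map_pow, map_pow, aeval_X, aeval_X, aeval_C,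
    aeval_C]
  obtain ⟨d, rfl⟩ := Nat.exists_eq_add_of_le hm
  rw [Nat.add_sub_cancel_left, pow_add]
  calc algebraMap R A r * a ^ d = algebraMap R A r * a ^ d * (a * b) ^ m := by rw [hab, one_pow, mul_one]
    _ = _ := by rw [mul_pow]; ring

omit [Algebra R L] in
theorem map_residue_eq_one_iff {q : R[X]} :
    q.map (residue R) = 1 ↔ 1 - q ∈ (maximalIdeal R).map (C : R →+* R[X]) := by
  rw [Ideal.mem_map_C_iff, Polynomial.ext_iff]
  refine forall_congr' fun i => ?_
  rw [← residue_eq_zero_iff, coeff_sub, map_sub, sub_eq_zero, ← Polynomial.coeff_map, ← Polynomial.coeff_map,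
    Polynomial.map_one]
  exact eq_comm

variable
  (hA : ∀ q : R[X], q.map (residue R) = 1 → ∀ p : R[X], ψ q ∣ ψ p → q ∣ p)
  (hS : ∀ q : R[X], q.map (residue R) = 1 → ∀ l : L, ∃ p : R[X], ψ q ∣ l - ψ p)
  (hJ : ∀ J : Ideal L, J ⊔ (maximalIdeal R).map (algebraMap R L) = ⊤ →
    ∃ q : R[X], q.map (residue R) = 1 ∧ ψ q ∈ J)
include hA hS hJ

theorem main :
    (∀ I : Ideal R[X], I ⊔ (maximalIdeal R).map (algebraMap R R[X]) = ⊤ →
      (I.map ψ.toRingHom).comap ψ.toRingHom = I ∧
      I.map ψ.toRingHom ⊔ (maximalIdeal R).map (algebraMap R L) = ⊤ ∧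
      Function.Bijective (Ideal.quotientMap (I.map ψ.toRingHom) ψ.toRingHom Ideal.le_comap_map)) ∧
    (∀ J : Ideal L, J ⊔ (maximalIdeal R).map (algebraMap R L) = ⊤ →
      (J.comap ψ.toRingHom).map ψ.toRingHom = J ∧
      J.comap ψ.toRingHom ⊔ (maximalIdeal R).map (algebraMap R R[X]) = ⊤) := by
  refine ⟨fun I hI => ?_, fun J hJm => ?_⟩
  · obtain ⟨q, hq, μ, hμ, h1⟩ := Submodule.mem_sup.1 ((Ideal.eq_top_iff_one _).1 hI)
    have hq1 : q.map (residue R) = 1 := map_residue_eq_one_iff.2 (by rwa [← h1, add_sub_cancel_left])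
    -- `I.map ψ` consists of `ψ i + ψ q * l`
    have hI' : ∀ x ∈ I.map ψ.toRingHom, ∃ i ∈ I, ψ q ∣ x - ψ i := by
      intro x hx
      induction hx using Submodule.span_induction with
      | mem y hy => obtain ⟨i, hi, rfl⟩ := hy; exact ⟨i, hi, by simp⟩
      | zero => exact ⟨0, zero_mem _, by simp⟩
      | add y z _ _ hy hz =>
        obtain ⟨i, hi, hy⟩ := hy; obtain ⟨j, hj, hz⟩ := hz
        exact ⟨i + j, add_mem hi hj, by rw [map_add, add_sub_add_comm]; exact dvd_add hy hz⟩
      | smul l y _ hy =>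
        obtain ⟨i, hi, hy⟩ := hy
        obtain ⟨p, hp⟩ := hS q hq1 l
        refine ⟨p * i, Ideal.mul_mem_left _ _ hi, ?_⟩
        rw [smul_eq_mul, map_mul, show l * y - ψ p * ψ i = l * (y - ψ i) + (l - ψ p) * ψ i by ring]
        exact dvd_add (hy.mul_left _) (hp.mul_right _)
    have hcomap : (I.map ψ.toRingHom).comap ψ.toRingHom = I := by
      refine le_antisymm (fun p hp => ?_) Ideal.le_comap_map
      obtain ⟨i, hi, hd⟩ := hI' _ hp
      have h2 := hA q hq1 (p - i) (by rw [map_sub]; exact hd)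
      obtain ⟨c, hc⟩ := h2
      rw [sub_eq_iff_eq_add.1 hc]
      exact add_mem (Ideal.mul_mem_right _ _ hq) hi
    refine ⟨hcomap, ?_, Ideal.quotientMap_injective' hcomap.le, fun z => ?_⟩
    · rw [← ψ.comp_algebraMap, ← Ideal.map_map]
      show I.map ψ.toRingHom ⊔ ((maximalIdeal R).map (algebraMap R R[X])).map ψ.toRingHom = ⊤
      rw [← Ideal.map_sup, hI, Ideal.map_top]
    · obtain ⟨l, rfl⟩ := Ideal.Quotient.mk_surjective z
      obtain ⟨p, c, hp⟩ := hS q hq1 l
      refine ⟨Ideal.Quotient.mk _ p, ?_⟩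
      rw [Ideal.quotientMap_mk, Ideal.Quotient.eq]
      show ψ p - l ∈ _
      rw [← neg_sub, hp]
      exact neg_mem (Ideal.mul_mem_right _ _ (Ideal.mem_map_of_mem ψ.toRingHom hq))
  · obtain ⟨q, hq, hqJ⟩ := hJ J hJm
    refine ⟨le_antisymm Ideal.map_comap_le fun l hl => ?_, ?_⟩
    · obtain ⟨p, c, hp⟩ := hS q hq l
      have hmem : ψ q ∈ (J.comap ψ.toRingHom).map ψ.toRingHom := Ideal.mem_map_of_mem ψ.toRingHom hqJ
      rw [sub_eq_iff_eq_add.1 hp]
      refine add_mem (Ideal.mul_mem_right _ _ hmem) (Ideal.mem_map_of_mem ψ.toRingHom ?_)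
      show ψ p ∈ J
      rw [show ψ p = l - ψ q * c by rw [← hp]; ring]
      exact sub_mem hl (Ideal.mul_mem_right _ _ hqJ)
    · exact (Ideal.eq_top_iff_one _).2 (Submodule.mem_sup.2
        ⟨q, hqJ, 1 - q, map_residue_eq_one_iff.1 hq, add_sub_cancel _ _⟩)

end L01.AvoidFibre

namespace L01.AvoidFibre

universe u

variable {R : Type u} [CommRing R] [HenselianLocalRing R]

omit [HenselianLocalRing R] in
/-- A polynomial congruent to one modulo `𝔪` is invertible modulo any monic polynomial. -/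
theorem exists_inv_mod_monic [IsLocalRing R] {q b : R[X]} (hq : q.map (residue R) = 1) (hb : b.Monic) :
    ∃ z : R[X], q ∣ z * b - 1 := by
  haveI : Module.Finite R (R[X] ⧸ Ideal.span {b}) := hb.finite_quotient
  have hu : IsUnit (Ideal.Quotient.mk (Ideal.span {b}) q) := by
    by_contra h
    obtain ⟨M, hM, hMmem⟩ := exists_max_ideal_of_mem_nonunits h
    haveI := hM
    haveI : (M.comap (algebraMap R (R[X] ⧸ Ideal.span {b}))).IsMaximal :=
      Ideal.isMaximal_comap_of_isIntegral_of_isMaximal M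
    have h1 : (maximalIdeal R).map (algebraMap R (R[X] ⧸ Ideal.span {b})) ≤ M :=
      Ideal.map_le_iff_le_comap.2 (IsLocalRing.eq_maximalIdeal inferInstance).ge
    have h2 := Ideal.mem_map_of_mem (Ideal.Quotient.mk (Ideal.span {b})) (map_residue_eq_one_iff.1 hq)
    rw [Ideal.map_map, map_sub, map_one] at h2
    exact hM.ne_top ((Ideal.eq_top_iff_one _).2 (by simpa using add_mem (h1 h2) hMmem))
  obtain ⟨y, hy⟩ := hu.exists_left_inv
  obtain ⟨y, rfl⟩ := Ideal.Quotient.mk_surjective y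
  rw [← map_mul, ← map_one (Ideal.Quotient.mk (Ideal.span {b})), Ideal.Quotient.eq,
    Ideal.mem_span_singleton'] at hy
  obtain ⟨z, hz⟩ := hy
  exact ⟨-z, -y, by linear_combination -hz⟩

/-- The monic localization case. -/
theorem main_monic {L : Type u} [CommRing L] [Algebra R L] (ψ : R[X] →ₐ[R] L)
    (hu : ∀ b : R[X], b.Monic → IsUnit (ψ b))
    (hs : ∀ l : L, ∃ a b : R[X], b.Monic ∧ l * ψ b = ψ a) (hk : ∀ p, ψ p = 0 → p = 0) :
    (∀ I : Ideal R[X], I ⊔ (maximalIdeal R).map (algebraMap R R[X]) = ⊤ →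
      (I.map ψ.toRingHom).comap ψ.toRingHom = I ∧
      I.map ψ.toRingHom ⊔ (maximalIdeal R).map (algebraMap R L) = ⊤ ∧
      Function.Bijective (Ideal.quotientMap (I.map ψ.toRingHom) ψ.toRingHom Ideal.le_comap_map)) ∧
    (∀ J : Ideal L, J ⊔ (maximalIdeal R).map (algebraMap R L) = ⊤ →
      (J.comap ψ.toRingHom).map ψ.toRingHom = J ∧
      J.comap ψ.toRingHom ⊔ (maximalIdeal R).map (algebraMap R R[X]) = ⊤) := by
  refine main ψ (fun q hq p ⟨l, hl⟩ => ?_) (fun q hq l => ?_) (fun J hJ => ?_)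
  · obtain ⟨a, b, hb, hab⟩ := hs l
    obtain ⟨z, w, hz⟩ := exists_inv_mod_monic hq hb
    have h0 : p * b - q * a = 0 := hk _ (by rw [map_sub, map_mul, map_mul, hl, ← hab]; ring)
    exact ⟨z * a - p * w, by linear_combination (-p) * hz + z * h0⟩
  · obtain ⟨a, b, hb, hab⟩ := hs l
    obtain ⟨z, w, hz⟩ := exists_inv_mod_monic hq hb
    refine ⟨z * a, -(l * ψ w), ?_⟩
    have h1 := congrArg ψ hz
    rw [map_sub, map_mul, map_mul, map_one] at h1
    rw [map_mul]
    linear_combination (ψ z) * hab - l * h1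
  · have hm : ∀ x ∈ (maximalIdeal R).map (algebraMap R L), ∃ c b : R[X],
        c ∈ (maximalIdeal R).map (C : R →+* R[X]) ∧ b.Monic ∧ x * ψ b = ψ c := by
      intro x hx
      induction hx using Submodule.span_induction with
      | mem y hy =>
        obtain ⟨r, hr, rfl⟩ := hy
        exact ⟨C r, 1, Ideal.mem_map_of_mem _ hr, monic_one, by rw [map_one, mul_one]; exact (ψ.commutes r).symm⟩
      | zero => exact ⟨0, 1, zero_mem _, monic_one, by simp⟩
      | add y z _ _ hy hz =>
        obtain ⟨c, b, hc, hb, e⟩ := hy; obtain ⟨c', b', hc', hb', e'⟩ := hz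
        refine ⟨c * b' + c' * b, b * b', add_mem (Ideal.mul_mem_right _ _ hc) (Ideal.mul_mem_right _ _ hc'),
          hb.mul hb', ?_⟩
        rw [map_add, map_mul, map_mul, map_mul, ← e, ← e']; ring
      | smul l y _ hy =>
        obtain ⟨c, b, hc, hb, e⟩ := hy
        obtain ⟨a, b', hb', e'⟩ := hs l
        refine ⟨a * c, b' * b, Ideal.mul_mem_left _ _ hc, hb'.mul hb, ?_⟩
        rw [smul_eq_mul, map_mul, map_mul, ← e, ← e']; ring
    obtain ⟨z, hz, x, hx, h1⟩ := Submodule.mem_sup.1 ((Ideal.eq_top_iff_one _).1 hJ)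
    obtain ⟨c, b, hc, hb, e⟩ := hm x hx
    have hzb : z * ψ b = ψ (b - c) := by rw [map_sub, ← e, eq_sub_iff_add_eq, ← add_mul, h1, one_mul]
    have hmap : (b - c).map (residue R) = b.map (residue R) * 1 := by
      rw [mul_one, Polynomial.map_sub, sub_eq_self]
      ext i
      rw [Polynomial.coeff_map, coeff_zero, residue_eq_zero_iff]
      exact Ideal.mem_map_C_iff.1 hc i
    obtain ⟨g, h, hgh, hg, -, hh⟩ := Groth.L05.exists_monic_factor_lift (maximalIdeal R) (b - c)
      (b.map (residue R)) 1 (hb.map _) isCoprime_one_right hmap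
    refine ⟨h, hh, ?_⟩
    rw [hgh, map_mul] at hzb
    rw [← Ideal.unit_mul_mem_iff_mem J (hu g hg), ← hzb]
    exact Ideal.mul_mem_right _ _ hz

/-- The henselization case. -/
theorem main_hens {B : Type u} [CommRing B] [Algebra R B] [Algebra R[X] B] [IsScalarTower R R[X] B]
    (hB : Hens2.IsPairHenselization R[X] (Ideal.span {(X : R[X])}) B)
    {L : Type u} [CommRing L] [Algebra R L] [Algebra B L] [IsScalarTower R B L]
    [IsLocalization.Away (algebraMap R[X] B X) L] (ψ : R[X] →ₐ[R] L)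
    (hψ : ψ X * algebraMap B L (algebraMap R[X] B X) = 1) :
    (∀ I : Ideal R[X], I ⊔ (maximalIdeal R).map (algebraMap R R[X]) = ⊤ →
      (I.map ψ.toRingHom).comap ψ.toRingHom = I ∧
      I.map ψ.toRingHom ⊔ (maximalIdeal R).map (algebraMap R L) = ⊤ ∧
      Function.Bijective (Ideal.quotientMap (I.map ψ.toRingHom) ψ.toRingHom Ideal.le_comap_map)) ∧
    (∀ J : Ideal L, J ⊔ (maximalIdeal R).map (algebraMap R L) = ⊤ →
      (J.comap ψ.toRingHom).map ψ.toRingHom = J ∧
      J.comap ψ.toRingHom ⊔ (maximalIdeal R).map (algebraMap R R[X]) = ⊤) := by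
  set τ := algebraMap R[X] B X
  set T := algebraMap B L τ
  have hTB : ∀ p : R[X], algebraMap B L (algebraMap R[X] B p) = aeval T p := fun p =>
    DFunLike.congr_fun (Polynomial.algHom_ext
      (f := (IsScalarTower.toAlgHom R B L).comp (IsScalarTower.toAlgHom R R[X] B)) (g := aeval T)
      (by rw [aeval_X]; rfl)) p
  have hψe : ∀ p, ψ p = aeval (ψ X) p := fun p =>
    DFunLike.congr_fun (Polynomial.algHom_ext (f := ψ) (g := aeval (ψ X)) (by rw [aeval_X])) p
  -- facts about `q ≡ 1`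
  have hq0 : ∀ q : R[X], q.map (residue R) = 1 → IsUnit (q.coeff 0) := fun q hq => by
    rw [← IsLocalRing.residue_ne_zero_iff_isUnit, ← Polynomial.coeff_map, hq, coeff_one_zero]
    exact one_ne_zero
  have hdist : ∀ (q : R[X]) (hq : q.map (residue R) = 1), ∃ (P : R[X]) (k : ℕ), HensWeier.Dist P ∧
      q.natDegree ≤ k ∧ P = C (↑(hq0 q hq).unit⁻¹ : R) * reflect k q := by
    intro q hq
    refine ⟨_, q.natDegree, ?_, le_rfl, rfl⟩
    have hmap : (C (↑(hq0 q hq).unit⁻¹ : R) * reflect q.natDegree q).map (residue R) =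
        C (residue R (↑(hq0 q hq).unit⁻¹ : R)) * X ^ q.natDegree := by
      rw [Polynomial.map_mul, Polynomial.map_C, ← reflect_map, hq, reflect_one]
    have h0 : (reflect q.natDegree q).coeff q.natDegree = q.coeff 0 := by
      rw [coeff_reflect, revAt_le le_rfl, Nat.sub_self]
    have hle : (C (↑(hq0 q hq).unit⁻¹ : R) * reflect q.natDegree q).natDegree ≤ q.natDegree := by
      refine (natDegree_C_mul_le _ _).trans (natDegree_le_iff_coeff_eq_zero.2 fun i hi => ?_)
      rw [coeff_reflect, revAt_eq_self_of_lt hi]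
      exact coeff_eq_zero_of_natDegree_lt hi
    have hm : (C (↑(hq0 q hq).unit⁻¹ : R) * reflect q.natDegree q).Monic :=
      monic_of_natDegree_le_of_coeff_eq_one _ hle (by rw [coeff_C_mul, h0, IsUnit.val_inv_mul])
    have hnd : (C (↑(hq0 q hq).unit⁻¹ : R) * reflect q.natDegree q).natDegree = q.natDegree :=
      le_antisymm hle (le_natDegree_of_ne_zero (by rw [coeff_C_mul, h0, IsUnit.val_inv_mul]; exact one_ne_zero))
    refine ⟨hm, ?_⟩
    rw [hnd, hmap]
    have h1 := congrArg (residue R) (hq0 q hq).val_inv_mul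
    rw [map_mul, map_one, ← Polynomial.coeff_map, hq, coeff_one_zero, mul_one] at h1
    rw [h1, map_one, one_mul]
  refine main ψ (fun q hq p hdvd => ?_) (fun q hq l => ?_) (fun J hJ => ?_)
  · obtain ⟨l, hl⟩ := hdvd
    obtain ⟨P, k, hP, hk, hPe⟩ := hdist q hq
    obtain ⟨b, j, hb⟩ : ∃ (b : B) (j : ℕ), l * T ^ j = algebraMap B L b := by
      obtain ⟨j, b, hb⟩ := IsLocalization.Away.surj τ l
      exact ⟨b, j, hb⟩
    set n := p.natDegree
    have key : algebraMap B L (τ ^ (j + k) * algebraMap R[X] B (reflect n p)) =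
        algebraMap B L (τ ^ n * b * algebraMap R[X] B (reflect k q)) := by
      simp only [map_mul, map_pow, hTB]
      rw [aeval_reflect (mul_comm T (ψ X) ▸ hψ) n p le_rfl, aeval_reflect (mul_comm T (ψ X) ▸ hψ) k q hk,
        ← hψe, ← hψe, hl, ← hb, show T = algebraMap B L τ from rfl, pow_add]
      ring
    obtain ⟨⟨_, e, rfl⟩, he⟩ := (IsLocalization.eq_iff_exists (Submonoid.powers τ) L).1 key
    have hmem : algebraMap R[X] B (X ^ (e + (j + k)) * reflect n p) ∈ Ideal.span {algebraMap R[X] B P} := by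
      rw [Ideal.mem_span_singleton', map_mul, map_pow, pow_add, mul_assoc]
      refine ⟨τ ^ e * τ ^ n * b * algebraMap R[X] B (C (q.coeff 0)), ?_⟩
      rw [show τ ^ e * (τ ^ (j + k) * algebraMap R[X] B (reflect n p)) = _ from he, hPe, map_mul]
      have h1 : algebraMap R[X] B (C (q.coeff 0)) * algebraMap R[X] B (C (↑(hq0 q hq).unit⁻¹ : R)) = 1 := by
        rw [← map_mul, ← C_mul, IsUnit.mul_val_inv, C_1, map_one]
      linear_combination (τ ^ e * τ ^ n * b * algebraMap R[X] B (reflect k q)) * h1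
    have hmem' := Ideal.mem_span_singleton.1 (HensWeier.mem_span_of_map_mem hB hP hmem)
    obtain ⟨c, hc⟩ := hmem'
    -- evaluate at the inverse of `s` modulo `q`
    let S := R[X] ⧸ Ideal.span {q}
    let s : S := Ideal.Quotient.mk _ X
    have hmk : ∀ f : R[X], aeval s f = Ideal.Quotient.mk (Ideal.span {q}) f := fun f =>
      DFunLike.congr_fun (Polynomial.algHom_ext (f := aeval s) (g := Ideal.Quotient.mkₐ R (Ideal.span {q}))
        (by rw [aeval_X]; rfl)) f
    have hq' : Ideal.Quotient.mk (Ideal.span {q}) q = 0 :=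
      Ideal.Quotient.eq_zero_iff_mem.2 (Ideal.mem_span_singleton_self q)
    have hs : IsUnit s := by
      have h2 : s * Ideal.Quotient.mk (Ideal.span {q}) q.divX =
          -Ideal.Quotient.mk (Ideal.span {q}) (C (q.coeff 0)) := by
        rw [← map_mul, eq_neg_iff_add_eq_zero, ← map_add, X_mul_divX_add]
        exact hq'
      refine isUnit_of_mul_isUnit_left (y := Ideal.Quotient.mk (Ideal.span {q}) q.divX) ?_
      rw [h2]
      exact (((hq0 q hq).map Polynomial.C).map (Ideal.Quotient.mk (Ideal.span {q}))).neg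
    have hws : (↑hs.unit⁻¹ : S) * s = 1 := hs.val_inv_mul
    have h3 := congrArg (aeval (↑hs.unit⁻¹ : S)) hc
    rw [map_mul, map_mul, map_pow, aeval_X, hPe, map_mul, aeval_reflect hws n p le_rfl,
      aeval_reflect hws k q hk, hmk, hmk, hq', mul_zero, mul_zero, zero_mul, ← mul_assoc, ← pow_add] at h3
    exact Ideal.mem_span_singleton.1 (Ideal.Quotient.eq_zero_iff_mem.1
      ((hs.unit⁻¹.isUnit.pow _).mul_right_eq_zero.1 h3))
  · obtain ⟨P, k, hP, hk, hPe⟩ := hdist q hq
    obtain ⟨j, b, hb⟩ := IsLocalization.Away.surj τ l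
    obtain ⟨f, c, hf⟩ : ∃ (f : R[X]) (c : B), c * algebraMap R[X] B P = algebraMap R[X] B f - b := by
      obtain ⟨f, hf⟩ := HensWeier.exists_poly_sub_mem hB hP b
      obtain ⟨c, hc⟩ := Ideal.mem_span_singleton'.1 hf
      exact ⟨f, c, hc⟩
    set w : R[X] := -(C (↑(hq0 q hq).unit⁻¹ : R)) * q.divX
    have hw : ψ q ∣ T - ψ w := by
      refine ⟨T * ψ (C (↑(hq0 q hq).unit⁻¹ : R)), ?_⟩
      have h1 : C (q.coeff 0) * C (↑(hq0 q hq).unit⁻¹ : R) = 1 := by rw [← C_mul, IsUnit.mul_val_inv, C_1]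
      have h2 := congrArg ψ h1
      rw [map_mul, map_one] at h2
      conv_rhs => arg 1; rw [← X_mul_divX_add q, map_add, map_mul]
      simp only [w, map_mul, map_neg]
      linear_combination (-(ψ q.divX * ψ (C (↑(hq0 q hq).unit⁻¹ : R)))) * hψ - T * h2
    have hsub : ∀ g : R[X], ψ q ∣ aeval T g - aeval (ψ w) g := fun g => hw.trans (sub_dvd_eval_sub _ _ _ |>.trans
      (by rw [aeval_def, aeval_def, eval₂_eq_eval_map, eval₂_eq_eval_map]))
    refine ⟨aeval w f * X ^ j, ?_⟩
    have hTj : T ^ j * ψ X ^ j = 1 := by rw [← mul_pow, mul_comm T, hψ, one_pow]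
    have hTk : T ^ k * ψ X ^ k = 1 := by rw [← mul_pow, mul_comm T, hψ, one_pow]
    have hPq : algebraMap B L (algebraMap R[X] B P) =
        algebraMap R L (↑(hq0 q hq).unit⁻¹ : R) * T ^ k * ψ q := by
      rw [hTB, hPe, map_mul, aeval_C, aeval_reflect (mul_comm T (ψ X) ▸ hψ) k q hk, ← hψe]; ring
    have h4 : l = ψ X ^ j * (aeval T f - algebraMap B L c * algebraMap B L (algebraMap R[X] B P)) := by
      rw [← map_mul (algebraMap B L) c, hf, map_sub, ← hb, hTB, sub_sub_cancel]
      linear_combination (-l) * hTj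
    rw [map_mul, map_pow, ← aeval_algHom_apply, h4, hPq,
      show ψ X ^ j * (aeval T f - algebraMap B L c * (algebraMap R L (↑(hq0 q hq).unit⁻¹ : R) * T ^ k * ψ q)) -
        aeval (ψ w) f * ψ X ^ j = ψ X ^ j * (aeval T f - aeval (ψ w) f) -
          ψ q * (ψ X ^ j * algebraMap B L c * algebraMap R L (↑(hq0 q hq).unit⁻¹ : R) * T ^ k) by ring]
    exact dvd_sub ((hsub f).mul_left _) (dvd_mul_right _ _)
  · obtain ⟨z, hz, x, hx, h1⟩ := Submodule.mem_sup.1 ((Ideal.eq_top_iff_one _).1 hJ)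
    obtain ⟨j, b, hb⟩ := IsLocalization.Away.surj τ z
    rw [IsScalarTower.algebraMap_eq R B L, ← Ideal.map_map] at hx
    obtain ⟨⟨⟨c, hc⟩, ⟨_, i, rfl⟩⟩, hxc⟩ := (IsLocalization.mem_map_algebraMap_iff (Submonoid.powers τ) L).1 hx
    simp only at hxc
    have key : algebraMap B L (τ ^ i * b + τ ^ j * c) = algebraMap B L (τ ^ (i + j)) := by
      rw [map_add, map_mul, map_mul, ← hb, ← hxc, map_pow, map_pow, map_pow, pow_add,
        show algebraMap B L τ = T from rfl]
      linear_combination (T ^ i * T ^ j) * h1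
    obtain ⟨⟨_, e, rfl⟩, he⟩ := (IsLocalization.eq_iff_exists (Submonoid.powers τ) L).1 key
    set f := τ ^ e * (τ ^ i * b)
    have hfm : f ∉ (maximalIdeal R).map (algebraMap R B) := fun hfm => by
      refine HensWeier.pow_notMem hB (e + (i + j)) ?_
      rw [pow_add, show τ ^ e * τ ^ (i + j) = f + τ ^ e * τ ^ j * c by
        rw [show τ ^ e * τ ^ (i + j) = _ from he.symm]; ring]
      exact add_mem hfm (Ideal.mul_mem_left _ _ hc)
    obtain ⟨P, u, hP, hfP⟩ := HensWeier.exists_dist hB f hfm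
    have hfJ : algebraMap B L f ∈ J := by
      rw [map_mul, map_mul, ← hb]
      exact Ideal.mul_mem_left _ _ (Ideal.mul_mem_left _ _ (Ideal.mul_mem_right _ _ hz))
    have hPJ : algebraMap B L (algebraMap R[X] B P) ∈ J := by
      rw [hfP, map_mul] at hfJ
      exact (Ideal.mul_unit_mem_iff_mem J (u.isUnit.map (algebraMap B L))).1 hfJ
    refine ⟨reflect P.natDegree P, ?_, ?_⟩
    · rw [← reflect_map, hP.2, ← one_mul (X ^ P.natDegree), ← C_1, reflect_C_mul_X_pow, revAt_le le_rfl,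
        Nat.sub_self, pow_zero, mul_one]
    · rw [hψe, aeval_reflect hψ _ P le_rfl, ← hTB]
      exact Ideal.mul_mem_left _ _ hPJ

end L01.AvoidFibre
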