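import Mathlib.Algebra.CharP.Lemmas
import Mathlib.Algebra.CharP.Algebra
import Mathlib.FieldTheory.KummerPolynomial
import Mathlib.FieldTheory.Minpoly.Field
import Mathlib.RingTheory.Smooth.Field
import Mathlib.RingTheory.AlgebraicIndependent.TranscendenceBasis
import Mathlib.RingTheory.Localization.FractionRing
import Mathlib.RingTheory.Ideal.Quotient.Operations
import Mathlib.Algebra.MvPolynomial.Eval
import Mathlib.FieldTheory.Perfect
import Mathlib.Algebra.Algebra.Rat
import Mathlib.Algebra.Algebra.Hom.Rat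
import Mathlib.Order.Zorn

/-!
Lifting maps out of fields and out of flat `ℤ/p^n`-algebras with field reduction along square-zero
surjections: the formal smoothness behind the Cohen structure theorem.
-/

universe u

namespace Groth.L01.Cohen

/-- Maps out of a field of characteristic `p` lift along square-zero surjections of rings killed by `p`. -/
theorem exists_lift_charP {p : ℕ} [hp : Fact p.Prime] {k : Type u} [Field k] [CharP k p]
    {C D : Type u} [CommRing C] [CommRing D] (hC : (p : C) = 0) (q : C →+* D)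
    (hq : Function.Surjective q) (hq2 : RingHom.ker q ^ 2 = ⊥) (f : k →+* D) :
    ∃ g : k →+* C, q.comp g = f := by
  classical
  rcases subsingleton_or_nontrivial C with hsub | hnt
  · exact ⟨{ toFun := fun _ => 0, map_one' := Subsingleton.elim _ _, map_mul' := fun _ _ => Subsingleton.elim _ _,
             map_zero' := rfl, map_add' := fun _ _ => Subsingleton.elim _ _ },
      RingHom.ext fun x => by
        obtain ⟨c, hc⟩ := hq (f x)
        rw [← hc]
        exact congrArg q (Subsingleton.elim _ _)⟩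
  haveI : CharP C p := (CharP.charP_iff_prime_eq_zero hp.out).mpr hC
  haveI : ExpChar C p := ExpChar.prime hp.out
  choose σ hσ using hq
  have hN : ∀ x y : C, q x = q y → x ^ p = y ^ p := by
    intro x y h
    have hz : x - y ∈ RingHom.ker q := by rw [RingHom.mem_ker, map_sub, h, sub_self]
    have h2 : (x - y) ^ p ∈ RingHom.ker q ^ p := Ideal.pow_mem_pow hz p
    have h3 := (Ideal.pow_le_pow_right hp.out.two_le) h2
    rw [hq2, Submodule.mem_bot, sub_pow_expChar, sub_eq_zero] at h3
    exact h3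
  let c : k → C := fun x => σ (f x) ^ p
  have hc : ∀ (x : k) (y : C), q y = f x → y ^ p = c x := fun x y h => hN _ _ (by rw [h, hσ])
  let good : Subring (k × C) → Prop := fun Γ =>
    (∀ x, (x ^ p, c x) ∈ Γ) ∧ (∀ z ∈ Γ, q z.2 = f z.1) ∧ ∀ z ∈ Γ, z.1 = 0 → z.2 = 0
  let base : Subring (k × C) :=
    { carrier := Set.range fun x : k => (x ^ p, c x)
      mul_mem' := by
        rintro _ _ ⟨x, rfl⟩ ⟨y, rfl⟩
        exact ⟨x * y, Prod.ext (mul_pow x y p)
          ((hc (x * y) (σ (f x) * σ (f y)) (by simp [hσ])).symm.trans (mul_pow _ _ p))⟩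
      one_mem' := ⟨1, Prod.ext (one_pow p) ((hc 1 1 (by simp)).symm.trans (one_pow p))⟩
      add_mem' := by
        rintro _ _ ⟨x, rfl⟩ ⟨y, rfl⟩
        haveI : ExpChar k p := ExpChar.prime hp.out
        exact ⟨x + y, Prod.ext (add_pow_expChar x y p)
          ((hc (x + y) (σ (f x) + σ (f y)) (by simp [hσ])).symm.trans (add_pow_expChar _ _ p))⟩
      zero_mem' := ⟨0, Prod.ext (zero_pow hp.out.ne_zero) ((hc 0 0 (by simp)).symm.trans (zero_pow hp.out.ne_zero))⟩
      neg_mem' := by
        rintro _ ⟨x, rfl⟩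
        haveI : ExpChar k p := ExpChar.prime hp.out
        refine ⟨-x, Prod.ext ?_ ?_⟩
        · have := sub_pow_expChar (p := p) (0 : k) x
          simpa [zero_pow hp.out.ne_zero] using this
        · have := sub_pow_expChar (p := p) (0 : C) (σ (f x))
          rw [zero_sub, zero_pow hp.out.ne_zero, zero_sub] at this
          exact (hc (-x) (-σ (f x)) (by simp [hσ])).symm.trans this }
  have hbase : good base := by
    refine ⟨fun x => ⟨x, rfl⟩, ?_, ?_⟩
    · rintro _ ⟨x, rfl⟩
      simp [c, hσ]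
    · rintro _ ⟨x, rfl⟩ hx
      have hx0 : x = 0 := pow_eq_zero_iff hp.out.ne_zero |>.mp hx
      subst hx0
      exact (hc 0 0 (by simp)).symm.trans (zero_pow hp.out.ne_zero)
  obtain ⟨Γ, -, hmax⟩ := zorn_le_nonempty₀ {Γ | good Γ} (fun ch hch hchain y hy => by
    have hmem : ∀ z, z ∈ sSup ch ↔ ∃ Γ ∈ ch, z ∈ Γ := fun z =>
      Subring.mem_sSup_of_directedOn ⟨y, hy⟩ hchain.directedOn
    refine ⟨sSup ch, ⟨fun x => (hmem _).mpr ⟨y, hy, (hch hy).1 x⟩, ?_, ?_⟩, fun z hz => le_sSup hz⟩
    · intro z hz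
      obtain ⟨Δ, hΔ, hzΔ⟩ := (hmem z).mp hz
      exact (hch hΔ).2.1 z hzΔ
    · intro z hz h0
      obtain ⟨Δ, hΔ, hzΔ⟩ := (hmem z).mp hz
      exact (hch hΔ).2.2 z hzΔ h0) base hbase
  obtain ⟨hpow, hcomp, hfun⟩ := hmax.prop
  have hdom : ∀ a : k, ∃ b, (a, b) ∈ Γ := by
    intro a
    by_contra! ha
    let E : Subfield k :=
      { (Γ.map (RingHom.fst k C)) with
        inv_mem' := by
          rintro x hx
          rcases eq_or_ne x 0 with rfl | hx0
          · rw [inv_zero]; exact (Γ.map (RingHom.fst k C)).zero_mem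
          · have h1 : (x⁻¹) ^ p ∈ Γ.map (RingHom.fst k C) := ⟨_, hpow x⁻¹, rfl⟩
            have h2 := mul_mem (pow_mem (show x ∈ Γ.map (RingHom.fst k C) from hx) (p - 1)) h1
            have h3 : x ^ (p - 1) * (x⁻¹) ^ p = x⁻¹ := by
              conv_lhs => rw [show (x⁻¹) ^ p = (x⁻¹) ^ (p - 1) * x⁻¹ by
                rw [← pow_succ, Nat.sub_add_cancel hp.out.one_le]]
              rw [← mul_assoc, ← mul_pow, mul_inv_cancel₀ hx0, one_pow, one_mul]
            rwa [h3] at h2 }
    have haE : a ^ p ∈ E := ⟨_, hpow a, rfl⟩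
    have hirr : Irreducible (Polynomial.X ^ p - Polynomial.C (⟨a ^ p, haE⟩ : E)) := by
      refine X_pow_sub_C_irreducible_of_prime hp.out fun b hb => ?_
      have hb' : (b : k) ^ p = a ^ p := congrArg Subtype.val hb
      haveI : ExpChar k p := ExpChar.prime hp.out
      have hba : (b : k) = a := sub_eq_zero.mp (pow_eq_zero_iff hp.out.ne_zero |>.mp
        (by rw [sub_pow_expChar, hb', sub_self]))
      obtain ⟨z, hz, hza⟩ := b.2
      rw [hba] at hza
      exact ha z.2 (by rw [← hza]; exact hz)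
    have hmin : minpoly E a = Polynomial.X ^ p - Polynomial.C (⟨a ^ p, haE⟩ : E) :=
      (minpoly.eq_of_irreducible_of_monic hirr (by simp [Subfield.algebraMap_ofSubfield]) (Polynomial.monic_X_pow_sub_C _ hp.out.ne_zero)).symm
    let z₀ : k × C := (a, σ (f a))
    let Δ : Subring (k × C) := (Polynomial.eval₂RingHom Γ.subtype z₀).range
    have hΓΔ : Γ ≤ Δ := fun z hz => ⟨Polynomial.C ⟨z, hz⟩, by simp⟩
    have hz₀ : z₀ ∈ Δ := ⟨Polynomial.X, by simp⟩
    have hΔ : good Δ := by
      refine ⟨fun x => hΓΔ (hpow x), ?_, ?_⟩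
      · rintro _ ⟨P, rfl⟩
        induction P using Polynomial.induction_on' with
        | add P Q hP hQ =>
          rw [map_add, Prod.fst_add, Prod.snd_add, map_add, map_add, hP, hQ]
        | monomial i γ =>
          simp only [Polynomial.coe_eval₂RingHom, Polynomial.eval₂_monomial, Prod.fst_mul, Prod.snd_mul,
            Prod.pow_fst, Prod.pow_snd, map_mul, map_pow, z₀, hσ, Subring.coe_subtype, hcomp _ γ.2]
      · rintro _ ⟨P, rfl⟩ h0
        let γ : Γ := ⟨(a ^ p, c a), hpow a⟩
        let m : Polynomial Γ := Polynomial.X ^ p - Polynomial.C γ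
        have hm : m.Monic := Polynomial.monic_X_pow_sub_C _ hp.out.ne_zero
        have hm0 : Polynomial.eval₂RingHom Γ.subtype z₀ m = 0 := by
          simp [m, γ, z₀, c, Prod.ext_iff]
        have hP : Polynomial.eval₂RingHom Γ.subtype z₀ P = Polynomial.eval₂RingHom Γ.subtype z₀ (P %ₘ m) := by
          conv_lhs => rw [← Polynomial.modByMonic_add_div P m]
          rw [map_add, map_mul, hm0, zero_mul, add_zero]
        rw [hP] at h0 ⊢
        set r := P %ₘ m
        haveI : Nontrivial Γ := ⟨0, 1, fun h => zero_ne_one (congrArg (fun z : Γ => (z : k × C).1) h)⟩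
        have hr : r.natDegree < p := by
          have := Polynomial.natDegree_modByMonic_lt P hm (fun h => by
            have := congrArg Polynomial.natDegree h
            rw [Polynomial.natDegree_X_pow_sub_C, Polynomial.natDegree_one] at this
            exact hp.out.ne_zero this)
          rwa [Polynomial.natDegree_X_pow_sub_C] at this
        let π : Γ →+* E :=
          { toFun := fun z => ⟨(z : k × C).1, ⟨_, z.2, rfl⟩⟩
            map_one' := rfl
            map_mul' := fun _ _ => rfl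
            map_zero' := rfl
            map_add' := fun _ _ => rfl }
        have hev : Polynomial.aeval a (r.map π) = 0 := by
          rw [Polynomial.aeval_def, Polynomial.eval₂_map, ← h0, Polynomial.coe_eval₂RingHom]
          exact (Polynomial.hom_eval₂ r Γ.subtype (RingHom.fst k C) z₀).symm
        have hrz : r.map π = 0 := by
          refine Polynomial.eq_zero_of_dvd_of_natDegree_lt (minpoly.dvd E a hev) ?_
          rw [hmin, Polynomial.natDegree_X_pow_sub_C]
          exact lt_of_le_of_lt Polynomial.natDegree_map_le hr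
        have hr0 : r = 0 := by
          ext1 i
          rw [Polynomial.coeff_zero]
          have h1 : ((r.coeff i : Γ) : k × C).1 = 0 := by
            have := congrArg (fun Q : Polynomial E => ((Q.coeff i : E) : k)) hrz
            simpa [π] using this
          exact Subtype.ext (Prod.ext h1 (hfun _ (r.coeff i).2 h1))
        rw [hr0, map_zero]
        rfl
    exact ha _ (hmax.le_of_ge hΔ hΓΔ hz₀)
  choose g hg using hdom
  have huniq : ∀ a b, (a, b) ∈ Γ → g a = b := fun a b h => by
    have := hfun _ (sub_mem (hg a) h) (by simp)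
    simpa [sub_eq_zero] using this
  refine ⟨{ toFun := g, map_one' := huniq 1 1 Γ.one_mem, map_mul' := fun a b => huniq _ _ (mul_mem (hg a) (hg b)),
            map_zero' := huniq 0 0 Γ.zero_mem, map_add' := fun a b => huniq _ _ (add_mem (hg a) (hg b)) },
    RingHom.ext fun a => hcomp _ (hg a)⟩

/-- Maps out of a field of characteristic zero lift along square-zero surjections. -/
theorem exists_lift_charZero {k : Type u} [Field k] [CharZero k]
    {C D : Type u} [CommRing C] [CommRing D] (q : C →+* D)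
    (hq : Function.Surjective q) (hq2 : RingHom.ker q ^ 2 = ⊥) (f : k →+* D) :
    ∃ g : k →+* C, q.comp g = f := by
  classical
  have hunit : ∀ m : nonZeroDivisors ℤ, IsUnit (Int.castRingHom C (m : ℤ)) := by
    intro m
    have h1 : IsUnit (q (Int.castRingHom C (m : ℤ))) := by
      have : q (Int.castRingHom C (m : ℤ)) = f ((m : ℤ) : k) := by simp
      rw [this]
      exact (IsUnit.mk0 _ (by exact_mod_cast nonZeroDivisors.ne_zero m.2)).map f
    obtain ⟨d, hd⟩ := h1.exists_right_inv
    obtain ⟨e, rfl⟩ := hq d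
    have hker : Int.castRingHom C (m : ℤ) * e - 1 ∈ RingHom.ker q := by
      rw [RingHom.mem_ker, map_sub, map_mul, hd, map_one, sub_self]
    have hz : (Int.castRingHom C (m : ℤ) * e - 1) * (Int.castRingHom C (m : ℤ) * e - 1) = 0 := by
      rw [← Submodule.mem_bot (R := C), ← hq2, pow_two]
      exact Ideal.mul_mem_mul hker hker
    exact IsUnit.of_mul_eq_one (e * (2 - Int.castRingHom C (m : ℤ) * e)) (by linear_combination -hz)
  letI : Algebra ℚ C := (IsLocalization.lift (M := nonZeroDivisors ℤ) (S := ℚ) hunit).toAlgebra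
  letI : Algebra ℚ D := (q.comp (algebraMap ℚ C)).toAlgebra
  haveI : Algebra.FormallySmooth ℚ k := by
    obtain ⟨s, hs⟩ := exists_isTranscendenceBasis ℚ k
    haveI : Algebra.IsAlgebraic (IntermediateField.adjoin ℚ (Set.range ((↑) : s → k))) k := hs.isAlgebraic_field
    exact Algebra.FormallySmooth.of_algebraicIndependent_of_isSeparable hs.1
  let e : (C ⧸ RingHom.ker q) ≃+* D := RingHom.quotientKerEquivOfSurjective hq
  let f' : k →ₐ[ℚ] C ⧸ RingHom.ker q :=
    { e.symm.toRingHom.comp f with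
      commutes' := fun r => RingHom.congr_fun (Subsingleton.elim ((e.symm.toRingHom.comp f).comp (algebraMap ℚ k)) (algebraMap ℚ (C ⧸ RingHom.ker q))) r }
  obtain ⟨g, hg⟩ := Algebra.FormallySmooth.comp_surjective ℚ k (RingHom.ker q) hq2 f'
  refine ⟨g.toRingHom, RingHom.ext fun x => ?_⟩
  have h := congrArg e (AlgHom.congr_fun hg x)
  simpa [e, f'] using h

variable {p : ℕ} [hp : Fact p.Prime]

/-- a section modulo `p` of a square-zero extension of a ring whose reduction is a field -/
theorem exists_section_mod_p {A Q : Type u} [CommRing A] [CommRing Q] (hmax : (Ideal.span {(p : A)}).IsMaximal)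
    (κ : Q →+* A) (hκ : Function.Surjective κ)
    (hN2 : ∀ x ∈ RingHom.ker κ, ∀ y ∈ RingHom.ker κ, x * y = 0) :
    ∃ s : (A ⧸ Ideal.span {(p : A)}) →+* (Q ⧸ Ideal.span {(p : Q)}),
      ∀ a : A, ∃ t : Q, κ t = a ∧ Ideal.Quotient.mk _ t = s (Ideal.Quotient.mk _ a) := by
  classical
  letI : Field (A ⧸ Ideal.span {(p : A)}) := Ideal.Quotient.field _
  haveI : CharP (A ⧸ Ideal.span {(p : A)}) p := (CharP.charP_iff_prime_eq_zero hp.out).mpr (by
    rw [← map_natCast (Ideal.Quotient.mk (Ideal.span {(p : A)})), Ideal.Quotient.eq_zero_iff_mem]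
    exact Ideal.mem_span_singleton_self _)
  let mkp := Ideal.Quotient.mk (Ideal.span {(p : Q)})
  let κ₁ : (Q ⧸ Ideal.span {(p : Q)}) →+* A ⧸ Ideal.span {(p : A)} :=
    Ideal.quotientMap _ κ (by
      rw [Ideal.span_singleton_le_iff_mem, Ideal.mem_comap, map_natCast]
      exact Ideal.mem_span_singleton_self _)
  have hker₁ : RingHom.ker κ₁ ≤ (RingHom.ker κ).map mkp := by
    intro x hx
    obtain ⟨x, rfl⟩ := Ideal.Quotient.mk_surjective x
    rw [RingHom.mem_ker, Ideal.quotientMap_mk, Ideal.Quotient.eq_zero_iff_mem, Ideal.mem_span_singleton'] at hx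
    obtain ⟨b, hb⟩ := hx
    obtain ⟨y, rfl⟩ := hκ b
    refine (?_ : mkp x = mkp (x - y * (p : Q))) ▸ Ideal.mem_map_of_mem _
      (show x - y * (p : Q) ∈ RingHom.ker κ by rw [RingHom.mem_ker, map_sub, map_mul, map_natCast, hb, sub_self])
    rw [Ideal.Quotient.eq, sub_sub_cancel]
    exact Ideal.mem_span_singleton'.mpr ⟨y, rfl⟩
  obtain ⟨s, hs⟩ := exists_lift_charP (p := p) (k := A ⧸ Ideal.span {(p : A)})
    (show ((p : ℕ) : Q ⧸ Ideal.span {(p : Q)}) = 0 by
      rw [← map_natCast mkp, Ideal.Quotient.eq_zero_iff_mem]; exact Ideal.mem_span_singleton_self _)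
    κ₁ (Ideal.quotientMap_surjective hκ) (by
      rw [eq_bot_iff]
      refine (Ideal.pow_right_mono hker₁ 2).trans ?_
      rw [← Ideal.map_pow, le_bot_iff, Ideal.map_eq_bot_iff_le_ker, pow_two, Ideal.mul_le]
      intro x hx y hy
      rw [hN2 x hx y hy]
      exact zero_mem _) (RingHom.id _)
  refine ⟨s, fun a => ?_⟩
  obtain ⟨t, ht⟩ := Ideal.Quotient.mk_surjective (s (Ideal.Quotient.mk _ a))
  have h1 : Ideal.Quotient.mk (Ideal.span {(p : A)}) (κ t) = Ideal.Quotient.mk _ a := by
    have := congrArg κ₁ ht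
    rw [Ideal.quotientMap_mk] at this
    exact this.trans (RingHom.congr_fun hs _)
  rw [Ideal.Quotient.eq, Ideal.mem_span_singleton'] at h1
  obtain ⟨b, hb⟩ := h1
  obtain ⟨y, rfl⟩ := hκ b
  refine ⟨t - y * (p : Q), by rw [map_sub, map_mul, map_natCast, hb]; ring, ?_⟩
  rw [map_sub, Ideal.Quotient.eq_zero_iff_mem.mpr (Ideal.mem_span_singleton'.mpr ⟨y, rfl⟩), sub_zero, ht]

set_option maxHeartbeats 400000 in
/-- Maps out of a flat `ℤ/p^n`-algebra whose reduction is a field lift along square-zero surjections. -/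
theorem exists_lift_of_flat {n : ℕ} (hn : 0 < n) {A : Type u} [CommRing A] (hAn : (p : A) ^ n = 0)
    (htor : ∀ a : A, (p : A) * a = 0 → ∃ b, a = (p : A) ^ (n - 1) * b)
    (hmax : (Ideal.span {(p : A)}).IsMaximal)
    {C D : Type u} [CommRing C] [CommRing D] (hC : (p : C) ^ n = 0) (q : C →+* D)
    (hq : Function.Surjective q) (hq2 : RingHom.ker q ^ 2 = ⊥) (f : A →+* D) :
    ∃ g : A →+* C, q.comp g = f := by
  classical
  let ψ : MvPolynomial A ℤ →+* A := MvPolynomial.eval₂Hom (Int.castRingHom A) id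
  have hψ : Function.Surjective ψ := fun a => ⟨MvPolynomial.X a, by simp [ψ]⟩
  let J := RingHom.ker ψ
  let I : Ideal (MvPolynomial A ℤ) := J ^ 2 ⊔ Ideal.span {(p : MvPolynomial A ℤ) ^ n}
  have hIJ : I ≤ J := sup_le (Ideal.pow_le_self two_ne_zero)
    ((Ideal.span_singleton_le_iff_mem _).mpr (by rw [RingHom.mem_ker, map_pow, map_natCast, hAn]))
  let κ : (MvPolynomial A ℤ ⧸ I) →+* A := Ideal.Quotient.lift I ψ hIJ
  have hκ : Function.Surjective κ := fun a =>
    ⟨Ideal.Quotient.mk I (MvPolynomial.X a), (show ψ (MvPolynomial.X a) = a by simp [ψ])⟩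
  let N := RingHom.ker κ
  have hpQ : (p : MvPolynomial A ℤ ⧸ I) ^ n = 0 := by
    rw [← map_natCast (Ideal.Quotient.mk I), ← map_pow, Ideal.Quotient.eq_zero_iff_mem]
    exact Ideal.mem_sup_right (Ideal.mem_span_singleton_self _)
  have hNJ : N = J.map (Ideal.Quotient.mk I) := Ideal.ker_quotient_lift ψ hIJ
  have hN2 : ∀ x ∈ N, ∀ y ∈ N, x * y = 0 := by
    intro x hx y hy
    have h := Ideal.mul_mem_mul hx hy
    rw [hNJ, ← Ideal.map_mul, ← pow_two] at h
    have hle : (J ^ 2).map (Ideal.Quotient.mk I) ≤ ⊥ := by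
      rw [le_bot_iff, Ideal.map_eq_bot_iff_le_ker, Ideal.mk_ker]
      exact le_sup_left
    exact (Submodule.mem_bot _).mp (hle h)
  have hflat : ∀ x : MvPolynomial A ℤ ⧸ I, (p : _) * x ∈ N → ∃ y ∈ N, (p : _) * x = (p : _) * y := by
    intro x hx
    obtain ⟨b, hb⟩ := htor (κ x) (by simpa [N] using hx)
    obtain ⟨y, rfl⟩ := hκ b
    refine ⟨x - (p : _) ^ (n - 1) * y, by simp [N, hb], ?_⟩
    rw [mul_sub, ← mul_assoc, ← pow_succ', Nat.sub_add_cancel hn, hpQ, zero_mul, sub_zero]
  obtain ⟨s, hvar⟩ := exists_section_mod_p hmax κ hκ hN2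
  let mkp := Ideal.Quotient.mk (Ideal.span {(p : MvPolynomial A ℤ ⧸ I)})
  choose t htκ hts using hvar
  let θ : MvPolynomial A ℤ →+* MvPolynomial A ℤ ⧸ I := MvPolynomial.eval₂Hom (Int.castRingHom _) t
  have hθκ : κ.comp θ = ψ := MvPolynomial.ringHom_ext (fun z => by simp [θ, ψ]) fun a => by simp [θ, ψ, htκ]
  have hθs : mkp.comp θ = s.comp ((Ideal.Quotient.mk _).comp ψ) :=
    MvPolynomial.ringHom_ext (fun z => by simp [θ, ψ]) fun a => by simp [θ, ψ, mkp, hts]
  have hθJ : ∀ j ∈ J, θ j ∈ N := fun j hj =>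
    show κ (θ j) = 0 from (RingHom.congr_fun hθκ j).trans hj
  let Θ : (MvPolynomial A ℤ ⧸ I) →+* (MvPolynomial A ℤ ⧸ I) := Ideal.Quotient.lift I θ fun x hx => by
    have hle : I ≤ RingHom.ker θ := by
      refine sup_le ?_ ((Ideal.span_singleton_le_iff_mem _).mpr (by rw [RingHom.mem_ker, map_pow, map_natCast, hpQ]))
      rw [pow_two, Ideal.mul_le]
      intro a ha b hb
      rw [RingHom.mem_ker, map_mul, hN2 _ (hθJ a ha) _ (hθJ b hb)]
    exact hle hx
  have hΘκ : κ.comp Θ = κ := Ideal.Quotient.ringHom_ext (RingHom.ext fun x => RingHom.congr_fun hθκ x)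
  have hΘN : ∀ x ∈ N, ∃ y ∈ N, Θ x = (p : _) * y := by
    intro x hx
    obtain ⟨x, rfl⟩ := Ideal.Quotient.mk_surjective x
    have hxJ : ψ x = 0 := hx
    have h0 : mkp (θ x) = 0 := by
      have h := RingHom.congr_fun hθs x
      simp only [RingHom.comp_apply, hxJ, map_zero] at h
      exact h
    obtain ⟨z, hz⟩ := Ideal.mem_span_singleton'.mp (Ideal.Quotient.eq_zero_iff_mem.mp h0)
    have hz' : θ x = (p : _) * z := by rw [mul_comm]; exact hz.symm
    obtain ⟨y, hy, hzy⟩ := hflat z (hz' ▸ hθJ x hxJ)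
    exact ⟨y, hy, hz'.trans hzy⟩
  have hiter : ∀ i : ℕ, ∀ x ∈ N, ∃ y ∈ N, Θ^[i] x = (p : _) ^ i * y := by
    intro i
    induction i with
    | zero => exact fun x hx => ⟨x, hx, by simp⟩
    | succ i ih =>
      intro x hx
      obtain ⟨y, hy, hxy⟩ := ih x hx
      obtain ⟨y', hy', hyy'⟩ := hΘN y hy
      exact ⟨y', hy', by rw [Function.iterate_succ_apply', hxy, map_mul, map_pow, map_natCast, hyy', pow_succ, mul_assoc]⟩
  let Θn : (MvPolynomial A ℤ ⧸ I) →+* (MvPolynomial A ℤ ⧸ I) := (Nat.rec (RingHom.id _) (fun _ g => Θ.comp g) n)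
  have hΘn : ∀ (m : ℕ) x, (Nat.rec (RingHom.id _) (fun _ g => Θ.comp g) m : _ →+* _) x = Θ^[m] x := by
    intro m
    induction m with
    | zero => intro x; rfl
    | succ m ih => intro x; rw [Function.iterate_succ_apply']; exact congrArg Θ (ih x)
  have hκn : ∀ (m : ℕ) x, κ (Θ^[m] x) = κ x := by
    intro m
    induction m with
    | zero => intro x; rfl
    | succ m ih => intro x; rw [Function.iterate_succ_apply', ← ih x]; exact RingHom.congr_fun hΘκ _
  let sec : A →+* MvPolynomial A ℤ ⧸ I :=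
    (Ideal.Quotient.lift N Θn fun x hx => by
      obtain ⟨y, -, hy⟩ := hiter n x hx
      show Θn x = 0
      rw [show Θn x = Θ^[n] x from hΘn n x, hy, hpQ, zero_mul]).comp
      (RingHom.quotientKerEquivOfSurjective hκ).symm.toRingHom
  have hsec : ∀ a, κ (sec a) = a := by
    intro a
    obtain ⟨x, rfl⟩ := hκ a
    have h1 : (RingHom.quotientKerEquivOfSurjective hκ).symm (κ x) = Ideal.Quotient.mk N x :=
      (RingEquiv.symm_apply_eq _).mpr rfl
    simp only [sec, RingHom.comp_apply, RingEquiv.toRingHom_eq_coe, RingHom.coe_coe, h1, Ideal.Quotient.lift_mk]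
    rw [show Θn x = Θ^[n] x from hΘn n x, hκn]
  -- map the universal square-zero extension to `C`
  choose σ hσ using hq
  let g₀ : MvPolynomial A ℤ →+* C := MvPolynomial.eval₂Hom (Int.castRingHom C) fun a => σ (f a)
  have hg₀ : q.comp g₀ = f.comp ψ :=
    MvPolynomial.ringHom_ext (fun z => by simp [g₀, ψ]) fun a => by simp [g₀, ψ, hσ]
  have hg₀I : I ≤ RingHom.ker g₀ := by
    refine sup_le ?_ ((Ideal.span_singleton_le_iff_mem _).mpr (by rw [RingHom.mem_ker, map_pow, map_natCast, hC]))
    rw [pow_two, Ideal.mul_le]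
    intro a ha b hb
    have h1 : ∀ j ∈ J, g₀ j ∈ RingHom.ker q := fun j hj => by
      have := RingHom.congr_fun hg₀ j
      simp only [RingHom.comp_apply, show ψ j = 0 from hj, map_zero] at this
      exact this
    rw [RingHom.mem_ker, map_mul, ← Submodule.mem_bot (R := C), ← hq2, pow_two]
    exact Ideal.mul_mem_mul (h1 a ha) (h1 b hb)
  refine ⟨(Ideal.Quotient.lift I g₀ hg₀I).comp sec, RingHom.ext fun a => ?_⟩
  have hcomm : ∀ x, q (Ideal.Quotient.lift I g₀ hg₀I x) = f (κ x) := by
    intro x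
    obtain ⟨x, rfl⟩ := Ideal.Quotient.mk_surjective x
    exact RingHom.congr_fun hg₀ x
  show q (Ideal.Quotient.lift I g₀ hg₀I (sec a)) = f a
  rw [hcomm, hsec]

end Groth.L01.Cohen
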