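import Groth.Prelude.Def_Found
import Groth.Agent.L01.CohenLift
import Groth.Agent.L02.Gonflement.Main
import Groth.Agent.L12.PowSer
import Mathlib.NumberTheory.Padics.RingHoms
import Mathlib.RingTheory.AdicCompletion.LocalRing
import Mathlib.RingTheory.AdicCompletion.AsTensorProduct
import Mathlib.RingTheory.AdicCompletion.Noetherian
import Mathlib.RingTheory.AdicCompletion.RingHom
import Mathlib.RingTheory.DiscreteValuationRing.TFAE
import Mathlib.RingTheory.Flat.Basic
import Groth.Agent.L01.AdicNoeth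

/-!
Existence of Cohen rings and the Cohen structure theorem (surjection from a power series ring).
-/

universe u

namespace Groth.L01.Cohen

open IsLocalRing

/-- a Noetherian local ring whose maximal ideal is generated by a regular element is a discrete
valuation ring -/
theorem exists_dvr_of_maximalIdeal_eq_span {A : Type u} [CommRing A] [IsLocalRing A] [IsNoetherianRing A]
    {π : A} (hπ : maximalIdeal A = Ideal.span {π}) (hreg : ∀ a, π * a = 0 → a = 0) :
    ∃ _ : IsDomain A, IsDiscreteValuationRing A := by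
  classical
  have hπm : π ∈ maximalIdeal A := hπ ▸ Ideal.mem_span_singleton_self π
  have hfac : ∀ x : A, x ≠ 0 → ∃ (k : ℕ) (w : A), IsUnit w ∧ x = π ^ k * w := by
    intro x hx
    have hfin : ∃ k, x ∉ maximalIdeal A ^ k := by
      by_contra! h
      have h2 : x ∈ ⨅ k, maximalIdeal A ^ k := Submodule.mem_iInf _ |>.mpr h
      rw [Ideal.iInf_pow_eq_bot_of_isLocalRing _ (maximalIdeal.isMaximal A).ne_top, Submodule.mem_bot] at h2
      exact hx h2
    obtain ⟨k, hk, hmin⟩ : ∃ k, x ∉ maximalIdeal A ^ k ∧ ∀ l < k, x ∈ maximalIdeal A ^ l :=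
      ⟨Nat.find hfin, Nat.find_spec hfin, fun l hl => not_not.mp (Nat.find_min hfin hl)⟩
    rcases k with _ | k
    · simp at hk
    have h1 := hmin k (Nat.lt_succ_self k)
    rw [hπ, Ideal.span_singleton_pow, Ideal.mem_span_singleton'] at h1
    obtain ⟨w, rfl⟩ := h1
    refine ⟨k, w, ?_, mul_comm _ _⟩
    by_contra hw
    refine hk ?_
    rw [pow_succ, mul_comm w]
    exact Ideal.mul_mem_mul (Ideal.pow_mem_pow hπm k) (show w ∈ maximalIdeal A from hw)
  have hregk : ∀ (k : ℕ) a, π ^ k * a = 0 → a = 0 := by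
    intro k
    induction k with
    | zero => intro a h; simpa using h
    | succ k ih => intro a h; rw [pow_succ, mul_assoc] at h; exact hreg a (ih _ h)
  haveI : NoZeroDivisors A := NoZeroDivisors.mk fun {x y} hxy => by
    by_contra! hcon
    obtain ⟨k, w, hw, rfl⟩ := hfac x hcon.1
    obtain ⟨l, z, hz, rfl⟩ := hfac y hcon.2
    have := hregk (k + l) (w * z) (by rw [← hxy]; ring)
    exact (hw.mul hz).ne_zero this
  haveI : IsDomain A := NoZeroDivisors.to_isDomain A
  refine ⟨inferInstance, ?_⟩
  have hnf : ¬ IsField A := fun h => by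
    rw [IsLocalRing.isField_iff_maximalIdeal_eq, hπ, Ideal.span_singleton_eq_bot] at h
    exact one_ne_zero (hreg 1 (by rw [h, zero_mul]))
  exact ((IsDiscreteValuationRing.TFAE A hnf).out 4 0).mp (⟨π, hπ⟩ : (maximalIdeal A).IsPrincipal)

/-- Cohen rings with a given residue field exist. -/
theorem exists_cohenRing (p : ℕ) [hp : Fact p.Prime] (k : Type u) [Field k] [CharP k p] :
    ∃ (Λ : Type u) (_ : CommRing Λ) (_ : IsLocalRing Λ) (_ : IsDomain Λ),
      CAlg.IsCohenRing Λ ∧ maximalIdeal Λ = Ideal.span {(p : Λ)} ∧ (∀ a : Λ, (p : Λ) * a = 0 → a = 0) ∧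
      IsAdicComplete (maximalIdeal Λ) Λ ∧ IsNoetherianRing Λ ∧
      Nonempty (IsLocalRing.ResidueField Λ ≃+* k) := by
  let e0 : ULift.{u} ℤ_[p] ≃+* ℤ_[p] := ULift.ringEquiv
  haveI : IsLocalRing (ULift.{u} ℤ_[p]) := e0.symm.isLocalRing
  haveI : IsNoetherianRing (ULift.{u} ℤ_[p]) := isNoetherianRing_of_ringEquiv _ e0.symm
  let ρ : ULift.{u} ℤ_[p] →+* k := ((ZMod.castHom (dvd_refl p) k).comp PadicInt.toZMod).comp e0.toRingHom
  have hker : ∀ x, ρ x = 0 → e0 x ∈ maximalIdeal ℤ_[p] := by
    intro x hx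
    rw [← PadicInt.ker_toZMod, RingHom.mem_ker]
    exact (ZMod.castHom (dvd_refl p) k).injective (hx.trans (map_zero _).symm)
  haveI : IsLocalHom ρ := ⟨fun x hx => by
    by_contra hnu
    have h0 : ρ x = 0 := by
      have hm : e0 x ∈ maximalIdeal ℤ_[p] := fun hu => hnu (by simpa using hu.map e0.symm)
      rw [← PadicInt.ker_toZMod, RingHom.mem_ker] at hm
      simp [ρ, hm]
    exact hx.ne_zero h0⟩
  obtain ⟨B, _, _, j, σ, hσj, hjloc, hσloc, hjflat, hmap, hkerσ, hσsurj, hnoe⟩ :=
    Groth.L02.Gonflement.exists_flat_local_extension ρ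
  haveI := hnoe inferInstance
  have hm0 : maximalIdeal (ULift.{u} ℤ_[p]) = Ideal.span {(p : ULift.{u} ℤ_[p])} := by
    ext x
    have h := PadicInt.maximalIdeal_eq_span_p (p := p)
    constructor
    · intro hx
      have hx' : e0 x ∈ maximalIdeal ℤ_[p] := fun hu => hx (by simpa using hu.map e0.symm)
      rw [h, Ideal.mem_span_singleton'] at hx'
      obtain ⟨a, ha⟩ := hx'
      exact Ideal.mem_span_singleton'.mpr ⟨e0.symm a, e0.injective (by rw [map_mul, e0.apply_symm_apply, map_natCast, ha])⟩
    · intro hx hu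
      obtain ⟨a, rfl⟩ := Ideal.mem_span_singleton'.mp hx
      have := (isUnit_of_mul_isUnit_right hu).map e0
      rw [map_natCast] at this
      exact PadicInt.prime_p.not_unit this
  have hmB : maximalIdeal B = Ideal.span {(p : B)} := by
    rw [← hmap, hm0, Ideal.map_span, Set.image_singleton, map_natCast]
  have hregB : ∀ b : B, (p : B) * b = 0 → b = 0 := by
    algebraize [j]
    intro b hb
    have h1 : IsSMulRegular (ULift.{u} ℤ_[p]) (p : ULift.{u} ℤ_[p]) :=
      isSMulRegular_iff_right_eq_zero_of_smul.mpr fun a ha => by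
        have ha' := congrArg e0 ha
        rw [smul_eq_mul, map_mul, map_natCast, map_zero, mul_eq_zero] at ha'
        exact e0.injective ((ha'.resolve_left (by exact_mod_cast hp.out.ne_zero)).trans (map_zero _).symm)
    refine (IsSMulRegular.of_flat (S := B) h1).right_eq_zero_of_smul ?_
    simpa [Algebra.smul_def] using hb
  let Λ := AdicCompletion (maximalIdeal B) B
  have hmΛ : maximalIdeal Λ = Ideal.span {(p : Λ)} := by
    rw [AdicCompletion.maximalIdeal_eq_map]
    refine (congrArg (Ideal.map _) hmB).trans ?_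
    rw [Ideal.map_span, Set.image_singleton, map_natCast]
  haveI : IsNoetherianRing Λ := by
    haveI : IsNoetherianRing (B ⧸ maximalIdeal B) :=
      isNoetherianRing_of_surjective B _ _ Ideal.Quotient.mk_surjective
    exact Groth.L01.AdicNoeth.isNoetherianRing_adicCompletion _ (IsNoetherian.noetherian (maximalIdeal B))
  have hregΛ : ∀ a : Λ, (p : Λ) * a = 0 → a = 0 := by
    intro a ha
    have h1 : IsSMulRegular B (p : B) :=
      isSMulRegular_iff_right_eq_zero_of_smul.mpr fun b hb => hregB b (by simpa using hb)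
    refine (IsSMulRegular.of_flat (S := Λ) h1).right_eq_zero_of_smul ?_
    simpa [Algebra.smul_def] using ha
  obtain ⟨hdom, hdvr⟩ := exists_dvr_of_maximalIdeal_eq_span hmΛ hregΛ
  refine ⟨Λ, inferInstance, inferInstance, hdom, ⟨hdom, hdvr, inferInstance, p, hp.out, hmΛ⟩, hmΛ, hregΛ,
    inferInstance, inferInstance, ⟨?_⟩⟩
  have hbij := AdicCompletion.residueField_map_bijective_of_fg (R := B) (maximalIdeal B).fg_of_isNoetherianRing
  exact (RingEquiv.ofBijective _ hbij).symm.trans
    ((Ideal.quotEquivOfEq hkerσ.symm).trans (RingHom.quotientKerEquivOfSurjective hσsurj))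

variable {R : Type u} [CommRing R] [IsLocalRing R] [IsAdicComplete (maximalIdeal R) R]

omit [IsAdicComplete (maximalIdeal R) R] in
theorem ker_factor_sq (n : ℕ) :
    RingHom.ker (Ideal.Quotient.factor (Ideal.pow_le_pow_right (Nat.le_succ (n + 1)) :
      maximalIdeal R ^ (n + 1 + 1) ≤ maximalIdeal R ^ (n + 1))) ^ 2 = ⊥ := by
  rw [Ideal.Quotient.factor_ker, ← Ideal.map_pow, ← pow_mul, Ideal.map_eq_bot_iff_le_ker, Ideal.mk_ker]
  exact Ideal.pow_le_pow_right (by omega)

/-- a ring map to the residue field lifts to a complete local ring, given lifting along each step -/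
theorem exists_lift_of_steps {A : Type u} [CommRing A] (f : A →+* ResidueField R)
    (step : ∀ (n : ℕ) (g : A →+* R ⧸ maximalIdeal R ^ (n + 1)),
      ∃ h : A →+* R ⧸ maximalIdeal R ^ (n + 1 + 1),
        (Ideal.Quotient.factor (Ideal.pow_le_pow_right (Nat.le_succ (n + 1)))).comp h = g) :
    ∃ F : A →+* R, (IsLocalRing.residue R).comp F = f := by
  choose h hh using step
  let g : ∀ n, A →+* R ⧸ maximalIdeal R ^ (n + 1) := fun n =>
    Nat.rec ((Ideal.quotEquivOfEq (pow_one (maximalIdeal R)).symm).toRingHom.comp f) (fun n g => h n g) n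
  have ha : StrictMono fun n : ℕ => n + 1 := strictMono_nat_of_lt_succ fun n => Nat.lt_succ_self _
  have hg : ∀ {m : ℕ}, (Ideal.Quotient.factorPow (maximalIdeal R) (ha.monotone m.le_succ)).comp (g (m + 1)) = g m :=
    fun {m} => hh m (g m)
  refine ⟨IsAdicComplete.StrictMono.liftRingHom (maximalIdeal R) ha g hg, RingHom.ext fun x => ?_⟩
  have h0 := IsAdicComplete.StrictMono.mk_liftRingHom (maximalIdeal R) ha g hg (n := 0) x
  obtain ⟨r, hr⟩ := IsLocalRing.residue_surjective (f x)
  have h2 : g 0 x = Ideal.Quotient.mk _ r := by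
    change Ideal.quotEquivOfEq (pow_one (maximalIdeal R)).symm (f x) = _
    rw [← hr]
    rfl
  rw [h2, Ideal.Quotient.eq] at h0
  rw [RingHom.comp_apply, ← hr, ← sub_eq_zero, ← map_sub, IsLocalRing.residue_eq_zero_iff]
  exact (pow_one (maximalIdeal R)).le h0

/-- a Cohen ring maps to a complete local ring compatibly with a map to its residue field -/
theorem exists_lift_cohen {p : ℕ} [Fact p.Prime] {Λ : Type u} [CommRing Λ] [IsLocalRing Λ]
    (hm : maximalIdeal Λ = Ideal.span {(p : Λ)}) (hreg : ∀ a : Λ, (p : Λ) * a = 0 → a = 0)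
    (hpR : (p : R) ∈ maximalIdeal R) (f : Λ →+* ResidueField R) :
    ∃ F : Λ →+* R, (IsLocalRing.residue R).comp F = f := by
  refine exists_lift_of_steps f fun n g => ?_
  let I : Ideal Λ := Ideal.span {(p : Λ) ^ (n + 2)}
  have hIg : I ≤ RingHom.ker g := by
    rw [Ideal.span_singleton_le_iff_mem, RingHom.mem_ker, map_pow, map_natCast,
      ← map_natCast (Ideal.Quotient.mk (maximalIdeal R ^ (n + 1))), ← map_pow, Ideal.Quotient.eq_zero_iff_mem]
    exact Ideal.pow_le_pow_right (Nat.le_succ _) (Ideal.pow_mem_pow hpR _)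
  have hne : (Ideal.span {((p : ℕ) : Λ ⧸ I)}).IsMaximal := by
    have : (maximalIdeal Λ).map (Ideal.Quotient.mk I) = Ideal.span {((p : ℕ) : Λ ⧸ I)} := by
      rw [hm, Ideal.map_span, Set.image_singleton, map_natCast]
    rw [← this]
    refine Ideal.IsMaximal.map_of_surjective_of_ker_le Ideal.Quotient.mk_surjective ?_
    rw [Ideal.mk_ker, hm, Ideal.span_singleton_le_iff_mem]
    exact Ideal.pow_mem_of_mem _ (Ideal.mem_span_singleton_self _) _ (Nat.succ_pos _)
  obtain ⟨h, hh⟩ := exists_lift_of_flat (p := p) (n := n + 2) (Nat.succ_pos _) (A := Λ ⧸ I)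
    (by rw [← map_natCast (Ideal.Quotient.mk I), ← map_pow, Ideal.Quotient.eq_zero_iff_mem]
        exact Ideal.mem_span_singleton_self _)
    (fun a ha => by
      obtain ⟨a, rfl⟩ := Ideal.Quotient.mk_surjective a
      rw [← map_natCast (Ideal.Quotient.mk I), ← map_mul, Ideal.Quotient.eq_zero_iff_mem,
        Ideal.mem_span_singleton'] at ha
      obtain ⟨c, hc⟩ := ha
      refine ⟨Ideal.Quotient.mk I c, ?_⟩
      have h0 : a = (p : Λ) ^ (n + 1) * c := (sub_eq_zero.mp (hreg _ (by rw [mul_sub, ← hc]; ring)))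
      rw [show n + 2 - 1 = n + 1 from rfl, h0, map_mul, map_pow, map_natCast])
    hne (C := R ⧸ maximalIdeal R ^ (n + 1 + 1))
    (by rw [← map_natCast (Ideal.Quotient.mk (maximalIdeal R ^ (n + 1 + 1))), ← map_pow,
          Ideal.Quotient.eq_zero_iff_mem]
        exact Ideal.pow_mem_pow hpR _)
    _ (Ideal.Quotient.factor_surjective _) (ker_factor_sq n) (Ideal.Quotient.lift I g hIg)
  refine ⟨h.comp (Ideal.Quotient.mk I), ?_⟩
  rw [← RingHom.comp_assoc, hh]
  exact Ideal.Quotient.lift_comp_mk I g hIg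

/-- complete local rings with residue field of characteristic zero contain a coefficient field -/
theorem exists_coefficientField_charZero [CharZero (ResidueField R)] :
    ∃ F : ResidueField R →+* R, (IsLocalRing.residue R).comp F = RingHom.id _ :=
  exists_lift_of_steps _ fun n g =>
    exists_lift_charZero _ (Ideal.Quotient.factor_surjective _) (ker_factor_sq n) g

/-- complete local rings of prime characteristic contain a coefficient field -/
theorem exists_coefficientField_charP {p : ℕ} [Fact p.Prime] [CharP (ResidueField R) p] (hpR : (p : R) = 0) :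
    ∃ F : ResidueField R →+* R, (IsLocalRing.residue R).comp F = RingHom.id _ :=
  exists_lift_of_steps _ fun n g =>
    exists_lift_charP (p := p) (by rw [← map_natCast (Ideal.Quotient.mk (maximalIdeal R ^ (n + 1 + 1))), hpR, map_zero])
      _ (Ideal.Quotient.factor_surjective _) (ker_factor_sq n) g

/-- a coefficient ring together with generators of the maximal ideal gives a surjection from power series -/
theorem exists_surjective_powerSeries {A : Type u} [CommRing A] (F : A →+* R)
    (hF : Function.Surjective ((IsLocalRing.residue R).comp F)) {n : ℕ} (x : Fin n → R)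
    (hx : Ideal.span (Set.range x) = maximalIdeal R) :
    ∃ φ : MvPowerSeries (Fin n) A →+* R, φ.comp MvPowerSeries.C = F ∧
      (∀ i, φ (MvPowerSeries.X i) = x i) ∧ Function.Surjective φ := by
  letI := F.toAlgebra
  obtain ⟨φ, hφ⟩ := Groth.L12.exists_evalPS (R := A) (maximalIdeal R) x
    (fun i => hx.le (Ideal.subset_span ⟨i, rfl⟩))
  refine ⟨φ.toRingHom, RingHom.ext fun a => φ.commutes a, hφ, ?_⟩
  let I : Ideal (MvPowerSeries (Fin n) A) := Ideal.span (Set.range MvPowerSeries.X)
  have hI : I.map φ.toRingHom = maximalIdeal R := by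
    rw [Ideal.map_span, ← Set.range_comp, ← hx]
    congr 1
    exact congrArg Set.range (funext hφ)
  haveI : IsHausdorff (I.map φ.toRingHom) R := hI ▸ (inferInstance : IsHausdorff (maximalIdeal R) R)
  refine surjective_of_mk_map_comp_surjective (I := I) φ.toRingHom fun y => ?_
  obtain ⟨y, rfl⟩ := Ideal.Quotient.mk_surjective y
  obtain ⟨a, ha⟩ := hF (IsLocalRing.residue R y)
  refine ⟨MvPowerSeries.C a, ?_⟩
  change Ideal.Quotient.mk _ (φ (algebraMap A _ a)) = _
  rw [φ.commutes, Ideal.Quotient.eq, hI]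
  exact (IsLocalRing.residue_eq_zero_iff _).mp (by rw [map_sub, ← ha]; exact sub_self _)

end Groth.L01.Cohen
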