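import Groth.Agent.L07.AvramovDiagram
import Groth.Agent.L04.Depth
import Groth.Agent.L21.GorensteinQuotient
import Groth.Agent.L20.LocalCriterion
import Groth.Agent.S0341
import Groth.Agent.S0342
import Mathlib.RingTheory.KrullDimension.Regular

/-!
Cohen factorisations of local homomorphisms of complete local rings, and Gorenstein factorisations
over Artinian bases.
-/

set_option linter.style.haveILetI false
set_option maxSynthPendingDepth 3

universe u

namespace Groth.L01.CohenSquare

open IsLocalRing RingTheory.Sequence Groth.L07 Groth.L07.RegIdeal Groth.L07.AvramovDiagram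

variable {A B : Type u} [CommRing A] [CommRing B] [IsNoetherianRing A] [IsNoetherianRing B] [IsLocalRing A]
  [IsLocalRing B] [IsAdicComplete (maximalIdeal A) A] [IsAdicComplete (maximalIdeal B) B]
  [Algebra A B] [IsLocalHom (algebraMap A B)]

/-- The diagram built from coefficient rings. -/
theorem square_of_coeff {ΛA ΛB : Type u} [CommRing ΛA] [CommRing ΛB] [IsLocalRing ΛA] [IsLocalRing ΛB]
    [IsNoetherianRing ΛA] [IsNoetherianRing ΛB] [IsAdicComplete (maximalIdeal ΛB) ΛB] (c : List ℕ)
    (hA : maximalIdeal ΛA = Ideal.ofList (c.map (Nat.cast : ℕ → ΛA)))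
    (hB : maximalIdeal ΛB = Ideal.ofList (c.map (Nat.cast : ℕ → ΛB)))
    (hdA : ∀ n, ((c.length + n : ℕ) : WithBot ℕ∞) ≤ ringKrullDim (MvPowerSeries (Fin n) ΛA))
    (hdB : ∀ n, ((c.length + n : ℕ) : WithBot ℕ∞) ≤ ringKrullDim (MvPowerSeries (Fin n) ΛB))
    (hL : ∀ N : ℕ, AvramovLift.Lifts ΛA (MvPowerSeries (Fin N) ΛB))
    (FA : ΛA →+* A) (hFA : Function.Surjective ((residue A).comp FA))
    (FB : ΛB →+* B) (hFB : Function.Surjective ((residue B).comp FB)) :
    ∃ (n m : ℕ) (ρ : MvPowerSeries (Fin n) ΛA →+* A) (σ : MvPowerSeries (Fin m) ΛB →+* B)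
      (τ : MvPowerSeries (Fin n) ΛA →+* MvPowerSeries (Fin m) ΛB),
      Function.Surjective ρ ∧ Function.Surjective σ ∧ σ.comp τ = (algebraMap A B).comp ρ ∧
        IsLocalHom τ ∧ τ.Flat ∧
        IsRegularLocalRing (MvPowerSeries (Fin m) ΛB ⧸ (maximalIdeal (MvPowerSeries (Fin n) ΛA)).map τ) := by
  classical
  obtain ⟨n, x, hx⟩ := Submodule.fg_iff_exists_fin_generating_family.mp
    (Ideal.fg_of_isNoetherianRing (maximalIdeal A))
  obtain ⟨m, w, hw⟩ := Submodule.fg_iff_exists_fin_generating_family.mp
    (Ideal.fg_of_isNoetherianRing (maximalIdeal B))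
  obtain ⟨p, hpC, hpX, hp⟩ := Groth.L01.Cohen.exists_surjective_powerSeries FA hFA x hx
  have hxB : ∀ i, algebraMap A B (x i) ∈ maximalIdeal B := fun i =>
    IsLocalRing.map_maximalIdeal_le (algebraMap A B) (Ideal.mem_map_of_mem _ (hx.le (Ideal.subset_span ⟨i, rfl⟩)))
  let v : Fin (n + m) → B := Fin.append (fun i => algebraMap A B (x i)) w
  have hv : Ideal.span (Set.range v) = maximalIdeal B := by
    rw [span_range_append]
    refine le_antisymm (sup_le (Ideal.span_le.mpr (by rintro _ ⟨i, rfl⟩; exact hxB i)) hw.le) ?_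
    exact hw.ge.trans le_sup_right
  obtain ⟨q, -, hqX, hq⟩ := Groth.L01.Cohen.exists_surjective_powerSeries FB hFB v hv
  let S := MvPowerSeries (Fin (n + m)) ΛB
  let R := MvPowerSeries (Fin n) ΛA
  haveI : IsAdicComplete (maximalIdeal S) S := Groth.L12.isAdicComplete_mvPowerSeries
  obtain ⟨L, hLq⟩ := AvramovLift.exists_lift (hL (n + m)) q hq ((algebraMap A B).comp FA)
  letI : Algebra ΛA S := L.toAlgebra
  let y : Fin n → S := fun i => MvPowerSeries.X (Fin.castAdd m i)
  obtain ⟨φ, hφ⟩ := Groth.L12.exists_evalPS (R := ΛA) (maximalIdeal S) y fun i => Groth.L12.X_mem_maximalIdeal _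
  letI : Algebra R S := φ.toRingHom.toAlgebra
  have hφC : ∀ a, φ (MvPowerSeries.C a) = L a := fun a => φ.commutes a
  -- parameters
  let lR : List R := c.map (Nat.cast : ℕ → R) ++ List.ofFn (MvPowerSeries.X : Fin n → R)
  let l₁ : List S := c.map (Nat.cast : ℕ → S) ++ List.ofFn y
  let l₂ : List S := List.ofFn fun j : Fin m => MvPowerSeries.X (Fin.natAdd n j)
  have hcast : ∀ {P Q : Type u} [CommRing P] [CommRing Q] (f : P →+* Q),
      (c.map (Nat.cast : ℕ → P)).map f = c.map (Nat.cast : ℕ → Q) := fun f => by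
    rw [List.map_map]
    exact List.map_congr_left fun a _ => map_natCast f a
  have hgR : Ideal.ofList lR = maximalIdeal R := by
    rw [maximalIdeal_ps, hA, Ideal.map_ofList, hcast, Ideal.ofList_append, RegIdeal.ofList_ofFn]
  have hgS : Ideal.ofList (l₁ ++ l₂) = maximalIdeal S := by
    rw [maximalIdeal_ps, hB, Ideal.map_ofList, hcast, Ideal.ofList_append, Ideal.ofList_append, sup_assoc,
      RegIdeal.ofList_ofFn, RegIdeal.ofList_ofFn, ← span_range_append]
    congr 3
    funext i
    refine Fin.addCases (fun i => ?_) (fun i => ?_) i <;> simp [y]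
  obtain ⟨hSreg, hl₁, hfib⟩ := params l₁ l₂ hgS (by
    refine le_trans (le_of_eq ?_) (hdB (n + m))
    simp [l₁, l₂, add_assoc])
  obtain ⟨hRreg, -, -⟩ := params ([] : List R) lR (by rw [List.nil_append, hgR]) (by
    refine le_trans (le_of_eq ?_) (hdA n)
    simp [lR])
  haveI := hSreg; haveI := hRreg
  have hmapl : lR.map (algebraMap R S) = l₁ := by
    show (c.map (Nat.cast : ℕ → R) ++ List.ofFn _).map φ.toRingHom = _
    rw [List.map_append, hcast, List.map_ofFn]
    simp only [l₁, y]
    congr 2
    exact funext hφ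
  have hmR : (maximalIdeal R).map (algebraMap R S) = Ideal.ofList l₁ := by
    rw [← hgR, Ideal.map_ofList, hmapl]
  haveI : IsLocalHom (algebraMap R S) := by
    refine ((IsLocalRing.local_hom_TFAE (algebraMap R S)).out 0 2).mpr ?_
    rw [hmR, ← hgS]
    rw [Ideal.ofList_append l₁]
    exact le_sup_left
  haveI : Module.Flat R S := flat_of_koszul lR hgR (hmapl ▸ hl₁.1)
  have hfib' : IsRegularLocalRing (S ⧸ (maximalIdeal R).map (algebraMap R S)) :=
    IsRegularLocalRing.of_ringEquiv (Ideal.quotEquivOfEq hmR).symm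
  have hcomm : q.comp φ.toRingHom = (algebraMap A B).comp p := by
    refine ps_ext _ _ (fun a => ?_) (fun i => ?_) fun i => ?_
    · show q (φ (MvPowerSeries.C a)) = algebraMap A B (p (MvPowerSeries.C a))
      rw [hφC, ← RingHom.comp_apply q L, hLq, ← hpC]
      rfl
    · show q (φ (MvPowerSeries.X i)) = algebraMap A B (p (MvPowerSeries.X i))
      rw [hφ, hpX, hqX]
      exact Fin.append_left _ _ i
    · show q (φ (MvPowerSeries.X i)) ∈ _
      rw [hφ, hqX]
      exact hv.le (Ideal.subset_span ⟨_, rfl⟩)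
  exact ⟨n, n + m, p, q, φ.toRingHom, hp, hq, hcomm, ‹_›, ‹Module.Flat R S›, hfib'⟩

/-- A local homomorphism of complete local rings lifts to coefficient power series rings. -/
theorem square :
    ∃ (Λ Λ' : Type u) (_ : CommRing Λ) (_ : CommRing Λ') (_ : IsLocalRing Λ) (_ : IsNoetherianRing Λ)
      (_ : IsLocalRing Λ') (_ : IsNoetherianRing Λ') (n m : ℕ)
      (ρ : MvPowerSeries (Fin n) Λ →+* A) (σ : MvPowerSeries (Fin m) Λ' →+* B)
      (τ : MvPowerSeries (Fin n) Λ →+* MvPowerSeries (Fin m) Λ'),
      ((CharZero (ResidueField A) ∧ IsField Λ ∧ IsField Λ') ∨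
        (¬ CharZero (ResidueField A) ∧ CAlg.IsCohenRing Λ ∧ CAlg.IsCohenRing Λ')) ∧
        Function.Surjective ρ ∧ Function.Surjective σ ∧ σ.comp τ = (algebraMap A B).comp ρ ∧
        IsLocalHom τ ∧ τ.Flat ∧
        IsRegularLocalRing (MvPowerSeries (Fin m) Λ' ⧸ (maximalIdeal (MvPowerSeries (Fin n) Λ)).map τ) := by
  obtain ⟨p, hp⟩ := CharP.exists (ResidueField A)
  let ι : ResidueField A →+* ResidueField B := ResidueField.map (algebraMap A B)
  rcases CharP.char_is_prime_or_zero (ResidueField A) p with hpp | rfl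
  · haveI := Fact.mk hpp
    haveI : CharP (ResidueField B) p := charP_of_injective_ringHom ι.injective p
    have hcohen : ∀ (T : Type u) [CommRing T] [IsLocalRing T] [IsAdicComplete (maximalIdeal T) T],
        CharP (ResidueField T) p → ∃ (Λ : Type u) (_ : CommRing Λ) (_ : IsLocalRing Λ) (_ : IsDomain Λ)
          (_ : IsNoetherianRing Λ) (_ : IsAdicComplete (maximalIdeal Λ) Λ) (F : Λ →+* T),
          CAlg.IsCohenRing Λ ∧
          maximalIdeal Λ = Ideal.span {(p : Λ)} ∧ (∀ a : Λ, (p : Λ) * a = 0 → a = 0) ∧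
          Function.Surjective ((residue T).comp F) := by
      intro T _ _ _ hT
      obtain ⟨Λ, _, _, _, hcr, hm, hreg, hc, hn, ⟨e⟩⟩ := Groth.L01.Cohen.exists_cohenRing p (ResidueField T)
      have hpT : (p : T) ∈ maximalIdeal T := by
        rw [← residue_eq_zero_iff, map_natCast, CharP.cast_eq_zero]
      obtain ⟨F, hF⟩ := Groth.L01.Cohen.exists_lift_cohen hm hreg hpT (e.toRingHom.comp (residue Λ))
      exact ⟨Λ, inferInstance, inferInstance, inferInstance, hn, hc, F, hcr, hm, hreg,
        by rw [hF]; exact e.surjective.comp residue_surjective⟩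
    obtain ⟨ΛA, _, _, _, _, _, FA, hcA, hmA, hregA, hFA⟩ := hcohen A inferInstance
    obtain ⟨ΛB, _, _, _, _, _, FB, hcB, hmB, hregB, hFB⟩ := hcohen B inferInstance
    have hdim : ∀ (Λ : Type u) [CommRing Λ] [IsLocalRing Λ] [IsDomain Λ] [IsNoetherianRing Λ],
        maximalIdeal Λ = Ideal.span {(p : Λ)} → (∀ a : Λ, (p : Λ) * a = 0 → a = 0) →
        ∀ n, (([p].length + n : ℕ) : WithBot ℕ∞) ≤ ringKrullDim (MvPowerSeries (Fin n) Λ) := by
      intro Λ _ _ _ _ hm hreg n
      have h0 : (p : Λ) ≠ 0 := fun h => one_ne_zero (hreg 1 (by rw [h, zero_mul]))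
      let c : MvPowerSeries (Fin n) Λ := MvPowerSeries.C (p : Λ)
      have hc : c ≠ 0 := fun h => h0 (by simpa [c] using congrArg MvPowerSeries.constantCoeff h)
      rw [List.length_singleton, Nat.add_comm, Nat.cast_add, Nat.cast_one]
      refine le_trans (add_le_add ?_ le_rfl)
        (ringKrullDim_quotient_succ_le_of_nonZeroDivisor (mem_nonZeroDivisors_of_ne_zero hc))
      refine (Groth.L01.PowSerReg.le_ringKrullDim (ResidueField Λ) n).trans
        (ringKrullDim_le_of_surjective (Ideal.Quotient.lift (Ideal.span {c})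
          (MvPowerSeries.map (residue Λ)) ?_) ?_)
      · intro a ha
        obtain ⟨b, rfl⟩ := Ideal.mem_span_singleton'.mp ha
        have : residue Λ (p : Λ) = 0 := (residue_eq_zero_iff _).2 (hm ▸ Ideal.mem_span_singleton_self _)
        show MvPowerSeries.map (residue Λ) (b * MvPowerSeries.C (p : Λ)) = 0
        rw [map_mul, MvPowerSeries.map_C, this, map_zero, mul_zero]
      · intro f
        choose g hg using fun d => residue_surjective (MvPowerSeries.coeff d f)
        refine ⟨Ideal.Quotient.mk _ (fun d => g d), ?_⟩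
        rw [Ideal.Quotient.lift_mk]
        ext d
        rw [MvPowerSeries.coeff_map]
        exact hg d
    have hnz : ¬ CharZero (ResidueField A) := fun h =>
      Nat.Prime.ne_zero hpp ((CharP.eq (ResidueField A) (CharP.ofCharZero _) inferInstance).symm)
    have hpS : ∀ N : ℕ, ((p : MvPowerSeries (Fin N) ΛB)) ∈ maximalIdeal (MvPowerSeries (Fin N) ΛB) := fun N => by
      rw [← map_natCast (MvPowerSeries.C : ΛB →+* MvPowerSeries (Fin N) ΛB)]
      exact Groth.L12.C_mem_maximalIdeal (hmB ▸ Ideal.mem_span_singleton_self _)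
    obtain ⟨n, m, ρ, σ, τ, h⟩ := square_of_coeff (A := A) (B := B) [p] (by simpa using hmA) (by simpa using hmB)
      (hdim ΛA hmA hregA) (hdim ΛB hmB hregB) (fun N => AvramovLift.lifts_cohen hmA hregA (hpS N)) FA hFA FB hFB
    exact ⟨ΛA, ΛB, inferInstance, inferInstance, inferInstance, inferInstance, inferInstance, inferInstance,
        n, m, ρ, σ, τ, Or.inr ⟨hnz, hcA, hcB⟩, h⟩
  · haveI := CharP.charP_to_charZero (ResidueField A)
    haveI : CharP (ResidueField B) 0 := charP_of_injective_ringHom ι.injective 0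
    haveI := CharP.charP_to_charZero (ResidueField B)
    obtain ⟨FA, hFA⟩ := Groth.L01.Cohen.exists_coefficientField_charZero (R := A)
    obtain ⟨FB, hFB⟩ := Groth.L01.Cohen.exists_coefficientField_charZero (R := B)
    haveI : IsAdicComplete (maximalIdeal (ResidueField B)) (ResidueField B) := by
      rw [maximalIdeal_eq_bot]; infer_instance
    have hdim : ∀ (K : Type u) [Field K] (n : ℕ),
        ((([] : List ℕ).length + n : ℕ) : WithBot ℕ∞) ≤ ringKrullDim (MvPowerSeries (Fin n) K) := fun K _ n => by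
      simpa using Groth.L01.PowSerReg.le_ringKrullDim K n
    obtain ⟨n, m, ρ, σ, τ, h⟩ := square_of_coeff (A := A) (B := B) [] (by simp [maximalIdeal_eq_bot, Ideal.ofList_nil])
      (by simp [maximalIdeal_eq_bot, Ideal.ofList_nil]) (hdim (ResidueField A)) (hdim (ResidueField B))
      (fun N => AvramovLift.lifts_charZero _) FA (by rw [hFA]; exact Function.surjective_id) FB
      (by rw [hFB]; exact Function.surjective_id)
    exact ⟨ResidueField A, ResidueField B, inferInstance, inferInstance, inferInstance, inferInstance, inferInstance,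
      inferInstance, n, m, ρ, σ, τ, Or.inl ⟨inferInstance, Field.toIsField _, Field.toIsField _⟩, h⟩

end Groth.L01.CohenSquare

namespace Groth.L01.GorFactor

open IsLocalRing TensorProduct

variable {R : Type u} [CommRing R] [IsLocalRing R] [IsNoetherianRing R]

/-- Slicing a flat algebra by an element regular on the closed fibre. -/
theorem flat_quotient_span {L : Type u} [CommRing L] [IsLocalRing L] [IsNoetherianRing L] [Algebra R L]
    [IsLocalHom (algebraMap R L)] [Module.Flat R L] {f : L} (hf : f ∈ maximalIdeal L)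
    (hreg : IsSMulRegular (L ⧸ (maximalIdeal R).map (algebraMap R L))
      (Ideal.Quotient.mk ((maximalIdeal R).map (algebraMap R L)) f)) :
    Module.Flat R (L ⧸ Ideal.span {f}) := by
  haveI : IsLocalRing (L ⧸ Ideal.span {f}) := Groth.L01.isLocalRing_quotient
    (ne_top_of_le_ne_top (maximalIdeal.isMaximal L).ne_top ((Ideal.span_singleton_le_iff_mem _).mpr hf))
  haveI : IsLocalHom (algebraMap R (L ⧸ Ideal.span {f})) := ⟨fun x hx => by
    haveI : IsLocalHom (Ideal.Quotient.mk (Ideal.span {f})) := IsLocalHom.of_surjective _ Ideal.Quotient.mk_surjective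
    exact (isUnit_map_iff (algebraMap R L) x).mp ((isUnit_map_iff (Ideal.Quotient.mk (Ideal.span {f})) _).mp hx)⟩
  let m := maximalIdeal R
  let π : L →ₗ[R] L ⧸ Ideal.span {f} := (Ideal.Quotient.mkₐ R (Ideal.span {f})).toLinearMap
  let μf : L →ₗ[R] L := LinearMap.mulLeft R f
  refine Groth.L20.flat_of_lTensor_maximalIdeal_injective (L ⧸ Ideal.span {f}) ?_
  rw [injective_iff_map_eq_zero]
  intro z hz
  obtain ⟨w, rfl⟩ := LinearMap.rTensor_surjective (m : Submodule R R) (g := π) Ideal.Quotient.mk_surjective z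
  let e := (TensorProduct.rid R L).toLinearMap ∘ₗ (m.subtype.lTensor L)
  have hcommw : ∀ v, TensorProduct.rid R (L ⧸ Ideal.span {f}) ((m.subtype.lTensor (L ⧸ Ideal.span {f})) (π.rTensor m v)) = π (e v) := fun v => by
    induction v using TensorProduct.induction_on with
    | zero => simp
    | tmul a b => simp [e, π, Submodule.Quotient.mk_smul]
    | add a b ha hb => simp only [map_add, ha, hb]
  have h0 : π (e w) = 0 := by rw [← hcommw, hz, map_zero]
  have hew : e w ∈ (maximalIdeal R).map (algebraMap R L) := by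
    clear hz h0
    induction w using TensorProduct.induction_on with
    | zero => simp
    | tmul a b =>
      simp only [e, LinearMap.coe_comp, Function.comp_apply, LinearMap.lTensor_tmul, LinearEquiv.coe_coe,
        TensorProduct.rid_tmul, Algebra.smul_def]
      exact Ideal.mul_mem_right _ _ (Ideal.mem_map_of_mem _ b.2)
    | add a b ha hb => rw [map_add]; exact add_mem ha hb
  obtain ⟨y, hy⟩ := Ideal.mem_span_singleton'.mp (Ideal.Quotient.eq_zero_iff_mem.mp h0)
  have hym : y ∈ (maximalIdeal R).map (algebraMap R L) := by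
    rw [← Ideal.Quotient.eq_zero_iff_mem]
    refine hreg ?_
    simp only [smul_eq_mul, mul_zero]
    rw [← map_mul, Ideal.Quotient.eq_zero_iff_mem, mul_comm, hy]
    exact hew
  obtain ⟨v, hv⟩ : ∃ v, e v = y := by
    clear hy
    induction hym using Submodule.span_induction with
    | mem y hy =>
      obtain ⟨a, ha, rfl⟩ := hy
      exact ⟨1 ⊗ₜ ⟨a, ha⟩, by simp [e, Algebra.smul_def]⟩
    | zero => exact ⟨0, map_zero _⟩
    | add a b _ _ ha hb =>
      obtain ⟨va, rfl⟩ := ha; obtain ⟨vb, rfl⟩ := hb
      exact ⟨va + vb, map_add _ _ _⟩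
    | smul c a _ ha =>
      obtain ⟨va, rfl⟩ := ha
      have hall : ∀ v, e ((LinearMap.mulLeft R c).rTensor m v) = c • e v := fun v => by
        induction v using TensorProduct.induction_on with
        | zero => simp
        | tmul a b => simp [e, mul_smul_comm]
        | add a b ha hb => simp only [map_add, ha, hb, smul_add]
      exact ⟨_, hall va⟩
  have hef : e (μf.rTensor m v) = f * e v := by
    clear hv
    induction v using TensorProduct.induction_on with
    | zero => simp
    | tmul a b => simp [e, μf, mul_smul_comm]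
    | add a b ha hb => simp only [map_add, ha, hb, mul_add]
  have hinj : Function.Injective e := (TensorProduct.rid R L).injective.comp
    (Module.Flat.lTensor_preserves_injective_linearMap m.subtype Subtype.val_injective)
  have hwv : w = μf.rTensor m v := hinj (by rw [hef, hv, mul_comm, hy])
  rw [hwv, ← LinearMap.comp_apply, ← LinearMap.rTensor_comp,
    show π ∘ₗ μf = 0 from LinearMap.ext fun x => Ideal.Quotient.eq_zero_iff_mem.mpr
      (Ideal.mul_mem_right _ _ (Ideal.mem_span_singleton_self f)), LinearMap.rTensor_zero]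
  rfl

/-- Cutting a flat algebra with Gorenstein closed fibre down to an Artinian one, keeping a surjection
to a given Artinian ring. -/
theorem exists_artinian [IsArtinianRing R] {S : Type u} [CommRing S] [IsArtinianRing S] [IsLocalRing S]
    [Algebra R S] : ∀ (d : ℕ) (L : Type u) [CommRing L] [IsLocalRing L] [IsNoetherianRing L] [Algebra R L]
    [IsLocalHom (algebraMap R L)] [Module.Flat R L],
    ringKrullDim (L ⧸ (maximalIdeal R).map (algebraMap R L)) ≤ d →
    LocCoh.IsGorensteinLocalRing (L ⧸ (maximalIdeal R).map (algebraMap R L)) →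
    ∀ g : L →ₐ[R] S, Function.Surjective g →
    ∃ (R' : Type u) (_ : CommRing R') (_ : Algebra R R'), IsArtinianRing R' ∧ IsLocalRing R' ∧
      Module.Flat R R' ∧ IsLocalHom (algebraMap R R') ∧
      LocCoh.IsGorensteinLocalRing (R' ⧸ (maximalIdeal R).map (algebraMap R R')) ∧
      ∃ g : R' →ₐ[R] S, Function.Surjective g := by
  intro d
  induction d using Nat.strong_induction_on with
  | _ d ih =>
  intro L _ _ _ _ _ _ hd hG g hg
  let F := L ⧸ (maximalIdeal R).map (algebraMap R L)
  haveI := hG
  haveI : IsLocalRing F := hG.toIsLocalRing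
  by_cases h0 : ringKrullDim F ≤ 0
  · refine ⟨L, inferInstance, inferInstance, ?_, inferInstance, inferInstance, inferInstance, hG, g, hg⟩
    haveI : Ring.KrullDimLE 0 F := Ring.krullDimLE_iff.mpr h0
    haveI : IsArtinianRing F := isArtinianRing_iff_krullDimLE_zero.mpr inferInstance
    obtain ⟨a, ha⟩ := (isArtinianRing_iff_isNilpotent_maximalIdeal R).mp ‹_›
    obtain ⟨b, hb⟩ := (isArtinianRing_iff_isNilpotent_maximalIdeal F).mp ‹_›
    refine (isArtinianRing_iff_isNilpotent_maximalIdeal L).mpr ⟨b * a, ?_⟩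
    have hle : maximalIdeal L ^ b ≤ (maximalIdeal R).map (algebraMap R L) := by
      rw [← Ideal.mk_ker (I := (maximalIdeal R).map (algebraMap R L)), ← Ideal.map_eq_bot_iff_le_ker,
        Ideal.map_pow, eq_bot_iff]
      refine le_trans (pow_le_pow_left' ?_ b) (le_of_eq hb)
      refine le_maximalIdeal fun h => ?_
      have := congrArg (Ideal.comap (Ideal.Quotient.mk _)) h
      rw [Ideal.comap_map_mk (map_maximalIdeal_le (algebraMap R L)), Ideal.comap_top] at this
      exact (maximalIdeal.isMaximal L).ne_top this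
    rw [pow_mul, Ideal.zero_eq_bot, eq_bot_iff]
    refine (pow_le_pow_left' hle a).trans ?_
    rw [← Ideal.map_pow, ha, Ideal.zero_eq_bot, Ideal.map_bot]
  · have hCM := Groth.Agent.S0341.result F
    have hdep : ((1 : ℕ) : ℕ∞) ≤ LocCoh.idealDepth (maximalIdeal F) F := by
      have h1 : Module.supportDim F F = ((LocCoh.depth F F : ℕ∞) : WithBot ℕ∞) := hCM.supportDim_eq_depth
      rw [Module.supportDim_self_eq_ringKrullDim] at h1
      rw [h1] at h0
      by_contra hlt
      refine h0 ?_
      rw [Nat.cast_one, not_le, ENat.lt_one_iff_eq_zero] at hlt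
      exact le_of_eq (by rw [LocCoh.depth, hlt]; rfl)
    obtain ⟨rs, hlen, hrs, hrm⟩ := Groth.L04.exists_of_le_idealDepth (by
      rw [smul_eq_mul, Ideal.mul_top]; exact (maximalIdeal.isMaximal F).ne_top) hdep
    obtain ⟨fb, rfl⟩ : ∃ x, rs = [x] := List.length_eq_one_iff.mp hlen
    obtain ⟨f, rfl⟩ := Ideal.Quotient.mk_surjective fb
    have hreg := (RingTheory.Sequence.isWeaklyRegular_singleton_iff F _).mp hrs
    have hfb := hrm _ (List.mem_singleton_self _)
    have hfL : f ∈ maximalIdeal L := by
      rw [mem_maximalIdeal] at hfb ⊢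
      exact fun hu => hfb (hu.map _)
    obtain ⟨N, hN⟩ := (isArtinianRing_iff_isNilpotent_maximalIdeal S).mp ‹_›
    have hgf : g f ∈ maximalIdeal S := by
      rw [mem_maximalIdeal]
      intro hu
      haveI : IsLocalHom g.toRingHom := IsLocalHom.of_surjective _ hg
      exact (mem_maximalIdeal f).mp hfL (IsLocalHom.map_nonunit (f := g.toRingHom) f hu)
    let f' := f ^ (N + 1)
    have hf' : f' ∈ maximalIdeal L := Ideal.pow_mem_of_mem _ hfL _ N.succ_pos
    have hregF : IsSMulRegular F (Ideal.Quotient.mk ((maximalIdeal R).map (algebraMap R L)) f') := by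
      rw [map_pow]; exact hreg.pow _
    have hgf' : g f' = 0 := by
      have h := Ideal.pow_le_pow_right N.le_succ (Ideal.pow_mem_pow hgf (N + 1))
      rw [hN] at h
      rw [map_pow]
      exact (Submodule.mem_bot _).mp h
    haveI : IsLocalRing (L ⧸ Ideal.span {f'}) := Groth.L01.isLocalRing_quotient
      (ne_top_of_le_ne_top (maximalIdeal.isMaximal L).ne_top ((Ideal.span_singleton_le_iff_mem _).mpr hf'))
    haveI : IsLocalHom (algebraMap R (L ⧸ Ideal.span {f'})) := ⟨fun x hx => by
      haveI : IsLocalHom (Ideal.Quotient.mk (Ideal.span {f'})) := IsLocalHom.of_surjective _ Ideal.Quotient.mk_surjective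
      exact (isUnit_map_iff (algebraMap R L) x).mp ((isUnit_map_iff (Ideal.Quotient.mk (Ideal.span {f'})) _).mp hx)⟩
    haveI := flat_quotient_span hf' hregF
    let f'' := Ideal.Quotient.mk ((maximalIdeal R).map (algebraMap R L)) f'
    have hf'' : f'' ∈ maximalIdeal F := by
      rw [show f'' = Ideal.Quotient.mk ((maximalIdeal R).map (algebraMap R L)) f ^ (N + 1) from map_pow _ _ _]
      exact Ideal.pow_mem_of_mem _ hfb _ N.succ_pos
    have hnzd : f'' ∈ nonZeroDivisors F :=
      mem_nonZeroDivisors_iff_right.mpr fun x hx => hregF (by simpa [smul_eq_mul, mul_comm] using hx)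
    let εF : (F ⧸ Ideal.span {f''}) ≃+*
        ((L ⧸ Ideal.span {f'}) ⧸ (maximalIdeal R).map (algebraMap R (L ⧸ Ideal.span {f'}))) :=
      (Ideal.quotEquivOfEq (by rw [Ideal.map_span, Set.image_singleton])).trans
        ((DoubleQuot.quotQuotEquivComm ((maximalIdeal R).map (algebraMap R L)) (Ideal.span {f'})).trans
          (Ideal.quotEquivOfEq (by rw [Ideal.map_map]; rfl)))
    haveI hG' : LocCoh.IsGorensteinLocalRing (F ⧸ Ideal.span {f''}) :=
      (Groth.L21.GorensteinQuotient.isGorensteinLocalRing_quotient_iff F f'' hf'' hnzd).mp hG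
    have hdim := ringKrullDim_quotient_succ_le_of_nonZeroDivisor hnzd
    rw [ringKrullDim_eq_of_ringEquiv εF] at hdim
    obtain ⟨m, hm⟩ := Groth.L01.exists_dim_eq_nat
      (R := (L ⧸ Ideal.span {f'}) ⧸ (maximalIdeal R).map (algebraMap R (L ⧸ Ideal.span {f'})))
    have hlt := hdim.trans hd
    rw [hm] at hlt
    have hmd : m < d := by
      have : ((m + 1 : ℕ) : WithBot ℕ∞) ≤ (d : ℕ) := by exact_mod_cast hlt
      exact_mod_cast this
    exact ih m hmd (L ⧸ Ideal.span {f'}) hm.le
      (Groth.L21.GorensteinAscend.isGorensteinLocalRing_of_ringEquiv εF hG')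
      (Ideal.Quotient.liftₐ (Ideal.span {f'}) g (by
        intro a ha
        obtain ⟨c, rfl⟩ := Ideal.mem_span_singleton'.mp ha
        rw [map_mul, hgf', mul_zero]))
      (Ideal.Quotient.lift_surjective_of_surjective _ _ hg)

end Groth.L01.GorFactor
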