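import Mathlib.Algebra.Module.FinitePresentation
import Mathlib.LinearAlgebra.Quotient.Basic
import Mathlib.RingTheory.Finiteness.Finsupp

/-!
Coherent modules: kernels and cokernels.
-/

universe u

namespace Groth.L01

variable {R : Type*} [CommRing R] {N M : Type*} [AddCommGroup N] [Module R N] [AddCommGroup M] [Module R M]

theorem finitePresentation_submodule_of_injective (f : N →ₗ[R] M) (hf : Function.Injective f)
    (hM : ∀ P : Submodule R M, P.FG → Module.FinitePresentation R P) (P : Submodule R N)
    (hP : P.FG) : Module.FinitePresentation R P := by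
  have := hM _ (hP.map f)
  exact Module.FinitePresentation.of_equiv (Submodule.equivMapOfInjective f hf P).symm

theorem fg_ker_of_coherent [Module.Finite R N]
    (hM : ∀ P : Submodule R M, P.FG → Module.FinitePresentation R P) (φ : N →ₗ[R] M) :
    (LinearMap.ker φ).FG := by
  have := hM _ (Module.Finite.fg_top.map φ : ((⊤ : Submodule R N).map φ).FG)
  rw [Submodule.map_top] at this
  rw [← LinearMap.ker_rangeRestrict φ]
  exact Module.FinitePresentation.fg_ker _ φ.surjective_rangeRestrict

theorem finitePresentation_submodule_quotient [Module.Finite R N]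
    (hM : ∀ P : Submodule R M, P.FG → Module.FinitePresentation R P) (φ : N →ₗ[R] M)
    (P : Submodule R (M ⧸ LinearMap.range φ)) (hP : P.FG) : Module.FinitePresentation R P := by
  have hr : (LinearMap.range φ).FG := by
    rw [show (LinearMap.range φ) = (⊤ : Submodule R N).map φ from (Submodule.map_top φ).symm]
    exact Module.Finite.fg_top.map φ
  have hQ : (P.comap (LinearMap.range φ).mkQ).FG := by
    refine Submodule.fg_of_fg_map_of_fg_inf_ker (LinearMap.range φ).mkQ ?_ ?_
    · rwa [Submodule.map_comap_eq, Submodule.range_mkQ, top_inf_eq]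
    · rw [Submodule.ker_mkQ, inf_eq_right.mpr (fun x hx => by
        simp [Submodule.mem_comap, (Submodule.Quotient.mk_eq_zero (LinearMap.range φ)).mpr hx])]
      exact hr
  have := hM _ hQ
  let l : P.comap (LinearMap.range φ).mkQ →ₗ[R] P := (LinearMap.range φ).mkQ.restrict fun x hx => hx
  refine Module.finitePresentation_of_surjective l ?_ ?_
  · rintro ⟨y, hy⟩
    obtain ⟨x, rfl⟩ := (LinearMap.range φ).mkQ_surjective y
    exact ⟨⟨x, hy⟩, rfl⟩
  · refine Submodule.fg_of_fg_map_injective (P.comap (LinearMap.range φ).mkQ).subtype (Submodule.injective_subtype _) ?_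
    suffices e : (LinearMap.ker l).map (P.comap (LinearMap.range φ).mkQ).subtype = LinearMap.range φ by
      rw [e]; exact hr
    ext x
    simp only [Submodule.mem_map, LinearMap.mem_ker, Submodule.subtype_apply]
    constructor
    · rintro ⟨y, hy, rfl⟩
      exact (Submodule.Quotient.mk_eq_zero (LinearMap.range φ)).mp (congrArg Subtype.val hy)
    · intro hx
      refine ⟨⟨x, ?_⟩, Subtype.ext ((Submodule.Quotient.mk_eq_zero (LinearMap.range φ)).mpr hx), rfl⟩
      simp [(Submodule.Quotient.mk_eq_zero (LinearMap.range φ)).mpr hx]

end Groth.L01
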