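import Mathlib.Algebra.Module.Torsion.Basic
import Mathlib.LinearAlgebra.TensorProduct.Quotient
import Mathlib.RingTheory.Nakayama
import Mathlib.RingTheory.TensorProduct.Free
import Mathlib.RingTheory.Flat.Stability
import Mathlib.Algebra.Module.Projective
import Mathlib.RingTheory.Jacobson.Ideal

/-!
Finite projective modules over a ring complete for a filtration by ideals are the separated modules
with finite projective truncations.
-/

set_option autoImplicit false
universe u v

namespace Groth.L01.CompleteProj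

variable {W : Type u} [CommRing W] (I : ℕ → Ideal W) {P : Type v} [AddCommGroup P] [Module W P]

theorem finite_proj_quot [Module.Finite W P] [Module.Projective W P] (J : Ideal W) :
    Module.Finite (W ⧸ J) (P ⧸ J • (⊤ : Submodule W P)) ∧
      Module.Projective (W ⧸ J) (P ⧸ J • (⊤ : Submodule W P)) := by
  refine ⟨inferInstance, ?_⟩
  let e : TensorProduct W (W ⧸ J) P ≃ₗ[W ⧸ J] P ⧸ J • (⊤ : Submodule W P) :=
    (TensorProduct.quotTensorEquivQuotSMul P J).extendScalarsOfSurjective Ideal.Quotient.mk_surjective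
  exact Module.Projective.of_equiv e

theorem iInf_eq_bot [Module.Finite W P] [Module.Projective W P] (hI : ⨅ n, I n = ⊥) :
    ⨅ n, I n • (⊤ : Submodule W P) = ⊥ := by
  obtain ⟨k, π, hπ⟩ := Module.Finite.exists_fin' W P
  obtain ⟨σ, hσ⟩ := Module.projective_lifting_property π LinearMap.id hπ
  rw [eq_bot_iff]
  intro x hx
  rw [Submodule.mem_iInf] at hx
  have hσx : σ x = 0 := funext fun i => by
    have : (σ x) i ∈ ⨅ n, I n := by
      rw [Submodule.mem_iInf]
      intro n
      have := Submodule.smul_induction_on (p := fun y => (σ y) i ∈ I n) (hx n)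
        (fun r hr y _ => by rw [map_smul, Pi.smul_apply, smul_eq_mul]; exact Ideal.mul_mem_right _ _ hr)
        (fun y z hy hz => by rw [map_add, Pi.add_apply]; exact add_mem hy hz)
      exact this
    rw [hI] at this
    simpa using this
  rw [Submodule.mem_bot, show x = π (σ x) from (LinearMap.congr_fun hσ x).symm, hσx, map_zero]

theorem finite_projective (hanti : Antitone I) (hsep : ⨅ n, I n = ⊥)
    (hcomplete : ∀ a : ℕ → W, (∀ n, a (n + 1) - a n ∈ I n) → ∃ x, ∀ n, x - a n ∈ I n)
    (hjac : I 1 ≤ Ideal.jacobson ⊥) (h0 : I 0 = ⊤)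
    (hPsep : ⨅ n, I n • (⊤ : Submodule W P) = ⊥)
    (hfin : ∀ n, Module.Finite (W ⧸ I n) (P ⧸ I n • (⊤ : Submodule W P)))
    (hproj : ∀ n, Module.Projective (W ⧸ I n) (P ⧸ I n • (⊤ : Submodule W P))) :
    Module.Finite W P ∧ Module.Projective W P := by
  classical
  haveI := hfin
  haveI hfinW : ∀ n, Module.Finite W (P ⧸ I n • (⊤ : Submodule W P)) := fun n =>
    Module.Finite.trans (W ⧸ I n) _
  -- generators
  obtain ⟨k, g, hg⟩ := Module.Finite.exists_fin (R := W) (M := P ⧸ I 1 • (⊤ : Submodule W P))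
  choose x hx using fun i => Submodule.Quotient.mk_surjective _ (g i)
  let Φ : (Fin k → W) →ₗ[W] P := Fintype.linearCombination W x
  let Q : ℕ → Submodule W P := fun n => I n • ⊤
  let E : ℕ → Submodule W (Fin k → W) := fun n => I n • ⊤
  have hΦE : ∀ n, E n ≤ (Q n).comap Φ := fun n => by
    rw [← Submodule.map_le_iff_le_comap, Submodule.map_smul'']
    exact Submodule.smul_mono le_rfl le_top
  let φ : ∀ n, ((Fin k → W) ⧸ E n) →ₗ[W] (P ⧸ Q n) := fun n => (E n).mapQ (Q n) Φ (hΦE n)
  have hφ : ∀ n, Function.Surjective (φ n) := by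
    intro n
    have h1 : (⊤ : Submodule W P) ≤ LinearMap.range Φ ⊔ Q 1 := by
      intro y _
      obtain ⟨c, hc⟩ := (Submodule.mem_span_range_iff_exists_fun W).1
        (hg.ge (Submodule.mem_top : (Submodule.Quotient.mk y : P ⧸ Q 1) ∈ _))
      rw [show y = Φ c + (y - Φ c) by abel]
      refine Submodule.add_mem_sup ⟨c, rfl⟩ ((Submodule.Quotient.eq _).1 ?_)
      rw [← hc, ← (Q 1).mkQ_apply, Fintype.linearCombination_apply, map_sum]
      exact Finset.sum_congr rfl fun i _ => by rw [map_smul, Submodule.mkQ_apply, hx]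
    rw [← LinearMap.range_eq_top, eq_top_iff]
    refine Submodule.le_of_le_smul_of_le_jacobson_bot (I := I 1) Module.Finite.fg_top hjac ?_
    intro z _
    obtain ⟨y, rfl⟩ := Submodule.Quotient.mk_surjective _ z
    obtain ⟨_, ⟨c, rfl⟩, q, hq, rfl⟩ := Submodule.mem_sup.1 (h1 (Submodule.mem_top : y ∈ ⊤))
    rw [Submodule.Quotient.mk_add]
    refine Submodule.add_mem_sup ⟨Submodule.Quotient.mk c, rfl⟩ ?_
    have := Submodule.mem_map_of_mem (f := (Q n).mkQ) hq
    rw [Submodule.map_smul''] at this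
    exact Submodule.smul_mono le_rfl le_top this
  have hsec : ∀ n, ∃ s : (P ⧸ Q n) →ₗ[W] ((Fin k → W) ⧸ E n), φ n ∘ₗ s = LinearMap.id := fun n => by
    haveI := hproj n
    obtain ⟨s, hs⟩ := Module.projective_lifting_property
      ((φ n).extendScalarsOfSurjective (S := W ⧸ I n) Ideal.Quotient.mk_surjective)
      LinearMap.id (hφ n)
    exact ⟨s.restrictScalars W, LinearMap.ext fun z => LinearMap.congr_fun hs z⟩
  have hEle : ∀ n, E (n + 1) ≤ E n := fun n => Submodule.smul_mono_left (hanti n.le_succ)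
  have hQle : ∀ n, Q (n + 1) ≤ Q n := fun n => Submodule.smul_mono_left (hanti n.le_succ)
  have hcomm : ∀ n (c : (Fin k → W) ⧸ E (n + 1)),
      φ n (Submodule.factor (hEle n) c) = Submodule.factor (hQle n) (φ (n + 1) c) := fun n c => by
    obtain ⟨c, rfl⟩ := Submodule.Quotient.mk_surjective _ c
    rfl
  have hstep : ∀ n (s : (P ⧸ Q n) →ₗ[W] ((Fin k → W) ⧸ E n)), φ n ∘ₗ s = LinearMap.id →
      ∃ t : (P ⧸ Q (n + 1)) →ₗ[W] ((Fin k → W) ⧸ E (n + 1)), φ (n + 1) ∘ₗ t = LinearMap.id ∧
        Submodule.factor (hEle n) ∘ₗ t = s ∘ₗ Submodule.factor (hQle n) := by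
    intro n s hs
    obtain ⟨t₀, ht₀⟩ := hsec (n + 1)
    let red := Submodule.factor (hEle n)
    let d : (P ⧸ Q (n + 1)) →ₗ[W] ((Fin k → W) ⧸ E n) :=
      s ∘ₗ Submodule.factor (hQle n) - red ∘ₗ t₀
    let dΦ : (Fin k → W) →ₗ[W] ((Fin k → W) ⧸ E n) := d ∘ₗ φ (n + 1) ∘ₗ (E (n + 1)).mkQ
    obtain ⟨h, hh⟩ := Module.projective_lifting_property (E n).mkQ dΦ (Submodule.mkQ_surjective _)
    let h' : ((Fin k → W) ⧸ E (n + 1)) →ₗ[W] ((Fin k → W) ⧸ E (n + 1)) :=
      (E (n + 1)).mapQ (E (n + 1)) h (by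
        rw [← Submodule.map_le_iff_le_comap, Submodule.map_smul'']
        exact Submodule.smul_mono le_rfl le_top)
    have hh' : ∀ c, red (h' c) = d (φ (n + 1) c) := fun c => by
      obtain ⟨c, rfl⟩ := Submodule.Quotient.mk_surjective _ c
      exact LinearMap.congr_fun hh c
    let d' := h' ∘ₗ t₀
    refine ⟨t₀ + d' - t₀ ∘ₗ φ (n + 1) ∘ₗ d', LinearMap.ext fun y => ?_, LinearMap.ext fun y => ?_⟩
    · have e1 := LinearMap.congr_fun ht₀ y
      have e2 := LinearMap.congr_fun ht₀ (φ (n + 1) (d' y))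
      simp only [LinearMap.comp_apply, LinearMap.id_apply] at e1 e2
      simp only [LinearMap.comp_apply, LinearMap.id_apply, LinearMap.sub_apply, LinearMap.add_apply,
        map_sub, map_add, e1, e2]
      abel
    · have e1 : red (d' y) = d y := by
        change red (h' (t₀ y)) = d y
        rw [hh']
        exact congrArg d (LinearMap.congr_fun ht₀ y)
      have e2 : Submodule.factor (hQle n) (φ (n + 1) (d' y)) = 0 := by
        rw [← hcomm, e1]
        change φ n (s (Submodule.factor (hQle n) y) - red (t₀ y)) = 0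
        rw [map_sub, hcomm, show φ n (s (Submodule.factor (hQle n) y)) = _ from LinearMap.congr_fun hs _,
          show φ (n + 1) (t₀ y) = y from LinearMap.congr_fun ht₀ y, LinearMap.id_apply, sub_self]
      have e3 : red (t₀ (φ (n + 1) (d' y))) = 0 := by
        obtain ⟨w, hw⟩ := Submodule.Quotient.mk_surjective _ (φ (n + 1) (d' y))
        rw [← hw] at e2 ⊢
        have hwQ : w ∈ Q n := (Submodule.Quotient.mk_eq_zero _).1 e2
        have hle : Q n ≤ LinearMap.ker (red ∘ₗ t₀ ∘ₗ (Q (n + 1)).mkQ) := by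
          refine Submodule.smul_le.2 fun r hr z _ => ?_
          rw [LinearMap.mem_ker, map_smul]
          obtain ⟨c, hc⟩ := Submodule.Quotient.mk_surjective _ ((red ∘ₗ t₀ ∘ₗ (Q (n + 1)).mkQ) z)
          rw [← hc, ← Submodule.Quotient.mk_smul, Submodule.Quotient.mk_eq_zero]
          exact Submodule.smul_mem_smul hr Submodule.mem_top
        exact hle hwQ
      simp only [LinearMap.comp_apply, LinearMap.sub_apply, LinearMap.add_apply, map_sub, map_add]
      change red (t₀ y) + red (d' y) - red (t₀ (φ (n + 1) (d' y))) = s (Submodule.factor (hQle n) y)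
      rw [e1, e3, sub_zero]
      change red (t₀ y) + (s (Submodule.factor (hQle n) y) - red (t₀ y)) = _
      abel
  choose next hnext1 hnext2 using hstep
  obtain ⟨s0, hs0⟩ := hsec 0
  let S : ∀ n, {s : (P ⧸ Q n) →ₗ[W] ((Fin k → W) ⧸ E n) // φ n ∘ₗ s = LinearMap.id} := fun n =>
    Nat.rec ⟨s0, hs0⟩ (fun j s => ⟨next j s.1 s.2, hnext1 j s.1 s.2⟩) n
  have hcompat : ∀ n y, Submodule.factor (hEle n) ((S (n + 1)).1 (Submodule.Quotient.mk y)) =
      (S n).1 (Submodule.Quotient.mk y) := fun n y =>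
    LinearMap.congr_fun (hnext2 n (S n).1 (S n).2) (Submodule.Quotient.mk y)
  have hEmem : ∀ n (c : Fin k → W), c ∈ E n ↔ ∀ i, c i ∈ I n := fun n c => by
    constructor
    · intro hc i
      refine Submodule.smul_induction_on (p := fun c => c i ∈ I n) hc
        (fun r hr y _ => by rw [Pi.smul_apply, smul_eq_mul]; exact Ideal.mul_mem_right _ _ hr)
        (fun y z hy hz => add_mem hy hz)
    · intro hc
      rw [pi_eq_sum_univ c]
      exact Submodule.sum_mem _ fun i _ => Submodule.smul_mem_smul (hc i) Submodule.mem_top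
  have hlim : ∀ y, ∃ L : Fin k → W, ∀ n, (Submodule.Quotient.mk L : (Fin k → W) ⧸ E n) =
      (S n).1 (Submodule.Quotient.mk y) := by
    intro y
    choose c hc using fun n => Submodule.Quotient.mk_surjective _ ((S n).1 (Submodule.Quotient.mk y))
    have hdiff : ∀ n i, c (n + 1) i - c n i ∈ I n := fun n => by
      refine (hEmem n (c (n + 1) - c n)).1 ((Submodule.Quotient.eq _).1 ?_)
      rw [hc n, ← hcompat n y, ← hc (n + 1)]
      rfl
    choose L hL using fun i => hcomplete (fun n => c n i) (fun n => hdiff n i)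
    refine ⟨L, fun n => ?_⟩
    rw [← hc n, Submodule.Quotient.eq, hEmem]
    exact fun i => hL i n
  choose σ hσ using hlim
  have huniq : ∀ a b : Fin k → W,
      (∀ n, (Submodule.Quotient.mk a : (Fin k → W) ⧸ E n) = Submodule.Quotient.mk b) → a = b := by
    intro a b h
    refine sub_eq_zero.1 (funext fun i => ?_)
    have : (a - b) i ∈ ⨅ n, I n := Submodule.mem_iInf _ |>.2 fun n =>
      (hEmem n _).1 ((Submodule.Quotient.eq _).1 (h n)) i
    rwa [hsep, Submodule.mem_bot] at this
  let σ' : P →ₗ[W] (Fin k → W) :=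
    { toFun := σ
      map_add' := fun a b => huniq _ _ fun n => by
        simp only [Submodule.Quotient.mk_add, hσ, map_add]
      map_smul' := fun r a => huniq _ _ fun n => by
        simp only [RingHom.id_apply, Submodule.Quotient.mk_smul, hσ, map_smul] }
  have hret : Φ ∘ₗ σ' = LinearMap.id := LinearMap.ext fun y => by
    refine sub_eq_zero.1 ((Submodule.mem_bot W).1 (hPsep ▸ Submodule.mem_iInf _ |>.2 fun n => ?_))
    refine (Submodule.Quotient.eq (Q n)).1 ?_
    change φ n (Submodule.Quotient.mk (σ y)) = _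
    rw [hσ]
    exact LinearMap.congr_fun (S n).2 _
  exact ⟨Module.Finite.of_surjective Φ fun y => ⟨σ' y, LinearMap.congr_fun hret y⟩,
    Module.Projective.of_split σ' Φ hret⟩

end Groth.L01.CompleteProj
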