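import Groth.Agent.L01.AnalUnram

/-!
Universal property of completions of Noetherian local rings and transport of reducedness.
-/

universe u

namespace Groth.L01.CompletionExt

open IsLocalRing

variable {R : Type u} [CommRing R] [IsLocalRing R] [IsNoetherianRing R]

local notation "Rh" => AdicCompletion (maximalIdeal R) R

variable (R) in
theorem faithfullyFlat : Module.FaithfullyFlat R Rh := by
  haveI : IsLocalHom (algebraMap R Rh) := ⟨fun r hr => by
    by_contra h
    have h1 : algebraMap R Rh r ∈ maximalIdeal Rh := by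
      rw [← Groth.L01.AnalUnram.completion_map_maximalIdeal]
      exact Ideal.mem_map_of_mem _ h
    exact h1 hr⟩
  exact Module.FaithfullyFlat.of_flat_of_isLocalHom

theorem exists_sub_mem_pow (n : ℕ) (a : Rh) :
    ∃ r : R, a - algebraMap R Rh r ∈ maximalIdeal Rh ^ n := by
  induction n generalizing a with
  | zero => exact ⟨0, by simp⟩
  | succ n ih =>
    obtain ⟨r, hr⟩ := ih a
    have key : ∀ y ∈ maximalIdeal Rh ^ n, ∃ s : R, y - algebraMap R Rh s ∈ maximalIdeal Rh ^ (n + 1) := by
      intro y hy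
      rw [← Groth.L01.AnalUnram.completion_map_maximalIdeal, ← Ideal.map_pow] at hy
      induction hy using Submodule.span_induction with
      | mem z hz => obtain ⟨s, -, rfl⟩ := hz; exact ⟨s, by simp⟩
      | zero => exact ⟨0, by simp⟩
      | add z w _ _ hz hw =>
        obtain ⟨s, hs⟩ := hz
        obtain ⟨t, ht⟩ := hw
        exact ⟨s + t, by rw [map_add, add_sub_add_comm]; exact add_mem hs ht⟩
      | smul c z hz' hz =>
        obtain ⟨s, hs⟩ := hz
        obtain ⟨c', hc'⟩ := Groth.L01.AnalUnram.exists_sub_mem R c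
        refine ⟨c' * s, ?_⟩
        rw [smul_eq_mul, map_mul,
          show c * z - algebraMap R Rh c' * algebraMap R Rh s =
            (c - algebraMap R Rh c') * z + algebraMap R Rh c' * (z - algebraMap R Rh s) by ring]
        refine add_mem ?_ (Ideal.mul_mem_left _ _ hs)
        have hzm : z ∈ maximalIdeal Rh ^ n := by
          rw [← Groth.L01.AnalUnram.completion_map_maximalIdeal, ← Ideal.map_pow]; exact hz'
        rw [pow_succ']
        exact Ideal.mul_mem_mul hc' hzm
    obtain ⟨s, hs⟩ := key _ hr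
    exact ⟨r + s, by rwa [map_add, ← sub_sub]⟩

/-- extension of a local homomorphism to a complete target -/
theorem exists_extend {C : Type u} [CommRing C] [IsLocalRing C] [IsAdicComplete (maximalIdeal C) C] (f : R →+* C)
    (hf : (maximalIdeal R).map f ≤ maximalIdeal C) :
    ∃ g : Rh →+* C, (∀ r, g (algebraMap R Rh r) = f r) ∧ (maximalIdeal Rh).map g ≤ maximalIdeal C := by
  haveI := faithfullyFlat R
  let q : ∀ n, R ⧸ maximalIdeal R ^ n →+* Rh ⧸ (maximalIdeal R ^ n).map (algebraMap R Rh) := fun n =>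
    Ideal.quotientMap _ (algebraMap R Rh) Ideal.le_comap_map
  have hq : ∀ n, Function.Bijective (q n) := fun n => by
    refine ⟨Ideal.quotientMap_injective' (Ideal.comap_map_eq_self_of_faithfullyFlat (maximalIdeal R ^ n)).le, fun y => ?_⟩
    obtain ⟨a, rfl⟩ := Ideal.Quotient.mk_surjective y
    obtain ⟨r, hr⟩ := exists_sub_mem_pow n a
    refine ⟨Ideal.Quotient.mk _ r, ?_⟩
    rw [Ideal.quotientMap_mk, eq_comm, Ideal.Quotient.eq, Ideal.map_pow, Groth.L01.AnalUnram.completion_map_maximalIdeal]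
    exact hr
  have hn : ∀ n, maximalIdeal R ^ n ≤ (maximalIdeal C ^ n).comap f := fun n => by
    rw [← Ideal.map_le_iff_le_comap, Ideal.map_pow]
    exact Ideal.pow_right_mono hf n
  let fn : ∀ n, Rh →+* C ⧸ maximalIdeal C ^ n := fun n =>
    ((Ideal.quotientMap _ f (hn n)).comp (RingEquiv.ofBijective (q n) (hq n)).symm.toRingHom).comp (Ideal.Quotient.mk _)
  have hfn : ∀ n (a : Rh) (r : R), a - algebraMap R Rh r ∈ maximalIdeal Rh ^ n → fn n a = Ideal.Quotient.mk _ (f r) := by
    intro n a r har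
    have h1 : Ideal.Quotient.mk ((maximalIdeal R ^ n).map (algebraMap R Rh)) a = q n (Ideal.Quotient.mk _ r) := by
      rw [Ideal.quotientMap_mk, Ideal.Quotient.eq, Ideal.map_pow, Groth.L01.AnalUnram.completion_map_maximalIdeal]
      exact har
    change Ideal.quotientMap _ f (hn n) ((RingEquiv.ofBijective (q n) (hq n)).symm (Ideal.Quotient.mk _ a)) = _
    rw [h1, show q n (Ideal.Quotient.mk _ r) = RingEquiv.ofBijective (q n) (hq n) (Ideal.Quotient.mk _ r) from rfl,
      RingEquiv.symm_apply_apply, Ideal.quotientMap_mk]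
  have hcomp : ∀ {m n : ℕ} (hle : m ≤ n), (Ideal.Quotient.factorPow (maximalIdeal C) hle).comp (fn n) = fn m := by
    intro m n hle
    ext a
    obtain ⟨r, hr⟩ := exists_sub_mem_pow n a
    rw [RingHom.comp_apply, hfn n a r hr, hfn m a r (Ideal.pow_le_pow_right hle hr), Ideal.Quotient.factor_mk]
  refine ⟨IsAdicComplete.liftRingHom (maximalIdeal C) fn hcomp, fun r => ?_, ?_⟩
  · rw [← sub_eq_zero]
    refine IsHausdorff.haus (I := maximalIdeal C) inferInstance _ fun n => ?_
    rw [SModEq.zero, smul_eq_mul, Ideal.mul_top, ← Ideal.Quotient.eq, IsAdicComplete.mk_liftRingHom]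
    exact hfn n _ r (by simp)
  · rw [Ideal.map_le_iff_le_comap]
    intro a ha
    have h1 := hfn 1 a 0 (by simpa using ha)
    rw [map_zero, map_zero] at h1
    have h2 := IsAdicComplete.mk_liftRingHom (maximalIdeal C) fn hcomp 1 a
    rw [h1, Ideal.Quotient.eq_zero_iff_mem] at h2
    exact Ideal.mem_comap.mpr ((pow_one (maximalIdeal C)).le h2)

/-- two extensions to a separated target agree -/
theorem ext_of_hausdorff {C : Type u} [CommRing C] [IsLocalRing C] [IsHausdorff (maximalIdeal C) C]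
    (g₁ g₂ : Rh →+* C) (h1 : (maximalIdeal Rh).map g₁ ≤ maximalIdeal C) (h2 : (maximalIdeal Rh).map g₂ ≤ maximalIdeal C)
    (h : ∀ r, g₁ (algebraMap R Rh r) = g₂ (algebraMap R Rh r)) : g₁ = g₂ := by
  refine RingHom.ext fun a => sub_eq_zero.mp (IsHausdorff.haus (I := maximalIdeal C) inferInstance _ fun n => ?_)
  obtain ⟨r, hr⟩ := exists_sub_mem_pow n a
  rw [SModEq.zero, smul_eq_mul, Ideal.mul_top,
    show g₁ a - g₂ a = g₁ (a - algebraMap R Rh r) - g₂ (a - algebraMap R Rh r) by rw [map_sub, map_sub, h r]; ring]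
  refine sub_mem ?_ ?_
  · refine Ideal.pow_right_mono h1 n ?_
    rw [← Ideal.map_pow]; exact Ideal.mem_map_of_mem _ hr
  · refine Ideal.pow_right_mono h2 n ?_
    rw [← Ideal.map_pow]; exact Ideal.mem_map_of_mem _ hr

/-- Reducedness of completions transports along `R → A/P` surjective. -/
theorem isReduced_quotient_map {A : Type u} [CommRing A] [IsLocalRing A] [IsNoetherianRing A] (f : R →+* A)
    (hf : (maximalIdeal R).map f ≤ maximalIdeal A) (P : Ideal A) (hP : P ≤ maximalIdeal A)
    (hsurj : Function.Surjective ((Ideal.Quotient.mk P).comp f))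
    [hred : IsReduced (Rh ⧸ (P.comap f).map (algebraMap R Rh))] :
    IsReduced (AdicCompletion (maximalIdeal A) A ⧸ P.map (algebraMap A (AdicCompletion (maximalIdeal A) A))) := by
  let Ah := AdicCompletion (maximalIdeal A) A
  let q := P.comap f
  let Q := q.map (algebraMap R Rh)
  let P' := P.map (algebraMap A Ah)
  haveI := Groth.L01.AnalUnram.isNoetherianRing_completion A
  haveI := Groth.L01.AnalUnram.isNoetherianRing_completion R
  have hqm : q ≤ maximalIdeal R := by
    refine le_maximalIdeal ?_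
    rw [Ne, Ideal.comap_eq_top_iff]
    exact fun h => (maximalIdeal.isMaximal A).ne_top (top_le_iff.mp (h ▸ hP))
  have hQm : Q ≤ maximalIdeal Rh :=
    (Ideal.map_mono hqm).trans (Groth.L01.AnalUnram.completion_map_maximalIdeal R).le
  have hP'm : P' ≤ maximalIdeal Ah :=
    (Ideal.map_mono hP).trans (Groth.L01.AnalUnram.completion_map_maximalIdeal A).le
  haveI : Nontrivial (Rh ⧸ Q) := Ideal.Quotient.nontrivial_iff.mpr
    (fun h => (maximalIdeal.isMaximal Rh).ne_top (top_le_iff.mp (h ▸ hQm)))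
  haveI : IsLocalRing (Rh ⧸ Q) := IsLocalRing.of_surjective' _ Ideal.Quotient.mk_surjective
  haveI : Nontrivial (Ah ⧸ P') := Ideal.Quotient.nontrivial_iff.mpr
    (fun h => (maximalIdeal.isMaximal Ah).ne_top (top_le_iff.mp (h ▸ hP'm)))
  haveI : IsLocalRing (Ah ⧸ P') := IsLocalRing.of_surjective' _ Ideal.Quotient.mk_surjective
  haveI := Groth.L01.NagataComplete.isAdicComplete_quotient Q
  haveI := Groth.L01.NagataComplete.isAdicComplete_quotient P'
  have hmQ : (maximalIdeal Rh).map (Ideal.Quotient.mk Q) = maximalIdeal (Rh ⧸ Q) :=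
    IsLocalRing.map_maximalIdeal_of_surjective _ Ideal.Quotient.mk_surjective
  have hmP : (maximalIdeal Ah).map (Ideal.Quotient.mk P') = maximalIdeal (Ah ⧸ P') :=
    IsLocalRing.map_maximalIdeal_of_surjective _ Ideal.Quotient.mk_surjective
  let fA : R →+* Ah ⧸ P' := (Ideal.Quotient.mk P').comp ((algebraMap A Ah).comp f)
  obtain ⟨φ, hφ, hφm⟩ := exists_extend fA (by
    rw [← Ideal.map_map, ← Ideal.map_map, ← hmP]
    exact Ideal.map_mono ((Ideal.map_mono hf).trans (Groth.L01.AnalUnram.completion_map_maximalIdeal A).le))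
  let e : R ⧸ q →+* A ⧸ P := Ideal.quotientMap P f le_rfl
  have he : Function.Bijective e := ⟨Ideal.quotientMap_injective, fun y => by
    obtain ⟨r, hr⟩ := hsurj y
    exact ⟨Ideal.Quotient.mk q r, hr⟩⟩
  let j : R ⧸ q →+* Rh ⧸ Q := Ideal.quotientMap Q (algebraMap R Rh) Ideal.le_comap_map
  let fR : A →+* Rh ⧸ Q := (j.comp (RingEquiv.ofBijective e he).symm.toRingHom).comp (Ideal.Quotient.mk P)
  have hfR : ∀ (a : A) (r : R), a - f r ∈ P → fR a = Ideal.Quotient.mk Q (algebraMap R Rh r) := by
    intro a r h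
    have h1 : Ideal.Quotient.mk P a = RingEquiv.ofBijective e he (Ideal.Quotient.mk q r) :=
      Ideal.Quotient.eq.mpr h
    change j ((RingEquiv.ofBijective e he).symm (Ideal.Quotient.mk P a)) = _
    rw [h1, RingEquiv.symm_apply_apply]
    rfl
  have hlift : ∀ a : A, ∃ r : R, a - f r ∈ P := fun a => by
    obtain ⟨r, hr⟩ := hsurj (Ideal.Quotient.mk P a)
    exact ⟨r, Ideal.Quotient.eq.mp hr.symm⟩
  obtain ⟨ψ, hψ, hψm⟩ := exists_extend fR (by
    rw [Ideal.map_le_iff_le_comap]
    intro a ha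
    obtain ⟨r, hr⟩ := hlift a
    have hrm : r ∈ maximalIdeal R := by
      intro hu
      have : f r ∈ maximalIdeal A := by simpa using sub_mem ha (hP hr)
      exact this (hu.map f)
    rw [Ideal.mem_comap, hfR a r hr, ← hmQ]
    exact Ideal.mem_map_of_mem _ ((Groth.L01.AnalUnram.completion_map_maximalIdeal R).le (Ideal.mem_map_of_mem _ hrm)))
  have hPker : P' ≤ RingHom.ker ψ := Ideal.map_le_iff_le_comap.mpr fun a ha => by
    rw [Ideal.mem_comap, RingHom.mem_ker, hψ, hfR a 0 (by simpa using ha), map_zero, map_zero]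
  let ψ' : Ah ⧸ P' →+* Rh ⧸ Q := Ideal.Quotient.lift P' ψ hPker
  have hψ'm : (maximalIdeal (Ah ⧸ P')).map ψ' ≤ maximalIdeal (Rh ⧸ Q) := by
    rw [← hmP, Ideal.map_map]
    exact hψm
  have hcomp : ψ'.comp φ = Ideal.Quotient.mk Q := by
    refine ext_of_hausdorff _ _ ?_ hmQ.le fun r => ?_
    · rw [← Ideal.map_map]
      exact (Ideal.map_mono hφm).trans hψ'm
    · rw [RingHom.comp_apply, hφ]
      change ψ (algebraMap A Ah (f r)) = _
      rw [hψ, hfR (f r) r (by simp)]
  have hφs : Function.Surjective φ := by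
    have hmap : (maximalIdeal Rh).map φ = maximalIdeal (Ah ⧸ P') := by
      refine le_antisymm hφm ?_
      rw [← hmP, ← Groth.L01.AnalUnram.completion_map_maximalIdeal, Ideal.map_map, Ideal.map_le_iff_le_comap]
      intro a ha
      obtain ⟨r, hr⟩ := hlift a
      have hrm : r ∈ maximalIdeal R := by
        intro hu
        have : f r ∈ maximalIdeal A := by simpa using sub_mem ha (hP hr)
        exact this (hu.map f)
      rw [Ideal.mem_comap, RingHom.comp_apply,
        show Ideal.Quotient.mk P' (algebraMap A Ah a) = φ (algebraMap R Rh r) by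
          rw [hφ]
          refine Ideal.Quotient.eq.mpr ?_
          rw [RingHom.comp_apply, ← map_sub]
          exact Ideal.mem_map_of_mem _ hr]
      exact Ideal.mem_map_of_mem _ ((Groth.L01.AnalUnram.completion_map_maximalIdeal R).le (Ideal.mem_map_of_mem _ hrm))
    haveI : IsHausdorff ((maximalIdeal Rh).map φ) (Ah ⧸ P') := hmap ▸ inferInstance
    refine surjective_of_mk_map_comp_surjective (I := maximalIdeal Rh) φ fun y => ?_
    obtain ⟨y, rfl⟩ := Ideal.Quotient.mk_surjective y
    obtain ⟨y, rfl⟩ := Ideal.Quotient.mk_surjective y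
    obtain ⟨a, ha⟩ := Groth.L01.AnalUnram.exists_sub_mem A y
    obtain ⟨r, hr⟩ := hlift a
    refine ⟨algebraMap R Rh r, ?_⟩
    rw [RingHom.comp_apply, hφ, eq_comm, Ideal.Quotient.eq, hmap, ← hmP]
    change Ideal.Quotient.mk P' y - Ideal.Quotient.mk P' (algebraMap A Ah (f r)) ∈ _
    rw [← map_sub]
    refine Ideal.mem_map_of_mem _ ?_
    rw [show y - algebraMap A Ah (f r) = (y - algebraMap A Ah a) + algebraMap A Ah (a - f r) by rw [map_sub]; ring]
    exact add_mem ha (hP'm (Ideal.mem_map_of_mem _ hr))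
  refine ⟨fun w hw => ?_⟩
  obtain ⟨r, rfl⟩ := hφs w
  have h0 : Ideal.Quotient.mk Q r = 0 := by
    rw [← hcomp]
    exact (hw.map ψ').eq_zero
  have hQker : Q ≤ RingHom.ker φ := Ideal.map_le_iff_le_comap.mpr fun a ha => by
    rw [Ideal.mem_comap, RingHom.mem_ker, hφ]
    exact Ideal.Quotient.eq_zero_iff_mem.mpr (Ideal.mem_map_of_mem _ ha)
  exact hQker (Ideal.Quotient.eq_zero_iff_mem.mp h0)

end Groth.L01.CompletionExt
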