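import Groth.Agent.L01.CompletionExt
import Groth.Agent.L01.Regular
import Groth.Agent.L05.Henselization.EtaleLike
import Mathlib.RingTheory.DiscreteValuationRing.TFAE
import Mathlib.RingTheory.KrullDimension.PID

/-!
Dimension, regularity and DVR property under completion.
-/

universe u

open IsLocalRing

namespace Groth.L01.CompletionReg

variable (A : Type u) [CommRing A] [IsLocalRing A] [IsNoetherianRing A]

local notation "Ah" => AdicCompletion (maximalIdeal A) A

theorem ringKrullDim_completion : ringKrullDim Ah = ringKrullDim A := by
  haveI := Groth.L01.AnalUnram.isNoetherianRing_completion A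
  exact Groth.L05.Henselization.ringKrullDim_eq_of_map_maximalIdeal A Ah (Groth.L01.AnalUnram.completion_map_maximalIdeal A)

theorem isRegularLocalRing_iff_completion : IsRegularLocalRing A ↔ IsRegularLocalRing Ah := by
  haveI := Groth.L01.AnalUnram.isNoetherianRing_completion A
  exact Groth.L05.Henselization.isRegularLocalRing_iff_of_map_maximalIdeal A Ah (Groth.L01.AnalUnram.completion_map_maximalIdeal A)

theorem dvr_iff_regular_dim_one : (∃ _ : IsDomain A, IsDiscreteValuationRing A) ↔
    IsRegularLocalRing A ∧ ringKrullDim A = 1 := by
  constructor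
  · rintro ⟨_, _⟩
    exact ⟨inferInstance, IsDiscreteValuationRing.ringKrullDim_eq_one A⟩
  · rintro ⟨h, hd⟩
    haveI := Groth.L01.isDomain_of_regular A
    have hnf : ¬ IsField A := fun hf => by
      rw [ringKrullDim_eq_zero_of_isField hf] at hd
      exact zero_ne_one hd
    refine ⟨inferInstance, ((IsDiscreteValuationRing.TFAE A hnf).out 0 5).mpr ?_⟩
    have h1 := (IsRegularLocalRing.spanFinrank_maximalIdeal (R := A))
    rw [hd, spanFinrank_maximalIdeal_eq_finrank_cotangentSpace] at h1
    exact_mod_cast h1

end Groth.L01.CompletionReg
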