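import Mathlib.RingTheory.MvPolynomial.Ideal
import Mathlib.RingTheory.Jacobson.Ring
import Mathlib.RingTheory.Nullstellensatz
import Mathlib.FieldTheory.IntermediateField.Adjoin.Basic
import Mathlib.FieldTheory.Minpoly.Field
import Mathlib.Algebra.Polynomial.RingDivision
import Mathlib.LinearAlgebra.FreeModule.Finite.Basic
import Mathlib.LinearAlgebra.Dimension.Finrank

/-!
A polynomial of degree at most two lying in the square of an ideal of colength greater than one
of κ[x, y] is a scalar multiple of the square of an affine linear polynomial.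
-/

set_option autoImplicit false
universe u

open MvPolynomial

namespace Groth.L01.ConicSquare

variable {κ : Type u} [Field κ]

local notation "R" => MvPolynomial (Fin 2) κ

/-- The general polynomial of degree at most two. -/
noncomputable def quad (i0 i1 : Fin 2) (a b c d e f : κ) : R :=
  C a + C b * X i0 + C c * X i1 + C d * X i0 ^ 2 + C e * X i0 * X i1 + C f * X i1 ^ 2

/-- Being a scalar times the square of an affine linear polynomial. -/
def IsSq (F : R) : Prop :=
  ∃ j g h i : κ, F = C j * (C g + C h * X 0 + C i * X 1) ^ 2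

local notation "M0" => MvPolynomial.idealOfVars (Fin 2) κ

theorem coeff_quad (a b c d e f : κ) :
    (quad 0 1 a b c d e f).coeff 0 = a ∧
    (quad 0 1 a b c d e f).coeff (Finsupp.single 0 1) = b ∧
    (quad 0 1 a b c d e f).coeff (Finsupp.single 1 1) = c ∧
    (quad 0 1 a b c d e f).coeff (Finsupp.single 0 2) = d ∧
    (quad 0 1 a b c d e f).coeff (Finsupp.single 0 1 + Finsupp.single 1 1) = e ∧
    (quad 0 1 a b c d e f).coeff (Finsupp.single 1 2) = f := by
  classical
  have h : quad 0 1 a b c d e f =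
      monomial 0 a + monomial (Finsupp.single 0 1) b + monomial (Finsupp.single 1 1) c +
      monomial (Finsupp.single 0 2) d + monomial (Finsupp.single 0 1 + Finsupp.single 1 1) e +
      monomial (Finsupp.single 1 2) f := by
    have he : C e * X 0 * X 1 = monomial (Finsupp.single 0 1 + Finsupp.single (1 : Fin 2) 1) e := by
      rw [C_mul_X_eq_monomial, X, monomial_mul, mul_one]
    rw [quad, he]
    simp only [C_mul_X_eq_monomial, C_mul_X_pow_eq_monomial]
    rfl
  rw [h]
  simp [coeff_monomial, Finsupp.ext_iff, Fin.forall_fin_two, Finsupp.single_apply]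

theorem coeff_quadratic_eq_zero {S : Type u} [CommRing S] {u v w : S}
    (h : Polynomial.C u + Polynomial.C v * Polynomial.X + Polynomial.C w * Polynomial.X ^ 2 = 0) :
    u = 0 ∧ v = 0 ∧ w = 0 := by
  refine ⟨?_, ?_, ?_⟩
  · simpa [Polynomial.coeff_C, Polynomial.coeff_X, -map_mul, -map_add, -map_pow] using congrArg (fun q => Polynomial.coeff q 0) h
  · simpa [Polynomial.coeff_C, Polynomial.coeff_X, -map_mul, -map_add, -map_pow] using congrArg (fun q => Polynomial.coeff q 1) h
  · simpa [Polynomial.coeff_C, Polynomial.coeff_X, -map_mul, -map_add, -map_pow] using congrArg (fun q => Polynomial.coeff q 2) h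

theorem eq_zero_of_mem_cube {a b c d e f : κ} (h : quad 0 1 a b c d e f ∈ M0 ^ 3) :
    a = 0 ∧ b = 0 ∧ c = 0 ∧ d = 0 ∧ e = 0 ∧ f = 0 := by
  obtain ⟨ha, hb, hc, hd, he, hf⟩ := coeff_quad a b c d e f
  rw [mem_pow_idealOfVars_iff'] at h
  refine ⟨ha ▸ h _ ?_, hb ▸ h _ ?_, hc ▸ h _ ?_, hd ▸ h _ ?_, he ▸ h _ ?_, hf ▸ h _ ?_⟩ <;> simp

theorem eq_zero_of_mem_sq {a b c d e f : κ} (h : quad 0 1 a b c d e f ∈ M0 ^ 2) :
    a = 0 ∧ b = 0 ∧ c = 0 := by
  obtain ⟨ha, hb, hc, -, -, -⟩ := coeff_quad a b c d e f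
  rw [mem_pow_idealOfVars_iff'] at h
  refine ⟨ha ▸ h _ ?_, hb ▸ h _ ?_, hc ▸ h _ ?_⟩ <;> simp

theorem mem_M0_iff (g : R) : g ∈ M0 ↔ constantCoeff g = 0 := by
  rw [← pow_one M0, mem_pow_idealOfVars_iff', constantCoeff_eq]
  refine ⟨fun h => h 0 (by simp), fun h d hd => ?_⟩
  obtain rfl : d = 0 := (Finsupp.degree_eq_zero_iff d).mp (by omega)
  exact h

theorem M0_isMaximal : (M0).IsMaximal := by
  rw [show M0 = RingHom.ker (constantCoeff : R →+* κ) from Ideal.ext fun g => mem_M0_iff g]
  exact RingHom.ker_isMaximal_of_surjective _ fun c => ⟨C c, constantCoeff_C _ c⟩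

theorem linear_part {g : R} (hg : g ∈ M0) :
    g - (C (g.coeff (Finsupp.single 0 1)) * X 0 + C (g.coeff (Finsupp.single 1 1)) * X 1) ∈ M0 ^ 2 := by
  classical
  rw [mem_pow_idealOfVars_iff']
  intro x hx
  rw [coeff_sub, coeff_add, C_mul_X_eq_monomial, C_mul_X_eq_monomial, coeff_monomial, coeff_monomial]
  have h0 : g.coeff 0 = 0 := by rw [← constantCoeff_eq]; exact (mem_M0_iff g).mp hg
  have hdeg : x 0 + x 1 < 2 := by simpa [Finsupp.degree_eq_sum, Fin.sum_univ_two] using hx
  have hcases : x = 0 ∨ x = Finsupp.single 0 1 ∨ x = Finsupp.single 1 1 := by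
    simp [Finsupp.ext_iff, Fin.forall_fin_two, Finsupp.single_apply]
    omega
  rcases hcases with rfl | rfl | rfl <;>
    simp [h0, Finsupp.ext_iff, Fin.forall_fin_two, Finsupp.single_apply]

/-- The case of a closed point with `x̄ ∉ κ`. -/
theorem nonrational (i0 i1 : Fin 2) (hi : i0 ≠ i1) (m : Ideal R) [m.IsMaximal] (a b c d e f : κ)
    (hne : (a, b, c, d, e, f) ≠ (0, 0, 0, 0, 0, 0)) (hF : quad i0 i1 a b c d e f ∈ m ^ 2)
    (hx : ∀ p : κ, X i0 - C p ∉ m) (hyd : f ≠ 0 ∨ (∃ r : κ, X i1 - C r ∈ m) ∨ d = 0) :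
    ∃ g h : κ, quad i0 i1 a b c d e f = C f * (C g + C h * X i0 + X i1) ^ 2 := by
  letI : Field (R ⧸ m) := Ideal.Quotient.field m
  haveI : Module.Finite κ (R ⧸ m) := finite_of_finite_type_of_isJacobsonRing κ (R ⧸ m)
  let π : R →ₐ[κ] R ⧸ m := Ideal.Quotient.mkₐ κ m
  let xb : R ⧸ m := π (X i0)
  let yb : R ⧸ m := π (X i1)
  have hxb : ∀ p : κ, xb ≠ algebraMap κ _ p := fun p h => hx p (by
    rw [← Ideal.Quotient.eq_zero_iff_mem, map_sub, sub_eq_zero]
    exact h)
  have hlin : ∀ u v : κ, algebraMap κ (R ⧸ m) u + algebraMap κ (R ⧸ m) v * xb = 0 → u = 0 ∧ v = 0 := by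
    intro u v h
    by_cases hv : v = 0
    · subst hv
      rw [map_zero, zero_mul, add_zero, map_eq_zero] at h
      exact ⟨h, rfl⟩
    · refine absurd ?_ (hxb (-u / v))
      rw [map_div₀, map_neg, eq_div_iff (by simpa using hv)]
      linear_combination h
  let E : IntermediateField κ (R ⧸ m) := IntermediateField.adjoin κ {xb}
  let xE : E := ⟨xb, IntermediateField.mem_adjoin_simple_self κ xb⟩
  have hlinE : ∀ u v : κ, algebraMap κ E u + algebraMap κ E v * xE = 0 → u = 0 ∧ v = 0 := fun u v h =>
    hlin u v (congrArg Subtype.val h)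
  let φ : R →ₐ[κ] Polynomial E := aeval fun i => if i = i0 then Polynomial.C xE else Polynomial.X
  let hm : Polynomial E := minpoly E yb
  haveI : Module.Finite E (R ⧸ m) := Module.Finite.of_restrictScalars_finite κ E (R ⧸ m)
  have hyint : IsIntegral E yb := IsIntegral.of_finite E yb
  have hφm : m.map φ ≤ Ideal.span {hm} := by
    rw [Ideal.map_le_iff_le_comap]
    intro P hP
    rw [Ideal.mem_comap, Ideal.mem_span_singleton, minpoly.dvd_iff]
    have : ((Polynomial.aeval yb).restrictScalars κ).comp φ = π := by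
      refine MvPolynomial.algHom_ext fun i => ?_
      by_cases h : i = i0
      · subst h; simp [φ, xE, xb]
      · have hi1 : i = i1 := by omega
        subst hi1; simp [φ, h, yb]
    exact (DFunLike.congr_fun this P).trans (Ideal.Quotient.eq_zero_iff_mem.mpr hP)
  have hdvd : hm ^ 2 ∣ φ (quad i0 i1 a b c d e f) := by
    rw [← Ideal.mem_span_singleton, ← Ideal.span_singleton_pow]
    refine Ideal.pow_right_mono hφm 2 ?_
    rw [← Ideal.map_pow]
    exact Ideal.mem_map_of_mem _ hF
  let A : E := algebraMap κ E a + algebraMap κ E b * xE + algebraMap κ E d * xE ^ 2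
  let B : E := algebraMap κ E c + algebraMap κ E e * xE
  have hφF : φ (quad i0 i1 a b c d e f) =
      Polynomial.C A + Polynomial.C B * Polynomial.X + Polynomial.C (algebraMap κ E f) * Polynomial.X ^ 2 := by
    simp [quad, φ, A, B, hi.symm]
    ring
  rw [hφF] at hdvd
  have hmon : hm.Monic := minpoly.monic hyint
  -- either `ȳ ∈ κ[x̄]` or the y-dependence vanishes
  by_cases hyE : yb ∈ E
  · obtain ⟨p₀, hp₀⟩ : ∃ p : Polynomial κ, Polynomial.aeval xb p = yb := by
      have h1 : yb ∈ E.toSubalgebra := hyE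
      rw [IntermediateField.adjoin_simple_toSubalgebra_of_isAlgebraic (Algebra.IsAlgebraic.isAlgebraic xb),
        Algebra.adjoin_singleton_eq_range_aeval] at h1
      exact h1
    let g := minpoly κ xb
    have hgint : IsIntegral κ xb := IsIntegral.of_finite κ xb
    have hg2 : 2 ≤ g.natDegree := by
      refine (minpoly.two_le_natDegree_iff hgint).mpr ?_
      rintro ⟨p, hp⟩
      exact hxb p hp.symm
    let p := p₀ %ₘ g
    have hp : Polynomial.aeval xb p = yb := by
      rw [← hp₀]; exact Polynomial.aeval_modByMonic_eq_self_of_root (minpoly.aeval κ xb)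
    have hpdeg : p.natDegree < g.natDegree :=
      Polynomial.natDegree_modByMonic_lt _ (minpoly.monic hgint) (minpoly.ne_one κ xb)
    let ψ : R →ₐ[κ] Polynomial κ := aeval fun i => if i = i0 then Polynomial.X else p
    have hψm : m.map ψ ≤ Ideal.span {g} := by
      rw [Ideal.map_le_iff_le_comap]
      intro P hP
      rw [Ideal.mem_comap, Ideal.mem_span_singleton, minpoly.dvd_iff]
      have : (Polynomial.aeval xb).comp ψ = π := by
        refine MvPolynomial.algHom_ext fun i => ?_
        by_cases h : i = i0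
        · subst h; simp [ψ, xb]
        · have hi1 : i = i1 := by omega
          subst hi1; simp [ψ, h, hp, yb]
      exact (DFunLike.congr_fun this P).trans (Ideal.Quotient.eq_zero_iff_mem.mpr hP)
    let rest : Polynomial κ := Polynomial.C a + Polynomial.C b * Polynomial.X + Polynomial.C d * Polynomial.X ^ 2 +
      (Polynomial.C c + Polynomial.C e * Polynomial.X) * p
    have hψF : ψ (quad i0 i1 a b c d e f) = rest + Polynomial.C f * p ^ 2 := by
      simp [quad, ψ, rest, hi.symm]
      ring
    have hrest : rest.natDegree ≤ max 2 (1 + p.natDegree) := by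
      refine (Polynomial.natDegree_add_le _ _).trans (max_le_max ?_ ?_)
      · compute_degree
      · refine Polynomial.natDegree_mul_le.trans (Nat.add_le_add_right ?_ _)
        compute_degree
    have hzero : rest + Polynomial.C f * p ^ 2 = 0 := by
      refine Polynomial.eq_zero_of_dvd_of_natDegree_lt (p := g ^ 2) ?_ ?_
      · rw [← hψF, ← Ideal.mem_span_singleton, ← Ideal.span_singleton_pow]
        refine Ideal.pow_right_mono hψm 2 ?_
        rw [← Ideal.map_pow]
        exact Ideal.mem_map_of_mem _ hF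
      · rw [Polynomial.natDegree_pow]
        have h1 := Polynomial.natDegree_add_le rest (Polynomial.C f * p ^ 2)
        have h2 : (Polynomial.C f * p ^ 2).natDegree ≤ 2 * p.natDegree :=
          (Polynomial.natDegree_C_mul_le _ _).trans Polynomial.natDegree_pow_le
        omega
    have hp1 : f ≠ 0 → p.natDegree ≤ 1 := by
      intro hf
      by_contra hn
      have h2 : (Polynomial.C f * p ^ 2).natDegree = 2 * p.natDegree := by
        rw [Polynomial.natDegree_C_mul hf, Polynomial.natDegree_pow]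
      have h3 : rest.natDegree < (Polynomial.C f * p ^ 2).natDegree := by omega
      have := Polynomial.natDegree_add_eq_right_of_natDegree_lt h3
      rw [hzero, Polynomial.natDegree_zero] at this
      omega
    -- the `y`-coefficient
    have hyb : yb = ((⟨yb, hyE⟩ : E) : R ⧸ m) := rfl
    have hhm : hm = Polynomial.X - Polynomial.C (⟨yb, hyE⟩ : E) := minpoly.eq_X_sub_C (R ⧸ m) (⟨yb, hyE⟩ : E)
    have hBA : B + 2 * algebraMap κ E f * ⟨yb, hyE⟩ = 0 := by
      let q := Polynomial.C A + Polynomial.C B * Polynomial.X + Polynomial.C (algebraMap κ E f) * Polynomial.X ^ 2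
        - Polynomial.C (algebraMap κ E f) * hm ^ 2
      have hq : q = Polynomial.C (B + 2 * algebraMap κ E f * ⟨yb, hyE⟩) * Polynomial.X +
          Polynomial.C (A - algebraMap κ E f * ⟨yb, hyE⟩ ^ 2) := by
        simp only [q, hhm, map_add, map_sub, map_mul, map_pow, map_ofNat]
        ring
      have hq0 : q = 0 := Polynomial.eq_zero_of_dvd_of_natDegree_lt (dvd_sub hdvd (Dvd.intro_left _ rfl)) (by
        rw [hq, hhm, Polynomial.natDegree_pow, Polynomial.natDegree_X_sub_C]
        have := Polynomial.natDegree_linear_le (a := B + 2 * algebraMap κ E f * ⟨yb, hyE⟩)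
          (b := A - algebraMap κ E f * ⟨yb, hyE⟩ ^ 2)
        omega)
      simpa [hq, Polynomial.coeff_C] using congrArg (fun q => Polynomial.coeff q 1) hq0
    by_cases hf : f = 0
    · subst hf
      obtain ⟨rfl, rfl⟩ : c = 0 ∧ e = 0 := hlinE c e (by simpa [B] using hBA)
      have h0 : rest = 0 := by simpa using hzero
      simp only [rest, map_zero, zero_mul, add_zero] at h0
      have ha : a = 0 := by simpa [Polynomial.coeff_C, Polynomial.coeff_X] using congrArg (fun q => Polynomial.coeff q 0) h0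
      have hb : b = 0 := by simpa [Polynomial.coeff_C, Polynomial.coeff_X] using congrArg (fun q => Polynomial.coeff q 1) h0
      have hd : d = 0 := by simpa [Polynomial.coeff_C, Polynomial.coeff_X] using congrArg (fun q => Polynomial.coeff q 2) h0
      exact absurd (by rw [ha, hb, hd]) hne
    · obtain ⟨h, g', hpl⟩ := Polynomial.exists_eq_X_add_C_of_natDegree_le_one (hp1 hf)
      have hyl : yb = algebraMap κ _ h * xb + algebraMap κ _ g' := by rw [← hp, hpl]; simp
      have hB : c + 2 * f * g' = 0 ∧ e + 2 * f * h = 0 := hlin _ _ (by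
        have := congrArg Subtype.val hBA
        simp only [B, AddMemClass.coe_add, MulMemClass.coe_mul, ZeroMemClass.coe_zero] at this
        simp only [map_add, map_mul, map_ofNat]
        rw [hyl] at this
        refine Eq.trans ?_ this
        show _ = algebraMap κ (R ⧸ m) c + algebraMap κ (R ⧸ m) e * xb + 2 * algebraMap κ (R ⧸ m) f * _
        ring)
      have hexp : rest + Polynomial.C f * p ^ 2 =
          Polynomial.C (a + c * g' + f * g' ^ 2) + Polynomial.C (b + c * h + e * g' + 2 * f * g' * h) * Polynomial.X +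
            Polynomial.C (d + e * h + f * h ^ 2) * Polynomial.X ^ 2 := by
        simp only [rest, hpl, map_add, map_mul, map_pow, map_ofNat]
        ring
      rw [hexp] at hzero
      obtain ⟨h0, h1, h2⟩ := coeff_quadratic_eq_zero hzero
      obtain ⟨hc, he⟩ := hB
      obtain rfl : c = -(2 * f * g') := by linear_combination hc
      obtain rfl : e = -(2 * f * h) := by linear_combination he
      obtain rfl : a = f * g' ^ 2 := by linear_combination h0
      obtain rfl : b = 2 * f * g' * h := by linear_combination h1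
      obtain rfl : d = f * h ^ 2 := by linear_combination h2
      refine ⟨-g', -h, ?_⟩
      simp only [quad, map_neg, map_mul, map_pow, map_ofNat]
      ring
  · exfalso
    have hdeg : 2 ≤ hm.natDegree := by
      refine (minpoly.two_le_natDegree_iff hyint).mpr ?_
      rintro ⟨r, hr⟩
      exact hyE (hr ▸ r.2)
    have hz : Polynomial.C A + Polynomial.C B * Polynomial.X + Polynomial.C (algebraMap κ E f) * Polynomial.X ^ 2 = 0 := by
      refine Polynomial.eq_zero_of_dvd_of_natDegree_lt hdvd ?_
      rw [Polynomial.natDegree_pow]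
      refine lt_of_le_of_lt (show _ ≤ 2 by compute_degree) (by omega)
    have hA : A = 0 := by simpa [Polynomial.coeff_C, Polynomial.coeff_X] using congrArg (fun q => Polynomial.coeff q 0) hz
    have hB : B = 0 := by simpa [Polynomial.coeff_C, Polynomial.coeff_X] using congrArg (fun q => Polynomial.coeff q 1) hz
    have hf : f = 0 := by simpa [Polynomial.coeff_C, Polynomial.coeff_X] using congrArg (fun q => Polynomial.coeff q 2) hz
    obtain ⟨rfl, rfl⟩ := hlinE c e hB
    subst hf
    rcases hyd with h | ⟨r, hr⟩ | hd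
    · exact h rfl
    · refine hyE ?_
      have : yb = algebraMap κ _ r := by
        rw [← sub_eq_zero]
        exact (map_sub π _ _).symm.trans (Ideal.Quotient.eq_zero_iff_mem.mpr hr)
      rw [this]
      exact E.algebraMap_mem r
    · subst hd
      obtain ⟨rfl, rfl⟩ := hlinE a b (by simpa [A] using hA)
      exact hne rfl

/-- A non-rational closed point. -/
theorem isSq_of_nonrational (m : Ideal R) [m.IsMaximal] (a b c d e f : κ)
    (hne : (a, b, c, d, e, f) ≠ (0, 0, 0, 0, 0, 0)) (hF : quad 0 1 a b c d e f ∈ m ^ 2)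
    (hm : ¬ ((∃ p : κ, X 0 - C p ∈ m) ∧ ∃ r : κ, X 1 - C r ∈ m)) :
    IsSq (quad 0 1 a b c d e f) := by
  have hswap : quad 0 1 a b c d e f = quad 1 0 a c b f e d := by simp only [quad]; ring
  by_cases hx : ∃ p : κ, X 0 - C p ∈ m
  · have hy : ∀ r : κ, X 1 - C r ∉ m := fun r hr => hm ⟨hx, r, hr⟩
    obtain ⟨g, h, e'⟩ := nonrational 1 0 (by decide) m a c b f e d
      (fun hh => hne (by simp only [Prod.mk.injEq] at hh ⊢; obtain ⟨h1, h2, h3, h4, h5, h6⟩ := hh; exact ⟨h1, h3, h2, h6, h5, h4⟩))
      (hswap ▸ hF) hy (Or.inr (Or.inl hx))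
    exact ⟨d, g, 1, h, by rw [hswap, e', map_one]; ring⟩
  · push Not at hx
    by_cases hyd : f ≠ 0 ∨ (∃ r : κ, X 1 - C r ∈ m) ∨ d = 0
    · obtain ⟨g, h, e'⟩ := nonrational 0 1 (by decide) m a b c d e f hne hF hx hyd
      exact ⟨f, g, h, 1, by rw [e', map_one]; ring⟩
    · push Not at hyd
      obtain ⟨g, h, e'⟩ := nonrational 1 0 (by decide) m a c b f e d
        (fun hh => hne (by simp only [Prod.mk.injEq] at hh ⊢; obtain ⟨h1, h2, h3, h4, h5, h6⟩ := hh; exact ⟨h1, h3, h2, h6, h5, h4⟩))
        (hswap ▸ hF) hyd.2.1 (Or.inl hyd.2.2)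
      exact ⟨d, g, 1, h, by rw [hswap, e', map_one]; ring⟩

/-- The translation by `(p, r)`. -/
noncomputable def shift (p r : κ) : R →ₐ[κ] R := aeval ![X 0 + C p, X 1 + C r]

theorem shift_shift (p r : κ) (g : R) : shift (-p) (-r) (shift p r g) = g := by
  have : (shift (-p) (-r)).comp (shift p r) = AlgHom.id κ R :=
    MvPolynomial.algHom_ext fun i => by fin_cases i <;> simp [shift]
  exact DFunLike.congr_fun this g

theorem constantCoeff_shift (p r : κ) (g : R) : constantCoeff (shift p r g) = eval ![p, r] g := by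
  have : (constantCoeff : R →+* κ).comp (shift p r).toRingHom = eval ![p, r] := by
    refine MvPolynomial.ringHom_ext (fun z => by simp [shift]) fun i => by fin_cases i <;> simp [shift]
  exact DFunLike.congr_fun this g

theorem shift_quad (p r a b c d e f : κ) :
    shift p r (quad 0 1 a b c d e f) = quad 0 1 (a + b * p + c * r + d * p ^ 2 + e * p * r + f * r ^ 2)
      (b + 2 * d * p + e * r) (c + e * p + 2 * f * r) d e f := by
  simp only [shift, quad, map_add, map_mul, map_pow, map_ofNat, aeval_C, aeval_X, Matrix.cons_val_zero,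
    Matrix.cons_val_one, algebraMap_eq]
  ring

theorem IsSq.shift {F : R} (p r : κ) (h : IsSq F) : IsSq (shift p r F) := by
  obtain ⟨j, g, h', i, rfl⟩ := h
  refine ⟨j, g + h' * p + i * r, h', i, ?_⟩
  simp only [ConicSquare.shift, map_add, map_mul, map_pow, aeval_C, aeval_X, Matrix.cons_val_zero,
    Matrix.cons_val_one, algebraMap_eq]
  ring

/-- Rational coordinates of a maximal ideal. -/
theorem eq_ker_eval (m : Ideal R) [m.IsMaximal] (p r : κ) (hp : X 0 - C p ∈ m) (hr : X 1 - C r ∈ m) :
    m = RingHom.ker (eval ![p, r]) := by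
  let π := Ideal.Quotient.mkₐ κ m
  have h : π = (Algebra.ofId κ (R ⧸ m)).comp (aeval ![p, r]) := by
    refine MvPolynomial.algHom_ext fun i => ?_
    simp only [AlgHom.comp_apply, aeval_X]
    fin_cases i
    · exact (Ideal.Quotient.eq.mpr hp).trans rfl
    · exact (Ideal.Quotient.eq.mpr hr).trans rfl
  refine (Ideal.IsMaximal.eq_of_le ‹_› (RingHom.ker_ne_top _) fun g hg => ?_)
  have h1 : π g = 0 := Ideal.Quotient.eq_zero_iff_mem.mpr hg
  rw [h, AlgHom.comp_apply, Algebra.ofId_apply] at h1
  exact (algebraMap κ (R ⧸ m)).injective (h1.trans (map_zero _).symm)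

theorem isSq_of_le_M0 (I : Ideal R) (hle : I ≤ M0) (hne' : I ≠ M0) (a b c d e f : κ)
    (hne : (a, b, c, d, e, f) ≠ (0, 0, 0, 0, 0, 0)) (hF : quad 0 1 a b c d e f ∈ I ^ 2) :
    IsSq (quad 0 1 a b c d e f) := by
  classical
  have hX : ∀ i : Fin 2, (X i : R) ∈ M0 := fun i => Ideal.subset_span ⟨i, rfl⟩
  by_cases hdep : ∀ g ∈ I, ∀ g' ∈ I, g.coeff (Finsupp.single 0 1) * g'.coeff (Finsupp.single 1 1) =
      g.coeff (Finsupp.single 1 1) * g'.coeff (Finsupp.single 0 1)
  · obtain ⟨α, β, hI⟩ : ∃ α β : κ, I ≤ Ideal.span {C α * X 0 + C β * X 1} ⊔ M0 ^ 2 := by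
      by_cases hall : ∀ g ∈ I, g.coeff (Finsupp.single 0 1) = 0 ∧ g.coeff (Finsupp.single 1 1) = 0
      · refine ⟨0, 0, fun g hg => Ideal.mem_sup_right ?_⟩
        simpa [(hall g hg).1, (hall g hg).2] using linear_part (hle hg)
      · push Not at hall
        obtain ⟨g₀, hg₀, hg₀'⟩ := hall
        set α := g₀.coeff (Finsupp.single 0 1) with hα
        set β := g₀.coeff (Finsupp.single 1 1) with hβ
        refine ⟨α, β, fun g hg => ?_⟩
        set γ := g.coeff (Finsupp.single 0 1) with hγ
        set δ := g.coeff (Finsupp.single 1 1) with hδ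
        have hd : α * δ = β * γ := hdep g₀ hg₀ g hg
        obtain ⟨t, ht0, ht1⟩ : ∃ t, γ = t * α ∧ δ = t * β := by
          by_cases h0 : α = 0
          · have hb := hg₀' h0
            have hg0 : γ = 0 := by
              rw [h0, zero_mul, eq_comm, mul_eq_zero] at hd
              exact hd.resolve_left hb
            exact ⟨δ / β, by rw [hg0, h0, mul_zero], (div_mul_cancel₀ _ hb).symm⟩
          · exact ⟨γ / α, (div_mul_cancel₀ _ h0).symm, by field_simp; linear_combination hd⟩
        have := linear_part (hle hg)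
        rw [← hγ, ← hδ, ht0, ht1] at this
        rw [show g = C t * (C α * X 0 + C β * X 1) + (g - (C (t * α) * X 0 + C (t * β) * X 1)) by
          simp only [map_mul]; ring]
        exact add_mem (Ideal.mem_sup_left (Ideal.mul_mem_left _ _ (Ideal.subset_span rfl))) (Ideal.mem_sup_right this)
    set L : R := C α * X 0 + C β * X 1 with hL
    have hLm : Ideal.span {L} ≤ M0 := (Ideal.span_singleton_le_iff_mem (I := M0)).mpr
      (add_mem (Ideal.mul_mem_left _ _ (hX 0)) (Ideal.mul_mem_left _ _ (hX 1)))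
    have hJ : (Ideal.span {L} ⊔ M0 ^ 2) ^ 2 ≤ Ideal.span {L ^ 2} ⊔ M0 ^ 3 := by
      rw [pow_two (Ideal.span {L} ⊔ M0 ^ 2), Ideal.sup_mul, Ideal.mul_sup, Ideal.mul_sup,
        Ideal.span_singleton_mul_span_singleton, ← pow_two]
      refine sup_le (sup_le le_sup_left (le_sup_of_le_right ?_)) (sup_le (le_sup_of_le_right ?_) (le_sup_of_le_right ?_))
      · exact (Ideal.mul_mono_left hLm).trans (le_of_eq (pow_succ' M0 2).symm)
      · exact (Ideal.mul_mono_right hLm).trans (le_of_eq (pow_succ M0 2).symm)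
      · rw [← pow_add]; exact Ideal.pow_le_pow_right (by omega)
    obtain ⟨u, hu, w, hw, huw⟩ := Submodule.mem_sup.mp (hJ (Ideal.pow_right_mono hI 2 hF))
    obtain ⟨s, rfl⟩ := Ideal.mem_span_singleton'.mp hu
    set s₀ := constantCoeff s
    have hmem : quad 0 1 a b c d e f - C s₀ * L ^ 2 ∈ M0 ^ 3 := by
      rw [show quad 0 1 a b c d e f - C s₀ * L ^ 2 = (s - C s₀) * L ^ 2 + w by rw [← huw]; ring]
      refine add_mem ?_ hw
      rw [pow_succ' M0 2]
      refine Ideal.mul_mem_mul ((mem_M0_iff _).mpr (by simp [s₀])) ?_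
      exact Ideal.pow_mem_pow (hLm (Ideal.subset_span rfl)) 2
    rw [show quad 0 1 a b c d e f - C s₀ * L ^ 2 = quad 0 1 a b c (d - s₀ * α ^ 2) (e - 2 * s₀ * α * β) (f - s₀ * β ^ 2) by
      simp only [quad, hL, map_sub, map_mul, map_pow, map_ofNat]; ring] at hmem
    obtain ⟨rfl, rfl, rfl, hd, he, hf⟩ := eq_zero_of_mem_cube hmem
    obtain rfl : d = s₀ * α ^ 2 := sub_eq_zero.mp hd
    obtain rfl : e = 2 * s₀ * α * β := sub_eq_zero.mp he
    obtain rfl : f = s₀ * β ^ 2 := sub_eq_zero.mp hf
    exact ⟨s₀, 0, α, β, by simp only [quad, map_zero, map_mul, map_pow, map_ofNat]; ring⟩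
  · push Not at hdep
    obtain ⟨g, hg, g', hg', hdet⟩ := hdep
    have hsup : M0 ≤ I ⊔ M0 ^ 2 := by
      set α := g.coeff (Finsupp.single 0 1) with hα
      set β := g.coeff (Finsupp.single 1 1) with hβ
      set γ := g'.coeff (Finsupp.single 0 1) with hγ
      set δ := g'.coeff (Finsupp.single 1 1) with hδ
      set D := α * δ - β * γ with hD
      have hDu : C D⁻¹ * C D = (1 : R) := by rw [← map_mul, inv_mul_cancel₀ (sub_ne_zero.mpr hdet), map_one]
      have h1 : C α * X 0 + C β * X 1 ∈ I ⊔ M0 ^ 2 := by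
        rw [show C α * X 0 + C β * X 1 = g - (g - (C α * X 0 + C β * X 1)) by ring]
        exact sub_mem (Ideal.mem_sup_left hg) (Ideal.mem_sup_right (linear_part (hle hg)))
      have h2 : C γ * X 0 + C δ * X 1 ∈ I ⊔ M0 ^ 2 := by
        rw [show C γ * X 0 + C δ * X 1 = g' - (g' - (C γ * X 0 + C δ * X 1)) by ring]
        exact sub_mem (Ideal.mem_sup_left hg') (Ideal.mem_sup_right (linear_part (hle hg')))
      have hX0 : (X 0 : R) ∈ I ⊔ M0 ^ 2 := by
        rw [show (X 0 : R) = C D⁻¹ * (C δ * (C α * X 0 + C β * X 1) - C β * (C γ * X 0 + C δ * X 1)) by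
          rw [show C δ * (C α * X 0 + C β * X 1) - C β * (C γ * X 0 + C δ * X 1) = C D * (X 0 : R) by
            rw [hD, map_sub, map_mul, map_mul]; ring, ← mul_assoc, hDu, one_mul]]
        exact Ideal.mul_mem_left _ _ (sub_mem (Ideal.mul_mem_left _ _ h1) (Ideal.mul_mem_left _ _ h2))
      have hX1 : (X 1 : R) ∈ I ⊔ M0 ^ 2 := by
        rw [show (X 1 : R) = C D⁻¹ * (C α * (C γ * X 0 + C δ * X 1) - C γ * (C α * X 0 + C β * X 1)) by
          rw [show C α * (C γ * X 0 + C δ * X 1) - C γ * (C α * X 0 + C β * X 1) = C D * (X 1 : R) by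
            rw [hD, map_sub, map_mul, map_mul]; ring, ← mul_assoc, hDu, one_mul]]
        exact Ideal.mul_mem_left _ _ (sub_mem (Ideal.mul_mem_left _ _ h2) (Ideal.mul_mem_left _ _ h1))
      refine Ideal.span_le.mpr ?_
      rintro _ ⟨i, rfl⟩
      fin_cases i
      · exact hX0
      · exact hX1
    obtain ⟨m, hm, hIm, hmne⟩ : ∃ m : Ideal R, m.IsMaximal ∧ I ≤ m ∧ m ≠ M0 := by
      by_contra hno
      push Not at hno
      refine hne' (le_antisymm hle ?_)
      have hrad : M0 ≤ I.radical := by
        rw [Ideal.radical_eq_jacobson]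
        exact le_sInf fun m ⟨hIm, hm⟩ => le_of_eq (hno m hm hIm).symm
      obtain ⟨N, hN⟩ := Ideal.exists_pow_le_of_le_radical_of_fg hrad (IsNoetherian.noetherian _)
      have hstep : ∀ k, M0 ≤ I ⊔ M0 ^ (k + 1) := by
        intro k
        induction k with
        | zero => rw [pow_one]; exact le_sup_right
        | succ k ih =>
          refine hsup.trans (sup_le le_sup_left ?_)
          calc M0 ^ 2 = M0 * M0 := pow_two _
            _ ≤ (I ⊔ M0 ^ (k + 1)) * M0 := Ideal.mul_mono_left ih
            _ ≤ I ⊔ M0 ^ (k + 1 + 1) := by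
              rw [Ideal.sup_mul, pow_succ M0 (k + 1)]
              exact sup_le_sup_right Ideal.mul_le_left _ 
      exact (hstep N).trans (sup_le le_rfl ((Ideal.pow_le_pow_right (Nat.le_succ N)).trans hN))
    have hF' := Ideal.pow_right_mono hIm 2 hF
    by_cases hrat : (∃ p : κ, X 0 - C p ∈ m) ∧ ∃ r : κ, X 1 - C r ∈ m
    · obtain ⟨⟨p, hp⟩, r, hr⟩ := hrat
      have hmk := eq_ker_eval m p r hp hr
      obtain ⟨rfl, rfl, rfl⟩ := eq_zero_of_mem_sq (Ideal.pow_right_mono hle 2 hF)
      have hs : quad 0 1 (0 + 0 * p + 0 * r + d * p ^ 2 + e * p * r + f * r ^ 2)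
          (0 + 2 * d * p + e * r) (0 + e * p + 2 * f * r) d e f ∈ M0 ^ 2 := by
        rw [← shift_quad]
        have hle' : m.map (shift p r) ≤ M0 := Ideal.map_le_iff_le_comap.mpr fun z hz => by
          rw [Ideal.mem_comap, mem_M0_iff, constantCoeff_shift]
          rw [hmk] at hz
          exact hz
        refine Ideal.pow_right_mono hle' 2 ?_
        rw [← Ideal.map_pow]
        exact Ideal.mem_map_of_mem _ hF'
      obtain ⟨h0, h1, h2⟩ := eq_zero_of_mem_sq hs
      by_cases hp0 : p = 0
      · subst hp0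
        have hr0 : r ≠ 0 := by
          rintro rfl
          refine hmne (hmk.trans (Ideal.ext fun z => ?_))
          rw [mem_M0_iff, RingHom.mem_ker, ← constantCoeff_shift (0 : κ) 0 z,
            show shift (0 : κ) 0 = AlgHom.id κ R from MvPolynomial.algHom_ext fun i => by fin_cases i <;> simp [shift]]
          rfl
        obtain rfl : f = 0 := by
          have : f * r ^ 2 = 0 := by linear_combination h0
          exact (mul_eq_zero.mp this).resolve_right (pow_ne_zero 2 hr0)
        obtain rfl : e = 0 := by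
          have : e * r = 0 := by linear_combination h1
          exact (mul_eq_zero.mp this).resolve_right hr0
        exact ⟨d, 0, 1, 0, by simp [quad]⟩
      · refine ⟨f / p ^ 2, 0, -r, p, ?_⟩
        obtain rfl : e = -(2 * f * r) / p := by field_simp; linear_combination h2
        obtain rfl : d = f * r ^ 2 / p ^ 2 := by
          field_simp at h0 ⊢
          linear_combination h0
        have key : ∀ t : κ, t * p = 1 → quad 0 1 0 0 0 (f * r ^ 2 * t ^ 2) (-(2 * f * r) * t) f =
            C (f * t ^ 2) * (C 0 + C (-r) * X 0 + C p * X 1) ^ 2 := fun t ht => by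
          have ht' : C t * C p = (1 : R) := by rw [← map_mul, ht, map_one]
          simp only [quad, map_zero, map_neg, map_mul, map_pow, map_ofNat]
          linear_combination (2 * C f * C r * C t * X 0 * X 1 - C f * (C t * C p + 1) * X 1 ^ 2) * ht'
        have := key p⁻¹ (inv_mul_cancel₀ hp0)
        rw [inv_pow, ← div_eq_mul_inv, ← div_eq_mul_inv, ← div_eq_mul_inv] at this
        exact this
    · exact isSq_of_nonrational m a b c d e f hne hF' hrat

/-- The square theorem. -/
theorem isSq_of_mem_sq (I : Ideal R)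
    (hI : ¬ (Module.Finite κ (R ⧸ I) ∧ Module.finrank κ (R ⧸ I) ≤ 1)) (a b c d e f : κ)
    (hne : (a, b, c, d, e, f) ≠ (0, 0, 0, 0, 0, 0)) (hF : quad 0 1 a b c d e f ∈ I ^ 2) :
    IsSq (quad 0 1 a b c d e f) := by
  have htop : I ≠ ⊤ := by
    rintro rfl
    haveI : Subsingleton (R ⧸ (⊤ : Ideal R)) := Ideal.Quotient.subsingleton_iff.mpr rfl
    exact hI ⟨inferInstance, by rw [Module.finrank_zero_of_subsingleton]; exact zero_le_one⟩
  obtain ⟨m, hm, hIm⟩ := Ideal.exists_le_maximal I htop
  by_cases hrat : (∃ p : κ, X 0 - C p ∈ m) ∧ ∃ r : κ, X 1 - C r ∈ m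
  · obtain ⟨⟨p, hp⟩, r, hr⟩ := hrat
    have hmk := eq_ker_eval m p r hp hr
    have hmem : shift p r (quad 0 1 a b c d e f) ∈ I.map (shift p r) ^ 2 := by
      rw [← Ideal.map_pow]; exact Ideal.mem_map_of_mem _ hF
    rw [shift_quad] at hmem
    have hle : I.map (shift p r) ≤ M0 := Ideal.map_le_iff_le_comap.mpr fun z hz => by
      rw [Ideal.mem_comap, mem_M0_iff, constantCoeff_shift]
      have := hIm hz
      rw [hmk] at this
      exact this
    have hne' : I.map (shift p r) ≠ M0 := by
      intro h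
      have hle2 : m ≤ I := fun z hz => by
        have hz' : shift p r z ∈ I.map (shift p r) := by
          rw [h, mem_M0_iff, constantCoeff_shift]
          rw [hmk] at hz
          exact hz
        have h2 := Ideal.mem_map_of_mem (shift (-p) (-r)) hz'
        rw [shift_shift] at h2
        refine Ideal.map_le_iff_le_comap.mpr ?_ h2
        rw [Ideal.map_le_iff_le_comap]
        intro v hv
        rw [Ideal.mem_comap, Ideal.mem_comap, shift_shift]
        exact hv
      have hIeq : I = RingHom.ker (aeval ![p, r] : R →ₐ[κ] κ) := (le_antisymm hIm hle2).trans hmk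
      let e' : (R ⧸ I) ≃ₐ[κ] κ := (Ideal.quotientEquivAlgOfEq κ hIeq).trans
        (Ideal.quotientKerAlgEquivOfSurjective (f := (aeval ![p, r] : R →ₐ[κ] κ)) fun z => ⟨C z, aeval_C _ z⟩)
      exact hI ⟨Module.Finite.equiv e'.symm.toLinearEquiv,
        le_of_eq (e'.toLinearEquiv.finrank_eq.trans (Module.finrank_self κ))⟩
    have hne2 : (a + b * p + c * r + d * p ^ 2 + e * p * r + f * r ^ 2, b + 2 * d * p + e * r,
        c + e * p + 2 * f * r, d, e, f) ≠ (0, 0, 0, 0, 0, 0) := by
      intro h
      simp only [Prod.mk.injEq] at h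
      obtain ⟨h0, h1, h2, rfl, rfl, rfl⟩ := h
      obtain rfl : b = 0 := by linear_combination h1
      obtain rfl : c = 0 := by linear_combination h2
      obtain rfl : a = 0 := by linear_combination h0
      exact hne rfl
    have := (isSq_of_le_M0 _ hle hne' _ _ _ _ _ _ hne2 hmem).shift (-p) (-r)
    rwa [← shift_quad, shift_shift] at this
  · exact isSq_of_nonrational m a b c d e f hne (Ideal.pow_right_mono hIm 2 hF) hrat

end Groth.L01.ConicSquare
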