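import Groth.Agent.L02.Dominate
import Groth.Agent.L02.CountableML
import Mathlib.RingTheory.Flat.EquationalCriterion
import Mathlib.LinearAlgebra.Finsupp.Pi
import Mathlib.Algebra.Module.Projective

/-!
Countably generated flat Mittag-Leffler modules are projective.
-/

universe u

namespace Groth.L01.CountFlatML

open TensorProduct Groth.L02

variable {R : Type u} [CommRing R] {N : Type u} [AddCommGroup N] [Module R N]

/-- one step of the tower of finite free modules -/
theorem free_step [Module.Flat R N] (hML : CAlg.IsMittagLeffler R N) (x : N) (l : ℕ)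
    (k : (Fin l → R) →ₗ[R] N) :
    ∃ (l' : ℕ) (k' : (Fin l' → R) →ₗ[R] N) (v : (Fin l → R) →ₗ[R] (Fin l' → R)),
      k'.comp v = k ∧ x ∈ LinearMap.range k' ∧
      ∀ (Q : Type u) [AddCommGroup Q] [Module R Q],
        LinearMap.ker (k.rTensor Q) ≤ LinearMap.ker (v.rTensor Q) := by
  obtain ⟨n, K, hK, k₁, v₁, hkv, hx, hdom⟩ := ml_step hML k x
  haveI : Module.FinitePresentation R ((Fin n → R) ⧸ K) :=
    Module.finitePresentation_of_surjective K.mkQ K.mkQ_surjective (by rwa [Submodule.ker_mkQ])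
  obtain ⟨l', a, b, hab⟩ := Module.Flat.exists_factorization_of_finitePresentation k₁
  let e : (Fin l' →₀ R) ≃ₗ[R] (Fin l' → R) := Finsupp.linearEquivFunOnFinite R R (Fin l')
  refine ⟨l', b ∘ₗ e.symm.toLinearMap, e.toLinearMap ∘ₗ a ∘ₗ v₁, ?_, ?_, fun Q _ _ z hz => ?_⟩
  · refine LinearMap.ext fun y => ?_
    simp only [LinearMap.comp_apply, LinearEquiv.coe_coe, e.symm_apply_apply]
    rw [← LinearMap.congr_fun hkv y, hab]
    rfl
  · obtain ⟨y, rfl⟩ := hx
    exact ⟨e (a y), by simp [hab]⟩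
  · rw [LinearMap.mem_ker, LinearMap.rTensor_comp, LinearMap.comp_apply, LinearMap.rTensor_comp,
      LinearMap.comp_apply, LinearMap.mem_ker.mp (hdom Q hz), map_zero, map_zero]

theorem projective [Module.Flat R N] (hML : CAlg.IsMittagLeffler R N)
    (hc : CAlg.IsCountablyGenerated R N) : Module.Projective R N := by
  classical
  obtain ⟨s, hs, hspan⟩ := hc
  obtain ⟨x, hx⟩ := (hs.insert 0).exists_eq_range (Set.insert_nonempty _ _)
  choose L K V hKV hxK hdom using fun (n : ℕ) (l : ℕ) (k : (Fin l → R) →ₗ[R] N) => free_step hML (x n) l k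
  let st : ℕ → Σ l : ℕ, ((Fin l → R) →ₗ[R] N) :=
    fun n => Nat.rec ⟨0, 0⟩ (fun n p => ⟨L n p.1 p.2, K n p.1 p.2⟩) n
  let l : ℕ → ℕ := fun n => (st n).1
  let k : ∀ n, (Fin (l n) → R) →ₗ[R] N := fun n => (st n).2
  let v : ∀ n, (Fin (l n) → R) →ₗ[R] (Fin (l (n + 1)) → R) := fun n => V n (l n) (k n)
  have hkv : ∀ n, (k (n + 1)) ∘ₗ v n = k n := fun n => hKV n _ _
  have hx' : ∀ n, x n ∈ LinearMap.range (k (n + 1)) := fun n => hxK n _ _
  have hd : ∀ n (Q : Type u) [AddCommGroup Q] [Module R Q],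
      LinearMap.ker ((k n).rTensor Q) ≤ LinearMap.ker ((v n).rTensor Q) := fun n => hdom n _ _
  have hw : ∀ n, ∃ w : (Fin (l (n + 2)) → R) →ₗ[R] (Fin (l (n + 1)) → R),
      v n = w ∘ₗ (v (n + 1) ∘ₗ v n) := by
    intro n
    haveI : Module.FinitePresentation R
        ((Fin (l (n + 2)) → R) ⧸ LinearMap.range (v (n + 1) ∘ₗ v n)) :=
      Module.finitePresentation_of_surjective (Submodule.mkQ _) (Submodule.mkQ_surjective _)
        (by rw [Submodule.ker_mkQ, LinearMap.range_eq_map]; exact Module.Finite.fg_top.map _)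
    refine factors_of_ker_rTensor_le _ _ fun Q _ _ z hz => hd n Q ?_
    rw [LinearMap.mem_ker] at hz ⊢
    rw [show k n = k (n + 2) ∘ₗ (v (n + 1) ∘ₗ v n) by rw [← LinearMap.comp_assoc, hkv, hkv],
      LinearMap.rTensor_comp, LinearMap.comp_apply, hz, map_zero]
  choose w hw using hw
  let F := N →₀ R
  let π : F →ₗ[R] N := Finsupp.linearCombination R id
  have hπ : Function.Surjective π := Finsupp.linearCombination_id_surjective R N
  have hlift : ∀ n, ∃ h : (Fin (l n) → R) →ₗ[R] F, π ∘ₗ h = k n := fun n =>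
    Module.projective_lifting_property π (k n) hπ
  choose h hh using hlift
  let G' : ∀ n, (Fin (l (n + 1)) → R) →ₗ[R] F := fun n =>
    Nat.rec (h 1) (fun n g => h (n + 2) + (g - h (n + 2) ∘ₗ v (n + 1)) ∘ₗ w n) n
  have hG' : ∀ n, π ∘ₗ G' n = k (n + 1) := by
    intro n
    induction n with
    | zero => exact hh 1
    | succ n ih =>
      show π ∘ₗ (h (n + 2) + (G' n - h (n + 2) ∘ₗ v (n + 1)) ∘ₗ w n) = _
      rw [LinearMap.comp_add, ← LinearMap.comp_assoc, LinearMap.comp_sub, ← LinearMap.comp_assoc, hh, ih, hkv,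
        sub_self, LinearMap.zero_comp, add_zero]
  let G : ∀ n, (Fin (l n) → R) →ₗ[R] F := fun n => G' n ∘ₗ v n
  have hGπ : ∀ n y, π (G n y) = k n y := fun n y => by
    rw [← hkv n]
    exact LinearMap.congr_fun (hG' n) (v n y)
  have hGv : ∀ n y, G (n + 1) (v n y) = G n y := by
    intro n y
    show (h (n + 2) + (G' n - h (n + 2) ∘ₗ v (n + 1)) ∘ₗ w n) (v (n + 1) (v n y)) = G' n (v n y)
    have h1 : w n (v (n + 1) (v n y)) = v n y := (LinearMap.congr_fun (hw n) y).symm
    simp [h1]
  have hGker : ∀ n y, k n y = 0 → G n y = 0 := by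
    intro n y hy
    have h1 : (k n).rTensor R (y ⊗ₜ (1 : R)) = 0 := by rw [LinearMap.rTensor_tmul, hy, zero_tmul]
    have h2 : v n y = 0 := by
      have := congrArg (TensorProduct.rid R _) (LinearMap.mem_ker.mp (hd n R (LinearMap.mem_ker.mpr h1)))
      simpa using this
    show G' n (v n y) = 0
    rw [h2, map_zero]
  have hmono : ∀ m n, m ≤ n → ∀ y, ∃ y', k n y' = k m y ∧ G n y' = G m y := by
    intro m n hmn
    induction n, hmn using Nat.le_induction with
    | base => exact fun y => ⟨y, rfl, rfl⟩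
    | succ n _ ih =>
      intro y
      obtain ⟨y', h1, h2⟩ := ih y
      exact ⟨v n y', (LinearMap.congr_fun (hkv n) y').trans h1, (hGv n y').trans h2⟩
  have hsurj : ∀ a : N, ∃ n y, k n y = a := by
    intro a
    have ha : a ∈ ⨆ n, LinearMap.range (k n) := by
      have hle : Submodule.span R s ≤ ⨆ n, LinearMap.range (k n) := by
        rw [Submodule.span_le]
        intro b hb
        obtain ⟨n, rfl⟩ := hx.subset (Set.mem_insert_of_mem 0 hb)
        exact le_iSup (fun n => LinearMap.range (k n)) (n + 1) (hx' n)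
      exact hle (hspan.ge Submodule.mem_top)
    have hdir : Monotone fun n => LinearMap.range (k n) := monotone_nat_of_le_succ fun n => by
      rw [← hkv n]
      exact LinearMap.range_comp_le_range _ _
    obtain ⟨n, y, hy⟩ := (Submodule.mem_iSup_of_directed _ hdir.directed_le).mp ha
    exact ⟨n, y, hy⟩
  choose num pre hpre using hsurj
  have hwd : ∀ a n y, k n y = a → G (num a) (pre a) = G n y := by
    intro a n y hy
    obtain ⟨y₁, h1, h1'⟩ := hmono (num a) (max (num a) n) (le_max_left _ _) (pre a)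
    obtain ⟨y₂, h2, h2'⟩ := hmono n (max (num a) n) (le_max_right _ _) y
    rw [← h1', ← h2', ← sub_eq_zero, ← map_sub]
    exact hGker _ _ (by rw [map_sub, h1, h2, hpre, hy, sub_self])
  let sec : N →ₗ[R] F :=
    { toFun := fun a => G (num a) (pre a)
      map_add' := fun a b => by
        obtain ⟨y₁, h1, h1'⟩ := hmono (num a) (max (num a) (num b)) (le_max_left _ _) (pre a)
        obtain ⟨y₂, h2, h2'⟩ := hmono (num b) (max (num a) (num b)) (le_max_right _ _) (pre b)
        rw [hwd (a + b) _ (y₁ + y₂) (by rw [map_add, h1, h2, hpre, hpre]), map_add, h1', h2']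
      map_smul' := fun c a => by
        rw [hwd (c • a) (num a) (c • pre a) (by rw [map_smul, hpre]), map_smul, RingHom.id_apply] }
  refine Module.Projective.of_split sec π (LinearMap.ext fun a => ?_)
  show π (G (num a) (pre a)) = a
  rw [hGπ, hpre]

end Groth.L01.CountFlatML
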