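import Groth.Agent.L06.PowSerDer
import Groth.Agent.L06.InsepJ0
import Mathlib.RingTheory.Etale.Kaehler
import Mathlib.RingTheory.Etale.Field
import Mathlib.RingTheory.Derivation.MapCoeffs
import Mathlib.FieldTheory.PurelyInseparable.PerfectClosure
import Mathlib.FieldTheory.SeparableClosure
import Mathlib.RingTheory.Polynomial.UniqueFactorization
import Mathlib.Algebra.Polynomial.Expand

/-!
Derivations with bounded denominators detect non-`p`-th powers in finitely generated field extensions.
-/

set_option autoImplicit false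
set_option linter.style.haveILetI false
universe u

namespace Groth.L01.DerDet

open Groth.L06 Pointwise

variable {T : Type u} [CommRing T] {K : Type u} [Field K] [Algebra T K]

/-- The image of `T` lands in a finitely generated `T`-submodule. -/
def Str (T : Type u) [CommRing T] [Algebra T K] (f : K → K) : Prop :=
  ∃ S : Finset K, ∀ r : T, f (algebraMap T K r) ∈ Submodule.span T (S : Set K)

theorem Str.sub {D E : Derivation ℤ K K} (hD : Str T D) (hE : Str T E) : Str T ⇑(D - E) := by
  classical
  obtain ⟨S, hS⟩ := hD
  obtain ⟨S', hS'⟩ := hE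
  refine ⟨S ∪ S', fun r => ?_⟩
  rw [Derivation.sub_apply]
  exact sub_mem (Submodule.span_mono (by simp) (hS r)) (Submodule.span_mono (by simp) (hS' r))

theorem Str.smul {D : Derivation ℤ K K} (hD : Str T D) (c : K) : Str T ⇑(c • D) := by
  classical
  obtain ⟨S, hS⟩ := hD
  refine ⟨S.image (c * ·), fun r => ?_⟩
  rw [Derivation.smul_apply, smul_eq_mul, Finset.coe_image]
  have h := Submodule.apply_mem_span_image_of_mem_span (LinearMap.mulLeft T c) (hS r)
  exact h

theorem Str.comp {D : Derivation ℤ K K} {f : K → K} (hD : Str T D) (hf : Str T f) :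
    Str T fun x => D (f x) := by
  classical
  obtain ⟨S, hS⟩ := hD
  obtain ⟨S', hS'⟩ := hf
  refine ⟨S * S' ∪ S'.image D, fun r => ?_⟩
  have key : ∀ x ∈ Submodule.span T (S' : Set K),
      D x ∈ Submodule.span T ((S * S' ∪ S'.image D : Finset K) : Set K) := fun x hx => by
    induction hx using Submodule.span_induction with
    | mem x hx =>
      exact Submodule.subset_span (Finset.mem_coe.2 (Finset.mem_union_right _ (Finset.mem_image_of_mem D hx)))
    | zero => rw [map_zero]; exact zero_mem _
    | add x y _ _ hx hy => rw [map_add]; exact add_mem hx hy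
    | smul t x hx ih =>
      rw [Algebra.smul_def, D.leibniz, smul_eq_mul, smul_eq_mul, ← Algebra.smul_def]
      refine add_mem (Submodule.smul_mem _ t ih) ?_
      have h := Submodule.mul_mem_mul (hS t) hx
      rw [Submodule.span_mul_span] at h
      rw [mul_comm x]
      refine Submodule.span_mono ?_ h
      rw [Finset.coe_union, Finset.coe_mul]
      exact Set.subset_union_left
  exact key _ (hS' r)

theorem Str.bracket {D E : Derivation ℤ K K} (hD : Str T D) (hE : Str T E) : Str T ⇑⁅D, E⁆ := by
  classical
  obtain ⟨S, hS⟩ := hD.comp hE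
  obtain ⟨S', hS'⟩ := hE.comp hD
  refine ⟨S ∪ S', fun r => ?_⟩
  rw [Derivation.commutator_apply]
  exact sub_mem (Submodule.span_mono (by simp) (hS r)) (Submodule.span_mono (by simp) (hS' r))

theorem Str.pPow (p : ℕ) [Fact p.Prime] [CharP K p] {D : Derivation ℤ K K} (hD : Str T D) :
    Str T ⇑(BddDer.pPow p D) := by
  have h : ∀ n, Str T (D^[n + 1]) := fun n => by
    induction n with
    | zero => exact hD
    | succ n ih =>
      obtain ⟨S, hS⟩ := hD.comp ih
      exact ⟨S, fun r => by rw [Function.iterate_succ_apply']; exact hS r⟩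
  obtain ⟨S, hS⟩ := h (p - 1)
  refine ⟨S, fun r => ?_⟩
  rw [BddDer.pPow_apply]
  have := hS r
  rwa [Nat.sub_add_cancel (Fact.out : p.Prime).pos] at this

/-- Derivations strongly bounded on `T` detect non-`p`-th powers. -/
def Det (T K : Type u) [CommRing T] [Field K] [Algebra T K] (p : ℕ) : Prop :=
  ∀ a : K, (∀ b : K, b ^ p ≠ a) → ∃ D : Derivation ℤ K K, Str T ⇑D ∧ D a ≠ 0

theorem Det.exists_one {p : ℕ} (h : Det T K p) {a : K} (ha : ∀ b : K, b ^ p ≠ a) :
    ∃ D : Derivation ℤ K K, Str T ⇑D ∧ D a = 1 := by
  obtain ⟨D, hD, hDa⟩ := h a ha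
  exact ⟨(D a)⁻¹ • D, hD.smul _, by rw [Derivation.smul_apply, smul_eq_mul, inv_mul_cancel₀ hDa]⟩

theorem Det.mem_span {p : ℕ} [Fact p.Prime] [CharP K p] (h : Det T K p)
    {a : K} (ha : ∀ b : K, b ^ p ≠ a) {c : K} (hc : ∀ D : Derivation ℤ K K, Str T ⇑D → D a = 0 → D c = 0) :
    ∃ v : ℕ → K, c = ∑ i ∈ Finset.range p, v i ^ p * a ^ i := by
  classical
  have hp : p.Prime := Fact.out
  obtain ⟨D₀, hD₀, hD₀a⟩ := h.exists_one ha
  have hkill : ∀ i c, (∀ D : Derivation ℤ K K, Str T ⇑D → D a = 0 → D c = 0) →
      ∀ D : Derivation ℤ K K, Str T ⇑D → D a = 0 → D (D₀^[i] c) = 0 := by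
    intro i
    induction i with
    | zero => exact fun c hc => hc
    | succ i ih =>
      intro c hc D hD hDa
      rw [Function.iterate_succ_apply']
      have h1 := ih c hc ⁅D, D₀⁆ (hD.bracket hD₀) (by
        rw [Derivation.commutator_apply, hD₀a, hDa, Derivation.map_one_eq_zero, map_zero, sub_zero])
      rwa [Derivation.commutator_apply, ih c hc D hD hDa, map_zero, sub_zero] at h1
  have hker : ∀ c, (∀ D : Derivation ℤ K K, Str T ⇑D → D a = 0 → D c = 0) → D₀ c = 0 → ∃ b, b ^ p = c := by
    intro c hc h0
    by_contra hcon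
    push Not at hcon
    obtain ⟨D, hD, hDc⟩ := h c hcon
    refine hDc ?_
    have := hc (D - D a • D₀) (hD.sub (hD₀.smul _)) (by
      rw [Derivation.sub_apply, Derivation.smul_apply, hD₀a, smul_eq_mul, mul_one, sub_self])
    rwa [Derivation.sub_apply, Derivation.smul_apply, h0, smul_zero, sub_zero] at this
  have hfr : ∀ (b : K), D₀ (b ^ p) = 0 := fun b => by
    rw [D₀.leibniz_pow, nsmul_eq_mul, CharP.cast_eq_zero, zero_mul]
  have hai : ∀ i, D₀^[i] (a ^ i) = (i.factorial : K) ∧ D₀^[i + 1] (a ^ i) = 0 := by
    intro i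
    induction i with
    | zero => exact ⟨by simp, by simp [Derivation.map_one_eq_zero]⟩
    | succ i ih =>
      have h1 : D₀ (a ^ (i + 1)) = ((i + 1 : ℕ) : K) * a ^ i := by
        rw [D₀.leibniz_pow, hD₀a, Nat.add_sub_cancel, smul_eq_mul, mul_one, nsmul_eq_mul]
      have hlin : ∀ (j : ℕ), D₀^[j] (((i + 1 : ℕ) : K) * a ^ i) = ((i + 1 : ℕ) : K) * D₀^[j] (a ^ i) := by
        intro j
        induction j with
        | zero => rfl
        | succ j ihj =>
          rw [Function.iterate_succ_apply', Function.iterate_succ_apply', ihj, D₀.leibniz, D₀.map_natCast,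
            smul_zero, add_zero, smul_eq_mul]
      refine ⟨?_, ?_⟩
      · rw [Function.iterate_succ_apply, h1, hlin, ih.1, Nat.factorial_succ, Nat.cast_mul]
      · rw [Function.iterate_succ_apply, h1, hlin, ih.2, mul_zero]
  suffices H : ∀ n, n ≤ p → ∀ c, (∀ D : Derivation ℤ K K, Str T ⇑D → D a = 0 → D c = 0) → D₀^[n] c = 0 →
      ∃ v : ℕ → K, c = ∑ i ∈ Finset.range p, v i ^ p * a ^ i by
    refine H p le_rfl c hc ?_
    have := hc (BddDer.pPow p D₀) (hD₀.pPow p) (by
      rw [BddDer.pPow_apply]
      obtain ⟨q, hq⟩ : ∃ q, p = q + 2 := ⟨p - 2, by have := hp.two_le; omega⟩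
      rw [hq, Function.iterate_succ_apply, hD₀a, Function.iterate_succ_apply, Derivation.map_one_eq_zero]
      exact (Function.iterate_fixed (map_zero _) q))
    rwa [BddDer.pPow_apply] at this
  intro n
  induction n with
  | zero => exact fun _ c _ h0 => ⟨fun _ => 0, by simpa [zero_pow hp.ne_zero] using h0⟩
  | succ n ih =>
    intro hn c hc h0
    obtain ⟨b, hb⟩ := hker _ (hkill n c hc) (by rw [← Function.iterate_succ_apply' D₀]; exact h0)
    have hfac : (n.factorial : K) ≠ 0 := by
      rw [Ne, CharP.cast_eq_zero_iff K p, hp.dvd_factorial]; omega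
    let w : K := b / (n.factorial : K)
    have hw : w ^ p * (n.factorial : K) ^ p = b ^ p := by rw [← mul_pow, div_mul_cancel₀ _ hfac]
    have hfp : (n.factorial : K) ^ p = (n.factorial : K) := by
      exact map_natCast (frobenius K p) n.factorial
    have hlin : ∀ (j : ℕ) (x : K), D₀^[j] (w ^ p * x) = w ^ p * D₀^[j] x := by
      intro j x
      induction j with
      | zero => rfl
      | succ j ihj =>
        rw [Function.iterate_succ_apply', Function.iterate_succ_apply', ihj, D₀.leibniz, hfr, smul_zero, add_zero, smul_eq_mul]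
    have hsub : ∀ (j : ℕ) (x y : K), D₀^[j] (x - y) = D₀^[j] x - D₀^[j] y := by
      intro j x y
      induction j with
      | zero => rfl
      | succ j ihj => rw [Function.iterate_succ_apply', Function.iterate_succ_apply', Function.iterate_succ_apply', ihj, map_sub]
    obtain ⟨v, hv⟩ := ih (by omega) (c - w ^ p * a ^ n) (fun D hD hDa => by
        rw [map_sub, hc D hD hDa, D.leibniz, D.leibniz_pow, D.leibniz_pow, hDa]
        simp [nsmul_eq_mul, CharP.cast_eq_zero K p]) (by
        rw [hsub, hlin, (hai n).1, ← hb, sub_eq_zero]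
        conv_rhs => rw [← hfp, hw])
    have hnr : n ∈ Finset.range p := Finset.mem_range.mpr hn
    refine ⟨Function.update v n (v n + w), ?_⟩
    rw [sub_eq_iff_eq_add] at hv
    rw [hv, ← Finset.add_sum_erase _ _ hnr, ← Finset.add_sum_erase _ _ hnr, Function.update_self, add_pow_char (p := p)]
    have : ∑ x ∈ (Finset.range p).erase n, Function.update v n (v n + w) x ^ p * a ^ x = ∑ x ∈ (Finset.range p).erase n, v x ^ p * a ^ x :=
      Finset.sum_congr rfl fun x hx => by rw [Function.update_of_ne (Finset.ne_of_mem_erase hx)]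
    rw [this]; ring

variable {L : Type u} [Field L] [Algebra K L] [Algebra T L] [IsScalarTower T K L]

/-- An extension of a strongly bounded derivation is strongly bounded. -/
theorem Str.extend {D : Derivation ℤ K K} (hD : Str T ⇑D) (D' : Derivation ℤ L L)
    (h : ∀ c, D' (algebraMap K L c) = algebraMap K L (D c)) : Str T ⇑D' := by
  classical
  obtain ⟨S, hS⟩ := hD
  refine ⟨S.image (algebraMap K L), fun r => ?_⟩
  rw [IsScalarTower.algebraMap_apply T K L, h, Finset.coe_image]
  exact Submodule.apply_mem_span_image_of_mem_span (IsScalarTower.toAlgHom T K L).toLinearMap (hS r)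

theorem str_zero : Str T ⇑(0 : Derivation ℤ K K) :=
  ⟨∅, fun r => by rw [Derivation.zero_apply]; exact zero_mem _⟩

open Polynomial in
/-- One purely inseparable step. -/
theorem det_root (p : ℕ) [Fact p.Prime] [CharP K p] (t : L) (a : K) (ht : t ^ p = algebraMap K L a)
    (ha : ∀ b : K, b ^ p ≠ a) (htop : Algebra.adjoin K {t} = ⊤) (h : Det T K p) : Det T L p := by
  haveI : CharP L p := charP_of_injective_algebraMap (algebraMap K L).injective p
  intro c hc
  have hp : p.Prime := Fact.out
  obtain ⟨D₁, h₁, h₁t⟩ := InsepJ0.exists_extension (A := K) p t a ht ha htop 0 (Derivation.zero_apply _) 1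
  have hb₁ : Str T ⇑D₁ := Str.extend str_zero D₁ h₁
  by_cases hc1 : D₁ c = 0
  swap
  · exact ⟨D₁, hb₁, hc1⟩
  have hQ : ∀ Q : K[X], D₁ (aeval t Q) = aeval t (derivative Q) := fun Q => by
    induction Q using Polynomial.induction_on' with
    | add P Q hP hQ => rw [map_add, map_add, derivative_add, map_add, hP, hQ]
    | monomial n b =>
      rw [aeval_monomial, derivative_monomial, aeval_monomial, D₁.leibniz, D₁.leibniz_pow, h₁, h₁t, Derivation.zero_apply,
        map_zero, smul_zero, add_zero, smul_eq_mul, map_mul, map_natCast, nsmul_eq_mul, smul_eq_mul, mul_one, mul_assoc]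
  obtain ⟨Q, rfl⟩ : ∃ Q, aeval t Q = c := by
    have : c ∈ Algebra.adjoin K {t} := htop ▸ Algebra.mem_top
    rw [Algebra.adjoin_singleton_eq_range_aeval] at this
    exact this
  have hmin := InsepJ0.minpoly_eq (A := K) p t a ht ha htop
  let R := Q %ₘ minpoly K t
  have hdeg : R.natDegree < p := by
    have hm : (X ^ p - C (algebraMap K K a)).natDegree = p := natDegree_X_pow_sub_C
    show (Q %ₘ minpoly K t).natDegree < p
    rw [hmin]
    refine lt_of_lt_of_eq (natDegree_modByMonic_lt Q (monic_X_pow_sub_C _ hp.ne_zero) fun h1 => ?_) hm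
    have := congrArg Polynomial.natDegree h1
    rw [hm, natDegree_one] at this
    exact hp.ne_zero this
  have hR : aeval t Q = aeval t R := (Polynomial.aeval_modByMonic_eq_self_of_root (minpoly.aeval K t)).symm
  have hder : derivative R = 0 := by
    by_contra hne
    have hle := Polynomial.natDegree_le_of_dvd (minpoly.dvd K t (show aeval t (derivative R) = 0 by rw [← hQ, ← hR, hc1])) hne
    rw [hmin, natDegree_X_pow_sub_C] at hle
    have := natDegree_derivative_le R
    omega
  obtain ⟨c0, hc0⟩ : ∃ c0, R = C c0 := by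
    refine ⟨R.coeff 0, Polynomial.ext fun n => ?_⟩
    rcases n with _ | n
    · rw [coeff_C_zero]
    · rw [coeff_C_succ]
      by_cases hn : n + 1 < p
      · have := congrArg (fun P => Polynomial.coeff P n) hder
        simp only [coeff_derivative, coeff_zero] at this
        refine (mul_eq_zero.mp this).resolve_right ?_
        intro h0
        rw [← Nat.cast_add_one, CharP.cast_eq_zero_iff K p] at h0
        exact (fun hdvd => absurd (Nat.le_of_dvd (Nat.succ_pos n) hdvd) (by omega)) h0
      · exact coeff_eq_zero_of_natDegree_lt (by omega)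
  rw [hR, hc0, aeval_C] at hc ⊢
  by_cases hex : ∃ D : Derivation ℤ K K, Str T ⇑D ∧ D (algebraMap K K a) = 0 ∧ D c0 ≠ 0
  · obtain ⟨D, hD, hDa, hDc⟩ := hex
    obtain ⟨D', h', h't⟩ := InsepJ0.exists_extension (A := K) p t a ht ha htop D hDa 0
    exact ⟨D', Str.extend hD D' h', by rw [h']; exact (map_ne_zero (algebraMap K L)).mpr hDc⟩
  · exfalso
    push Not at hex
    obtain ⟨v, hv⟩ := h.mem_span ha hex
    refine hc (∑ i ∈ Finset.range p, algebraMap K L (v i) * t ^ i) ?_
    rw [hv, map_sum, sum_pow_char p]
    refine Finset.sum_congr rfl fun i _ => ?_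
    rw [mul_pow, map_mul, map_pow, map_pow, ← pow_mul, mul_comm i p, pow_mul, ht]

/-- A finite separable step. -/
theorem det_separable (p : ℕ) [Fact p.Prime] [CharP K p] [FiniteDimensional K L] [Algebra.IsSeparable K L]
    (h : Det T K p) : Det T L p := by
  classical
  haveI : CharP L p := charP_of_injective_algebraMap (algebraMap K L).injective p
  haveI : ExpChar K p := ExpChar.prime Fact.out
  haveI : Algebra.FormallyEtale K L := Algebra.FormallyEtale.iff_isSeparable K L |>.2 inferInstance
  intro c hc
  let b := Module.finBasis K L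
  have hli : LinearIndependent K fun i => b i ^ p ^ 1 :=
    b.linearIndependent.map_pow_expChar_pow_of_isSeparable p 1
  have hsp : Submodule.span K (Set.range fun i => b i ^ p ^ 1) = ⊤ :=
    Field.span_map_pow_expChar_pow_eq_top_of_isSeparable p 1 b.span_eq
  let b' := Module.Basis.mk hli hsp.ge
  have hb' : ∀ i, b' i = b i ^ p := fun i => by simp [b']
  obtain ⟨i, hi⟩ : ∃ i, ∀ r : K, r ^ p ≠ b'.repr c i := by
    by_contra hcon
    push Not at hcon
    choose r hr using hcon
    refine hc (∑ i, r i • b i) ?_
    rw [sum_pow_char p, ← b'.sum_repr c]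
    refine Finset.sum_congr rfl fun i _ => ?_
    rw [smul_pow, hr, hb']
  obtain ⟨D, hD, hDc⟩ := h _ hi
  let φ : Derivation ℤ K L :=
    (Algebra.linearMap K L).compDer D
  let g : Ω[L⁄ℤ] →ₗ[L] L :=
    φ.liftKaehlerDifferential.liftBaseChange L ∘ₗ
      (KaehlerDifferential.tensorKaehlerEquivOfFormallyEtale ℤ K L).symm.toLinearMap
  let D' : Derivation ℤ L L := g.compDer (KaehlerDifferential.D ℤ L)
  have hext : ∀ x, D' (algebraMap K L x) = algebraMap K L (D x) := fun x => by
    show φ.liftKaehlerDifferential.liftBaseChange L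
      ((KaehlerDifferential.tensorKaehlerEquivOfFormallyEtale ℤ K L).symm
        (KaehlerDifferential.D ℤ L (algebraMap K L x))) = _
    rw [KaehlerDifferential.tensorKaehlerEquivOfFormallyEtale_symm_D_algebraMap,
      LinearMap.liftBaseChange_tmul, one_smul, Derivation.liftKaehlerDifferential_comp_D]
    rfl
  refine ⟨D', Str.extend hD D' hext, fun h0 => hDc ?_⟩
  have h2 : D' c = ∑ j, D (b'.repr c j) • b' j := by
    conv_lhs => rw [← b'.sum_repr c]
    rw [map_sum]
    refine Finset.sum_congr rfl fun j _ => ?_
    rw [Algebra.smul_def, D'.leibniz, hext, hb', D'.leibniz_pow, nsmul_eq_mul, CharP.cast_eq_zero,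
      zero_mul, smul_zero, zero_add, smul_eq_mul, mul_comm, ← Algebra.smul_def]
  exact Fintype.linearIndependent_iff.1 b'.linearIndependent _ (h2.symm.trans h0) i

/-- One transcendental step. -/
theorem det_transcendental (p : ℕ) [Fact p.Prime] [CharP K p] [Algebra (Polynomial K) L]
    [IsScalarTower K (Polynomial K) L] [IsFractionRing (Polynomial K) L]
    (h : Det T K p) : Det T L p := by
  classical
  have hp : p.Prime := Fact.out
  haveI : CharP L p := charP_of_injective_algebraMap (algebraMap K L).injective p
  haveI : CharP (Polynomial K) p := inferInstance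
  intro a ha
  obtain ⟨x, y, hy, rfl⟩ := IsFractionRing.div_surjective (A := Polynomial K) a
  have hy0 : algebraMap (Polynomial K) L y ≠ 0 :=
    (map_ne_zero_iff _ (IsFractionRing.injective _ L)).mpr (nonZeroDivisors.ne_zero hy)
  let b : Polynomial K := x * y ^ (p - 1)
  have hab : algebraMap (Polynomial K) L b =
      (algebraMap (Polynomial K) L x / algebraMap _ L y) * algebraMap _ L y ^ p := by
    rw [map_mul, map_pow, div_mul_eq_mul_div, eq_div_iff hy0, mul_assoc, ← pow_succ, Nat.sub_add_cancel hp.pos]
  have hb : ∀ r : Polynomial K, r ^ p ≠ b := fun r hr => ha (algebraMap _ L r / algebraMap _ L y) (by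
    rw [div_pow, ← map_pow, hr, hab, mul_div_cancel_right₀ _ (pow_ne_zero _ hy0)])
  suffices hδ : ∃ (D : Derivation ℤ K K) (δ : Derivation ℤ (Polynomial K) (Polynomial K)),
      Str T ⇑D ∧ (∀ c, δ (Polynomial.C c) = Polynomial.C (D c)) ∧ δ b ≠ 0 by
    obtain ⟨D, δ, hD, hC, hδb⟩ := hδ
    obtain ⟨D', -, hDr⟩ := PowSerDer.exists_bdd (T := Polynomial K) (K := L) δ
    have hext : ∀ c, D' (algebraMap K L c) = algebraMap K L (D c) := fun c => by
      rw [IsScalarTower.algebraMap_apply K (Polynomial K) L, Polynomial.algebraMap_eq, hDr, hC,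
        IsScalarTower.algebraMap_apply K (Polynomial K) L (D c)]
      rfl
    refine ⟨D', Str.extend hD D' hext, fun h0 => hδb (IsFractionRing.injective (Polynomial K) L ?_)⟩
    refine (hDr b).symm.trans ?_
    rw [hab, D'.leibniz, h0, D'.leibniz_pow, nsmul_eq_mul, CharP.cast_eq_zero, zero_mul, map_zero]
    simp
  by_cases hd : Polynomial.derivative b = 0
  swap
  · exact ⟨0, Polynomial.derivative'.restrictScalars ℤ, str_zero, fun c => by simp, hd⟩
  obtain ⟨i, hi⟩ : ∃ i, ∀ r : K, r ^ p ≠ (Polynomial.contract p b).coeff i := by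
    by_contra hcon
    push Not at hcon
    choose r hr using hcon
    refine hb (∑ i ∈ (Polynomial.contract p b).support, Polynomial.monomial i (r i)) ?_
    rw [sum_pow_char p]
    conv_rhs => rw [← Polynomial.expand_contract p hd hp.ne_zero, (Polynomial.contract p b).as_sum_support,
      map_sum]
    refine Finset.sum_congr rfl fun i _ => ?_
    rw [Polynomial.monomial_pow, Polynomial.expand_monomial, hr]
  rw [Polynomial.coeff_contract hp.ne_zero] at hi
  obtain ⟨D, hD, hDi⟩ := h _ hi
  letI : Differential K := ⟨D⟩
  refine ⟨D, Differential.mapCoeffs, hD, fun c => Differential.mapCoeffs_C c, fun h0 => hDi ?_⟩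
  have h1 := congrArg (fun q : Polynomial K => q.coeff (i * p)) h0
  simp only [Differential.coeff_mapCoeffs, Polynomial.coeff_zero] at h1
  exact h1

theorem det_of_surjective (p : ℕ) [Fact p.Prime] [CharP K p] (hs : Function.Surjective (algebraMap K L))
    (h : Det T K p) : Det T L p := by
  haveI : FiniteDimensional K L := Module.Finite.of_surjective (Algebra.linearMap K L) hs
  haveI : Algebra.IsSeparable K L := ⟨fun x => by
    obtain ⟨c, rfl⟩ := hs x
    exact isSeparable_algebraMap c⟩
  exact det_separable p h

open IntermediateField in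
theorem det_pow (p : ℕ) [Fact p.Prime] : ∀ (j : ℕ) (E F : Type u) [Field E] [Field F] [Algebra T E]
    [Algebra E F] [Algebra T F] [IsScalarTower T E F] [CharP E p] (t : F),
    t ^ p ^ j ∈ Set.range (algebraMap E F) → adjoin E {t} = ⊤ → Det T E p → Det T F p := by
  intro j
  induction j with
  | zero =>
    intro E F _ _ _ _ _ _ _ t ht htop h
    rw [pow_zero, pow_one] at ht
    refine det_of_surjective p (fun z => ?_) h
    have hz : z ∈ adjoin E {t} := htop ▸ mem_top
    have hle : adjoin E {t} ≤ ⊥ := by
      rw [adjoin_simple_le_iff, mem_bot]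
      exact ht
    exact mem_bot.1 (hle hz)
  | succ j ih =>
    intro E F _ _ _ _ _ _ _ t ht htop h
    let E' := adjoin E {t ^ p}
    haveI : IsScalarTower T E E' := inferInstance
    haveI : IsScalarTower T E' F := IsScalarTower.of_algebraMap_eq fun r => by
      rw [IsScalarTower.algebraMap_apply T E F, IsScalarTower.algebraMap_apply T E E']
      rfl
    haveI : CharP E' p := charP_of_injective_algebraMap (algebraMap E E').injective p
    haveI : CharP F p := charP_of_injective_algebraMap (algebraMap E F).injective p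
    have hgen : (AdjoinSimple.gen E (t ^ p)) ^ p ^ j ∈ Set.range (algebraMap E E') := by
      obtain ⟨c, hc⟩ := ht
      refine ⟨c, Subtype.ext ?_⟩
      show algebraMap E F c = (t ^ p) ^ p ^ j
      rw [hc, ← pow_mul, pow_succ']
    have h' : Det T E' p := ih E E' (AdjoinSimple.gen E (t ^ p)) hgen (by
      apply IntermediateField.map_injective E'.val
      rw [adjoin_map, ← AlgHom.fieldRange_eq_map, fieldRange_val, Set.image_singleton]
      rfl) h
    have htop' : adjoin E' {t} = ⊤ := by
      apply IntermediateField.restrictScalars_injective E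
      rw [restrictScalars_top, eq_top_iff, ← htop, adjoin_simple_le_iff]
      exact mem_adjoin_simple_self E' t
    by_cases ha : ∃ b : E', b ^ p = AdjoinSimple.gen E (t ^ p)
    · obtain ⟨b, hb⟩ := ha
      have hbt : (algebraMap E' F b) = t := frobenius_inj F p (by
        rw [frobenius_def, frobenius_def, ← map_pow, hb]; rfl)
      refine det_of_surjective p (fun z => ?_) h'
      have hz : z ∈ adjoin E' {t} := htop' ▸ mem_top
      have hle : adjoin E' {t} ≤ ⊥ := by
        rw [adjoin_simple_le_iff, mem_bot]
        exact ⟨b, hbt⟩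
      exact mem_bot.1 (hle hz)
    · push Not at ha
      have hint : IsIntegral E' t := IsIntegral.of_pow (Fact.out : p.Prime).pos
        (isIntegral_algebraMap (R := E') (x := AdjoinSimple.gen E (t ^ p)))
      refine det_root p t (AdjoinSimple.gen E (t ^ p)) rfl ha ?_ h'
      rw [← adjoin_simple_toSubalgebra_of_isAlgebraic hint.isAlgebraic, htop', top_toSubalgebra]

open IntermediateField in
/-- Adjoining one element. -/
theorem det_simple (p : ℕ) [Fact p.Prime] [CharP K p] (z : L) (htop : adjoin K {z} = ⊤)
    (h : Det T K p) : Det T L p := by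
  haveI : CharP L p := charP_of_injective_algebraMap (algebraMap K L).injective p
  by_cases hz : IsAlgebraic K z
  · haveI : FiniteDimensional K L := by
      haveI := IntermediateField.adjoin.finiteDimensional hz.isIntegral
      exact Module.Finite.equiv ((equivOfEq htop).trans topEquiv).toLinearEquiv
    let E := separableClosure K L
    haveI : IsScalarTower T E L := IsScalarTower.of_algebraMap_eq fun r => by
      rw [IsScalarTower.algebraMap_apply T K L, IsScalarTower.algebraMap_apply T K E]
      rfl
    haveI : CharP E p := charP_of_injective_algebraMap (algebraMap K E).injective p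
    haveI : ExpChar E p := ExpChar.prime Fact.out
    have hE : Det T E p := det_separable p h
    obtain ⟨j, hj⟩ := IsPurelyInseparable.pow_mem E p z
    refine det_pow p j E L z hj ?_ hE
    apply IntermediateField.restrictScalars_injective K
    rw [restrictScalars_top, eq_top_iff, ← htop, adjoin_simple_le_iff]
    exact mem_adjoin_simple_self E z
  · have hinj : Function.Injective (Polynomial.aeval (R := K) z) :=
      transcendental_iff_injective.1 hz
    letI : Algebra (Polynomial K) L := (Polynomial.aeval (R := K) z).toRingHom.toAlgebra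
    haveI : FaithfulSMul (Polynomial K) L := (faithfulSMul_iff_algebraMap_injective _ _).2 hinj
    haveI : IsScalarTower K (Polynomial K) L := IsScalarTower.of_algebraMap_eq fun c => by
      rw [RingHom.algebraMap_toAlgebra]
      exact ((Polynomial.aeval (R := K) z).commutes c).symm
    haveI : IsFractionRing (Polynomial K) L := IsFractionRing.of_field _ _ fun w => by
      obtain ⟨r, s, hw⟩ := (mem_adjoin_simple_iff K w).1 (htop ▸ mem_top : w ∈ adjoin K {z})
      exact ⟨r, s, hw⟩
    exact det_transcendental p h

open IntermediateField in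
theorem det_of_generated (p : ℕ) [Fact p.Prime] {F : Type u} [Field F] [Algebra T F] :
    ∀ (s : List F) (E : Type u) [Field E] [Algebra T E] [Algebra E F] [IsScalarTower T E F] [CharP E p],
    adjoin E {x | x ∈ s} = ⊤ → Det T E p → Det T F p := by
  intro s
  induction s with
  | nil =>
    intro E _ _ _ _ _ htop h
    refine det_of_surjective p (fun w => ?_) h
    have hw : w ∈ (⊥ : IntermediateField E F) := by
      have : w ∈ adjoin E {x : F | x ∈ ([] : List F)} := htop ▸ mem_top
      simpa using this
    exact mem_bot.1 hw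
  | cons z s ih =>
    intro E _ _ _ _ _ htop h
    let E' := adjoin E {z}
    haveI : IsScalarTower T E' F := IsScalarTower.of_algebraMap_eq fun r => by
      rw [IsScalarTower.algebraMap_apply T E F, IsScalarTower.algebraMap_apply T E E']
      rfl
    haveI : CharP E' p := charP_of_injective_algebraMap (algebraMap E E').injective p
    refine ih E' ?_ (det_simple p (AdjoinSimple.gen E z) ?_ h)
    · apply IntermediateField.restrictScalars_injective E
      rw [restrictScalars_top, eq_top_iff, ← htop, adjoin_adjoin_left]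
      refine adjoin.mono _ _ _ fun x hx => ?_
      rcases List.mem_cons.1 hx with rfl | hx
      · exact Or.inl rfl
      · exact Or.inr hx
    · apply IntermediateField.map_injective E'.val
      rw [adjoin_map, ← AlgHom.fieldRange_eq_map, fieldRange_val, Set.image_singleton]
      rfl

/-- Power series rings over a field. -/
theorem det_powerSeries (k : Type u) [Field k] (p : ℕ) [Fact p.Prime] [CharP k p] (n : ℕ)
    (F : Type u) [Field F] [Algebra (MvPowerSeries (Fin n) k) F] [IsFractionRing (MvPowerSeries (Fin n) k) F] :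
    Det (MvPowerSeries (Fin n) k) F p := by
  haveI : IsDomain (MvPowerSeries (Fin n) k) := NoZeroDivisors.to_isDomain _
  have hp : p.Prime := Fact.out
  intro a ha
  let R := MvPowerSeries (Fin n) k
  haveI : CharP R p := charP_of_injective_algebraMap (algebraMap k R).injective p
  haveI : CharP F p := charP_of_injective_algebraMap (IsFractionRing.injective R F) p
  obtain ⟨x, y, hy, rfl⟩ := IsFractionRing.div_surjective (A := R) a
  have hy0 : algebraMap R F y ≠ 0 := (map_ne_zero_iff _ (IsFractionRing.injective R F)).mpr (nonZeroDivisors.ne_zero hy)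
  let b : R := x * y ^ (p - 1)
  have hab : algebraMap R F b = (algebraMap R F x / algebraMap R F y) * algebraMap R F y ^ p := by
    rw [map_mul, map_pow, div_mul_eq_mul_div, eq_div_iff hy0, mul_assoc, ← pow_succ, Nat.sub_add_cancel hp.pos]
  have hb : ∀ r : R, r ^ p ≠ b := fun r hr => ha (algebraMap R F r / algebraMap R F y) (by
    rw [div_pow, ← map_pow, hr, hab, mul_div_cancel_right₀ _ (pow_ne_zero _ hy0)])
  obtain ⟨δ, hδ⟩ := PowSerDer.exists_der_ne k p n b hb
  obtain ⟨D, -, hDr⟩ := PowSerDer.exists_bdd (K := F) δ
  refine ⟨D, ⟨{1}, fun r => ?_⟩, fun h0 => hδ (IsFractionRing.injective R F ?_)⟩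
  · rw [hDr, Finset.coe_singleton, Algebra.algebraMap_eq_smul_one]
    exact Submodule.smul_mem _ _ (Submodule.subset_span rfl)
  · refine (hDr b).symm.trans ?_
    rw [hab, D.leibniz, h0, D.leibniz_pow, nsmul_eq_mul, CharP.cast_eq_zero, zero_mul, map_zero]
    simp

/-- Detection over a finite type domain. -/
theorem exists_derivation {R B E F : Type u} [CommRing R] [IsDomain R] [CommRing B] [IsDomain B] [Algebra R B]
    [Algebra.FiniteType R B] (p : ℕ) [Fact p.Prime] [CharP B p]
    [Field E] [Algebra R E] [Field F] [Algebra B F] [IsFractionRing B F] [Algebra R F] [IsScalarTower R B F]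
    [Algebra E F] [IsScalarTower R E F] (hR : Det R E p) (f : B)
    (hf : ∀ x : F, x ^ p ≠ algebraMap B F f) :
    ∃ D : Derivation ℤ B B, D f ≠ 0 := by
  classical
  haveI : CharP F p := charP_of_injective_algebraMap (IsFractionRing.injective B F) p
  haveI : CharP E p := (RingHom.charP_iff (algebraMap E F) (algebraMap E F).injective p).mpr inferInstance
  obtain ⟨G, hG⟩ := (Algebra.FiniteType.out : (⊤ : Subalgebra R B).FG)
  let l : List F := (G.image (algebraMap B F)).toList
  have hB : ∀ b : B, algebraMap B F b ∈ IntermediateField.adjoin E {x | x ∈ l} := fun b => by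
    have hb : b ∈ Algebra.adjoin R (G : Set B) := hG ▸ Algebra.mem_top
    induction hb using Algebra.adjoin_induction with
    | mem x hx =>
      refine IntermediateField.subset_adjoin _ _ ?_
      simp only [l, Set.mem_setOf_eq, Finset.mem_toList]
      exact Finset.mem_image_of_mem _ hx
    | algebraMap r =>
      rw [← IsScalarTower.algebraMap_apply, IsScalarTower.algebraMap_apply R E F]
      exact IntermediateField.algebraMap_mem _ _
    | add x y _ _ hx hy => rw [map_add]; exact add_mem hx hy
    | mul x y _ _ hx hy => rw [map_mul]; exact mul_mem hx hy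
  have htop : IntermediateField.adjoin E {x | x ∈ l} = ⊤ := by
    refine eq_top_iff.2 fun w _ => ?_
    obtain ⟨x, y, -, rfl⟩ := IsFractionRing.div_surjective (A := B) w
    exact div_mem (hB x) (hB y)
  obtain ⟨D, ⟨S, hS⟩, hDf⟩ := det_of_generated (T := R) p l E htop hR _ hf
  obtain ⟨g, hg⟩ := IsLocalization.exist_integer_multiples_of_finset (nonZeroDivisors B)
    (S ∪ G.image fun x => D (algebraMap B F x))
  have hgs : ∀ u ∈ S ∪ G.image (fun x => D (algebraMap B F x)),
      algebraMap B F g * u ∈ (algebraMap B F).range := fun u hu => by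
    obtain ⟨z, hz⟩ := hg u hu
    exact ⟨z, by rw [hz, Algebra.smul_def]⟩
  have hmem : ∀ b : B, algebraMap B F g * D (algebraMap B F b) ∈ (algebraMap B F).range := fun b => by
    have hb : b ∈ Algebra.adjoin R (G : Set B) := hG ▸ Algebra.mem_top
    induction hb using Algebra.adjoin_induction with
    | mem x hx => exact hgs _ (Finset.mem_union_right _ (Finset.mem_image_of_mem _ hx))
    | algebraMap r =>
      rw [← IsScalarTower.algebraMap_apply R B F]
      have h := hS r
      revert h
      generalize D (algebraMap R F r) = w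
      intro h
      induction h using Submodule.span_induction with
      | mem u hu => exact hgs u (Finset.mem_union_left _ hu)
      | zero => rw [mul_zero]; exact zero_mem _
      | add x y _ _ hx hy => rw [mul_add]; exact add_mem hx hy
      | smul t x _ hx =>
        rw [Algebra.smul_def, mul_left_comm, IsScalarTower.algebraMap_apply R B F t]
        exact mul_mem ⟨_, rfl⟩ hx
    | add x y _ _ hx hy => rw [map_add, map_add, mul_add]; exact add_mem hx hy
    | mul x y _ _ hx hy =>
      rw [map_mul, D.leibniz, smul_eq_mul, smul_eq_mul, mul_add, mul_left_comm,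
        mul_left_comm (algebraMap B F g)]
      exact add_mem (mul_mem ⟨x, rfl⟩ hy) (mul_mem ⟨y, rfl⟩ hx)
  choose d hd using hmem
  have hinj := IsFractionRing.injective B F
  let dl : B →ₗ[ℤ] B := AddMonoidHom.toIntLinearMap
    { toFun := d
      map_zero' := hinj (by rw [hd, map_zero, map_zero, mul_zero])
      map_add' := fun x y => hinj (by rw [hd, map_add, map_add, mul_add, map_add, hd, hd]) }
  refine ⟨Derivation.mk' dl fun x y => hinj ?_, fun h0 => hDf ?_⟩
  · show algebraMap B F (d (x * y)) = algebraMap B F (x • d y + y • d x)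
    rw [hd, map_mul, D.leibniz, smul_eq_mul, smul_eq_mul, smul_eq_mul, smul_eq_mul, map_add, map_mul, map_mul,
      hd, hd]
    ring
  · have h1 : algebraMap B F (d f) = 0 := by
      rw [show d f = 0 from h0, map_zero]
    rw [hd, mul_eq_zero] at h1
    exact h1.resolve_left ((map_ne_zero_iff _ hinj).2 (nonZeroDivisors.ne_zero g.2))

end Groth.L01.DerDet
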