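import Mathlib.Algebra.Homology.DerivedCategory.ExactFunctor
import Mathlib.Algebra.Homology.DerivedCategory.HomologySequence
import Mathlib.Algebra.Homology.DerivedCategory.Linear
import Mathlib.Algebra.Homology.ShortComplex.Linear
import Mathlib.Algebra.Homology.ShortComplex.ModuleCat
import Mathlib.Algebra.Category.ModuleCat.Abelian
import Mathlib.Algebra.Category.ModuleCat.Monoidal.Closed
import Mathlib.CategoryTheory.Monoidal.Preadditive
import Mathlib.RingTheory.Flat.CategoryTheory

/-!
# The unit `W → B ⊗ W` in the derived category, tested against torsion objects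
-/

set_option autoImplicit false
universe w u

open CategoryTheory Category Limits Pretriangulated MonoidalCategory
open scoped TensorProduct

namespace Groth.L01.DerTau

variable (A B : Type u) [CommRing A] [CommRing B] [Algebra A B]

/-- `X ↦ B ⊗ X`. -/
noncomputable abbrev tF : ModuleCat.{u} A ⥤ ModuleCat.{u} A := tensorLeft (ModuleCat.of A B)

/-- The unit `X ⟶ B ⊗ X`. -/
noncomputable def unit : 𝟭 (ModuleCat.{u} A) ⟶ tF A B where
  app X := ModuleCat.ofHom (Y := B ⊗[A] X) (TensorProduct.mk A B X 1)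
  naturality {X Y} f := ModuleCat.hom_ext (LinearMap.ext fun x => rfl)

/-- Every element is killed by a power of each element of `S`. -/
def Nilp {A : Type u} [CommRing A] (S : Finset A) (H : ModuleCat.{u} A) : Prop :=
  ∀ a ∈ S, ∀ x : H, ∃ k : ℕ, a ^ k • x = 0

variable [HasDerivedCategory.{w} (ModuleCat.{u} A)]

theorem homology_smul_id (r : A) (W : (DerivedCategory (ModuleCat.{u} A))) (n : ℤ) :
    (DerivedCategory.homologyFunctor (ModuleCat.{u} A) n).map (r • 𝟙 W) = r • 𝟙 _ := by
  let K := DerivedCategory.Q.objPreimage W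
  let e : DerivedCategory.Q.obj K ≅ W := DerivedCategory.Q.objObjPreimageIso W
  have h : r • 𝟙 W = e.inv ≫ DerivedCategory.Q.map (r • 𝟙 K) ≫ e.hom := by
    rw [Functor.map_smul, CategoryTheory.Functor.map_id, Linear.smul_comp, id_comp, Linear.comp_smul, e.inv_hom_id]
  have h1 : HomologicalComplex.homologyMap (r • 𝟙 K) n = r • 𝟙 (K.homology n) := by
    refine Eq.trans ?_ ((ShortComplex.homologyMap_smul (𝟙 (K.sc n)) r).trans
      (congrArg (r • ·) (ShortComplex.homologyMap_id _)))
    exact congrArg (fun φ => ShortComplex.homologyMap φ) (ShortComplex.hom_ext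
      ((HomologicalComplex.shortComplexFunctor _ _ n).map (r • 𝟙 K)) (r • 𝟙 (K.sc n)) rfl rfl rfl)
  have h2 : (DerivedCategory.homologyFunctor (ModuleCat.{u} A) n).map (DerivedCategory.Q.map (r • 𝟙 K))
      = r • 𝟙 _ := by
    rw [← cancel_mono ((DerivedCategory.homologyFunctorFactors (ModuleCat.{u} A) n).hom.app K),
      DerivedCategory.homologyFunctorFactors_hom_naturality, h1, Linear.smul_comp, id_comp]
    exact (Linear.comp_smul _ _ _ _ _ _).trans (congrArg (r • ·) (comp_id _))
  rw [h, Functor.map_comp, Functor.map_comp, h2, Linear.smul_comp, id_comp, Linear.comp_smul,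
    ← Functor.map_comp, e.inv_hom_id, CategoryTheory.Functor.map_id]

variable [Module.Flat A B]

/-- The endofunctor of `D(A)` induced by `X ↦ B ⊗ X`. -/
noncomputable abbrev FD : (DerivedCategory (ModuleCat.{u} A)) ⥤ (DerivedCategory (ModuleCat.{u} A)) := (tF A B).mapDerivedCategory

/-- The map on complexes underlying `tau`. -/
noncomputable def tauQ : DerivedCategory.Q ⟶
    (tF A B).mapHomologicalComplex (ComplexShape.up ℤ) ⋙ DerivedCategory.Q where
  app K := DerivedCategory.Q.map
    { f := fun i => (unit A B).app (K.X i)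
      comm' := fun i j _ => ((unit A B).naturality (K.d i j)).symm }
  naturality {K L} f := by
    refine Eq.trans (DerivedCategory.Q.map_comp _ _).symm
      (Eq.trans (congrArg _ ?_) (DerivedCategory.Q.map_comp _ _))
    ext i : 1
    exact (unit A B).naturality (f.f i)

/-- The unit `W ⟶ B ⊗ W` in `D(A)`. -/
noncomputable def tau : 𝟭 (DerivedCategory (ModuleCat.{u} A)) ⟶ FD A B :=
  Localization.liftNatTrans DerivedCategory.Q
    (HomologicalComplex.quasiIso (ModuleCat.{u} A) (ComplexShape.up ℤ)) DerivedCategory.Q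
    ((tF A B).mapHomologicalComplex _ ⋙ DerivedCategory.Q) _ _ (tauQ A B)

theorem tau_app_Q (K : CochainComplex (ModuleCat.{u} A) ℤ) :
    (tau A B).app (DerivedCategory.Q.obj K) =
      (tauQ A B).app K ≫ (tF A B).mapDerivedCategoryFactors.inv.app K := by
  rw [tau, Localization.liftNatTrans_app]
  exact id_comp _

/-- The unit is an isomorphism on objects whose cohomology is fixed by `B ⊗ -`. -/
theorem isIso_tau (W : (DerivedCategory (ModuleCat.{u} A)))
    (h : ∀ n, IsIso ((unit A B).app ((DerivedCategory.homologyFunctor (ModuleCat.{u} A) n).obj W))) :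
    IsIso ((tau A B).app W) := by
  let K := DerivedCategory.Q.objPreimage W
  let e : DerivedCategory.Q.obj K ≅ W := DerivedCategory.Q.objObjPreimageIso W
  suffices hK : IsIso ((tau A B).app (DerivedCategory.Q.obj K)) by
    have := (tau A B).naturality e.hom
    rw [← cancel_epi e.inv, Functor.id_map, e.inv_hom_id_assoc] at this
    rw [this]
    infer_instance
  rw [tau_app_Q]
  suffices hQ : IsIso ((tauQ A B).app K) by infer_instance
  rw [DerivedCategory.isIso_iff]
  intro n
  let φ : K ⟶ ((tF A B).mapHomologicalComplex (ComplexShape.up ℤ)).obj K :=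
    { f := fun i => (unit A B).app (K.X i)
      comm' := fun i j _ => ((unit A B).naturality (K.d i j)).symm }
  change IsIso ((DerivedCategory.homologyFunctor (ModuleCat.{u} A) n).map (DerivedCategory.Q.map φ))
  suffices hφ : IsIso (HomologicalComplex.homologyMap φ n) by
    exact (NatIso.isIso_map_iff (DerivedCategory.homologyFunctorFactors (ModuleCat.{u} A) n) φ).2 hφ
  let hl := (K.sc n).homologyData.left
  let γ := ShortComplex.LeftHomologyMapData.natTransApp hl (unit A B)
  have hH : IsIso ((unit A B).app hl.H) := by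
    haveI := h n
    have e' : (DerivedCategory.homologyFunctor (ModuleCat.{u} A) n).obj W ≅ hl.H :=
      (DerivedCategory.homologyFunctor _ n).mapIso e.symm ≪≫
        (DerivedCategory.homologyFunctorFactors _ n).app K ≪≫ hl.homologyIso
    rw [show (unit A B).app hl.H = e'.inv ≫ (unit A B).app _ ≫ (tF A B).map e'.hom by
      rw [← (unit A B).naturality e'.hom, Functor.id_map, e'.inv_hom_id_assoc]]
    infer_instance
  have hh : HomologicalComplex.homologyMap φ n =
      ShortComplex.homologyMap (ShortComplex.mapNatTrans (K.sc n) (unit A B)) := rfl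
  rw [hh, γ.homologyMap_eq]
  exact IsIso.comp_isIso' (Iso.isIso_hom _) (IsIso.comp_isIso' hH (Iso.isIso_inv _))

variable {A B}

/-- Postcomposition with the unit is bijective on maps from torsion objects. -/
theorem bijective_comp_tau (S : Finset A)
    (hfix : ∀ H : ModuleCat.{u} A, Nilp S H → IsIso ((unit A B).app H)) :
    ∀ (T : Finset A), T ⊆ S → ∀ W : (DerivedCategory (ModuleCat.{u} A)),
      (∀ n, ∀ a ∈ S, a ∉ T → ∀ x : (DerivedCategory.homologyFunctor (ModuleCat.{u} A) n).obj W,
        ∃ k : ℕ, a ^ k • x = 0) →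
      ∀ Y : (DerivedCategory (ModuleCat.{u} A)), (∀ a ∈ S, a • 𝟙 Y = 0) →
        Function.Bijective fun x : Y ⟶ W => x ≫ (tau A B).app W := by
  classical
  intro T
  induction T using Finset.induction_on with
  | empty =>
    intro _ W hW Y _
    haveI := isIso_tau A B W fun n => hfix _ fun a ha => hW n a ha (Finset.notMem_empty a)
    exact ⟨fun x y hxy => (cancel_mono ((tau A B).app W)).1 hxy,
      fun z => ⟨z ≫ inv ((tau A B).app W), by simp⟩⟩
  | @insert f T hfT ih =>
    intro hTS W hW Y hY
    have hfS : f ∈ S := hTS (Finset.mem_insert_self f T)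
    have hf0 : ∀ {V : (DerivedCategory (ModuleCat.{u} A))} (y : Y ⟶ V), f • y = 0 := fun y => by
      rw [← id_comp y, ← Linear.smul_comp, hY f hfS, zero_comp]
    have step : ∀ W : (DerivedCategory (ModuleCat.{u} A)),
        (∀ n, ∀ a ∈ S, a ∉ insert f T → ∀ x : (DerivedCategory.homologyFunctor (ModuleCat.{u} A) n).obj W,
          ∃ k : ℕ, a ^ k • x = 0) →
        ∃ (W' : (DerivedCategory (ModuleCat.{u} A))) (g : W ⟶ W') (h : W' ⟶ W⟦(1 : ℤ)⟧),
          Triangle.mk (f • 𝟙 W) g h ∈ (distTriang (DerivedCategory (ModuleCat.{u} A))) ∧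
          Function.Bijective fun x : Y ⟶ W' => x ≫ (tau A B).app W' := by
      intro W hW
      obtain ⟨W', g, h, hT⟩ := Pretriangulated.distinguished_cocone_triangle (f • 𝟙 W)
      refine ⟨W', g, h, hT, ih (fun a ha => hTS (Finset.mem_insert_of_mem ha)) W' ?_ Y hY⟩
      intro n a ha haT x
      let H := fun m => DerivedCategory.homologyFunctor (ModuleCat.{u} A) m
      let δ : (H n).obj W' ⟶ (H (n + 1)).obj W :=
        DerivedCategory.HomologySequence.δ (Triangle.mk (f • 𝟙 W) g h) n (n + 1) rfl
      have h₂ : ∀ y : (H n).obj W', δ.hom y = 0 → ∃ v : (H n).obj W, ((H n).map g).hom v = y :=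
        (ShortComplex.moduleCat_exact_iff _).1
          (DerivedCategory.HomologySequence.exact₃ _ hT n (n + 1) rfl)
      have hfδ : f • δ.hom x = 0 := by
        have hδ : δ ≫ (H (n + 1)).map (f • 𝟙 W) = 0 :=
          DerivedCategory.HomologySequence.δ_comp _ hT n (n + 1) rfl
        rw [show (H (n + 1)).map (f • 𝟙 W) = f • 𝟙 _ from homology_smul_id A f W (n + 1),
          Linear.comp_smul, comp_id] at hδ
        exact ConcreteCategory.congr_hom hδ x
      rcases eq_or_ne a f with rfl | hne
      · obtain ⟨v, hv⟩ := h₂ (a • x) (by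
          show δ.hom (a • x) = 0
          rw [map_smul, hfδ])
        refine ⟨2, ?_⟩
        rw [pow_two, mul_smul]
        have hv' : ((H n).map g).hom v = a • x := hv
        rw [← hv', ← map_smul]
        have h0 : (H n).map (a • 𝟙 W) ≫ (H n).map g = 0 := by
          rw [← Functor.map_comp, show (a • 𝟙 W) ≫ g = 0 from comp_distTriang_mor_zero₁₂ _ hT,
            Functor.map_zero]
        rw [show (H n).map (a • 𝟙 W) = a • 𝟙 _ from homology_smul_id A a W n, Linear.smul_comp,
          id_comp] at h0
        exact (LinearMap.map_smul ((H n).map g).hom a v).trans (ConcreteCategory.congr_hom h0 v)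
      · have haT' : a ∉ insert f T := by simp [hne, haT]
        obtain ⟨k, hk⟩ := hW (n + 1) a ha haT' (δ.hom x)
        obtain ⟨v, hv⟩ := h₂ (a ^ k • x) (by
          show δ.hom (a ^ k • x) = 0
          rw [map_smul, hk])
        obtain ⟨l, hl⟩ := hW n a ha haT' v
        refine ⟨l + k, ?_⟩
        have hv' : ((H n).map g).hom v = a ^ k • x := hv
        rw [pow_add, mul_smul, ← hv', ← map_smul, hl, map_zero]
    have inj : ∀ W : (DerivedCategory (ModuleCat.{u} A)),
        (∀ n, ∀ a ∈ S, a ∉ insert f T → ∀ x : (DerivedCategory.homologyFunctor (ModuleCat.{u} A) n).obj W,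
          ∃ k : ℕ, a ^ k • x = 0) →
        Function.Injective fun x : Y ⟶ W => x ≫ (tau A B).app W := by
      intro W hW x y hxy
      obtain ⟨W', g, h, hT, hb⟩ := step W hW
      rw [← sub_eq_zero]
      have hz : (x - y) ≫ (tau A B).app W = 0 := by
        rw [Preadditive.sub_comp, sub_eq_zero]; exact hxy
      have hz' : (x - y) ≫ g = 0 := hb.1 (by
        show ((x - y) ≫ g) ≫ (tau A B).app W' = 0 ≫ (tau A B).app W'
        rw [assoc, show g ≫ (tau A B).app W' = (tau A B).app W ≫ (FD A B).map g from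
          (tau A B).naturality g, ← assoc, hz, zero_comp, zero_comp])
      have hz₃ : ∃ z : Y ⟶ W, x - y = z ≫ (f • 𝟙 W) := Triangle.coyoneda_exact₂ _ hT (x - y) hz'
      obtain ⟨z, hz''⟩ := hz₃
      rw [hz'']
      rw [Linear.comp_smul, comp_id, hf0]
    refine ⟨inj W hW, fun y => ?_⟩
    -- write `W` as a shift, where surjectivity comes from the next triangle
    let V := W⟦(-1 : ℤ)⟧
    let e : V⟦(1 : ℤ)⟧ ≅ W := (shiftFunctorCompIsoId (DerivedCategory (ModuleCat.{u} A)) (-1 : ℤ) 1 (neg_add_cancel 1)).app W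
    have hV : ∀ n, ∀ a ∈ S, a ∉ insert f T →
        ∀ x : (DerivedCategory.homologyFunctor (ModuleCat.{u} A) n).obj V, ∃ k : ℕ, a ^ k • x = 0 := by
      intro n a ha haT x
      let i := ((DerivedCategory.homologyFunctor (ModuleCat.{u} A) 0).shiftIso (-1) n (n - 1)
        (by omega)).app W
      obtain ⟨k, hk⟩ := hW (n - 1) a ha haT (i.hom.hom x)
      exact ⟨k, i.toLinearEquiv.injective
        ((LinearMap.map_smul i.hom.hom _ x).trans (hk.trans (map_zero i.hom.hom).symm))⟩
    obtain ⟨W', g, h, hT, hb⟩ := step V hV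
    have hT' := (FD A B).map_distinguished _ hT
    let y' : Y ⟶ (FD A B).obj (V⟦(1 : ℤ)⟧) := y ≫ (FD A B).map e.inv
    let y'' : Y ⟶ ((FD A B).obj V)⟦(1 : ℤ)⟧ := y' ≫ ((FD A B).commShiftIso (1 : ℤ)).hom.app V
    have hy'' : y'' ≫ (f • 𝟙 (((FD A B).obj V)⟦(1 : ℤ)⟧)) = 0 := by
      rw [Linear.comp_smul, comp_id, hf0]
    have hz₁ : ∃ z : Y ⟶ (FD A B).obj W',
        y'' = z ≫ (FD A B).map h ≫ ((FD A B).commShiftIso (1 : ℤ)).hom.app V :=
      Triangle.coyoneda_exact₁ _ hT' y'' (by
        show y'' ≫ ((FD A B).map (f • 𝟙 V))⟦(1 : ℤ)⟧' = 0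
        rw [Functor.map_smul, CategoryTheory.Functor.map_id, Functor.map_smul,
          CategoryTheory.Functor.map_id]
        exact hy'')
    obtain ⟨z, hz⟩ := hz₁
    obtain ⟨w, hw⟩ := hb.2 z
    have hw' : w ≫ (tau A B).app W' = z := hw
    have hy : y' = z ≫ (FD A B).map h :=
      (cancel_mono (((FD A B).commShiftIso (1 : ℤ)).hom.app V)).1 (hz.trans (assoc _ _ _).symm)
    refine ⟨w ≫ h ≫ e.hom, ?_⟩
    show (w ≫ h ≫ e.hom) ≫ (tau A B).app W = y
    rw [assoc, assoc, show e.hom ≫ (tau A B).app W = (tau A B).app (V⟦(1 : ℤ)⟧) ≫ (FD A B).map e.hom from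
      (tau A B).naturality e.hom, ← assoc h, show h ≫ (tau A B).app (V⟦(1 : ℤ)⟧) =
      (tau A B).app W' ≫ (FD A B).map h from (tau A B).naturality h, assoc, ← assoc w, hw',
      ← assoc z, ← hy, assoc, ← Functor.map_comp, e.inv_hom_id, CategoryTheory.Functor.map_id, comp_id]

/-- The unit is bijective on maps from objects killed by `S` to any object. -/
theorem bijective_comp_tau_all (S : Finset A)
    (hfix : ∀ H : ModuleCat.{u} A, Nilp S H → IsIso ((unit A B).app H)) (W Y : (DerivedCategory (ModuleCat.{u} A)))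
    (hY : ∀ a ∈ S, a • 𝟙 Y = 0) :
    Function.Bijective fun x : Y ⟶ W => x ≫ (tau A B).app W :=
  bijective_comp_tau S hfix S subset_rfl W (fun _ _ ha ha' => absurd ha ha') Y hY

end Groth.L01.DerTau
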