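import Mathlib.RingTheory.DedekindDomain.Different
import Mathlib.RingTheory.Localization.Integer

/-! The different commutes with localization. -/

set_option autoImplicit false

open IsLocalization nonZeroDivisors

namespace L01.DifferentLoc

theorem map_differentIdeal {A B Aₛ Bₛ K L : Type*} [CommRing A] [CommRing B] [IsDedekindDomain A]
    [IsDedekindDomain B] [Algebra A B] [Module.Finite A B] [CommRing Aₛ] [CommRing Bₛ] [IsDomain Aₛ]
    [IsIntegrallyClosed Aₛ] [IsDedekindDomain Bₛ] [Algebra A Aₛ] [Algebra B Bₛ] [Algebra Aₛ Bₛ]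
    [Module.IsTorsionFree Aₛ Bₛ] [Module.IsTorsionFree A B]
    (S : Submonoid A) [IsLocalization S Aₛ] [IsLocalization (Algebra.algebraMapSubmonoid B S) Bₛ]
    [Field K] [Field L] [Algebra A K] [IsFractionRing A K] [Algebra B L] [IsFractionRing B L]
    [Algebra K L] [Algebra A L] [IsScalarTower A B L] [IsScalarTower A K L] [FiniteDimensional K L]
    [Algebra.IsSeparable K L] [IsIntegralClosure B A L]
    [Algebra Aₛ K] [IsFractionRing Aₛ K] [Algebra Bₛ L] [IsFractionRing Bₛ L] [IsScalarTower A Aₛ K]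
    [IsScalarTower B Bₛ L] [Algebra Aₛ L] [IsScalarTower Aₛ K L] [IsScalarTower Aₛ Bₛ L]
    [IsIntegralClosure Bₛ Aₛ L] :
    Ideal.map (algebraMap B Bₛ) (differentIdeal A B) = differentIdeal Aₛ Bₛ := by
  classical
  set D := differentIdeal A B
  apply FractionalIdeal.coeIdeal_injective (K := L)
  show ((Ideal.map (algebraMap B Bₛ) D : Ideal Bₛ) : FractionalIdeal Bₛ⁰ L) = ((differentIdeal Aₛ Bₛ : Ideal Bₛ) : FractionalIdeal Bₛ⁰ L)
  rw [coeIdeal_differentIdeal Aₛ K L Bₛ]
  refine eq_inv_of_mul_eq_one_left ?_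
  have hDdual : (D : FractionalIdeal B⁰ L) * FractionalIdeal.dual A K (1 : FractionalIdeal B⁰ L) = 1 := by
    rw [coeIdeal_differentIdeal A K L B,
      inv_mul_cancel₀ (FractionalIdeal.dual_ne_zero A K (one_ne_zero' (FractionalIdeal B⁰ L)))]
  obtain ⟨G, hG⟩ := Module.Finite.fg_top (R := A) (M := B)
  have hscale : ∀ x ∈ FractionalIdeal.dual Aₛ K (1 : FractionalIdeal Bₛ⁰ L),
      ∃ s ∈ S, algebraMap A L s * x ∈ FractionalIdeal.dual A K (1 : FractionalIdeal B⁰ L) := by
    intro x hx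
    rw [FractionalIdeal.mem_dual (one_ne_zero' (FractionalIdeal Bₛ⁰ L))] at hx
    have h1 : ∀ b : B, ∃ y : Aₛ, algebraMap Aₛ K y = Algebra.traceForm K L x (algebraMap B L b) := fun b =>
      hx _ (by rw [IsScalarTower.algebraMap_apply B Bₛ L]; exact FractionalIdeal.coe_mem_one _ _)
    choose y hy using h1
    obtain ⟨⟨s, hs⟩, hsy⟩ := IsLocalization.exist_integer_multiples S G y
    refine ⟨s, hs, ?_⟩
    rw [FractionalIdeal.mem_dual (one_ne_zero' (FractionalIdeal B⁰ L))]
    intro z hz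
    obtain ⟨b, rfl⟩ := (FractionalIdeal.mem_one_iff _).1 hz
    have hb : b ∈ Submodule.span A (G : Set B) := by rw [hG]; trivial
    have hkey : Algebra.traceForm K L (algebraMap A L s * x) (algebraMap B L b) =
        algebraMap A K s * Algebra.traceForm K L x (algebraMap B L b) := by
      rw [IsScalarTower.algebraMap_apply A K L, ← Algebra.smul_def, map_smul, LinearMap.smul_apply,
        smul_eq_mul]
    rw [hkey]
    clear hkey hz
    induction hb using Submodule.span_induction with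
    | mem b hb =>
      obtain ⟨a, ha⟩ := hsy b hb
      refine ⟨a, ?_⟩
      have h2 := congrArg (algebraMap Aₛ K) ha
      rw [← IsScalarTower.algebraMap_apply, Algebra.smul_def, map_mul, ← IsScalarTower.algebraMap_apply,
        hy] at h2
      exact h2
    | zero => exact ⟨0, by simp⟩
    | add u w _ _ hu hw =>
      obtain ⟨a, ha⟩ := hu
      obtain ⟨a', ha'⟩ := hw
      exact ⟨a + a', by rw [map_add, map_add (algebraMap B L), map_add, mul_add, ha, ha']⟩
    | smul r u _ hu =>
      obtain ⟨a, ha⟩ := hu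
      refine ⟨r * a, ?_⟩
      rw [Algebra.smul_def, map_mul (algebraMap B L), ← IsScalarTower.algebraMap_apply,
        IsScalarTower.algebraMap_apply A K L, ← Algebra.smul_def (algebraMap A K r), map_smul, smul_eq_mul, map_mul, ha]
      ring
  have hdual : ∀ x ∈ FractionalIdeal.dual A K (1 : FractionalIdeal B⁰ L),
      x ∈ FractionalIdeal.dual Aₛ K (1 : FractionalIdeal Bₛ⁰ L) := by
    intro x hx
    rw [FractionalIdeal.mem_dual (one_ne_zero' (FractionalIdeal B⁰ L))] at hx
    rw [FractionalIdeal.mem_dual (one_ne_zero' (FractionalIdeal Bₛ⁰ L))]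
    intro z hz
    obtain ⟨c, rfl⟩ := (FractionalIdeal.mem_one_iff _).1 hz
    obtain ⟨⟨b, ⟨_, s, hs, rfl⟩⟩, hbc⟩ := IsLocalization.surj (Algebra.algebraMapSubmonoid B S) c
    obtain ⟨a, ha⟩ := hx _ (FractionalIdeal.coe_mem_one _ b)
    refine ⟨IsLocalization.mk' Aₛ a ⟨s, hs⟩, ?_⟩
    have hu : algebraMap A K s ≠ 0 := by
      rw [IsScalarTower.algebraMap_apply A Aₛ K]
      exact ((IsLocalization.map_units Aₛ ⟨s, hs⟩).map (algebraMap Aₛ K)).ne_zero
    refine mul_left_cancel₀ hu ?_
    rw [IsScalarTower.algebraMap_apply A Aₛ K, ← map_mul, show algebraMap A Aₛ s * IsLocalization.mk' Aₛ a ⟨s, hs⟩ = algebraMap A Aₛ a from IsLocalization.mk'_spec' Aₛ a ⟨s, hs⟩,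
      ← IsScalarTower.algebraMap_apply, ha, ← smul_eq_mul, ← IsScalarTower.algebraMap_apply,
      ← map_smul, Algebra.smul_def]
    congr 1
    have := congrArg (algebraMap Bₛ L) hbc
    rw [map_mul, ← IsScalarTower.algebraMap_apply, ← IsScalarTower.algebraMap_apply,
      ← IsScalarTower.algebraMap_apply] at this
    rw [← this, ← IsScalarTower.algebraMap_apply, mul_comm]
  refine le_antisymm (FractionalIdeal.mul_le.2 ?_) ?_
  · intro i hi x hx
    obtain ⟨d, hd, rfl⟩ := (FractionalIdeal.mem_coeIdeal _).1 hi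
    obtain ⟨s, hs, hsx⟩ := hscale x hx
    obtain ⟨⟨d', ⟨_, t, ht, rfl⟩⟩, hd'⟩ :=
      (IsLocalization.mem_map_algebraMap_iff (Algebra.algebraMapSubmonoid B S) Bₛ).1 hd
    have hmem : algebraMap B L d' * (algebraMap A L s * x) ∈ (1 : FractionalIdeal B⁰ L) := by
      rw [← hDdual]
      exact FractionalIdeal.mul_mem_mul ((FractionalIdeal.mem_coeIdeal _).2 ⟨d', d'.2, rfl⟩) hsx
    obtain ⟨b, hb⟩ := (FractionalIdeal.mem_one_iff _).1 hmem
    refine (FractionalIdeal.mem_one_iff _).2 ⟨IsLocalization.mk' Bₛ b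
      (⟨algebraMap A B (t * s), t * s, mul_mem ht hs, rfl⟩ : Algebra.algebraMapSubmonoid B S), ?_⟩
    have hu := ((IsLocalization.map_units Bₛ
      (⟨algebraMap A B (t * s), t * s, mul_mem ht hs, rfl⟩ : Algebra.algebraMapSubmonoid B S))).map (algebraMap Bₛ L)
    refine hu.mul_left_cancel ?_
    rw [← map_mul, IsLocalization.mk'_spec' (S := Bₛ), ← IsScalarTower.algebraMap_apply, hb]
    have h3 := congrArg (algebraMap Bₛ L) hd'
    simp only [map_mul, ← IsScalarTower.algebraMap_apply] at h3 ⊢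
    rw [← h3]
    ring
  · rw [FractionalIdeal.one_le]
    have h1 : (1 : L) ∈ (D : FractionalIdeal B⁰ L) * FractionalIdeal.dual A K (1 : FractionalIdeal B⁰ L) := by
      rw [hDdual]; exact FractionalIdeal.one_mem_one _
    refine FractionalIdeal.mul_induction_on h1 (fun i hi j hj => ?_) (fun x y hx hy => Submodule.add_mem _ hx hy)
    obtain ⟨d, hd, rfl⟩ := (FractionalIdeal.mem_coeIdeal _).1 hi
    refine FractionalIdeal.mul_mem_mul ((FractionalIdeal.mem_coeIdeal _).2
      ⟨algebraMap B Bₛ d, Ideal.mem_map_of_mem _ hd, ?_⟩) (hdual j hj)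
    rw [← IsScalarTower.algebraMap_apply]

end L01.DifferentLoc
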