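import Groth.Agent.L22.DimFormula
import Mathlib.RingTheory.Localization.AtPrime.Basic
import Mathlib.RingTheory.Localization.Ideal

/-!
The dimension formula at a prime over the maximal ideal, assuming catenarity of local rings only.
-/

universe u

open Polynomial Cardinal Groth.L22.DimFormula

namespace Groth.L01.DimFormulaLocal

/-- Saturated chains below a prime `M` with catenary local ring have the same length. -/
theorem length_eq_of_local {A : Type u} [CommRing A] (M : Ideal A) [M.IsPrime] (B : Type u)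
    [CommRing B] [Algebra A B] [IsLocalization M.primeCompl B] (hB : CAlg.IsCatenary B)
    (s t : LTSeries (PrimeSpectrum A)) (hh : s.head = t.head) (hl : s.last = t.last)
    (hM : s.last.asIdeal ≤ M)
    (hs : ∀ i : Fin s.length, s (Fin.castSucc i) ⋖ s (Fin.succ i))
    (ht : ∀ i : Fin t.length, t (Fin.castSucc i) ⋖ t (Fin.succ i)) :
    s.length = t.length := by
  let o := IsLocalization.primeSpectrumOrderIso M.primeCompl B
  let e : PrimeSpectrum B ↪o PrimeSpectrum A := o.toOrderEmbedding.trans (OrderEmbedding.subtype _)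
  have hrange : ∀ x : PrimeSpectrum A, x.asIdeal ≤ M → x ∈ Set.range e := fun x hx =>
    ⟨o.symm ⟨x, Set.disjoint_left.2 fun _ ha ha' => ha (hx ha')⟩, by simp [e]⟩
  have hord : (Set.range e).OrdConnected := ⟨fun x _ y hy z hz => by
    obtain ⟨y', rfl⟩ := hy
    refine hrange z (le_trans (show z.asIdeal ≤ (e y').asIdeal from hz.2) ?_)
    exact fun a ha => by_contra fun h => Set.disjoint_left.1 (o y').2 h ha⟩
  have hle : ∀ (r : LTSeries (PrimeSpectrum A)), r.last.asIdeal ≤ M → ∀ i, r i ∈ Set.range e :=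
    fun r hr i => hrange _ (le_trans (show r i ≤ r.last from r.monotone (Fin.le_last i)) hr)
  choose fs hfs using hle s hM
  choose ft hft using hle t (hl ▸ hM)
  let s' : LTSeries (PrimeSpectrum B) :=
    ⟨s.length, fs, fun i => e.lt_iff_lt.1 (by rw [hfs, hfs]; exact s.step i)⟩
  let t' : LTSeries (PrimeSpectrum B) :=
    ⟨t.length, ft, fun i => e.lt_iff_lt.1 (by rw [hft, hft]; exact t.step i)⟩
  refine hB.2 s' t' (e.injective ?_) (e.injective ?_) (fun i => ?_) (fun i => ?_)
  · show e (fs 0) = e (ft 0)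
    rw [hfs, hft]; exact hh
  · show e (fs (Fin.last _)) = e (ft (Fin.last _))
    rw [hfs, hft]; exact hl
  · refine (hord.apply_covBy_apply_iff e).1 ?_
    show e (fs _) ⋖ e (fs _)
    rw [hfs, hfs]; exact hs i
  · refine (hord.apply_covBy_apply_iff e).1 ?_
    show e (ft _) ⋖ e (ft _)
    rw [hft, hft]; exact ht i

theorem height_map_mk_add_eq_local {A : Type u} [CommRing A] [IsDomain A] [IsNoetherianRing A]
    (M : Ideal A) [M.IsPrime] (B : Type u) [CommRing B] [Algebra A B] [IsLocalization M.primeCompl B]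
    (hB : CAlg.IsCatenary B) {Q P : Ideal A} [Q.IsPrime] [P.IsPrime] (h : Q ≤ P) (hPM : P ≤ M) :
    (P.map (Ideal.Quotient.mk Q)).height + Q.height = P.height := by
  haveI : (P.map (Ideal.Quotient.mk Q)).IsPrime :=
    Ideal.map_isPrime_of_surjective Ideal.Quotient.mk_surjective (by rw [Ideal.mk_ker]; exact h)
  obtain ⟨s, hsl, hsn⟩ := Q.exists_ltSeries_length_eq_height
  obtain ⟨t, htl, htn⟩ := (P.map (Ideal.Quotient.mk Q)).exists_ltSeries_length_eq_height
  obtain ⟨u, hul, hun⟩ := P.exists_ltSeries_length_eq_height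
  let e : PrimeSpectrum (A ⧸ Q) ↪o PrimeSpectrum A :=
    Groth.L03.Catenary.comapEmb (Ideal.Quotient.mk Q) fun x y h a ha => by
      obtain ⟨b, rfl⟩ := Ideal.Quotient.mk_surjective a
      exact h ha
  have he : (Set.range e).OrdConnected := by
    have : Set.range e = PrimeSpectrum.zeroLocus (Q : Set A) := by
      change Set.range (PrimeSpectrum.comap (Ideal.Quotient.mk Q)) = _
      rw [range_comap_of_surjective _ _ Ideal.Quotient.mk_surjective, Ideal.mk_ker]
    rw [this]
    exact ⟨fun x hx y _ z hz => (show (Q : Set A) ⊆ x.asIdeal from hx).trans hz.1⟩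
  have cs := covBy_of_length_eq_height (s := s) (by
    rw [hsn, hsl]; exact PrimeSpectrum.height_eq_orderHeight ⟨_, _⟩)
  have ct := covBy_of_length_eq_height (s := t) (by
    rw [htn, htl]; exact PrimeSpectrum.height_eq_orderHeight ⟨_, _⟩)
  have cu := covBy_of_length_eq_height (s := u) (by
    rw [hun, hul]; exact PrimeSpectrum.height_eq_orderHeight ⟨_, _⟩)
  let t' := t.map e e.strictMono
  let bq : PrimeSpectrum (A ⧸ Q) := ⟨⊥, Ideal.isPrime_bot⟩
  have hth : t.head = bq := le_antisymm (ct.1 (show bq ≤ t.head from bot_le)) bot_le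
  have hhead : s.last = t'.head := by
    rw [hsl, LTSeries.head_map, hth]
    refine PrimeSpectrum.ext ?_
    show Q = Ideal.comap (Ideal.Quotient.mk Q) ⊥
    rw [← RingHom.ker, Ideal.mk_ker]
  have hlast : (s.smash t' hhead).last = u.last := by
    rw [RelSeries.last_smash, LTSeries.last_map, hul, htl]
    refine PrimeSpectrum.ext ?_
    show (P.map (Ideal.Quotient.mk Q)).comap (Ideal.Quotient.mk Q) = P
    rw [Ideal.comap_map_mk h]
  let b0 : PrimeSpectrum A := ⟨⊥, Ideal.isPrime_bot⟩
  have hheads : (s.smash t' hhead).head = u.head := by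
    rw [RelSeries.head_smash]
    exact (le_antisymm (cs.1 (show b0 ≤ s.head from bot_le)) (show b0 ≤ s.head from bot_le)).trans
      (le_antisymm (cu.1 (show b0 ≤ u.head from bot_le)) (show b0 ≤ u.head from bot_le)).symm
  have hlen := length_eq_of_local M B hB (s.smash t' hhead) u hheads hlast
    (by rw [hlast, hul]; exact hPM) (fun i => ?_) cu.2
  · rw [RelSeries.smash_length] at hlen
    rw [← hsn, ← htn, ← hun, ← hlen, add_comm]
    exact Nat.cast_add _ _ |>.symm
  · refine Fin.addCases (fun j => ?_) (fun j => ?_) i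
    · erw [RelSeries.smash_castAdd hhead j, RelSeries.smash_succ_castAdd hhead j]
      exact cs.2 j
    · erw [RelSeries.smash_natAdd hhead j, RelSeries.smash_succ_natAdd hhead j]
      exact (he.apply_covBy_apply_iff e).2 (ct.2 j)

theorem dim_formula_step_local {R S : Type u} [CommRing R] [IsDomain R] [IsNoetherianRing R]
    [CommRing S] [IsDomain S] [Algebra R S] [FaithfulSMul R S] (x : S) (hx : Algebra.adjoin R {x} = ⊤) (p : Ideal R) [p.IsPrime]
    (q : Ideal S) [q.IsPrime] [q.LiesOver p]
    (hloc : ∀ Q P : Ideal R[X], Q.IsPrime → P.IsPrime → Q ≤ P → p ≤ P.comap C →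
      (P.map (Ideal.Quotient.mk Q)).height + Q.height = P.height) :
    (q.height : Cardinal.{u}) + Algebra.trdeg (R ⧸ p) (S ⧸ q) =
        (p.height : Cardinal.{u}) + Algebra.trdeg R S := by
  let φ : R[X] →ₐ[R] S := aeval x
  have hφ : Function.Surjective φ := by
    rw [← AlgHom.range_eq_top, ← Algebra.adjoin_singleton_eq_range_aeval, hx]
  let Q : Ideal R[X] := RingHom.ker φ
  haveI : Q.IsPrime := RingHom.ker_isPrime _
  let q' : Ideal R[X] := q.comap φ
  haveI : q'.IsPrime := Ideal.IsPrime.comap _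
  have hQq : Q ≤ q' := fun f hf => by
    show φ f ∈ q
    rw [show φ f = 0 from hf]
    exact zero_mem _
  haveI : q'.LiesOver p := ⟨by
    rw [q.over_def p]
    ext a
    show algebraMap R S a ∈ q ↔ φ (algebraMap R R[X] a) ∈ q
    rw [AlgHom.commutes]⟩
  have hQC : Q.comap C = ⊥ := by
    rw [eq_bot_iff]
    intro a ha
    rw [Ideal.mem_bot]
    refine (map_eq_zero_iff _ (FaithfulSMul.algebraMap_injective R S)).1 ?_
    rw [← aeval_C (R := R) x a]
    exact ha
  let e : (R[X] ⧸ Q) ≃ₐ[R] S := Ideal.quotientKerAlgEquivOfSurjective hφ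
  have hh : q.height = (q'.map (Ideal.Quotient.mk Q)).height := by
    rw [← RingEquiv.height_map e.toRingEquiv (q'.map (Ideal.Quotient.mk Q))]
    show q.height = ((q'.map (Ideal.Quotient.mk Q)).map e.toRingEquiv.toRingHom).height
    rw [Ideal.map_map, show e.toRingEquiv.toRingHom.comp (Ideal.Quotient.mk Q) = φ.toRingHom from
        RingHom.ext fun f => rfl]
    exact congrArg Ideal.height (Ideal.map_comap_of_surjective φ.toRingHom hφ q).symm
  have hT := (height_add_trdeg_poly_over_bot Q hQC).1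
  have hQ1 : (Q.height : Cardinal.{u}) < ℵ₀ := by
    rw [Cardinal.ofENat_lt_aleph0]; exact (height_ne_top Q).lt_top
  rw [e.trdeg_eq] at hT
  have hp := height_add_one_eq p q'
  let e₂ : (R[X] ⧸ q') ≃+* (S ⧸ q) :=
    (Ideal.quotEquivOfEq (show q' = RingHom.ker ((Ideal.Quotient.mk q).comp φ.toRingHom) by
      rw [← RingHom.comap_ker, Ideal.mk_ker]; rfl)).trans
      (RingHom.quotientKerEquivOfSurjective (Ideal.Quotient.mk_surjective.comp hφ))
  have ht : Algebra.trdeg (R ⧸ p) (R[X] ⧸ q') = Algebra.trdeg (R ⧸ p) (S ⧸ q) :=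
    (AlgEquiv.ofRingEquiv (f := e₂) fun a => by
      obtain ⟨a, rfl⟩ := Ideal.Quotient.mk_surjective a
      show Ideal.Quotient.mk q (φ (algebraMap R R[X] a)) = _
      rw [AlgHom.commutes]
      rfl).trdeg_eq
  rw [ht] at hp
  refine Cardinal.eq_of_add_eq_add_right ?_ hQ1
  calc (q.height : Cardinal.{u}) + Algebra.trdeg (R ⧸ p) (S ⧸ q) + Q.height
      = ((q.height + Q.height : ℕ∞) : Cardinal.{u}) + Algebra.trdeg (R ⧸ p) (S ⧸ q) := by
        rw [Cardinal.ofENat_add, add_right_comm]
    _ = (q'.height : Cardinal.{u}) + Algebra.trdeg (R ⧸ p) (S ⧸ q) := by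
        rw [hh, hloc Q q' inferInstance inferInstance hQq (q'.over_def p).le]
    _ = (p.height : Cardinal.{u}) + Algebra.trdeg R S + Q.height := by
        rw [← hp, ← hT, add_assoc, add_comm (Algebra.trdeg R S)]


/-- For every finite type algebra inside `W` and every prime over `m`, heights are additive. -/
def LocHyp (R : Type u) [CommRing R] (m : Ideal R) (W : Type u) [CommRing W] [Algebra R W] : Prop :=
  ∀ (T : Type u) [CommRing T] [Algebra R T] [Algebra.FiniteType R T] (φ : T →ₐ[R] W),
    Function.Injective φ → ∀ Q P : Ideal T, Q.IsPrime → P.IsPrime → Q ≤ P →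
      m ≤ P.comap (algebraMap R T) → (P.map (Ideal.Quotient.mk Q)).height + Q.height = P.height

theorem LocHyp.comp {R : Type u} [CommRing R] {m : Ideal R} {W W' : Type u} [CommRing W]
    [Algebra R W] [CommRing W'] [Algebra R W'] (h : LocHyp R m W) (f : W' →ₐ[R] W)
    (hf : Function.Injective f) : LocHyp R m W' :=
  fun T _ _ _ φ hφ => h T (f.comp φ) (hf.comp hφ)

theorem dim_formula_local_aux {R : Type u} [CommRing R] [IsDomain R] [IsNoetherianRing R]
    (p : Ideal R) [p.IsPrime] : ∀ (n : ℕ) (S : Type u) [CommRing S] [IsDomain S] [Algebra R S]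
    [FaithfulSMul R S] (v : Fin n → S) (_ : Algebra.adjoin R (Set.range v) = ⊤)
    (_ : LocHyp R p S[X])
    (q : Ideal S) [q.IsPrime] [q.LiesOver p],
    (q.height : Cardinal.{u}) + Algebra.trdeg (R ⧸ p) (S ⧸ q) =
        (p.height : Cardinal.{u}) + Algebra.trdeg R S := by
  intro n
  induction n with
  | zero =>
    intro S _ _ _ _ v hv hloc q _ _
    have hs : Function.Surjective (algebraMap R S) := by
      intro y
      have : y ∈ Algebra.adjoin R (Set.range v) := hv ▸ trivial
      rwa [Set.range_eq_empty, Algebra.adjoin_empty, Algebra.mem_bot] at this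
    let e : R ≃+* S := RingEquiv.ofBijective (algebraMap R S)
      ⟨FaithfulSMul.algebraMap_injective R S, hs⟩
    have hh : q.height = p.height := by
      rw [q.over_def p]
      exact (RingEquiv.height_comap e q).symm
    haveI : Algebra.IsAlgebraic R S :=
      ⟨fun y => by obtain ⟨a, rfl⟩ := hs y; exact isAlgebraic_algebraMap a⟩
    haveI : Algebra.IsAlgebraic (R ⧸ p) (S ⧸ q) := ⟨fun y => by
      obtain ⟨y, rfl⟩ := Ideal.Quotient.mk_surjective y
      obtain ⟨a, rfl⟩ := hs y
      exact isAlgebraic_algebraMap (R := R ⧸ p) (A := S ⧸ q) (Ideal.Quotient.mk p a)⟩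
    simp [hh, trdeg_eq_zero]
  | succ n ih =>
    intro S _ _ _ _ v hv hloc q _ _
    let S₁ := Algebra.adjoin R (Set.range (v ∘ Fin.castSucc))
    let v₁ : Fin n → S₁ := fun i => ⟨v i.castSucc, Algebra.subset_adjoin ⟨i, rfl⟩⟩
    have hv₁ : Algebra.adjoin R (Set.range v₁) = ⊤ := by
      refine Subalgebra.map_injective (f := S₁.val) Subtype.val_injective ?_
      rw [AlgHom.map_adjoin, Algebra.map_top, ← Set.range_comp, Subalgebra.range_val]
      rfl
    haveI : Algebra.FiniteType R S₁ :=
      ⟨⟨(Set.finite_range v₁).toFinset, by rw [Set.Finite.coe_toFinset]; exact hv₁⟩⟩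
    haveI : IsNoetherianRing S₁ := Algebra.FiniteType.isNoetherianRing R S₁
    haveI : FaithfulSMul R S₁ := (faithfulSMul_iff_algebraMap_injective _ _).2 fun a b h =>
      FaithfulSMul.algebraMap_injective R S (congrArg Subtype.val h)
    haveI : FaithfulSMul S₁ S := (faithfulSMul_iff_algebraMap_injective _ _).2 Subtype.val_injective
    have hxS : Algebra.adjoin S₁ {v (Fin.last n)} = ⊤ := by
      refine Subalgebra.restrictScalars_injective R ?_
      rw [Subalgebra.restrictScalars_top, ← Algebra.adjoin_union_eq_adjoin_adjoin, eq_top_iff, ← hv]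
      refine Algebra.adjoin_mono ?_
      rintro _ ⟨i, rfl⟩
      induction i using Fin.lastCases with
      | last => exact Or.inr rfl
      | cast i => exact Or.inl ⟨i, rfl⟩
    let q₁ : Ideal S₁ := q.under S₁
    haveI : q₁.IsPrime := Ideal.IsPrime.under _ _
    haveI : q.LiesOver q₁ := ⟨rfl⟩
    haveI : q₁.LiesOver p := Ideal.LiesOver.tower_bot q q₁ p
    have hinj : Function.Injective (Polynomial.mapAlgHom S₁.val) :=
      Polynomial.map_injective _ Subtype.val_injective
    have h1 := ih S₁ v₁ hv₁ (hloc.comp _ hinj) q₁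
    have h2 := dim_formula_step_local (R := S₁) (v (Fin.last n)) hxS q₁ q fun Q P hQ hP hQP hp =>
      hloc S₁[X] (Polynomial.mapAlgHom S₁.val) hinj Q P hQ hP hQP fun a ha => by
        rw [q₁.over_def p] at ha
        exact hp ha
    have hT : Algebra.trdeg R S₁ + Algebra.trdeg S₁ S = Algebra.trdeg R S := trdeg_add_eq R S₁
    haveI : IsScalarTower (R ⧸ p) (S₁ ⧸ q₁) (S ⧸ q) := IsScalarTower.of_algebraMap_eq fun a => by
      obtain ⟨a, rfl⟩ := Ideal.Quotient.mk_surjective a
      rfl
    have ht : Algebra.trdeg (R ⧸ p) (S₁ ⧸ q₁) + Algebra.trdeg (S₁ ⧸ q₁) (S ⧸ q) =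
        Algebra.trdeg (R ⧸ p) (S ⧸ q) := trdeg_add_eq (R ⧸ p) (S₁ ⧸ q₁)
    rw [← ht, add_comm (Algebra.trdeg (R ⧸ p) (S₁ ⧸ q₁)), ← add_assoc, h2,
      add_right_comm, h1, add_assoc, hT]

end Groth.L01.DimFormulaLocal
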