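import Groth.Agent.L08.FlagGroup
import Groth.Agent.L08.KrullHopf
import Mathlib.LinearAlgebra.Eigenspace.Triangularizable
import Mathlib.LinearAlgebra.LinearIndependent.Lemmas
import Mathlib.LinearAlgebra.Determinant
import Mathlib.GroupTheory.Abelianization.Defs

/-!
# The Lie–Kolchin theorem for comodules
-/

set_option autoImplicit false

universe u v

open WithConv Groth.L08

noncomputable section

namespace Groth.L01.LieKolchin

variable {k : Type u} [Field k] [IsAlgClosed k] {A : Type v} [CommRing A] [HopfAlgebra k A]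
  [Algebra.FiniteType k A]

/-- A connected reduced group is not a finite union of proper closed subsets. -/
theorem exists_forall_eq_zero [IsReduced A] (hconn : ∀ e : A, IsIdempotentElem e → e = 0 ∨ e = 1)
    {ι : Type*} (S : Finset ι) (Z : ι → Set A)
    (h : ∀ φ : A →ₐ[k] k, ∃ i ∈ S, ∀ a ∈ Z i, φ a = 0) : ∃ i ∈ S, ∀ a ∈ Z i, a = 0 := by
  classical
  by_contra hne
  have hne' : ∀ i ∈ S, ∃ a, a ∈ Z i ∧ a ≠ 0 := by
    intro i hi
    by_contra hc
    exact hne ⟨i, hi, fun a ha => by_contra fun h0 => hc ⟨a, ha, h0⟩⟩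
  choose! a haZ ha0 using hne'
  haveI := KrullHopf.nilradical_isPrime k hconn
  have hP : (∏ i ∈ S, a i) ∉ nilradical A := fun hc => by
    obtain ⟨i, hi, hi'⟩ := (Ideal.IsPrime.prod_mem_iff (p := nilradical A)).1 hc
    exact ha0 i hi (IsReduced.eq_zero _ hi')
  obtain ⟨χ, -, hχ⟩ := KrullHopf.exists_point_notMem k (nilradical A) hP
  obtain ⟨i, hi, hi'⟩ := h χ
  exact hχ (by rw [map_prod]; exact Finset.prod_eq_zero hi (hi' _ (haZ i hi)))

variable {V : Type v} [AddCommGroup V] [Module k V] [HopfRep.Comod k A V]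

theorem point_cf (φ : A →ₐ[k] k) (θ : Module.Dual k V) (v : V) :
    φ (cf (A := A) θ v) = θ (ptAct (A := A) V (toConv φ) v) :=
  apply_cf φ.toLinearMap θ v

theorem ptAct_mul_inv (g : WithConv (A →ₐ[k] k)) :
    ptAct (A := A) V g * ptAct (A := A) V g⁻¹ = 1 := by
  rw [← map_mul, mul_inv_cancel, map_one]

theorem ptAct_inv_mul (g : WithConv (A →ₐ[k] k)) :
    ptAct (A := A) V g⁻¹ * ptAct (A := A) V g = 1 := by
  rw [← map_mul, inv_mul_cancel, map_one]

/-- An operator with finitely many conjugates commutes with the group. -/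
theorem commute_of_finite [IsReduced A] (hconn : ∀ e : A, IsIdempotentElem e → e = 0 ∨ e = 1)
    {x : Module.End k V} {S : Set (Module.End k V)} (hS : S.Finite)
    (h : ∀ g, ptAct (A := A) V g * x * ptAct (A := A) V g⁻¹ ∈ S) (g : WithConv (A →ₐ[k] k)) :
    ptAct (A := A) V g * x = x * ptAct (A := A) V g := by
  obtain ⟨y, -, hy⟩ := exists_forall_eq_zero (k := k) hconn hS.toFinset
    (fun y => {a | ∃ (θ : Module.Dual k V) (v : V), a = cf (A := A) θ (x v) - cf (A := A) (θ ∘ₗ y) v})
    (fun φ => ⟨_, hS.mem_toFinset.2 (h (toConv φ)), by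
      rintro _ ⟨θ, v, rfl⟩
      rw [map_sub, point_cf, point_cf, LinearMap.comp_apply, ← Module.End.mul_apply,
        ← Module.End.mul_apply, mul_assoc (_ * x), ptAct_inv_mul, mul_one, sub_self]⟩)
  have key : ∀ g, ptAct (A := A) V g * x = y * ptAct (A := A) V g := fun g => by
    refine LinearMap.ext fun v => ?_
    rw [← sub_eq_zero, ← Module.forall_dual_apply_eq_zero_iff k]
    intro θ
    have := congrArg g.ofConv (hy _ ⟨θ, v, rfl⟩)
    rw [map_sub, map_zero, point_cf, point_cf, LinearMap.comp_apply] at this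
    rw [map_sub]
    exact this
  have hxy : x = y := by simpa using key 1
  rw [key g, ← hxy]

variable [Module.Finite k V]

/-- A commuting set of operators stable under conjugation acts by scalars on a simple comodule. -/
theorem scalar_of_stable [IsReduced A] (hconn : ∀ e : A, IsIdempotentElem e → e = 0 ∨ e = 1)
    (hV : HopfRep.IsSimpleComod k A V) (D : Set (Module.End k V))
    (hcomm : ∀ a ∈ D, ∀ b ∈ D, a * b = b * a)
    (hstab : ∀ g, ∀ d ∈ D, ptAct (A := A) V g * d * ptAct (A := A) V g⁻¹ ∈ D) :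
    ∀ d ∈ D, ∃ c : k, d = c • 1 := by
  classical
  haveI := hV.1
  -- a common eigenvector
  have hex : ∃ n, ∃ W : Submodule k V, W ≠ ⊥ ∧ (∀ d ∈ D, ∀ w ∈ W, d w ∈ W) ∧ Module.finrank k W = n :=
    ⟨_, ⊤, top_ne_bot, fun _ _ _ _ => trivial, rfl⟩
  obtain ⟨W, hW0, hWD, hWn⟩ := Nat.find_spec hex
  have hWscal : ∀ d ∈ D, ∃ c : k, ∀ w ∈ W, d w = c • w := by
    intro d hd
    haveI : Nontrivial W := Submodule.nontrivial_iff_ne_bot.2 hW0
    obtain ⟨c, hc⟩ := Module.End.exists_eigenvalue (d.restrict (hWD d hd) : Module.End k W)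
    obtain ⟨⟨w, hw⟩, hwe⟩ := hc.exists_hasEigenvector
    have hwc : d w = c • w := congrArg Subtype.val hwe.apply_eq_smul
    let E : Submodule k V := W ⊓ LinearMap.ker (d - c • 1)
    have hE0 : E ≠ ⊥ := fun h0 => by
      have : w ∈ E := ⟨hw, by simp [hwc]⟩
      rw [h0, Submodule.mem_bot] at this
      exact hwe.2 (Subtype.ext this)
    have hED : ∀ e ∈ D, ∀ v ∈ E, e v ∈ E := fun e he v hv => ⟨hWD e he v hv.1, by
      have hv2 : (d - c • 1) v = 0 := hv.2
      rw [SetLike.mem_coe, LinearMap.mem_ker, ← Module.End.mul_apply, sub_mul, smul_one_mul, hcomm d hd e he]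
      simp only [LinearMap.sub_apply, Module.End.mul_apply, LinearMap.smul_apply]
      rw [← map_smul, ← map_sub]
      simp only [LinearMap.sub_apply, LinearMap.smul_apply, Module.End.one_apply] at hv2
      rw [hv2, map_zero]⟩
    have hEW : E = W := by
      refine Submodule.eq_of_le_of_finrank_le inf_le_left ?_
      rw [hWn]
      exact Nat.find_min' hex ⟨E, hE0, hED, rfl⟩
    refine ⟨c, fun v hv => ?_⟩
    have hv' : v ∈ E := hEW.symm ▸ hv
    have : (d - c • 1) v = 0 := hv'.2
    simpa [sub_eq_zero] using this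
  obtain ⟨x, hxW, hx0⟩ := Submodule.exists_mem_ne_zero_of_ne_bot hW0
  let R : Subalgebra k (Module.End k V) := Algebra.adjoin k D
  have hRx : ∀ r ∈ R, ∃ c : k, (r : Module.End k V) x = c • x := fun r hr => by
    induction hr using Algebra.adjoin_induction with
    | mem d hd => obtain ⟨c, hc⟩ := hWscal d hd; exact ⟨c, hc x hxW⟩
    | algebraMap c => exact ⟨c, by simp [Module.algebraMap_end_apply]⟩
    | add a b _ _ ha hb =>
      obtain ⟨p, hp⟩ := ha; obtain ⟨q, hq⟩ := hb
      exact ⟨p + q, by rw [LinearMap.add_apply, hp, hq, add_smul]⟩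
    | mul a b _ _ ha hb =>
      obtain ⟨p, hp⟩ := ha; obtain ⟨q, hq⟩ := hb
      exact ⟨q * p, by rw [Module.End.mul_apply, hq, map_smul, hp, smul_smul]⟩
  obtain ⟨θ, hθ⟩ : ∃ f : Module.Dual k V, f x = 1 := by
    obtain ⟨f, hf⟩ : ∃ f : Module.Dual k V, f x ≠ 0 := by
      by_contra! h0
      exact hx0 ((Module.forall_dual_apply_eq_zero_iff k x).1 h0)
    exact ⟨(f x)⁻¹ • f, by simp [hf]⟩
  let χl : R →ₗ[k] k := θ ∘ₗ LinearMap.applyₗ x ∘ₗ R.val.toLinearMap
  have hχl : ∀ r : R, (r : Module.End k V) x = χl r • x := fun r => by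
    obtain ⟨c, hc⟩ := hRx r r.2
    show _ = θ ((r : Module.End k V) x) • x
    rw [hc, map_smul, hθ, smul_eq_mul, mul_one]
  let χ₀ : R →ₐ[k] k := AlgHom.ofLinearMap χl (by
      show θ ((1 : Module.End k V) x) = 1
      exact hθ) (fun a b => by
      show θ ((a : Module.End k V) ((b : Module.End k V) x)) = χl a * χl b
      rw [hχl b, map_smul, hχl a, map_smul, map_smul, hθ, smul_eq_mul, smul_eq_mul]
      ring)
  have hconj : ∀ (g : WithConv (A →ₐ[k] k)) (r : Module.End k V), r ∈ R →
      ptAct (A := A) V g⁻¹ * r * ptAct (A := A) V g ∈ R := fun g r hr => by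
    induction hr using Algebra.adjoin_induction with
    | mem d hd =>
      refine Algebra.subset_adjoin ?_
      have := hstab g⁻¹ d hd
      rwa [inv_inv] at this
    | algebraMap c =>
      rw [← Algebra.commutes, mul_assoc, ptAct_inv_mul, mul_one]
      exact Subalgebra.algebraMap_mem _ c
    | add a b _ _ ha hb => rw [mul_add, add_mul]; exact add_mem ha hb
    | mul a b _ _ ha hb =>
      have := mul_mem ha hb
      rwa [mul_assoc (ptAct (A := A) V g⁻¹ * a), ← mul_assoc (ptAct (A := A) V g) (_ * b),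
        ← mul_assoc (ptAct (A := A) V g), ptAct_mul_inv, one_mul, ← mul_assoc,
        mul_assoc (ptAct (A := A) V g⁻¹) a b] at this
  let cg : WithConv (A →ₐ[k] k) → (R →ₐ[k] R) := fun g => AlgHom.ofLinearMap
    { toFun := fun r => ⟨_, hconj g r r.2⟩
      map_add' := fun a b => Subtype.ext (by simp [mul_add, add_mul])
      map_smul' := fun c a => Subtype.ext (by simp) }
    (Subtype.ext (by simp [ptAct_inv_mul]))
    (fun a b => Subtype.ext (by
      show ptAct (A := A) V g⁻¹ * (a * b : Module.End k V) * ptAct (A := A) V g =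
        (ptAct (A := A) V g⁻¹ * a * ptAct (A := A) V g) * (ptAct (A := A) V g⁻¹ * b * ptAct (A := A) V g)
      rw [mul_assoc (ptAct (A := A) V g⁻¹ * a), ← mul_assoc (ptAct (A := A) V g) (_ * b),
        ← mul_assoc (ptAct (A := A) V g), ptAct_mul_inv, one_mul]
      noncomm_ring))
  haveI : FiniteDimensional k R := FiniteDimensional.finiteDimensional_submodule (Subalgebra.toSubmodule R)
  haveI : Finite (R →ₐ[k] k) := (linearIndependent_algHom_toLinearMap k R k).finite
  letI := Fintype.ofFinite (R →ₐ[k] k)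
  let W₀ : Submodule k V := ⨅ r : R, LinearMap.ker ((r : Module.End k V) - χ₀ r • 1)
  have hW₀ : ∀ {v : V}, v ∈ W₀ ↔ ∀ r : R, (r : Module.End k V) v = χ₀ r • v := by
    intro v
    simp [W₀, sub_eq_zero]
  have hx₀ : x ∈ W₀ := hW₀.2 fun r => hχl r
  obtain ⟨χ, -, hχ⟩ := exists_forall_eq_zero (k := k) hconn (Finset.univ : Finset (R →ₐ[k] k))
    (fun χ => {a | ∃ (v : V) (r : R) (θ : Module.Dual k V), v ∈ W₀ ∧
      a = cf (A := A) (θ ∘ₗ (r : Module.End k V) - χ r • θ) v})
    (fun φ => ⟨χ₀.comp (cg (toConv φ)), Finset.mem_univ _, by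
      rintro _ ⟨v, r, θ', hv, rfl⟩
      rw [point_cf, LinearMap.sub_apply, LinearMap.smul_apply, LinearMap.comp_apply, ← Module.End.mul_apply]
      have h1 : ptAct (A := A) V (toConv φ) * (cg (toConv φ) r : Module.End k V) =
          (r : Module.End k V) * ptAct (A := A) V (toConv φ) := by
        show _ * (ptAct (A := A) V (toConv φ)⁻¹ * (r : Module.End k V) * ptAct (A := A) V (toConv φ)) = _
        rw [← mul_assoc, ← mul_assoc, ptAct_mul_inv, one_mul]
      rw [← h1, Module.End.mul_apply, hW₀.1 hv, map_smul, map_smul]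
      exact sub_self _⟩)
  have hmove : ∀ (g : WithConv (A →ₐ[k] k)), ∀ v ∈ W₀, ∀ r : R,
      (r : Module.End k V) (ptAct (A := A) V g v) = χ r • ptAct (A := A) V g v := by
    intro g v hv r
    rw [← sub_eq_zero, ← Module.forall_dual_apply_eq_zero_iff k]
    intro θ'
    have := congrArg g.ofConv (hχ _ ⟨v, r, θ', hv, rfl⟩)
    rw [map_zero, point_cf, LinearMap.sub_apply, LinearMap.smul_apply, LinearMap.comp_apply] at this
    rw [map_sub, map_smul]
    exact this
  have hχ₀ : χ = χ₀ := AlgHom.ext fun r => by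
    have h1 := hmove 1 x hx₀ r
    rw [map_one, Module.End.one_apply, hW₀.1 hx₀ r] at h1
    exact (smul_left_injective k hx0 h1).symm
  have hsub : HopfRep.IsSubcomod (k := k) (A := A) W₀ := isSubcomod_iff.2 fun ψ v hv => by
    by_contra hn
    obtain ⟨f, hfv, hf⟩ := Submodule.exists_le_ker_of_notMem hn
    refine hfv ?_
    rw [← apply_cf]
    obtain ⟨-, -, h0⟩ := exists_forall_eq_zero (k := k) hconn ({()} : Finset Unit)
      (fun _ => {cf (A := A) f v}) (fun φ => ⟨(), Finset.mem_singleton_self _, by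
        rintro _ rfl
        rw [point_cf]
        exact LinearMap.mem_ker.1 (hf (hW₀.2 fun r => (hmove _ v hv r).trans (by rw [hχ₀])))⟩)
    rw [h0 _ rfl, map_zero]
  have htop : W₀ = ⊤ := (hV.2 W₀ hsub).resolve_left fun h => hx0 (by rwa [h, Submodule.mem_bot] at hx₀)
  intro d hd
  refine ⟨χ₀ ⟨d, Algebra.subset_adjoin hd⟩, LinearMap.ext fun v => ?_⟩
  exact hW₀.1 (htop ▸ Submodule.mem_top) ⟨d, Algebra.subset_adjoin hd⟩

theorem finite_pow_eq_one {n : ℕ} (hn : 0 < n) : {c : k | c ^ n = 1}.Finite :=
  (Polynomial.finite_setOf_isRoot (Polynomial.X_pow_sub_C_ne_zero hn (1 : k))).subset fun c hc => by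
    simpa [sub_eq_zero] using hc

/-- **Lie–Kolchin**: the image of a connected solvable group in a simple comodule is scalar. -/
theorem scalar_of_isSolvable [IsReduced A] (hconn : ∀ e : A, IsIdempotentElem e → e = 0 ∨ e = 1)
    [Group.IsSolvable (WithConv (A →ₐ[k] k))] (hV : HopfRep.IsSimpleComod k A V)
    (g : WithConv (A →ₐ[k] k)) : ∃ c : k, ptAct (A := A) V g = c • 1 := by
  classical
  haveI := hV.1
  let G := WithConv (A →ₐ[k] k)
  let n := Module.finrank k V
  have hn : 0 < n := Module.finrank_pos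
  let Ω := {c : k | c ^ n = 1}
  have hΩ : Ω.Finite := finite_pow_eq_one hn
  let δ : G →* kˣ := (Units.map (LinearMap.det : Module.End k V →* k)).comp (ptAct (A := A) V).toHomUnits
  have hdet : ∀ x ∈ commutator G, ∀ c : k, ptAct (A := A) V x = c • 1 → c ∈ Ω := by
    intro x hx c hc
    have h1 : δ x = 1 := Abelianization.commutator_subset_ker δ hx
    have h2 : LinearMap.det (ptAct (A := A) V x) = 1 := congrArg Units.val h1
    rw [hc, LinearMap.det_smul, map_one, mul_one] at h2
    exact h2
  -- the derived groups act by scalars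
  have hP : ∀ j, 1 ≤ j → ∀ x ∈ derivedSeries G j, ∃ c : k, ptAct (A := A) V x = c • 1 := by
    obtain ⟨m, hm⟩ := Group.IsSolvable.solvable (G := G)
    suffices ∀ i j, 1 ≤ j → m ≤ j + i → ∀ x ∈ derivedSeries G j, ∃ c : k, ptAct (A := A) V x = c • 1 from
      fun j hj => this m j hj (Nat.le_add_left m j)
    intro i
    induction i with
    | zero =>
      intro j _ hmj x hx
      have h1 : x ∈ derivedSeries G m := derivedSeries_antitone G hmj hx
      rw [hm, Subgroup.mem_bot] at h1
      exact ⟨1, by rw [h1, map_one, one_smul]⟩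
    | succ i ih =>
      intro j hj hmj
      have ih' := ih (j + 1) (by omega) (by omega)
      let N := derivedSeries G j
      haveI : N.Normal := derivedSeries_normal G j
      have hcomm_le : ∀ x ∈ N, x ∈ commutator G := fun x hx => derivedSeries_one G ▸ derivedSeries_antitone G hj hx
      have hω : ∀ x ∈ N, ∀ t ∈ N, ∃ c ∈ Ω, ptAct (A := A) V x * ptAct (A := A) V t =
          c • (ptAct (A := A) V t * ptAct (A := A) V x) := by
        intro x hx t ht
        have hmem : x * t * x⁻¹ * t⁻¹ ∈ derivedSeries G (j + 1) := by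
          rw [derivedSeries_succ, ← commutatorElement_def]
          exact Subgroup.commutator_mem_commutator hx ht
        obtain ⟨c, hc⟩ := ih' _ hmem
        refine ⟨c, hdet _ (derivedSeries_one G ▸ derivedSeries_antitone G (by omega) hmem) c hc, ?_⟩
        rw [← map_mul, ← map_mul, ← smul_one_mul c (ptAct (A := A) V (t * x)), ← hc, ← map_mul]
        congr 1
        rw [← mul_assoc, inv_mul_cancel_right, inv_mul_cancel_right]
      -- commuting operators of `N` act by scalars
      have hZ : ∀ z ∈ N, (∀ t ∈ N, ptAct (A := A) V z * ptAct (A := A) V t = ptAct (A := A) V t * ptAct (A := A) V z) →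
          ∃ c ∈ Ω, ptAct (A := A) V z = c • 1 := by
        intro z hz hzc
        let D : Set (Module.End k V) := {d | ∃ y ∈ N, (∀ t ∈ N, ptAct (A := A) V y * ptAct (A := A) V t =
          ptAct (A := A) V t * ptAct (A := A) V y) ∧ ptAct (A := A) V y = d}
        obtain ⟨c, hc⟩ := scalar_of_stable hconn hV D (by
          rintro _ ⟨a, ha, hac, rfl⟩ _ ⟨b, hb, -, rfl⟩
          exact hac b hb) (by
          rintro h _ ⟨y, hy, hyc, rfl⟩
          refine ⟨h * y * h⁻¹, Subgroup.Normal.conj_mem inferInstance y hy h, fun t ht => ?_, by rw [map_mul, map_mul]⟩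
          have ht' : h⁻¹ * t * h ∈ N := by
            have := Subgroup.Normal.conj_mem (inferInstance : N.Normal) t ht h⁻¹
            rwa [inv_inv] at this
          have e := congrArg (fun d => ptAct (A := A) V h * d * ptAct (A := A) V h⁻¹) (hyc _ ht')
          simp only [← map_mul] at e ⊢
          refine ((congrArg _ ?_).trans e).trans (congrArg _ ?_) <;> group) _ ⟨z, hz, hzc, rfl⟩
        exact ⟨c, hdet z (hcomm_le z hz) c hc, hc⟩
      -- finitely many operators
      obtain ⟨b, hbsub, hbspan, hbli⟩ := exists_linearIndependent k ((ptAct (A := A) V) '' (N : Set G))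
      haveI : Finite b := hbli.finite
      choose t htN htb using fun s : b => hbsub s.2
      let key : G → (b → k) := fun x s => if h : x ∈ N then (hω x h (t s) (htN s)).choose else 1
      have hkey : ∀ x ∈ N, ∀ s : b, ptAct (A := A) V x * (s : Module.End k V) =
          key x s • ((s : Module.End k V) * ptAct (A := A) V x) := fun x hx s => by
        rw [← htb s]
        simp only [key, dif_pos hx]
        exact (hω x hx (t s) (htN s)).choose_spec.2
      have hfin : ((ptAct (A := A) V) '' (N : Set G)).Finite := by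
        have hK : (key '' (N : Set G)).Finite := by
          refine Set.Finite.subset (Set.Finite.pi fun _ : b => hΩ) ?_
          rintro _ ⟨x, hx, rfl⟩ s -
          simp only [key, dif_pos (show x ∈ N from hx)]
          exact (hω x hx (t s) (htN s)).choose_spec.1
        refine ((hK.biUnion fun κ _ => hΩ.image fun c =>
          c • ptAct (A := A) V (Function.invFunOn key (N : Set G) κ))).subset ?_
        rintro _ ⟨x, hx, rfl⟩
        have hκ : key x ∈ key '' (N : Set G) := ⟨x, hx, rfl⟩
        obtain ⟨hyN, hye⟩ := Function.invFunOn_pos (f := key) hκ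
        let y := Function.invFunOn key (N : Set G) (key x)
        have hz : ∀ q ∈ N, ptAct (A := A) V (y⁻¹ * x) * ptAct (A := A) V q =
            ptAct (A := A) V q * ptAct (A := A) V (y⁻¹ * x) := by
          intro q hq
          have hq' : ptAct (A := A) V q ∈ Submodule.span k b :=
            hbspan.symm ▸ Submodule.subset_span ⟨q, hq, rfl⟩
          generalize ptAct (A := A) V q = Q at hq'
          induction hq' using Submodule.span_induction with
          | zero => simp
          | add a a' _ _ ha ha' => rw [mul_add, add_mul, ha, ha']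
          | smul r a _ ha => rw [mul_smul_comm, smul_mul_assoc, ha]
          | mem Q hQ =>
            obtain ⟨c, hc⟩ : ∃ c, c = key x ⟨Q, hQ⟩ := ⟨_, rfl⟩
            have h1 : ptAct (A := A) V x * Q = c • (Q * ptAct (A := A) V x) := hc ▸ hkey x hx ⟨Q, hQ⟩
            have h2 : ptAct (A := A) V y * Q = c • (Q * ptAct (A := A) V y) := by
              rw [hc, ← hye]
              exact hkey y hyN ⟨Q, hQ⟩
            have h3 := congrArg (fun d => ptAct (A := A) V y⁻¹ * d * ptAct (A := A) V y⁻¹) h2
            simp only [← mul_assoc, ptAct_inv_mul, one_mul, mul_smul_comm, smul_mul_assoc] at h3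
            rw [mul_assoc (_ * Q), ptAct_mul_inv, mul_one] at h3
            rw [map_mul, mul_assoc, h1, mul_smul_comm, ← mul_assoc, ← mul_assoc, h3, smul_mul_assoc]
        obtain ⟨c, hc, hce⟩ := hZ _ (mul_mem (inv_mem hyN) hx) hz
        refine Set.mem_iUnion₂.2 ⟨key x, hκ, c, hc, ?_⟩
        show c • ptAct (A := A) V y = _
        rw [← mul_smul_one c (ptAct (A := A) V y), ← hce, ← map_mul, mul_inv_cancel_left]
      have hcent : ∀ x ∈ N, ∀ h : G, ptAct (A := A) V h * ptAct (A := A) V x =
          ptAct (A := A) V x * ptAct (A := A) V h := fun x hx h =>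
        commute_of_finite hconn hfin (fun h' => ⟨h' * x * h'⁻¹, Subgroup.Normal.conj_mem inferInstance x hx h',
          by rw [map_mul, map_mul]⟩) h
      intro x hx
      obtain ⟨c, -, hc⟩ := hZ x hx fun t _ => (hcent x hx t).symm
      exact ⟨c, hc⟩
  -- the image is commutative
  have hab : ∀ x h : G, ptAct (A := A) V h * ptAct (A := A) V x = ptAct (A := A) V x * ptAct (A := A) V h := by
    intro x
    refine commute_of_finite hconn (hΩ.image fun c => c • ptAct (A := A) V x) fun h => ?_
    have hmem : h * x * h⁻¹ * x⁻¹ ∈ derivedSeries G 1 := by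
      rw [derivedSeries_one G, commutator_def, ← commutatorElement_def]
      exact Subgroup.commutator_mem_commutator (Subgroup.mem_top _) (Subgroup.mem_top _)
    obtain ⟨c, hc⟩ := hP 1 le_rfl _ hmem
    refine ⟨c, hdet _ (derivedSeries_one G ▸ hmem) c hc, ?_⟩
    show c • ptAct (A := A) V x = _
    rw [← smul_one_mul c (ptAct (A := A) V x), ← hc, ← map_mul, ← map_mul, ← map_mul, inv_mul_cancel_right]
  exact scalar_of_stable hconn hV (Set.range (ptAct (A := A) V))
    (by rintro _ ⟨a, rfl⟩ _ ⟨b, rfl⟩; exact hab b a)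
    (by rintro h _ ⟨y, rfl⟩; exact ⟨h * y * h⁻¹, by rw [map_mul, map_mul]⟩) _ ⟨g, rfl⟩

omit [Module.Finite k V] in
/-- **Lie–Kolchin**: connected solvable groups are trigonalizable. -/
theorem isTrigonalizable [IsReduced A] (hconn : ∀ e : A, IsIdempotentElem e → e = 0 ∨ e = 1)
    [Group.IsSolvable (WithConv (A →ₐ[k] k))] : HopfRep.IsTrigonalizable k A := by
  intro V _ _ _ hfin hV
  haveI := hV.1
  obtain ⟨x, hx⟩ := exists_ne (0 : V)
  have hsub : HopfRep.IsSubcomod (k := k) (A := A) (Submodule.span k {x}) := isSubcomod_iff.2 fun ψ v hv => by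
    by_contra hn
    obtain ⟨f, hfv, hf⟩ := Submodule.exists_le_ker_of_notMem hn
    refine hfv ?_
    rw [← apply_cf]
    obtain ⟨-, -, h0⟩ := exists_forall_eq_zero (k := k) hconn ({()} : Finset Unit)
      (fun _ => {cf (A := A) f v}) (fun φ => ⟨(), Finset.mem_singleton_self _, by
        rintro _ rfl
        rw [point_cf]
        obtain ⟨c, hc⟩ := scalar_of_isSolvable hconn hV (toConv φ)
        rw [hc, LinearMap.smul_apply, Module.End.one_apply]
        exact LinearMap.mem_ker.1 (hf (Submodule.smul_mem _ c hv))⟩)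
    rw [h0 _ rfl, map_zero]
  have htop := (hV.2 _ hsub).resolve_left fun h => hx (by
    have := Submodule.mem_span_singleton_self (R := k) x
    rwa [h, Submodule.mem_bot] at this)
  rw [← finrank_top k V, ← htop, finrank_span_singleton hx]

end Groth.L01.LieKolchin
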