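import Mathlib.RingTheory.IntegralClosure.IsIntegral.AlmostIntegral
import Mathlib.RingTheory.PowerSeries.Inverse
import Mathlib.RingTheory.PowerSeries.Ideal
import Mathlib.RingTheory.IntegralClosure.IntegrallyClosed
import Mathlib.RingTheory.MvPowerSeries.Equiv
import Mathlib.RingTheory.MvPowerSeries.NoZeroDivisors
import Mathlib.RingTheory.Filtration

/-!
Power series rings over normal Noetherian domains are normal.
-/

universe u

namespace Groth.L01.PowSerNormal

open PowerSeries

variable {R : Type u} [CommRing R] [IsDomain R] [IsNoetherianRing R] [IsIntegrallyClosed R]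

local notation "K" => FractionRing R
local notation "ι" => PowerSeries.map (algebraMap R (FractionRing R))

omit [IsDomain R] [IsNoetherianRing R] [IsIntegrallyClosed R] in
theorem map_injective : Function.Injective ι := fun a b h => PowerSeries.ext fun n =>
  IsFractionRing.injective R (FractionRing R) (by simpa using congrArg (PowerSeries.coeff n) h)

/-- completely integrally closed: constant coefficient step -/
theorem constantCoeff_mem (r : R⟦X⟧) (hr : r ≠ 0) (F : (FractionRing R)⟦X⟧)
    (h : ∀ n : ℕ, ι r * F ^ n ∈ RingHom.range ι) :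
    constantCoeff F ∈ (algebraMap R (FractionRing R)).range := by
  obtain ⟨m, hm⟩ : ∃ m, coeff m r ≠ 0 := by
    by_contra! h0
    exact hr (PowerSeries.ext fun n => by simp [h0 n])
  obtain ⟨k, hk, hmin⟩ : ∃ k, coeff k r ≠ 0 ∧ ∀ j < k, coeff j r = 0 := by
    classical
    exact ⟨Nat.find ⟨m, hm⟩, Nat.find_spec (p := fun m => coeff m r ≠ 0) ⟨m, hm⟩,
      fun j hj => not_not.mp (Nat.find_min (p := fun m => coeff m r ≠ 0) ⟨m, hm⟩ hj)⟩
  have hal : IsAlmostIntegral R (constantCoeff F) := by
    refine ⟨coeff k r, mem_nonZeroDivisors_of_ne_zero hk, fun n => ?_⟩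
    obtain ⟨c, hc⟩ := h n
    refine ⟨coeff k c, ?_⟩
    have h1 := congrArg (coeff k) hc
    rw [coeff_map, coeff_mul] at h1
    rw [h1, Finset.sum_eq_single (k, 0), coeff_map, coeff_zero_eq_constantCoeff_apply, map_pow,
      Algebra.smul_def]
    · intro ij hij hne
      rw [Finset.mem_antidiagonal] at hij
      rw [coeff_map, hmin ij.1 (by
        rcases ij with ⟨i, j⟩
        simp only [ne_eq, Prod.mk.injEq, not_and] at hne hij
        rcases Nat.lt_or_ge i k with hlt | hge
        · exact hlt
        · exact absurd (by omega : j = 0) (hne (by omega))), map_zero, zero_mul]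
    · intro hnot
      exact absurd (Finset.mem_antidiagonal.mpr (add_zero k)) hnot
  exact IsIntegrallyClosed.isIntegral_iff.mp hal.isIntegral

theorem coeff_mem (r : R⟦X⟧) (hr : r ≠ 0) : ∀ (m : ℕ) (F : (FractionRing R)⟦X⟧),
    (∀ n : ℕ, ι r * F ^ n ∈ RingHom.range ι) → coeff m F ∈ (algebraMap R (FractionRing R)).range
  | 0, F, h => by
    rw [coeff_zero_eq_constantCoeff_apply]
    exact constantCoeff_mem r hr F h
  | m + 1, F, h => by
    obtain ⟨f0, hf0⟩ := constantCoeff_mem r hr F h
    let F' : (FractionRing R)⟦X⟧ := PowerSeries.mk fun p => coeff (p + 1) F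
    have hF : F = X * F' + ι (C f0) := by
      rw [map_C, hf0]
      exact eq_X_mul_shift_add_const F
    have hXF : ∀ n : ℕ, ι r * (X * F') ^ n ∈ RingHom.range ι := by
      intro n
      rw [eq_sub_of_add_eq hF.symm, sub_eq_add_neg, add_pow, Finset.mul_sum]
      refine Subring.sum_mem _ fun i _ => ?_
      rw [← mul_assoc, ← mul_assoc]
      refine Subring.mul_mem _ (Subring.mul_mem _ (h i) ?_) (natCast_mem _ _)
      rw [← map_neg, ← map_pow]
      exact ⟨_, rfl⟩
    have h' : ∀ n : ℕ, ι r * F' ^ n ∈ RingHom.range ι := by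
      intro n
      obtain ⟨c, hc⟩ := hXF n
      refine ⟨PowerSeries.mk fun p => coeff (p + n) c, PowerSeries.ext fun p => ?_⟩
      have h1 := congrArg (coeff (p + n)) hc
      rw [mul_pow, mul_left_comm, coeff_X_pow_mul, coeff_map] at h1
      rw [coeff_map, coeff_mk, h1]
    have := coeff_mem r hr m F' h'
    rwa [show coeff m F' = coeff (m + 1) F from coeff_mk _ _] at this

theorem mem_range (r : R⟦X⟧) (hr : r ≠ 0) (F : (FractionRing R)⟦X⟧)
    (h : ∀ n : ℕ, ι r * F ^ n ∈ RingHom.range ι) : F ∈ RingHom.range ι := by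
  choose c hc using fun m => coeff_mem r hr m F h
  exact ⟨PowerSeries.mk c, PowerSeries.ext fun m => by rw [coeff_map, coeff_mk, hc]⟩

/-- power series over a normal Noetherian domain form a normal domain -/
theorem isIntegrallyClosed : IsIntegrallyClosed R⟦X⟧ := by
  refine (isIntegrallyClosed_iff (FractionRing R⟦X⟧)).mpr fun {z} hz => ?_
  obtain ⟨r, hr, hall⟩ := hz.isAlmostIntegral
  obtain ⟨a, b, hb, rfl⟩ := IsFractionRing.div_surjective (A := R⟦X⟧) z
  choose c hc using hall
  have hb0 : algebraMap R⟦X⟧ (FractionRing R⟦X⟧) b ≠ 0 :=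
    (map_ne_zero_iff _ (IsFractionRing.injective _ _)).mpr (nonZeroDivisors.ne_zero hb)
  have heq : ∀ n, r * a ^ n = c n * b ^ n := by
    intro n
    apply IsFractionRing.injective R⟦X⟧ (FractionRing R⟦X⟧)
    rw [map_mul, map_mul, map_pow, map_pow, hc n, Algebra.smul_def, div_pow, mul_assoc,
      div_mul_cancel₀ _ (pow_ne_zero _ hb0)]
  have hιb : ι b ≠ 0 := (map_ne_zero_iff _ map_injective).mpr (nonZeroDivisors.ne_zero hb)
  obtain ⟨F, hF⟩ : ∃ F, ι a = F * ι b := by
    rcases ValuationRing.dvd_total (ι b) (ι a) with ⟨F, hF⟩ | ⟨G, hG⟩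
    · exact ⟨F, hF.trans (mul_comm _ _)⟩
    · by_cases hu : IsUnit G
      · obtain ⟨u, rfl⟩ := hu
        exact ⟨↑u⁻¹, by rw [hG, mul_comm _ (u : (FractionRing R)⟦X⟧), ← mul_assoc, Units.inv_mul, one_mul]⟩
      · exfalso
        have ha0 : ι a ≠ 0 := fun h => hιb (by rw [hG, h, zero_mul])
        have hmem : ∀ n, ι r ∈ Ideal.span {G} ^ n := by
          intro n
          rw [Ideal.span_singleton_pow, Ideal.mem_span_singleton']
          refine ⟨ι (c n), mul_right_cancel₀ (pow_ne_zero n ha0) ?_⟩
          rw [mul_assoc, ← mul_pow, mul_comm G, ← hG, ← map_pow, ← map_pow, ← map_mul, ← map_mul, heq n]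
        have h0 : ι r ∈ ⨅ n, Ideal.span {G} ^ n := Submodule.mem_iInf _ |>.mpr hmem
        rw [Ideal.iInf_pow_eq_bot_of_isDomain _ (fun h => hu (Ideal.span_singleton_eq_top.mp h)),
          Submodule.mem_bot] at h0
        exact nonZeroDivisors.ne_zero hr (map_injective (h0.trans (map_zero _).symm))
  obtain ⟨y, hy⟩ := mem_range r (nonZeroDivisors.ne_zero hr) F fun n => ⟨c n, by
    refine mul_right_cancel₀ (pow_ne_zero n hιb) ?_
    rw [mul_assoc, ← mul_pow, ← hF, ← map_pow, ← map_pow, ← map_mul, ← map_mul, heq n]⟩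
  refine ⟨y, ?_⟩
  rw [eq_div_iff hb0, ← map_mul]
  congr 1
  apply map_injective
  rw [map_mul, hy, hF]

/-- multivariate power series over a normal Noetherian domain form a normal domain -/
theorem isIntegrallyClosed_mvPowerSeries (n : ℕ) : IsIntegrallyClosed (MvPowerSeries (Fin n) R) := by
  induction n with
  | zero => exact IsIntegrallyClosed.of_equiv (MvPowerSeries.isEmptyEquiv (σ := Fin 0) (R := R)).toRingEquiv.symm
  | succ n ih =>
    haveI := ih
    haveI : IsDomain (MvPowerSeries (Fin n) R) := NoZeroDivisors.to_isDomain _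
    haveI := isIntegrallyClosed (R := MvPowerSeries (Fin n) R)
    exact IsIntegrallyClosed.of_equiv (MvPowerSeries.finSuccEquiv R n).toRingEquiv.symm

end Groth.L01.PowSerNormal
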