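import Groth.Agent.L01.Tate
import Groth.Agent.L01.PowSerNormal
import Groth.Agent.L01.CohenFinite
import Mathlib.FieldTheory.IsAlgClosed.AlgebraicClosure
import Mathlib.RingTheory.Polynomial.RationalRoot

/-!
Power series rings are N-2; complete Noetherian local rings are Nagata.
-/

universe u

namespace Groth.L01.NagataComplete

open IntermediateField

/-- N-2 descends along finite injective extensions of a Noetherian domain -/
theorem isN2_of_finite_descend {A B : Type u} [CommRing A] [IsDomain A] [IsNoetherianRing A] [CommRing B]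
    [IsDomain B] [Algebra A B] [Module.Finite A B] (hinj : Function.Injective (algebraMap A B))
    (hB : CAlg.IsN2 B) : CAlg.IsN2 A := by
  classical
  intro L _ _ _ _ hfd
  haveI := hfd
  haveI : FaithfulSMul A B := (faithfulSMul_iff_algebraMap_injective A B).mpr hinj
  let C := AlgebraicClosure L
  haveI : FaithfulSMul A L := (faithfulSMul_iff_algebraMap_injective A L).mpr <| by
    rw [IsScalarTower.algebraMap_eq A (FractionRing A) L]
    exact (algebraMap (FractionRing A) L).injective.comp (IsFractionRing.injective A (FractionRing A))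
  haveI : FaithfulSMul A C := (faithfulSMul_iff_algebraMap_injective A C).mpr <| by
    rw [IsScalarTower.algebraMap_eq A L C]
    exact (algebraMap L C).injective.comp (FaithfulSMul.algebraMap_injective A L)
  haveI : Algebra.IsAlgebraic A B := inferInstance
  let ψ : B →ₐ[A] C := IsAlgClosed.lift
  have hψint : ∀ b, IsIntegral A (ψ b) := fun b => (Algebra.IsIntegral.isIntegral b).map ψ
  have hψ : Function.Injective ψ := by
    refine (RingHom.injective_iff_ker_eq_bot ψ.toRingHom).mpr (Ideal.eq_bot_of_comap_eq_bot (R := A) ?_)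
    rw [RingHom.comap_ker, show ψ.toRingHom.comp (algebraMap A B) = algebraMap A C from ψ.comp_algebraMap]
    exact (RingHom.injective_iff_ker_eq_bot _).mp (FaithfulSMul.algebraMap_injective A C)
  obtain ⟨s, hs⟩ := Module.Finite.fg_top (R := A) (M := B)
  let M := IntermediateField.adjoin L (ψ '' (s : Set B))
  haveI : FiniteDimensional L M := by
    haveI := (s.finite_toSet.image ψ).to_subtype
    exact IntermediateField.finiteDimensional_adjoin fun x hx => by
      obtain ⟨b, -, rfl⟩ := hx
      exact (hψint b).tower_top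
  have hM : ∀ b, ψ b ∈ M := fun b => by
    have hb : b ∈ Submodule.span A (s : Set B) := hs ▸ Submodule.mem_top
    induction hb using Submodule.span_induction with
    | mem x hx => exact IntermediateField.subset_adjoin L _ ⟨x, hx, rfl⟩
    | zero => rw [map_zero]; exact zero_mem _
    | add x y _ _ hx hy => rw [map_add]; exact add_mem hx hy
    | smul c x _ hx =>
      rw [map_smul, Algebra.smul_def, IsScalarTower.algebraMap_apply A L C]
      exact mul_mem (IntermediateField.algebraMap_mem M _) hx
  let g : B →+* M := ψ.toRingHom.codRestrict M fun b => hM b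
  have hg : Function.Injective g := fun a b h => hψ (congrArg Subtype.val h)
  letI : Algebra B M := g.toAlgebra
  haveI : IsScalarTower A B M := IsScalarTower.of_algebraMap_eq fun a => Subtype.ext (ψ.commutes a).symm
  haveI : FaithfulSMul B M := (faithfulSMul_iff_algebraMap_injective B M).mpr hg
  letI := FractionRing.liftAlgebra B M
  haveI := FractionRing.isScalarTower_liftAlgebra B M
  letI := FractionRing.liftAlgebra A (FractionRing B)
  haveI := FractionRing.isScalarTower_liftAlgebra A (FractionRing B)
  haveI : IsScalarTower A (FractionRing A) M := IsScalarTower.of_algebraMap_eq fun a =>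
    Subtype.ext (IsScalarTower.algebraMap_apply A (FractionRing A) C a)
  haveI : IsScalarTower (FractionRing A) (FractionRing B) M := IsScalarTower.of_algebraMap_eq' <| by
    refine IsLocalization.ringHom_ext (nonZeroDivisors A) ?_
    rw [RingHom.comp_assoc, ← IsScalarTower.algebraMap_eq A (FractionRing A) (FractionRing B),
      ← IsScalarTower.algebraMap_eq A (FractionRing A) M, IsScalarTower.algebraMap_eq A B (FractionRing B),
      ← RingHom.comp_assoc, ← IsScalarTower.algebraMap_eq B (FractionRing B) M, ← IsScalarTower.algebraMap_eq A B M]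
  haveI : FiniteDimensional (FractionRing A) M := Module.Finite.trans L M
  haveI : FiniteDimensional (FractionRing B) M := Module.Finite.of_restrictScalars_finite (FractionRing A) _ _
  haveI := hB M inferInstance
  haveI : Module.Finite A (integralClosure B M) := Module.Finite.trans B _
  let e : integralClosure B M →ₗ[A] integralClosure A M :=
    { toFun := fun x => ⟨x, isIntegral_trans (R := A) (A := B) x.1 x.2⟩
      map_add' := fun _ _ => rfl
      map_smul' := fun _ _ => rfl }
  exact Groth.L01.N2.finite_integralClosure_of_algHom (IsScalarTower.toAlgHom A L M)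
    (algebraMap L M).injective (Module.Finite.of_surjective e fun x => ⟨⟨x, x.2.tower_top⟩, rfl⟩)

theorem isPrime_span_X (A : Type u) [CommRing A] [IsDomain A] :
    (Ideal.span {(PowerSeries.X : PowerSeries A)}).IsPrime :=
  (Ideal.span_singleton_prime PowerSeries.X_ne_zero).mpr PowerSeries.X_prime

theorem isAdicComplete_span_X (A : Type u) [CommRing A] :
    IsAdicComplete (Ideal.span {(PowerSeries.X : PowerSeries A)}) (PowerSeries A) := by
  have hmem : ∀ (n : ℕ) (f : PowerSeries A), f ∈ Ideal.span {(PowerSeries.X : PowerSeries A)} ^ n ↔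
      ∀ d < n, PowerSeries.coeff d f = 0 := fun n f => by
    rw [Ideal.span_singleton_pow, Ideal.mem_span_singleton, PowerSeries.X_pow_dvd_iff]
  refine { haus' := fun f hf => PowerSeries.ext fun d => ?_, prec' := fun f hf => ?_ }
  · have := hf (d + 1)
    rw [SModEq.zero, smul_eq_mul, Ideal.mul_top, hmem] at this
    rw [this d (Nat.lt_succ_self d), map_zero]
  · refine ⟨PowerSeries.mk fun d => PowerSeries.coeff d (f (d + 1)), fun m => ?_⟩
    rw [SModEq.sub_mem, smul_eq_mul, Ideal.mul_top, hmem]
    intro d hd
    have h := hf (Nat.succ_le_of_lt hd)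
    rw [SModEq.sub_mem, smul_eq_mul, Ideal.mul_top, hmem] at h
    have := h d (Nat.lt_succ_self d)
    rw [map_sub, sub_eq_zero] at this ⊢
    rw [PowerSeries.coeff_mk, this]

theorem isN2_powerSeries_of_normal (A : Type u) [CommRing A] [IsDomain A] [IsNoetherianRing A]
    [IsIntegrallyClosed A] (hA : CAlg.IsN2 A) : CAlg.IsN2 (PowerSeries A) := by
  haveI := Groth.L01.PowSerNormal.isIntegrallyClosed (R := A)
  haveI := isPrime_span_X A
  haveI := isAdicComplete_span_X A
  let φ : PowerSeries A ⧸ Ideal.span {(PowerSeries.X : PowerSeries A)} →+* A :=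
    Ideal.Quotient.lift _ PowerSeries.constantCoeff fun a ha => by
      obtain ⟨b, rfl⟩ := Ideal.mem_span_singleton'.mp ha
      simp
  have hφ : Function.Bijective φ := by
    refine ⟨(injective_iff_map_eq_zero φ).mpr fun a ha => ?_, fun a => ⟨Ideal.Quotient.mk _ (PowerSeries.C a), by simp [φ]⟩⟩
    obtain ⟨a, rfl⟩ := Ideal.Quotient.mk_surjective a
    rw [Ideal.Quotient.eq_zero_iff_mem, Ideal.mem_span_singleton, PowerSeries.X_dvd_iff]
    exact ha
  letI : Algebra A (PowerSeries A ⧸ Ideal.span {(PowerSeries.X : PowerSeries A)}) :=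
    (RingEquiv.ofBijective φ hφ).symm.toRingHom.toAlgebra
  exact Groth.L01.Tate.isN2 PowerSeries.X
    (Groth.L03.Japanese.isN2_of_bijective (RingEquiv.ofBijective φ hφ).symm.bijective hA)

theorem isN2_of_ringEquiv {A B : Type u} [CommRing A] [IsDomain A] [CommRing B] [IsDomain B] (e : A ≃+* B)
    (h : CAlg.IsN2 A) : CAlg.IsN2 B := by
  letI : Algebra A B := e.toRingHom.toAlgebra
  exact Groth.L03.Japanese.isN2_of_bijective e.bijective h

theorem isN2_mvPowerSeries_of_normal (A : Type u) [CommRing A] [IsDomain A] [IsNoetherianRing A]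
    [IsIntegrallyClosed A] (hA : CAlg.IsN2 A) : ∀ (n : ℕ) [IsDomain (MvPowerSeries (Fin n) A)],
    CAlg.IsN2 (MvPowerSeries (Fin n) A) := by
  intro n
  induction n with
  | zero =>
    intro _
    exact isN2_of_ringEquiv (MvPowerSeries.isEmptyEquiv (σ := Fin 0) (R := A)).toRingEquiv.symm hA
  | succ n ih =>
    intro _
    haveI : IsDomain (MvPowerSeries (Fin n) A) := NoZeroDivisors.to_isDomain _
    haveI := Groth.L01.PowSerNormal.isIntegrallyClosed_mvPowerSeries (R := A) n
    exact isN2_of_ringEquiv (MvPowerSeries.finSuccEquiv A n).toRingEquiv.symm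
      (isN2_powerSeries_of_normal _ ih)

theorem isN2_field (k : Type u) [CommRing k] [IsDomain k] (hk : IsField k) : CAlg.IsN2 k := by
  intro L _ _ _ _ hfd
  haveI := hfd
  letI := hk.toField
  haveI : Module.Finite k (FractionRing k) := Module.Finite.of_surjective
    (Algebra.linearMap k (FractionRing k)) (IsFractionRing.surjective_iff_isField.mpr hk)
  haveI : Module.Finite k L := Module.Finite.trans (FractionRing k) L
  exact Module.Finite.of_injective (integralClosure k L).val.toLinearMap Subtype.val_injective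

theorem isN2_cohenRing {Λ : Type u} [CommRing Λ] [IsDomain Λ] [IsDiscreteValuationRing Λ]
    [IsAdicComplete (IsLocalRing.maximalIdeal Λ) Λ] : CAlg.IsN2 Λ := by
  obtain ⟨ϖ, hϖ⟩ := IsDiscreteValuationRing.exists_irreducible Λ
  have hm := hϖ.maximalIdeal_eq
  haveI : (Ideal.span {ϖ}).IsMaximal := hm ▸ IsLocalRing.maximalIdeal.isMaximal Λ
  haveI : IsAdicComplete (Ideal.span {ϖ}) Λ := hm ▸ inferInstance
  exact Groth.L01.Tate.isN2 ϖ (isN2_field _ ((Ideal.Quotient.maximal_ideal_iff_isField_quotient _).mp inferInstance))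

/-- quotients of complete local Noetherian rings are complete -/
theorem isAdicComplete_quotient {R : Type u} [CommRing R] [IsLocalRing R] [IsNoetherianRing R]
    [IsAdicComplete (IsLocalRing.maximalIdeal R) R] (p : Ideal R) [IsLocalRing (R ⧸ p)] :
    IsAdicComplete (IsLocalRing.maximalIdeal (R ⧸ p)) (R ⧸ p) := by
  let m := IsLocalRing.maximalIdeal R
  have hmap : m.map (Ideal.Quotient.mk p) = IsLocalRing.maximalIdeal (R ⧸ p) :=
    IsLocalRing.map_maximalIdeal_of_surjective _ Ideal.Quotient.mk_surjective
  haveI : IsHausdorff (IsLocalRing.maximalIdeal (R ⧸ p)) (R ⧸ p) :=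
    IsHausdorff.of_le_jacobson _ _ (IsLocalRing.maximalIdeal_le_jacobson _)
  refine { prec' := fun f hf => ?_ }
  have hstep : ∀ n, ∃ d ∈ m ^ n, Ideal.Quotient.mk p d = f (n + 1) - f n := by
    intro n
    have h := (SModEq.sub_mem.mp (hf (Nat.le_succ n)))
    rw [smul_eq_mul, Ideal.mul_top, ← hmap, ← Ideal.map_pow,
      Ideal.mem_map_iff_of_surjective _ Ideal.Quotient.mk_surjective] at h
    obtain ⟨d, hd, hd'⟩ := h
    exact ⟨-d, neg_mem hd, by rw [map_neg, hd', neg_sub]⟩
  choose d hd hd' using hstep
  obtain ⟨g0, hg0⟩ := Ideal.Quotient.mk_surjective (f 0)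
  let g : ℕ → R := fun n => g0 + ∑ i ∈ Finset.range n, d i
  have hg : ∀ n, Ideal.Quotient.mk p (g n) = f n := fun n => by
    simp only [g, map_add, map_sum, hd', hg0]
    rw [Finset.sum_range_sub f n]
    ring
  obtain ⟨L, hL⟩ := IsPrecomplete.prec' (I := m) g fun {a b} hab => by
    rw [SModEq.sub_mem, smul_eq_mul, Ideal.mul_top]
    simp only [g, add_sub_add_left_eq_sub]
    rw [← neg_sub, ← Finset.sum_Ico_eq_sub _ hab]
    exact neg_mem (Submodule.sum_mem _ fun i hi => Ideal.pow_le_pow_right (Finset.mem_Ico.mp hi).1 (hd i))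
  refine ⟨Ideal.Quotient.mk p L, fun n => ?_⟩
  have h := SModEq.sub_mem.mp (hL n)
  rw [smul_eq_mul, Ideal.mul_top] at h
  rw [SModEq.sub_mem, smul_eq_mul, Ideal.mul_top, ← hmap, ← Ideal.map_pow, ← hg n, ← map_sub]
  exact Ideal.mem_map_of_mem _ h

theorem isN2_complete_local_domain (R : Type u) [CommRing R] [IsDomain R] [IsLocalRing R] [IsNoetherianRing R]
    [IsAdicComplete (IsLocalRing.maximalIdeal R) R] {Λ : Type u} [CommRing Λ] {n : ℕ}
    (f : MvPowerSeries (Fin n) Λ →+* R) (hΛ : IsField Λ ∨ CAlg.IsCohenRing Λ) (hinj : Function.Injective f)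
    (hfin : f.Finite) : CAlg.IsN2 R := by
  rcases hΛ with hk | ⟨hd, hdvr, hc, -⟩
  · letI := hk.toField
    haveI : IsDomain (MvPowerSeries (Fin n) Λ) := NoZeroDivisors.to_isDomain _
    letI := f.toAlgebra
    haveI : Module.Finite (MvPowerSeries (Fin n) Λ) R := hfin
    exact Groth.L01.N2.isN2_of_finite hinj (isN2_mvPowerSeries_of_normal Λ (isN2_field Λ (Field.toIsField Λ)) n)
  · haveI : IsDomain (MvPowerSeries (Fin n) Λ) := NoZeroDivisors.to_isDomain _
    letI := f.toAlgebra
    haveI : Module.Finite (MvPowerSeries (Fin n) Λ) R := hfin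
    exact Groth.L01.N2.isN2_of_finite hinj (isN2_mvPowerSeries_of_normal Λ isN2_cohenRing n)

end Groth.L01.NagataComplete
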