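import Groth.Agent.L21.TFDual.Length
import Mathlib.RingTheory.Length
import Mathlib.RingTheory.DiscreteValuationRing.Basic
import Mathlib.LinearAlgebra.TensorProduct.Quotient
import Mathlib.RingTheory.TensorProduct.Finite
import Mathlib.LinearAlgebra.Pi

/-!
Lengths of `ϖ`-torsion and `ϖ`-cotorsion over a discrete valuation ring.
-/

set_option autoImplicit false
universe u v

open IsLocalRing
open scoped TensorProduct Pointwise

namespace Groth.L01.DvrLength

variable {R : Type u} [CommRing R]

section Local

variable [IsLocalRing R]

theorem coe_finrank_residue (N : Type v) [AddCommGroup N] [Module R N] [Module.Finite R N] :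
    (Module.finrank (ResidueField R) (ResidueField R ⊗[R] N) : ℕ∞) = Module.length R (ResidueField R ⊗[R] N) := by
  rw [Module.length_eq_of_surjective (S := R) (R := ResidueField R) residue_surjective,
    Module.length_eq_finrank]

theorem length_residue_eq_quotient {ϖ : R} (h : maximalIdeal R = Ideal.span {ϖ})
    (N : Type v) [AddCommGroup N] [Module R N] :
    Module.length R (ResidueField R ⊗[R] N) =
      Module.length R (N ⧸ LinearMap.range (LinearMap.lsmul R N ϖ)) := by
  refine ((TensorProduct.quotTensorEquivQuotSMul N (maximalIdeal R)).trans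
    (Submodule.quotEquivOfEq _ _ ?_)).length_eq
  rw [h, Submodule.ideal_span_singleton_smul]
  ext x
  rw [Submodule.mem_smul_pointwise_iff_exists, LinearMap.mem_range]
  simp

end Local

/-- kernel and cokernel of an endomorphism of a finite length module have the same length -/
theorem length_coker_eq_ker {N : Type v} [AddCommGroup N] [Module R N] (hN : Module.length R N ≠ ⊤)
    (μ : N →ₗ[R] N) : Module.length R (N ⧸ LinearMap.range μ) = Module.length R (LinearMap.ker μ) := by
  have h1 := Module.length_eq_add_of_exact (LinearMap.ker μ).subtype μ.rangeRestrict (Submodule.injective_subtype _)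
    μ.surjective_rangeRestrict (LinearMap.exact_iff.2 (by rw [LinearMap.ker_rangeRestrict, Submodule.range_subtype]))
  have h2 := Module.length_eq_add_of_exact (LinearMap.range μ).subtype (LinearMap.range μ).mkQ (Submodule.injective_subtype _)
    (Submodule.mkQ_surjective _) (LinearMap.exact_subtype_mkQ _)
  have h3 : Module.length R (LinearMap.range μ) ≠ ⊤ := ne_top_of_le_ne_top hN (h2 ▸ le_self_add)
  rw [h1, add_comm (Module.length R (LinearMap.range μ))] at h2
  exact (ENat.add_left_injective_of_ne_top h3 h2).symm

variable [IsDomain R] [IsDiscreteValuationRing R]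

theorem length_ne_top_of_pow {ϖ : R} (hϖ : Irreducible ϖ) {n : ℕ} (N : Type v) [AddCommGroup N] [Module R N]
    [Module.Finite R N] (hN : ∀ m : N, ϖ ^ n • m = 0) : Module.length R N ≠ ⊤ := by
  refine (Groth.L22.length_lt_top_of_support_isMaximal fun p hp => ?_).ne
  obtain ⟨m, hm⟩ := Module.mem_support_iff_exists_annihilator.1 hp
  have h1 : ϖ ^ n ∈ p.asIdeal := hm ((Submodule.mem_annihilator_span_singleton m _).2 (hN m))
  haveI := p.isPrime
  rw [Groth.L21.TFDual.eq_maximalIdeal_of_mem p.2 (pow_ne_zero _ hϖ.ne_zero) h1]
  exact maximalIdeal.isMaximal R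

/-- `dim N/ϖN = length N[ϖ]` -/
theorem coe_finrank_eq_length_ker {ϖ : R} (hϖ : Irreducible ϖ) (N : Type v) [AddCommGroup N] [Module R N]
    [Module.Finite R N] (hN : Module.length R N ≠ ⊤) :
    (Module.finrank (ResidueField R) (ResidueField R ⊗[R] N) : ℕ∞) =
      Module.length R (LinearMap.ker (LinearMap.lsmul R N ϖ)) := by
  rw [coe_finrank_residue, length_residue_eq_quotient hϖ.maximalIdeal_eq, length_coker_eq_ker hN]

end Groth.L01.DvrLength
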