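import Groth.Agent.L12.PowSer
import Mathlib.RingTheory.PowerSeries.Trunc
import Mathlib.RingTheory.PowerSeries.Inverse
import Mathlib.RingTheory.DiscreteValuationRing.Basic

/-!
A complete DVR with a coefficient field is the power series ring in any uniformizer.
-/

universe u v

open IsLocalRing

namespace Groth.L01.DvrPowSer

theorem exists_bijective (K : Type u) (A : Type v) [Field K]
    [CommRing A] [IsDomain A] [IsDiscreteValuationRing A] [Algebra K A]
    [IsAdicComplete (maximalIdeal A) A]
    (hK : Function.Bijective ((residue A).comp (algebraMap K A)))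
    (x : A) (hx : maximalIdeal A = Ideal.span {x}) :
    ∃ φ : PowerSeries K →ₐ[K] A, φ PowerSeries.X = x ∧ Function.Bijective φ ∧
      ∀ (f : PowerSeries K) (n : ℕ),
        φ f - (Finset.range n).sum (fun i => algebraMap K A (PowerSeries.coeff i f) * x ^ i) ∈
          maximalIdeal A ^ n := by
  classical
  have hxm : x ∈ maximalIdeal A := hx ▸ Ideal.mem_span_singleton_self x
  obtain ⟨φ, hφ⟩ := Groth.L12.exists_evalPS (σ := Unit) (R := K) (maximalIdeal A) (fun _ => x) fun _ => hxm
  change PowerSeries K →ₐ[K] A at φ
  have hX : φ PowerSeries.X = x := hφ ()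
  have hx0 : x ≠ 0 := fun h => IsDiscreteValuationRing.not_a_field A (by rw [hx, h, Ideal.span_singleton_eq_bot.mpr rfl])
  have key : ∀ (f : PowerSeries K) (n : ℕ),
      φ f - (Finset.range n).sum (fun i => algebraMap K A (PowerSeries.coeff i f) * x ^ i) ∈
        maximalIdeal A ^ n := by
    intro f n
    have h := congrArg φ (PowerSeries.eq_shift_mul_X_pow_add_trunc n f)
    rw [map_add, map_mul, map_pow, hX] at h
    have h2 : φ (((PowerSeries.trunc n f) : Polynomial K) : PowerSeries K) =
        (Finset.range n).sum (fun i => algebraMap K A (PowerSeries.coeff i f) * x ^ i) := by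
      rw [PowerSeries.trunc_apply, Nat.Ico_zero_eq_range,
        ← Polynomial.coeToPowerSeries.ringHom_apply, map_sum, map_sum]
      refine Finset.sum_congr rfl fun i _ => ?_
      rw [Polynomial.coeToPowerSeries.ringHom_apply, ← Polynomial.C_mul_X_pow_eq_monomial, Polynomial.coe_mul,
        Polynomial.coe_pow, Polynomial.coe_C, Polynomial.coe_X, map_mul, map_pow, hX,
        ← PowerSeries.algebraMap_eq (R := K), φ.commutes]
    rw [h, h2, add_sub_cancel_right]
    exact Ideal.mul_mem_left _ _ (Ideal.pow_mem_pow hxm n)
  refine ⟨φ, hX, ⟨?_, ?_⟩, key⟩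
  · rw [injective_iff_map_eq_zero]
    intro f hf
    by_contra hne
    have hu := (PowerSeries.Unit_of_divided_by_X_pow_order f).isUnit.map φ
    rw [PowerSeries.Unit_of_divided_by_X_pow_order_nonzero hne] at hu
    rw [← PowerSeries.X_pow_order_mul_divXPowOrder (f := f), map_mul, map_pow, hX] at hf
    exact mul_ne_zero (pow_ne_zero _ hx0) hu.ne_zero hf
  · intro a
    have hstep : ∀ b : A, ∃ p : K × A, b = algebraMap K A p.1 + x * p.2 := fun b => by
      obtain ⟨c, hc⟩ := hK.2 (residue A b)
      have hm : b - algebraMap K A c ∈ maximalIdeal A := by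
        rw [← Ideal.Quotient.eq_zero_iff_mem]; change residue A (b - algebraMap K A c) = 0
        rw [map_sub, ← hc]; exact sub_self _
      rw [hx, Ideal.mem_span_singleton] at hm
      obtain ⟨d, hd⟩ := hm
      exact ⟨(c, d), by simp only [← hd]; ring⟩
    choose g hg using hstep
    let seq : ℕ → A := fun n => Nat.rec a (fun _ b => (g b).2) n
    refine ⟨PowerSeries.mk fun i => (g (seq i)).1, Groth.L12.eq_of_forall_sub_mem_pow (maximalIdeal A) fun n => ?_⟩
    have hsum : ∀ m, a = (Finset.range m).sum (fun i => algebraMap K A (g (seq i)).1 * x ^ i) + x ^ m * seq m := by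
      intro m
      induction m with
      | zero => simp [seq]
      | succ m ih =>
        rw [Finset.sum_range_succ]
        conv_lhs => rw [ih, hg (seq m)]
        rw [show seq (m + 1) = (g (seq m)).2 from rfl]
        ring
    have h := key (PowerSeries.mk fun i => (g (seq i)).1) n
    simp only [PowerSeries.coeff_mk] at h
    have h3 := Ideal.sub_mem _ h (Ideal.mul_mem_right (seq n) _ (Ideal.pow_mem_pow hxm n))
    rwa [sub_sub, ← hsum n] at h3

end Groth.L01.DvrPowSer
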