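import Mathlib.RingTheory.Noetherian.Basic
import Mathlib.RingTheory.Finiteness.Ideal
import Mathlib.RingTheory.Ideal.Maps
import Mathlib.Order.Zorn

/-!
The Eakin-Nagata theorem: a subring over which a Noetherian ring is finite is Noetherian
(Formanek's proof).
-/

set_option autoImplicit false
universe u v

namespace Groth.L01.EakinNagata

variable {B : Type u} [CommRing B] {M : Type v} [AddCommGroup M] [Module B M]

/-- If `M` is finite and Noetherian, `B / ann M` is Noetherian as a module. -/
theorem isNoetherian_quotient_annihilator [IsNoetherian B M] :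
    IsNoetherian B (B ⧸ Module.annihilator B M) := by
  classical
  obtain ⟨s, hs⟩ := (IsNoetherian.noetherian (⊤ : Submodule B M))
  let φ : B →ₗ[B] (s → M) := LinearMap.pi fun x => LinearMap.toSpanSingleton B M x.1
  have hker : LinearMap.ker φ = Module.annihilator B M := by
    refine le_antisymm (fun r hr => Module.mem_annihilator.mpr fun m => ?_) (fun r hr => ?_)
    · have hm : m ∈ Submodule.span B (s : Set M) := hs ▸ Submodule.mem_top
      induction hm using Submodule.span_induction with
      | mem x hx => exact congrFun (LinearMap.mem_ker.mp hr) ⟨x, hx⟩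
      | zero => exact smul_zero r
      | add x y _ _ h1 h2 => rw [smul_add, h1, h2, add_zero]
      | smul a x _ h1 => rw [smul_comm, h1, smul_zero]
    · exact LinearMap.mem_ker.mpr (funext fun x => Module.mem_annihilator.mp hr x.1)
  exact isNoetherian_of_injective
    ((LinearMap.range φ).subtype.comp ((Submodule.quotEquivOfEq _ _ hker).symm.trans φ.quotKerEquivRange).toLinearMap)
    (Subtype.val_injective.comp (LinearEquiv.injective _))

/-- A finite module over `B` is Noetherian as soon as `B / ann M` is. -/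
theorem isNoetherian_of_quotient_annihilator [Module.Finite B M] (J : Ideal B)
    (hJ : J ≤ Module.annihilator B M) [IsNoetherian B (B ⧸ J)] : IsNoetherian B M := by
  obtain ⟨n, g, hg⟩ := Module.Finite.exists_fin' B M
  have hle : LinearMap.ker ((Submodule.mkQ J).compLeft (Fin n)) ≤ LinearMap.ker g := by
    intro v hv
    rw [LinearMap.mem_ker, ← (Pi.basisFun B (Fin n)).sum_repr v, map_sum]
    refine Finset.sum_eq_zero fun i _ => ?_
    rw [map_smul, Pi.basisFun_repr]
    exact Module.mem_annihilator.mp (hJ ((Submodule.Quotient.mk_eq_zero J).mp (congrFun (LinearMap.mem_ker.mp hv) i))) _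
  have hsur : Function.Surjective ((Submodule.mkQ J).compLeft (Fin n)) := fun w =>
    ⟨fun i => (Submodule.mkQ_surjective J (w i)).choose,
      funext fun i => (Submodule.mkQ_surjective J (w i)).choose_spec⟩
  let h : (Fin n → B ⧸ J) →ₗ[B] M :=
    ((LinearMap.ker ((Submodule.mkQ J).compLeft (Fin n))).liftQ g hle).comp
      (((Submodule.mkQ J).compLeft (Fin n)).quotKerEquivOfSurjective hsur).symm.toLinearMap
  refine isNoetherian_of_surjective h (LinearMap.range_eq_top.mpr ?_)
  intro m
  obtain ⟨v, rfl⟩ := hg m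
  refine ⟨(Submodule.mkQ J).compLeft (Fin n) v, ?_⟩
  show ((LinearMap.ker ((Submodule.mkQ J).compLeft (Fin n))).liftQ g hle) ((((Submodule.mkQ J).compLeft (Fin n)).quotKerEquivOfSurjective hsur).symm
    (((Submodule.mkQ J).compLeft (Fin n)) v)) = g v
  rw [← LinearMap.quotKerEquivOfSurjective_apply_mk _ hsur v, LinearEquiv.symm_apply_apply]
  rfl

/-- Formanek's theorem. -/
theorem formanek [Module.Finite B M]
    (hacc : WellFounded (fun a b : {P : Submodule B M // ∃ I : Ideal B, P = I • ⊤} => b.1 < a.1)) :
    IsNoetherian B M := by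
  classical
  by_contra hM
  let S : Set {P : Submodule B M // ∃ I : Ideal B, P = I • ⊤} := {P | ¬ IsNoetherian B (M ⧸ P.1)}
  have hS : S.Nonempty := by
    refine ⟨⟨⊥, ⊥, (Submodule.bot_smul _).symm⟩, fun h => hM ?_⟩
    exact isNoetherian_of_linearEquiv (Submodule.quotEquivOfEqBot ⊥ rfl)
  obtain ⟨⟨P, I, hP⟩, hPS, hmax⟩ := hacc.has_min S hS
  let M₁ := M ⧸ P
  have hM₁ : ¬ IsNoetherian B M₁ := hPS
  -- quotients of `M₁` by `r M₁` are Noetherian for `r` outside the annihilator
  have hquot : ∀ r : B, r ∉ Module.annihilator B M₁ →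
      IsNoetherian B (M ⧸ (P ⊔ Ideal.span {r} • (⊤ : Submodule B M))) := by
    intro r hr
    by_contra h
    refine hmax ⟨P ⊔ Ideal.span {r} • (⊤ : Submodule B M), I ⊔ Ideal.span {r}, by rw [hP, Submodule.sup_smul]⟩ h ?_
    refine lt_of_le_of_ne le_sup_left fun he => hr (Module.mem_annihilator.mpr fun m => ?_)
    obtain ⟨m, rfl⟩ := Submodule.mkQ_surjective P m
    rw [← map_smul, Submodule.mkQ_apply, Submodule.Quotient.mk_eq_zero]
    have he' : P = P ⊔ Ideal.span {r} • (⊤ : Submodule B M) := he
    rw [he']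
    exact Submodule.mem_sup_right (Submodule.smul_mem_smul (Ideal.mem_span_singleton_self r) trivial)
  obtain ⟨s, hs⟩ := Module.Finite.fg_top (R := B) (M := M₁)
  -- maximal submodule with the same annihilator
  let T : Set (Submodule B M₁) := {N | ∀ r : B, (∀ m, r • m ∈ N) → r ∈ Module.annihilator B M₁}
  obtain ⟨N, hN, hNmax⟩ : ∃ N ∈ T, ∀ N' ∈ T, N ≤ N' → N' = N := by
    obtain ⟨N, hN⟩ := zorn_le₀ T (by
      intro c hcT hc
      rcases c.eq_empty_or_nonempty with rfl | hne
      · exact ⟨⊥, fun r hr => Module.mem_annihilator.mpr fun m => (Submodule.mem_bot B).mp (hr m), by simp⟩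
      · refine ⟨sSup c, fun r hr => ?_, fun z hz => le_sSup hz⟩
        have hfin : ∀ t : Finset M₁, (∀ x ∈ t, r • x ∈ sSup c) → ∃ N ∈ c, ∀ x ∈ t, r • x ∈ N := by
          intro t
          induction t using Finset.induction_on with
          | empty => intro _; exact ⟨_, hne.some_mem, by simp⟩
          | @insert a t _ ih =>
            intro h
            obtain ⟨N₁, hN₁, h₁⟩ := ih fun x hx => h x (Finset.mem_insert_of_mem hx)
            obtain ⟨N₂, hN₂, h₂⟩ := (Submodule.mem_sSup_of_directed hne hc.directedOn).mp (h a (Finset.mem_insert_self a t))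
            obtain ⟨N₃, hN₃, h13, h23⟩ := hc.directedOn N₁ hN₁ N₂ hN₂
            refine ⟨N₃, hN₃, fun x hx => ?_⟩
            rcases Finset.mem_insert.mp hx with rfl | hx
            · exact h23 h₂
            · exact h13 (h₁ x hx)
        obtain ⟨N', hN', h'⟩ := hfin s fun x _ => hr x
        refine hcT hN' r fun m => ?_
        have hm : m ∈ Submodule.span B (s : Set M₁) := hs ▸ Submodule.mem_top
        induction hm using Submodule.span_induction with
        | mem x hx => exact h' x hx
        | zero => rw [smul_zero]; exact zero_mem _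
        | add x y _ _ h1 h2 => rw [smul_add]; exact add_mem h1 h2
        | smul a x _ h1 => rw [smul_comm]; exact N'.smul_mem a h1)
    exact ⟨N, hN.1, fun N' hN' hle => le_antisymm (hN.2 hN' hle) hle⟩
  let M₂ := M₁ ⧸ N
  have hann : Module.annihilator B M₂ = Module.annihilator B M₁ := by
    refine le_antisymm (fun r hr => hN r fun m => ?_) (fun r hr => Module.mem_annihilator.mpr fun m => ?_)
    · exact (Submodule.Quotient.mk_eq_zero N).mp (Module.mem_annihilator.mp hr (Submodule.Quotient.mk m))
    · obtain ⟨m, rfl⟩ := Submodule.mkQ_surjective N m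
      rw [← map_smul, Module.mem_annihilator.mp hr m, map_zero]
  have hM₂ : ¬ IsNoetherian B M₂ := fun h => hM₁ (by
    haveI := isNoetherian_quotient_annihilator (B := B) (M := M₂)
    exact isNoetherian_of_quotient_annihilator (Module.annihilator B M₂) hann.le)
  refine hM₂ ⟨fun Q => ?_⟩
  by_cases hQ : Q = ⊥
  · rw [hQ]; exact Submodule.fg_bot
  have hQ' : Q.comap N.mkQ ∉ T := fun h => hQ (by
    rw [← Submodule.map_comap_eq_self (f := N.mkQ) (q := Q) (by rw [Submodule.range_mkQ]; exact le_top),
      hNmax _ h (fun x hx => by rw [Submodule.mem_comap, Submodule.mkQ_apply, (Submodule.Quotient.mk_eq_zero N).mpr hx]; exact zero_mem _)]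
    exact Submodule.mkQ_map_self N)
  simp only [T, Set.mem_setOf_eq, not_forall, exists_prop] at hQ'
  obtain ⟨r, hrQ, hr⟩ := hQ'
  -- `r M₂ ≤ Q` and `M₂ / r M₂` is Noetherian
  let μ : M₂ →ₗ[B] M₂ := r • LinearMap.id
  have hμ : LinearMap.range μ ≤ Q := by
    rintro _ ⟨m, rfl⟩
    obtain ⟨m, rfl⟩ := Submodule.mkQ_surjective N m
    have := hrQ m
    rw [Submodule.mem_comap, map_smul] at this
    exact this
  haveI := hquot r hr
  let q : M →ₗ[B] M₂ ⧸ LinearMap.range μ := (LinearMap.range μ).mkQ.comp (N.mkQ.comp P.mkQ)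
  have hq : P ⊔ Ideal.span {r} • (⊤ : Submodule B M) ≤ LinearMap.ker q := by
    refine sup_le (fun x hx => ?_) (Submodule.smul_le.mpr fun a ha x _ => ?_)
    · rw [LinearMap.mem_ker, LinearMap.comp_apply, LinearMap.comp_apply, Submodule.mkQ_apply P,
        (Submodule.Quotient.mk_eq_zero P).mpr hx, map_zero, map_zero]
    · obtain ⟨b, rfl⟩ := Ideal.mem_span_singleton'.mp ha
      rw [LinearMap.mem_ker, mul_smul, map_smul]
      have : q (r • x) = 0 := (Submodule.Quotient.mk_eq_zero _).mpr ⟨N.mkQ (P.mkQ x), by
        show r • N.mkQ (P.mkQ x) = N.mkQ (P.mkQ (r • x))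
        rw [map_smul, map_smul]⟩
      rw [this, smul_zero]
  haveI : IsNoetherian B (M₂ ⧸ LinearMap.range μ) :=
    isNoetherian_of_surjective ((P ⊔ Ideal.span {r} • (⊤ : Submodule B M)).liftQ q hq) (LinearMap.range_eq_top.mpr fun z => by
      obtain ⟨m, rfl⟩ := Submodule.mkQ_surjective _ z
      obtain ⟨m, rfl⟩ := Submodule.mkQ_surjective N m
      obtain ⟨m, rfl⟩ := Submodule.mkQ_surjective P m
      exact ⟨Submodule.Quotient.mk m, rfl⟩)
  refine Submodule.fg_of_fg_map_of_fg_inf_ker (LinearMap.range μ).mkQ (IsNoetherian.noetherian _) ?_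
  rw [Submodule.ker_mkQ, inf_eq_right.mpr hμ, LinearMap.range_eq_map]
  exact Module.Finite.fg_top.map μ

/-- The Eakin-Nagata theorem. -/
theorem isNoetherianRing_of_finite (B : Type u) (A : Type v) [CommRing B] [CommRing A] [Algebra B A]
    [FaithfulSMul B A] [Module.Finite B A] [IsNoetherianRing A] : IsNoetherianRing B := by
  have hA : IsNoetherian B A := by
    refine formanek (B := B) (M := A) ?_
    let φ : {P : Submodule B A // ∃ I : Ideal B, P = I • ⊤} → Ideal A := fun P => Ideal.span (P.1 : Set A)
    refine Subrelation.wf (r := InvImage (fun a b : Ideal A => b < a) φ) ?_ (InvImage.wf φ wellFounded_gt)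
    rintro ⟨P, I, rfl⟩ ⟨Q, J, rfl⟩ hlt
    have key : ∀ K : Ideal B, ∀ x ∈ Ideal.span ((K • (⊤ : Submodule B A) : Submodule B A) : Set A),
        x ∈ K • (⊤ : Submodule B A) := by
      intro K x hx
      induction hx using Submodule.span_induction with
      | mem x hx => exact hx
      | zero => exact zero_mem _
      | add x y _ _ h1 h2 => exact add_mem h1 h2
      | smul a x _ h1 =>
        refine Submodule.smul_induction_on h1 (fun r hr m _ => ?_) (fun x y h1 h2 => ?_)
        · rw [smul_comm]; exact Submodule.smul_mem_smul hr trivial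
        · rw [smul_add]; exact add_mem h1 h2
    obtain ⟨x, hx, hx'⟩ := Set.exists_of_ssubset hlt
    refine lt_of_le_of_ne (Ideal.span_mono hlt.le) fun h => hx' (key _ x ?_)
    exact h.ge (Ideal.subset_span hx)
  haveI := isNoetherian_quotient_annihilator (B := B) (M := A)
  have hann : Module.annihilator B A = ⊥ := Module.annihilator_eq_bot.mpr inferInstance
  exact isNoetherianRing_iff.mpr (isNoetherian_of_linearEquiv (Submodule.quotEquivOfEqBot _ hann))

end Groth.L01.EakinNagata
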