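import Groth.Agent.L05.Kaehler.Tower
import Mathlib.AlgebraicGeometry.Morphisms.Smooth
import Mathlib.RingTheory.Smooth.StandardSmoothCotangent
import Mathlib.RingTheory.Spectrum.Prime.FreeLocus
import Mathlib.RingTheory.DiscreteValuationRing.Basic
import Mathlib.RingTheory.RingHom.Etale
import Mathlib.RingTheory.Finiteness.Nakayama

/-! Morphisms of affine schemes over a DVR which are étale on the generic fibre near the closed
fibre. -/

set_option autoImplicit false

universe u

open TensorProduct AlgebraicGeometry KaehlerDifferential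

namespace Groth.L01.EtaEtale

section Rank

variable (K S : Type u) [CommRing K] [CommRing S] [Algebra K S] (d : ℕ)

theorem smooth_of_relDim
    (h : SmoothOfRelativeDimension d (Spec.map (CommRingCat.ofHom (algebraMap K S)))) :
    Algebra.Smooth K S := by
  haveI := h
  have h' : Smooth (Spec.map (CommRingCat.ofHom (algebraMap K S))) :=
    SmoothOfRelativeDimension.smooth d _
  rw [HasRingHomProperty.Spec_iff (P := @Smooth), CommRingCat.hom_ofHom] at h'
  exact RingHom.smooth_algebraMap.mp h'

theorem rankAtStalk_kaehler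
    (h : SmoothOfRelativeDimension d (Spec.map (CommRingCat.ofHom (algebraMap K S))))
    (P : PrimeSpectrum S) : Module.rankAtStalk (Ω[S⁄K]) P = d := by
  haveI := smooth_of_relDim K S d h
  rw [HasRingHomProperty.Spec_iff (P := @SmoothOfRelativeDimension d), CommRingCat.hom_ofHom] at h
  obtain ⟨s, hs, ht⟩ := h
  obtain ⟨t, hts, htP⟩ : ∃ t ∈ s, t ∉ P.asIdeal := by
    by_contra hne
    push_neg at hne
    exact P.isPrime.ne_top (eq_top_iff.mpr (hs ▸ Ideal.span_le.mpr hne))
  haveI hstd : Algebra.IsStandardSmoothOfRelativeDimension d K (Localization.Away t) := by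
    rw [← RingHom.isStandardSmoothOfRelativeDimension_algebraMap,
      IsScalarTower.algebraMap_eq K S (Localization.Away t)]
    exact ht t hts
  haveI : Algebra.IsStandardSmooth K (Localization.Away t) := hstd.isStandardSmooth d
  haveI : Algebra.FormallyEtale S (Localization.Away t) :=
    Algebra.FormallyEtale.of_isLocalization (Submonoid.powers t)
  obtain ⟨P', hP'⟩ : ∃ P' : PrimeSpectrum (Localization.Away t),
      P'.comap (algebraMap S (Localization.Away t)) = P := by
    have := PrimeSpectrum.localization_away_comap_range (Localization.Away t) t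
    exact this.ge htP
  haveI : Nontrivial (Localization.Away t) := ⟨⟨0, 1, fun h0 => P'.isPrime.ne_top
    (Ideal.eq_top_iff_one _ |>.mpr (h0 ▸ P'.asIdeal.zero_mem))⟩⟩
  rw [← hP', ← Module.rankAtStalk_baseChange,
    Module.rankAtStalk_eq_of_equiv (tensorKaehlerEquivOfFormallyEtale K S (Localization.Away t))]
  have hr := Algebra.IsStandardSmoothOfRelativeDimension.rank_kaehlerDifferential
    (R := K) (S := Localization.Away t) d
  rw [Module.rankAtStalk_eq_finrank_of_free]
  simp [Module.finrank, hr]

end Rank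

/-- A surjection of finite projective modules of the same rank is bijective. -/
theorem bijective_of_rankAtStalk {T : Type u} [CommRing T] {M N : Type u} [AddCommGroup M] [Module T M]
    [Module.Finite T M] [Module.Projective T M] [AddCommGroup N] [Module T N] [Module.Finite T N]
    [Module.Projective T N] (f : M →ₗ[T] N) (hf : Function.Surjective f)
    (hr : ∀ P, Module.rankAtStalk (R := T) M P = Module.rankAtStalk (R := T) N P) :
    Function.Bijective f := by
  refine ⟨?_, hf⟩
  obtain ⟨l, hl⟩ := Module.projective_lifting_property f LinearMap.id hf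
  have hex : Function.Exact (LinearMap.ker f).subtype f := LinearMap.exact_subtype_ker_map f
  have hs : ∃ e : M ≃ₗ[T] LinearMap.ker f × N, (LinearMap.ker f).subtype = e.symm.toLinearMap ∘ₗ
      LinearMap.inl T _ _ ∧ f = LinearMap.snd T _ _ ∘ₗ e.toLinearMap := by
    exact ((Function.Exact.split_tfae' hex).out 0 2 rfl rfl).mp ⟨Subtype.val_injective, l, hl⟩
  obtain ⟨e, -, -⟩ := hs
  let π : M →ₗ[T] LinearMap.ker f := LinearMap.fst T _ _ ∘ₗ e.toLinearMap
  have hπ : Function.Surjective π := fun x => ⟨e.symm (x, 0), by simp [π]⟩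
  haveI : Module.Finite T (LinearMap.ker f) := Module.Finite.of_surjective π hπ
  haveI : Module.Projective T (LinearMap.ker f) :=
    Module.Projective.of_split (e.symm.toLinearMap ∘ₗ LinearMap.inl T _ _) π
      (by ext x; simp [π])
  have h0 : Module.rankAtStalk (R := T) (LinearMap.ker f) = 0 := by
    funext P
    have h1 := hr P
    rw [Module.rankAtStalk_eq_of_equiv e, Module.rankAtStalk_prod, Pi.add_apply] at h1
    simpa using h1
  haveI := Module.rankAtStalk_eq_zero_iff_subsingleton.mp h0
  exact LinearMap.ker_eq_bot.mp (Submodule.eq_bot_of_subsingleton)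

/-- Unramified between smooth algebras of the same relative dimension is étale. -/
theorem formallyEtale_of_subsingleton_kaehler (K A R T : Type u) [CommRing K] [CommRing A] [CommRing R]
    [CommRing T] [Algebra K A] [Algebra K R] [Algebra K T] [Algebra A T] [Algebra R T]
    [IsScalarTower K A T] [IsScalarTower K R T] [Algebra.FormallyEtale R T] (d : ℕ)
    (hA : SmoothOfRelativeDimension d (Spec.map (CommRingCat.ofHom (algebraMap K A))))
    (hR : SmoothOfRelativeDimension d (Spec.map (CommRingCat.ofHom (algebraMap K R))))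
    [Subsingleton Ω[T⁄A]] : Algebra.FormallyEtale A T := by
  haveI := smooth_of_relDim K A d hA
  haveI := smooth_of_relDim K R d hR
  haveI : Algebra.FormallySmooth K T := Algebra.FormallySmooth.comp K R T
  haveI : Module.Finite T Ω[T⁄K] :=
    Module.Finite.equiv (tensorKaehlerEquivOfFormallyEtale K R T)
  refine Groth.L05.Kaehler.formallyEtale_of_bijective K A T (bijective_of_rankAtStalk _ (fun x => ?_) fun P => ?_)
  · exact (exact_mapBaseChange_map K A T x).mp (Subsingleton.elim _ _)
  · rw [Module.rankAtStalk_baseChange, rankAtStalk_kaehler K A d hA,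
      ← Module.rankAtStalk_eq_of_equiv (tensorKaehlerEquivOfFormallyEtale K R T),
      Module.rankAtStalk_baseChange, rankAtStalk_kaehler K R d hR]

theorem isLocalization_away_fractionRing (V : Type u) [CommRing V] [IsDomain V]
    [IsDiscreteValuationRing V] (ϖ : V) (hϖ : Irreducible ϖ) :
    IsLocalization.Away ϖ (FractionRing V) := by
  refine IsLocalization.Away.mk ϖ ?_ (fun z => ?_) (fun a b h => ⟨0, by
    rw [IsFractionRing.injective V (FractionRing V) h]⟩)
  · exact IsUnit.mk0 _ fun h => hϖ.ne_zero (IsFractionRing.injective V (FractionRing V) (by rw [h, map_zero]))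
  · obtain ⟨a, s, hs, rfl⟩ := IsFractionRing.div_surjective (A := V) z
    obtain ⟨k, u, hu⟩ := IsDiscreteValuationRing.eq_unit_mul_pow_irreducible (nonZeroDivisors.ne_zero hs) hϖ
    refine ⟨k, a * ↑u⁻¹, ?_⟩
    have hs0 : algebraMap V (FractionRing V) s ≠ 0 := fun h =>
      nonZeroDivisors.ne_zero hs (IsFractionRing.injective V (FractionRing V) (by rw [h, map_zero]))
    rw [div_mul_eq_mul_div, div_eq_iff hs0, ← map_pow, ← map_mul, ← map_mul, hu]
    congr 1
    linear_combination (-(a * ϖ ^ k)) * u.inv_mul

section Main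

variable {V : Type u} [CommRing V] [IsDomain V] [IsDiscreteValuationRing V] (ϖ : V) (p : ℕ)
variable {A R : Type u} [CommRing A] [CommRing R] [Algebra V A] [Algebra V R] [Algebra A R]
  [IsScalarTower V A R]

/-- η-étale maps have `p ^ n Ω` vanishing along the closed fibre. -/
theorem exists_pow_of_etale [Algebra.FiniteType V R] (hp : ϖ ∣ (p : V)) (a : R)
    (ha : Ideal.span {a} ⊔ Ideal.span {algebraMap V R ϖ} = ⊤)
    (het : ((algebraMap R (Localization.Away (a * algebraMap V R ϖ))).comp (algebraMap A R)).Etale) :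
    ∃ n : ℕ, Ideal.span {((p : R)) ^ n} • (⊤ : Submodule R (Ω[R⁄A])) ≤
      Ideal.span {algebraMap V R ϖ * (p : R) ^ n} • (⊤ : Submodule R (Ω[R⁄A])) := by
  set c := a * algebraMap V R ϖ with hc
  haveI : Algebra.Etale A (Localization.Away c) := by
    rw [← RingHom.etale_algebraMap, IsScalarTower.algebraMap_eq A R (Localization.Away c)]
    exact het
  haveI : Algebra.FiniteType A R := Algebra.FiniteType.of_restrictScalars_finiteType V A R
  have hloc := KaehlerDifferential.isLocalizedModule_map A R (Localization.Away c) (Submonoid.powers c)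
  have hex : ∀ x : Ω[R⁄A], ∃ m : ℕ, c ^ m • x = 0 := by
    intro x
    have h0 : (KaehlerDifferential.map A A R (Localization.Away c)) x =
        (KaehlerDifferential.map A A R (Localization.Away c)) 0 := Subsingleton.elim _ _
    obtain ⟨⟨_, m, rfl⟩, hm⟩ := hloc.exists_of_eq h0
    exact ⟨m, by simpa [Submonoid.smul_def] using hm⟩
  obtain ⟨G, hG⟩ := (Module.Finite.fg_top : (⊤ : Submodule R (Ω[R⁄A])).FG)
  choose m hm using hex
  set M := G.sup m
  have hM : ∀ x : Ω[R⁄A], c ^ M • x = 0 := by
    intro x
    have hx : x ∈ Submodule.span R (G : Set (Ω[R⁄A])) := by rw [hG]; trivial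
    induction hx using Submodule.span_induction with
    | mem g hg =>
      rw [show M = M - m g + m g from (Nat.sub_add_cancel (Finset.le_sup (f := m) hg)).symm, pow_add, mul_smul, hm, smul_zero]
    | zero => exact smul_zero _
    | add x y _ _ hx hy => rw [smul_add, hx, hy, add_zero]
    | smul r x _ hx => rw [smul_comm, hx, smul_zero]
  obtain ⟨e, he⟩ := hp
  refine ⟨M, Submodule.smul_le.mpr fun r hr x _ => ?_⟩
  obtain ⟨r, rfl⟩ := Ideal.mem_span_singleton'.mp hr
  have h1 : Ideal.span {a ^ M} ⊔ Ideal.span {algebraMap V R ϖ} = ⊤ := by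
    rw [← Ideal.span_singleton_pow]; exact Ideal.pow_sup_eq_top ha
  obtain ⟨u, hu, v, hv, huv⟩ := Submodule.mem_sup.mp (h1.ge (Submodule.mem_top (x := (1 : R))))
  obtain ⟨u, rfl⟩ := Ideal.mem_span_singleton'.mp hu
  obtain ⟨v, rfl⟩ := Ideal.mem_span_singleton'.mp hv
  have h2 : r * (p : R) ^ M = (r * u * algebraMap V R e ^ M) * c ^ M +
      (r * v) * (algebraMap V R ϖ * (p : R) ^ M) := by
    rw [show (p : R) = algebraMap V R ϖ * algebraMap V R e by rw [← map_mul, ← he, map_natCast],
      mul_pow, mul_pow]
    linear_combination (-(r * algebraMap V R ϖ ^ M * algebraMap V R e ^ M)) * huv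
  rw [h2, add_smul, mul_smul (_ : R) (c ^ M), hM, smul_zero, zero_add, mul_smul]
  exact Submodule.smul_mem _ _ (Submodule.smul_mem_smul (Ideal.mem_span_singleton_self _) Submodule.mem_top)

/-- The converse, for equidimensional smooth generic fibres. -/
theorem exists_etale_of_pow [CharZero V] [Algebra.FiniteType V A] [Algebra.FiniteType V R]
    (hϖ : Irreducible ϖ) (hp0 : p ≠ 0) (d : ℕ)
    (hA : SmoothOfRelativeDimension d
        (Spec.map (CommRingCat.ofHom (algebraMap (FractionRing V) (FractionRing V ⊗[V] A)))))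
    (hR : SmoothOfRelativeDimension d
        (Spec.map (CommRingCat.ofHom (algebraMap (FractionRing V) (FractionRing V ⊗[V] R)))))
    (n : ℕ) (hn : Ideal.span {((p : R)) ^ n} • (⊤ : Submodule R (Ω[R⁄A])) ≤
      Ideal.span {algebraMap V R ϖ * (p : R) ^ n} • (⊤ : Submodule R (Ω[R⁄A]))) :
    ∃ a : R, Ideal.span {a} ⊔ Ideal.span {algebraMap V R ϖ} = ⊤ ∧
      ((algebraMap R (Localization.Away (a * algebraMap V R ϖ))).comp (algebraMap A R)).Etale := by
  haveI : Algebra.FiniteType A R := Algebra.FiniteType.of_restrictScalars_finiteType V A R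
  haveI : IsNoetherianRing A := Algebra.FiniteType.isNoetherianRing V A
  haveI : IsNoetherianRing R := Algebra.FiniteType.isNoetherianRing V R
  set M := Ideal.span {((p : R)) ^ n} • (⊤ : Submodule R (Ω[R⁄A]))
  obtain ⟨a, ha, ha'⟩ := Submodule.exists_sub_one_mem_and_smul_eq_zero_of_fg_of_le_smul
    (Ideal.span {algebraMap V R ϖ}) M (IsNoetherian.noetherian M)
    (by rw [← smul_assoc, smul_eq_mul, Ideal.span_singleton_mul_span_singleton]; exact hn)
  refine ⟨a, ?_, ?_⟩
  · rw [Ideal.eq_top_iff_one, ← sub_sub_cancel a 1]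
    exact sub_mem (Submodule.mem_sup_left (Ideal.mem_span_singleton_self a)) (Submodule.mem_sup_right ha)
  set T := Localization.Away (a * algebraMap V R ϖ)
  have hu : IsUnit (algebraMap R T (a * algebraMap V R ϖ)) :=
    IsLocalization.Away.algebraMap_isUnit _
  rw [map_mul, IsUnit.mul_iff, ← IsScalarTower.algebraMap_apply] at hu
  set K := FractionRing V
  haveI := isLocalization_away_fractionRing V ϖ hϖ
  let φ : K →ₐ[V] T := IsLocalization.liftAlgHom (M := Submonoid.powers ϖ) (f := Algebra.ofId V T)
    (fun y => by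
      obtain ⟨i, hi⟩ := y.2
      rw [← hi, map_pow]
      exact hu.2.pow i)
  letI : Algebra K T := φ.toRingHom.toAlgebra
  haveI : IsScalarTower V K T := IsScalarTower.of_algebraMap_eq fun v => (φ.commutes v).symm
  let φA : K ⊗[V] A →ₐ[V] T := Algebra.TensorProduct.lift φ (IsScalarTower.toAlgHom V A T) fun _ _ => .all _ _
  let φR : K ⊗[V] R →ₐ[V] T := Algebra.TensorProduct.lift φ (IsScalarTower.toAlgHom V R T) fun _ _ => .all _ _
  letI : Algebra (K ⊗[V] A) T := φA.toRingHom.toAlgebra
  letI : Algebra (K ⊗[V] R) T := φR.toRingHom.toAlgebra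
  letI : Algebra A (K ⊗[V] A) := Algebra.TensorProduct.rightAlgebra
  letI : Algebra R (K ⊗[V] R) := Algebra.TensorProduct.rightAlgebra
  haveI : IsScalarTower K (K ⊗[V] A) T := IsScalarTower.of_algebraMap_eq fun k =>
    show φ k = φA (k ⊗ₜ 1) by simp [φA]
  haveI : IsScalarTower K (K ⊗[V] R) T := IsScalarTower.of_algebraMap_eq fun k =>
    show φ k = φR (k ⊗ₜ 1) by simp [φR]
  haveI : IsScalarTower A (K ⊗[V] A) T := IsScalarTower.of_algebraMap_eq fun x =>
    show algebraMap A T x = φA (1 ⊗ₜ x) by simp [φA]
  haveI : IsScalarTower R (K ⊗[V] R) T := IsScalarTower.of_algebraMap_eq fun x =>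
    show algebraMap R T x = φR (1 ⊗ₜ x) by simp [φR]
  haveI : Algebra.FormallyEtale V K := Algebra.FormallyEtale.of_isLocalization (Submonoid.powers ϖ)
  haveI : Algebra.FormallyEtale A (K ⊗[V] A) := Algebra.FormallyEtale.of_equiv
    (AlgEquiv.ofRingEquiv (f := (Algebra.TensorProduct.comm V A K).toRingEquiv) fun x => rfl)
  haveI : Algebra.FormallyEtale R (K ⊗[V] R) := Algebra.FormallyEtale.of_equiv
    (AlgEquiv.ofRingEquiv (f := (Algebra.TensorProduct.comm V R K).toRingEquiv) fun x => rfl)
  haveI : Algebra.FormallyEtale R T :=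
    Algebra.FormallyEtale.of_isLocalization (Submonoid.powers (a * algebraMap V R ϖ))
  haveI : Algebra.FormallyEtale (K ⊗[V] R) T := Algebra.FormallyEtale.of_restrictScalars (R := R)
  have hpu : IsUnit (algebraMap R T ((p : R) ^ n)) := by
    obtain ⟨k, u, hk⟩ := IsDiscreteValuationRing.eq_unit_mul_pow_irreducible
      (show (p : V) ≠ 0 by exact_mod_cast hp0) hϖ
    rw [map_pow, show algebraMap R T (p : R) = algebraMap V T (p : V) by rw [map_natCast, map_natCast],
      hk, map_mul, map_pow]
    exact ((u.isUnit.map _).mul (hu.2.pow k)).pow n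
  haveI : Subsingleton Ω[T⁄A] := by
    haveI := KaehlerDifferential.isLocalizedModule_map A R T (Submonoid.powers (a * algebraMap V R ϖ))
    refine subsingleton_of_forall_eq 0 fun z => ?_
    obtain ⟨⟨x, s⟩, hz⟩ := IsLocalizedModule.surj (Submonoid.powers (a * algebraMap V R ϖ))
      (KaehlerDifferential.map A A R T) z
    dsimp only at hz
    have hx : (a * (p : R) ^ n) • x = 0 := by
      rw [mul_smul]
      exact ha' _ (Submodule.smul_mem_smul (Ideal.mem_span_singleton_self _) Submodule.mem_top)
    have hx' := congrArg (KaehlerDifferential.map A A R T) hx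
    rw [map_zero, map_smul, ← algebraMap_smul T (a * (p : R) ^ n), IsUnit.smul_eq_zero
      (by rw [map_mul]; exact hu.1.mul hpu)] at hx'
    rw [hx', Submonoid.smul_def, ← algebraMap_smul T (s : R),
      IsUnit.smul_eq_zero (IsLocalization.map_units T s)] at hz
    exact hz
  haveI : Subsingleton Ω[T⁄(K ⊗[V] A)] :=
    (KaehlerDifferential.map_surjective A (K ⊗[V] A) T).subsingleton
  haveI := formallyEtale_of_subsingleton_kaehler K (K ⊗[V] A) (K ⊗[V] R) T d hA hR
  haveI : Algebra.FormallyEtale A T := Algebra.FormallyEtale.comp A (K ⊗[V] A) T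
  haveI : Algebra.FinitePresentation A T := Algebra.FinitePresentation.of_finiteType.mp inferInstance
  rw [← IsScalarTower.algebraMap_eq A R T, RingHom.etale_algebraMap]
  exact ⟨inferInstance, inferInstance⟩

end Main

end Groth.L01.EtaEtale
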