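import Groth.Agent.L02.Dominate
import Mathlib.RingTheory.Flat.FaithfullyFlat.Algebra
import Mathlib.LinearAlgebra.TensorProduct.Tower

/-!
The Mittag-Leffler property descends along faithfully flat ring maps.
-/

universe u

namespace Groth.L01.MLDescent

open TensorProduct Groth.L02

variable {R : Type u} [CommRing R] {S : Type u} [CommRing S] [Algebra R S]
variable {M : Type u} [AddCommGroup M] [Module R M]

theorem piRightHom_injective_of_baseChange (h : CAlg.IsMittagLeffler S (S ⊗[R] M)) {ι : Type u}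
    (Q : ι → Type u) [∀ i, AddCommGroup (Q i)] [∀ i, Module R (Q i)] [∀ i, Module S (Q i)]
    [∀ i, IsScalarTower R S (Q i)] : Function.Injective (piRightHom R R M Q) := by
  let c : ∀ (A : Type u) [AddCommGroup A] [Module R A] [Module S A] [IsScalarTower R S A],
      (S ⊗[R] M) ⊗[S] A ≃ₗ[S] A ⊗[R] M := fun A _ _ _ _ =>
    (TensorProduct.comm S (S ⊗[R] M) A).trans (AlgebraTensorModule.cancelBaseChange R S S A M)
  let d : ∀ (A : Type u) [AddCommGroup A] [Module R A] [Module S A] [IsScalarTower R S A],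
      M ⊗[R] A → (S ⊗[R] M) ⊗[S] A := fun A _ _ _ _ z => (c A).symm (TensorProduct.comm R M A z)
  have hd : ∀ i (z : M ⊗[R] (∀ i, Q i)),
      piRightHom S S (S ⊗[R] M) Q (d _ z) i = d _ (piRightHom R R M Q z i) := by
    intro i z
    induction z using TensorProduct.induction_on with
    | zero => simp [d]
    | tmul m q => simp [d, c]
    | add a b ha hb => simp only [d, map_add, Pi.add_apply] at ha hb ⊢; rw [ha, hb]
  rw [injective_iff_map_eq_zero]
  intro z hz
  have h0 : d _ z = 0 := by
    apply h ι Q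
    rw [map_zero]
    funext i
    rw [hd, hz, Pi.zero_apply]
    simp [d]
  exact (TensorProduct.comm R M _).injective
    (((c _).symm.injective (h0.trans (map_zero _).symm)).trans (map_zero _).symm)

theorem exists_factor_killing_family' (h : CAlg.IsMittagLeffler S (S ⊗[R] M)) {P : Type u} [AddCommGroup P]
    [Module R P] [Module.FinitePresentation R P] (f : P →ₗ[R] M) {ι : Type u} (Q : ι → Type u)
    [∀ i, AddCommGroup (Q i)] [∀ i, Module R (Q i)] [∀ i, Module S (Q i)] [∀ i, IsScalarTower R S (Q i)]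
    (z : ∀ i, P ⊗[R] Q i) (hz : ∀ i, f.rTensor (Q i) (z i) = 0) :
    ∃ (P' : Type u) (_ : AddCommGroup P') (_ : Module R P') (_ : Module.FinitePresentation R P')
      (g : P →ₗ[R] P') (k : P' →ₗ[R] M), f = k ∘ₗ g ∧ ∀ i, g.rTensor (Q i) (z i) = 0 := by
  obtain ⟨x, hx⟩ := piRightHom_surjective_of_finite (M := P) (Q := Q) z
  have hfx : f.rTensor (∀ i, Q i) x = 0 := by
    apply piRightHom_injective_of_baseChange h Q
    rw [piRightHom_rTensor, hx, map_zero]
    exact funext hz
  obtain ⟨P', _, _, hP', g, k, hfac, hgx⟩ := exists_fp_factor_of_mem_ker_rTensor f x hfx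
  refine ⟨P', inferInstance, inferInstance, hP', g, k, hfac, fun i => ?_⟩
  have := congrFun (congrArg (piRightHom R R P' Q) hgx) i
  rwa [piRightHom_rTensor, hx, map_zero] at this

theorem isMittagLeffler [Module.FaithfullyFlat R S] (h : CAlg.IsMittagLeffler S (S ⊗[R] M)) :
    CAlg.IsMittagLeffler R M := by
  classical
  refine isMittagLeffler_of_forall_dominate fun n f => ?_
  obtain ⟨P', _, _, hP', g, k, hfac, hgz⟩ := exists_factor_killing_family' h f
    (ι := Σ d : (Σ m : ℕ, Submodule R (Fin m → R)),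
      LinearMap.ker (f.rTensor (S ⊗[R] ((Fin d.1 → R) ⧸ d.2))))
    (fun i => S ⊗[R] ((Fin i.1.1 → R) ⧸ i.1.2)) (fun i => i.2.1) (fun i => i.2.2)
  refine ⟨P', inferInstance, inferInstance, hP', g, fun N₀ _ _ => le_antisymm ?_ fun z hz => ?_⟩
  · refine ker_rTensor_le_of_finitePresentation f g (fun Q₁ _ _ hQ₁ z hz => ?_) N₀
    obtain ⟨m, K, e, _⟩ := Module.FinitePresentation.exists_fin R Q₁
    let j : Q₁ →ₗ[R] S ⊗[R] ((Fin m → R) ⧸ K) := TensorProduct.mk R S _ 1 ∘ₗ e.toLinearMap
    have hjz : j.lTensor _ z ∈ LinearMap.ker (f.rTensor (S ⊗[R] ((Fin m → R) ⧸ K))) := by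
      rw [LinearMap.mem_ker, ← LinearMap.comp_apply, LinearMap.rTensor_comp_lTensor,
        ← LinearMap.lTensor_comp_rTensor, LinearMap.comp_apply, LinearMap.mem_ker.mp hz, map_zero]
    have h1 : g.rTensor _ (j.lTensor _ z) = 0 := hgz ⟨⟨m, K⟩, ⟨_, hjz⟩⟩
    have hj : Function.Injective (j.lTensor P') := by
      have he : ∀ w, TensorProduct.leftComm R P' S _ (j.lTensor P' w)
          = (1 : S) ⊗ₜ[R] (e.lTensor P' w) := by
        intro w
        induction w using TensorProduct.induction_on with
        | zero => simp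
        | tmul a b => simp [j]
        | add a b ha hb => simp only [map_add, tmul_add, ha, hb]
      intro a b hab
      refine (e.lTensor P').injective (Module.FaithfullyFlat.tensorProduct_mk_injective (A := R) (B := S) _ ?_)
      show (1 : S) ⊗ₜ[R] _ = (1 : S) ⊗ₜ[R] _
      rw [← he, ← he, hab]
    rw [LinearMap.mem_ker]
    apply hj
    rw [map_zero, ← LinearMap.comp_apply, LinearMap.lTensor_comp_rTensor,
      ← LinearMap.rTensor_comp_lTensor, LinearMap.comp_apply, h1]
  · rw [LinearMap.mem_ker] at hz ⊢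
    rw [hfac, LinearMap.rTensor_comp, LinearMap.comp_apply, hz, map_zero]

end Groth.L01.MLDescent
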