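import Groth.Agent.L01.ProjML
import Groth.Agent.L01.MLDescent
import Mathlib.Order.Zorn
import Mathlib.Order.CompactlyGenerated.Basic
import Mathlib.RingTheory.Flat.FaithfullyFlat.Basic
import Mathlib.LinearAlgebra.Projection

/-!
Projectivity descends along faithfully flat ring maps (Raynaud-Gruson).
-/

universe u

namespace Groth.L01.ProjDescent

open TensorProduct

variable {R : Type u} [CommRing R] (S : Type u) [CommRing S] [Algebra R S]
variable {M : Type u} [AddCommGroup M] [Module R M]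

/-- the extension of a submodule to the base change -/
def T (N : Submodule R M) : Submodule S (S ⊗[R] M) :=
  Submodule.span S ((fun m : M => (1 : S) ⊗ₜ[R] m) '' (N : Set M))

theorem T_span (A : Set M) :
    T S (Submodule.span R A) = Submodule.span S ((fun m : M => (1 : S) ⊗ₜ[R] m) '' A) := by
  refine le_antisymm (Submodule.span_le.mpr ?_) (Submodule.span_mono (Set.image_mono Submodule.subset_span))
  rintro _ ⟨m, hm, rfl⟩
  induction hm using Submodule.span_induction with
  | mem a ha => exact Submodule.subset_span ⟨a, ha, rfl⟩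
  | zero => simp
  | add a b _ _ ha hb => simpa [TensorProduct.tmul_add] using add_mem ha hb
  | smul r a _ ha => simpa [TensorProduct.tmul_smul] using Submodule.smul_of_tower_mem _ r ha

theorem T_mono {N N' : Submodule R M} (h : N ≤ N') : T S N ≤ T S N' :=
  Submodule.span_mono (Set.image_mono h)

theorem T_sup (N N' : Submodule R M) : T S (N ⊔ N') = T S N ⊔ T S N' := by
  have h : N ⊔ N' = Submodule.span R ((N : Set M) ∪ N') := by
    rw [Submodule.span_union, Submodule.span_eq, Submodule.span_eq]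
  rw [h, T_span, Set.image_union, Submodule.span_union]
  rfl

theorem T_eq_range (N : Submodule R M) : T S N = LinearMap.range (N.subtype.baseChange S) := by
  refine le_antisymm (Submodule.span_le.mpr ?_) ?_
  · rintro _ ⟨m, hm, rfl⟩
    exact ⟨(1 : S) ⊗ₜ ⟨m, hm⟩, rfl⟩
  · rintro _ ⟨z, rfl⟩
    induction z using TensorProduct.induction_on with
    | zero => simp
    | tmul s n =>
      have he : N.subtype.baseChange S (s ⊗ₜ n) = s • ((1 : S) ⊗ₜ[R] (n : M)) := by simp [smul_tmul']
      rw [he]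
      exact Submodule.smul_mem _ _ (Submodule.subset_span ⟨n, n.2, rfl⟩)
    | add a b ha hb => rw [map_add]; exact add_mem ha hb

theorem exists_finite_span (w : S ⊗[R] M) :
    ∃ F : Finset M, w ∈ Submodule.span S ((fun m : M => (1 : S) ⊗ₜ[R] m) '' (F : Set M)) := by
  classical
  induction w using TensorProduct.induction_on with
  | zero => exact ⟨∅, zero_mem _⟩
  | tmul s m =>
    refine ⟨{m}, ?_⟩
    rw [← mul_one s, ← smul_eq_mul, ← smul_tmul']
    exact Submodule.smul_mem _ _ (Submodule.subset_span ⟨m, by simp, rfl⟩)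
  | add a b ha hb =>
    obtain ⟨F, hF⟩ := ha
    obtain ⟨G, hG⟩ := hb
    exact ⟨F ∪ G, add_mem (Submodule.span_mono (Set.image_mono (by simp)) hF)
      (Submodule.span_mono (Set.image_mono (by simp)) hG)⟩

variable {ι : Type u} (Q : ι → Submodule S (S ⊗[R] M))

theorem exists_countable_closed (htop : iSup Q = ⊤) (hc : ∀ i, Groth.L01.CountablyGen (Q i)) (x : M) :
    ∃ (A : Set M) (J : Set ι), A.Countable ∧ x ∈ A ∧
      T S (Submodule.span R A) = ⨆ i ∈ J, Q i := by
  classical
  have hI : ∀ m : M, ∃ F : Finset ι, (1 : S) ⊗ₜ[R] m ∈ ⨆ i ∈ F, Q i := fun m =>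
    Submodule.exists_finset_of_mem_iSup _ (htop ▸ Submodule.mem_top)
  choose I hI using hI
  choose gen hgc hgs using hc
  choose F hF using fun w : S ⊗[R] M => exists_finite_span S w
  let G : M → Set M := fun m => ⋃ i ∈ I m, ⋃ g ∈ gen i, (F g : Set M)
  obtain ⟨A, hA, hxA, hclosed⟩ := Groth.L01.countable_closure G
    (fun m => (I m).countable_toSet.biUnion fun i _ => (hgc i).biUnion fun g _ => Finset.countable_toSet _) x
  refine ⟨A, ⋃ m ∈ A, (I m : Set ι), hA, hxA, ?_⟩
  rw [T_span]
  refine le_antisymm (Submodule.span_le.mpr ?_) (iSup₂_le fun i hi => ?_)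
  · rintro _ ⟨m, hm, rfl⟩
    refine (show ⨆ i ∈ I m, Q i ≤ ⨆ i ∈ ⋃ m ∈ A, (I m : Set ι), Q i from ?_) (hI m)
    exact biSup_mono fun i hi => Set.mem_biUnion hm hi
  · simp only [Set.mem_iUnion] at hi
    obtain ⟨m, hm, hi⟩ := hi
    rw [← hgs i, Submodule.span_le]
    intro g hg
    refine Submodule.span_mono (Set.image_mono ?_) (hF g)
    exact fun a ha => hclosed m hm (Set.mem_biUnion hi (Set.mem_biUnion hg ha))

theorem exists_extension [Module.FaithfullyFlat R S] [Module.Projective S (S ⊗[R] M)]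
    (hind : iSupIndep Q) (htop : iSup Q = ⊤) (N : Submodule R M) (J : Set ι)
    (hN : T S N = ⨆ i ∈ J, Q i) (A : Set M) (hA : A.Countable) (J₂ : Set ι)
    (hJ₂ : T S (Submodule.span R A) = ⨆ i ∈ J₂, Q i) :
    ∃ C : Submodule R M, Disjoint C N ∧ N ⊔ C = N ⊔ Submodule.span R A ∧ Module.Projective R C := by
  classical
  let QS : Set ι → Submodule S (S ⊗[R] M) := fun K => ⨆ i ∈ K, Q i
  let X := QS (J₂ \ J)
  let Y := QS (J₂ \ J)ᶜ
  have hcompl : IsCompl X Y := by
    refine ⟨hind.disjoint_biSup_biSup disjoint_compl_right, codisjoint_iff.mpr ?_⟩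
    rw [show X ⊔ Y = QS ((J₂ \ J) ∪ (J₂ \ J)ᶜ) from iSup_union.symm, Set.union_compl_self, ← htop]
    simp [QS]
  have hJY : QS J ≤ Y := biSup_mono fun i hi => fun h => h.2 hi
  let π : (S ⊗[R] M) →ₗ[S] (S ⊗[R] M) := X.projection Y hcompl
  let N' : Submodule R M := N ⊔ Submodule.span R A
  have hN' : T S N' = QS J ⊔ X := by
    rw [show T S N' = T S N ⊔ T S (Submodule.span R A) from T_sup S _ _, hN, hJ₂]
    show QS J ⊔ QS J₂ = QS J ⊔ QS (J₂ \ J)
    rw [show QS J ⊔ QS J₂ = QS (J ∪ J₂) from iSup_union.symm,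
      show QS J ⊔ QS (J₂ \ J) = QS (J ∪ J₂ \ J) from iSup_union.symm, Set.union_sdiff_self]
  let N₀ : Submodule R N' := Submodule.comap N'.subtype N
  let ψ : N' →ₗ[R] S ⊗[R] M := π.restrictScalars R ∘ₗ TensorProduct.mk R S M 1 ∘ₗ N'.subtype
  have hψ : N₀ ≤ LinearMap.ker ψ := by
    intro n hn
    have h : (1 : S) ⊗ₜ[R] ((n : N') : M) ∈ Y :=
      hJY (show _ ∈ QS J from hN.le (Submodule.subset_span ⟨_, hn, rfl⟩))
    exact Submodule.projection_apply_of_mem_right hcompl h
  let Ψ : S ⊗[R] (N' ⧸ N₀) →ₗ[S] S ⊗[R] M := LinearMap.liftBaseChange S (N₀.liftQ ψ hψ)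
  let q : S ⊗[R] N' →ₗ[S] S ⊗[R] (N' ⧸ N₀) := N₀.mkQ.baseChange S
  have hq : Function.Surjective q := LinearMap.lTensor_surjective S N₀.mkQ_surjective
  have hΨq : ∀ z, Ψ (q z) = π (N'.subtype.baseChange S z) := by
    intro z
    induction z using TensorProduct.induction_on with
    | zero => simp
    | tmul s n => simp [Ψ, q, ψ, ← map_smul, smul_tmul']
    | add a b ha hb => simp only [map_add, ha, hb]
  have hrange : LinearMap.range Ψ = X := by
    refine le_antisymm ?_ fun w hw => ?_
    · rintro _ ⟨z, rfl⟩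
      obtain ⟨z, rfl⟩ := hq z
      rw [hΨq]
      exact Submodule.projection_apply_mem hcompl _
    · have hw' : w ∈ T S N' := hN' ▸ Submodule.mem_sup_right hw
      rw [T_eq_range] at hw'
      obtain ⟨z, rfl⟩ := hw'
      exact ⟨q z, (hΨq z).trans (Submodule.projection_apply_of_mem_left hcompl hw)⟩
  have hinj : Function.Injective Ψ := by
    rw [injective_iff_map_eq_zero]
    intro c hc
    obtain ⟨z, rfl⟩ := hq c
    rw [hΨq] at hc
    have hz : N'.subtype.baseChange S z ∈ QS J ⊔ X := hN' ▸ (T_eq_range S N').ge ⟨z, rfl⟩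
    obtain ⟨a, ha, b, hb, hab⟩ := Submodule.mem_sup.mp hz
    have hb0 : b = 0 := by
      have := congrArg π hab
      rw [map_add, show π a = 0 from Submodule.projection_apply_of_mem_right hcompl (hJY ha),
        show π b = b from Submodule.projection_apply_of_mem_left hcompl hb, zero_add, show π _ = 0 from hc] at this
      exact this
    rw [hb0, add_zero] at hab
    rw [hab] at ha
    have ha' : N'.subtype.baseChange S z ∈ T S N := hN.ge ha
    rw [T_eq_range] at ha'
    obtain ⟨y, hy⟩ := ha'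
    let i : N →ₗ[R] N' := Submodule.inclusion le_sup_left
    have hzy : z = i.baseChange S y := by
      have hincl : Function.Injective (N'.subtype.baseChange S) :=
        Module.Flat.lTensor_preserves_injective_linearMap _ Subtype.val_injective
      apply hincl
      rw [← hy, ← LinearMap.comp_apply, ← LinearMap.baseChange_comp]
      rfl
    rw [hzy, ← LinearMap.comp_apply, ← LinearMap.baseChange_comp,
      show N₀.mkQ ∘ₗ i = 0 from LinearMap.ext fun n => (Submodule.Quotient.mk_eq_zero _).mpr n.2,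
      LinearMap.baseChange_zero, LinearMap.zero_apply]
  haveI : Module.Projective S X :=
    Module.Projective.of_split X.subtype (X.projectionOnto Y hcompl) (Submodule.projectionOnto_comp_subtype hcompl)
  let e : S ⊗[R] (N' ⧸ N₀) ≃ₗ[S] X := (LinearEquiv.ofInjective Ψ hinj).trans (LinearEquiv.ofEq _ _ hrange)
  haveI : Module.Projective S (S ⊗[R] (N' ⧸ N₀)) := Module.Projective.of_equiv' e.symm
  haveI : Module.Flat R (N' ⧸ N₀) := Module.Flat.of_flat_tensorProduct (R := R) (M := N' ⧸ N₀) S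
  have hML : CAlg.IsMittagLeffler R (N' ⧸ N₀) :=
    Groth.L01.MLDescent.isMittagLeffler (ProjML.isMittagLeffler_of_projective (R := S))
  let a' : A → N' := fun a => ⟨a, Submodule.mem_sup_right (Submodule.subset_span a.2)⟩
  have hcg : CAlg.IsCountablyGenerated R (N' ⧸ N₀) := by
    haveI := hA.to_subtype
    refine ⟨Set.range (N₀.mkQ ∘ a'), Set.countable_range _, eq_top_iff.mpr fun c _ => ?_⟩
    obtain ⟨⟨n, hn⟩, rfl⟩ := N₀.mkQ_surjective c
    obtain ⟨n₁, hn₁, n₂, hn₂, rfl⟩ := Submodule.mem_sup.mp hn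
    have hn₂' : n₂ ∈ Submodule.map N'.subtype (Submodule.span R (Set.range a')) := by
      rw [Submodule.map_span, ← Set.range_comp]
      simpa [a', Function.comp_def] using hn₂
    obtain ⟨w, hw, hwn⟩ := hn₂'
    have he : N₀.mkQ ⟨n₁ + n₂, hn⟩ = N₀.mkQ w := by
      rw [Submodule.mkQ_apply, Submodule.mkQ_apply, Submodule.Quotient.eq]
      show n₁ + n₂ - (w : M) ∈ N
      rw [show (w : M) = n₂ from hwn, add_sub_cancel_right]
      exact hn₁
    rw [he, Set.range_comp, ← Submodule.map_span]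
    exact Submodule.mem_map_of_mem hw
  haveI : Module.Projective R (N' ⧸ N₀) := CountFlatML.projective hML hcg
  obtain ⟨σ, hσ⟩ := Module.projective_lifting_property N₀.mkQ LinearMap.id N₀.mkQ_surjective
  have hσ' : ∀ c, N₀.mkQ (σ c) = c := fun c => LinearMap.congr_fun hσ c
  have hσinj : Function.Injective (N'.subtype ∘ₗ σ) := fun c d h => by
    rw [← hσ' c, ← hσ' d, show σ c = σ d from Subtype.ext h]
  refine ⟨LinearMap.range (N'.subtype ∘ₗ σ), ?_, ?_,
    Module.Projective.of_equiv' (LinearEquiv.ofInjective _ hσinj)⟩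
  · rw [Submodule.disjoint_def]
    rintro _ ⟨c, rfl⟩ hc
    have : c = 0 := by
      rw [← hσ' c]
      exact (Submodule.Quotient.mk_eq_zero _).mpr hc
    rw [this, map_zero]
  · refine le_antisymm (sup_le le_sup_left ?_) fun n hn => ?_
    · rintro _ ⟨c, rfl⟩
      exact (σ c).2
    · refine Submodule.mem_sup.mpr ⟨n - (σ (N₀.mkQ ⟨n, hn⟩) : M), ?_, (σ (N₀.mkQ ⟨n, hn⟩) : M),
        ⟨_, rfl⟩, sub_add_cancel _ _⟩
      exact (Submodule.Quotient.eq N₀).mp (hσ' (N₀.mkQ ⟨n, hn⟩)).symm

theorem projective [Module.FaithfullyFlat R S] [Module.Projective S (S ⊗[R] M)] :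
    Module.Projective R M := by
  classical
  obtain ⟨ι, Q, hind, htop, hc⟩ := ProjML.exists_countable_decomposition (R := S) (M := S ⊗[R] M)
  let good : Set (Submodule R M) → Prop := fun 𝓛 =>
    sSupIndep 𝓛 ∧ (∀ L ∈ 𝓛, Module.Projective R L) ∧ ∃ J : Set ι, T S (sSup 𝓛) = ⨆ i ∈ J, Q i
  obtain ⟨𝓛, hmax⟩ := zorn_le₀ {p | good p} (fun c hcg hc' => by
    refine ⟨⋃₀ c, ⟨?_, ?_, ?_⟩, fun z hz => Set.subset_sUnion_of_mem hz⟩
    · rw [Set.sUnion_eq_iUnion]
      exact sSupIndep_iUnion_of_directed (hc'.directedOn.directed_val) fun i => (hcg i.2).1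
    · rintro L ⟨p, hp, hL⟩
      exact (hcg hp).2.1 L hL
    · choose! J hJ using fun p (hp : p ∈ c) => (hcg hp).2.2
      refine ⟨⋃ p ∈ c, J p, le_antisymm (Submodule.span_le.mpr ?_) ?_⟩
      · rintro _ ⟨m, hm, rfl⟩
        rcases c.eq_empty_or_nonempty with rfl | hne
        · simp only [Set.sUnion_empty, sSup_empty, SetLike.mem_coe, Submodule.mem_bot] at hm
          simp [hm]
        · rw [sSup_sUnion, ← sSup_image, SetLike.mem_coe, Submodule.mem_sSup_of_directed (hne.image _)
            (hc'.directedOn.mono_comp (fun a b hab => sSup_le_sSup hab))] at hm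
          obtain ⟨_, ⟨p, hp, rfl⟩, hm⟩ := hm
          have := (hJ p hp).le (Submodule.subset_span ⟨m, hm, rfl⟩)
          refine (show ⨆ i ∈ J p, Q i ≤ ⨆ i ∈ ⋃ p ∈ c, J p, Q i from ?_) this
          exact biSup_mono fun i hi => Set.mem_biUnion hp hi
      · refine iSup₂_le fun i hi => ?_
        simp only [Set.mem_iUnion] at hi
        obtain ⟨p, hp, hi⟩ := hi
        exact (le_biSup Q hi).trans ((hJ p hp).ge.trans (T_mono S (sSup_le_sSup (Set.subset_sUnion_of_mem hp)))))
  obtain ⟨hind𝓛, hproj, J, hJ⟩ := hmax.prop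
  have hfull : sSup 𝓛 = ⊤ := by
    by_contra hne
    obtain ⟨x, -, hx⟩ := SetLike.exists_of_lt (lt_top_iff_ne_top.mpr hne)
    obtain ⟨A, J₂, hA, hxA, hJ₂⟩ := exists_countable_closed S Q htop hc x
    obtain ⟨C, hdis, hsup, hC⟩ := exists_extension S Q hind htop _ J hJ A hA J₂ hJ₂
    have hnew : good (insert C 𝓛) := by
      refine ⟨?_, ?_, ⟨J ∪ J₂, ?_⟩⟩
      · intro a ha
        rcases Set.mem_insert_iff.mp ha with rfl | ha'
        · refine hdis.mono_right (sSup_le_sSup fun b hb => ?_)
          simp only [Set.mem_sdiff, Set.mem_insert_iff, Set.mem_singleton_iff] at hb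
          exact hb.1.resolve_left hb.2
        · by_cases haL : a = C
          · subst haL
            have hb : a = ⊥ := eq_bot_iff.mpr fun z hz => Submodule.disjoint_def.mp hdis z hz (le_sSup ha' hz)
            rw [hb]; exact disjoint_bot_left
          · have h1 : Disjoint a (sSup (𝓛 \ {a})) := hind𝓛 ha'
            have h2 : Disjoint (a ⊔ sSup (𝓛 \ {a})) C :=
              hdis.symm.mono_left (sup_le (le_sSup ha') (sSup_le_sSup Set.sdiff_subset))
            rw [Set.insert_sdiff_of_notMem _ (by simpa using Ne.symm haL), sSup_insert, sup_comm]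
            exact h1.disjoint_sup_right_of_disjoint_sup_left h2
      · intro L hL
        rcases Set.mem_insert_iff.mp hL with rfl | hL
        · exact hC
        · exact hproj L hL
      · rw [sSup_insert, sup_comm, hsup, T_sup, hJ, hJ₂, ← iSup_union]
    have hmem := hmax.le_of_ge hnew (Set.subset_insert _ _) (Set.mem_insert C 𝓛)
    have hx' : x ∈ sSup 𝓛 ⊔ C := hsup.ge (Submodule.mem_sup_right (Submodule.subset_span hxA))
    rw [sup_eq_left.mpr (le_sSup hmem)] at hx'
    exact hx hx'
  have hint : DirectSum.IsInternal (fun L : 𝓛 => (L : Submodule R M)) := by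
    rw [DirectSum.isInternal_submodule_iff_iSupIndep_and_iSup_eq_top]
    exact ⟨(sSupIndep_iff _).mp hind𝓛, by rw [← sSup_eq_iSup', hfull]⟩
  haveI : ∀ L : 𝓛, Module.Projective R (L : Submodule R M) := fun L => hproj L L.2
  exact Module.Projective.of_equiv' (LinearEquiv.ofBijective (DirectSum.coeLinearMap fun L : 𝓛 => (L : Submodule R M)) hint)

end Groth.L01.ProjDescent
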