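import Groth.Agent.L04.LC.ExtLoc
import Mathlib.RingTheory.Flat.Basic
import Mathlib.RingTheory.TensorProduct.IsBaseChangeHom
import Mathlib.LinearAlgebra.TensorProduct.RightExactness

/-!
# `Hom` and `Ext` of a finite module commute with flat base change
-/

set_option autoImplicit false
universe u

open CategoryTheory Abelian
open scoped TensorProduct

namespace Groth.L01.ExtBC

variable {A : Type u} (B : Type u) [CommRing A] [CommRing B] [Algebra A B]
section Hom

variable (M N : Type u) [AddCommGroup M] [Module A M] [AddCommGroup N] [Module A N]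

/-- `B ⊗ Hom(M, N) → Hom(B ⊗ M, B ⊗ N)`. -/
noncomputable def homMap : B ⊗[A] (M →ₗ[A] N) →ₗ[B] (B ⊗[A] M →ₗ[B] B ⊗[A] N) :=
  (LinearMap.baseChangeHom A B M N).liftBaseChange B

theorem homMap_tmul (b : B) (f : M →ₗ[A] N) : homMap (A := A) B M N (b ⊗ₜ f) = b • f.baseChange B := by
  simp [homMap, LinearMap.liftBaseChange_tmul]

theorem homMap_comp {M' : Type u} [AddCommGroup M'] [Module A M'] (g : M' →ₗ[A] M)
    (t : B ⊗[A] (M →ₗ[A] N)) :
    homMap (A := A) B M' N (LinearMap.lTensor B (g.lcomp A N) t) = homMap (A := A) B M N t ∘ₗ g.baseChange B := by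
  induction t using TensorProduct.induction_on with
  | zero => simp
  | tmul b f =>
    rw [LinearMap.lTensor_tmul, homMap_tmul, homMap_tmul, LinearMap.smul_comp]
    congr 1
    exact LinearMap.baseChange_comp g f
  | add x y hx hy => simp only [map_add, hx, hy, LinearMap.add_comp]

theorem homMap_bijective_of_free [Module.Free A M] [Module.Finite A M] :
    Function.Bijective (homMap (A := A) B M N) := by
  have h := IsBaseChange.linearMapLeftRight
    (TensorProduct.isBaseChange A M B) (TensorProduct.isBaseChange A N B)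
  have : homMap (A := A) B M N = h.equiv.toLinearMap := by
    refine TensorProduct.AlgebraTensorModule.ext fun b f => ?_
    rw [homMap_tmul, LinearEquiv.coe_coe, IsBaseChange.equiv_tmul]
    congr 1
    refine TensorProduct.AlgebraTensorModule.ext fun c m => ?_
    have h1 := IsBaseChange.linearMapLeftRightHom_comp_apply (TensorProduct.isBaseChange A M B)
      (TensorProduct.mk A B N 1) f m
    rw [LinearMap.baseChange_tmul, show (c ⊗ₜ[A] m : B ⊗[A] M) = c • ((1 : B) ⊗ₜ[A] m) by
      rw [TensorProduct.smul_tmul', smul_eq_mul, mul_one], map_smul]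
    refine Eq.trans ?_ (congrArg (c • ·) h1).symm
    rw [TensorProduct.mk_apply, TensorProduct.smul_tmul', smul_eq_mul, mul_one]
  rw [this]
  exact h.equiv.bijective

variable [Module.Flat A B]

theorem homMap_bijective [Module.FinitePresentation A M] : Function.Bijective (homMap (A := A) B M N) := by
  obtain ⟨n, K, e, hK⟩ := Module.FinitePresentation.exists_fin A M
  obtain ⟨m, f, hf⟩ := Submodule.fg_iff_exists_fin_generating_family.1 hK
  let g : (Fin n → A) →ₗ[A] M := e.symm.toLinearMap ∘ₗ K.mkQ
  let φ : (Fin m → A) →ₗ[A] (Fin n → A) := Fintype.linearCombination A f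
  have hg : Function.Surjective g := e.symm.surjective.comp K.mkQ_surjective
  have hex : Function.Exact φ g := LinearMap.exact_iff.2 (by
    rw [LinearEquiv.ker_comp, Submodule.ker_mkQ, Fintype.range_linearCombination, hf])
  have hB : Function.Exact (φ.baseChange B) (g.baseChange B) := lTensor_exact B hex hg
  have hgB : Function.Surjective (g.baseChange B) := LinearMap.lTensor_surjective B hg
  have h₀ := homMap_bijective_of_free (A := A) B (Fin n → A) N
  have h₁ := homMap_bijective_of_free (A := A) B (Fin m → A) N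
  have hl : Function.Exact (g.lcomp A N) (φ.lcomp A N) := by
    refine LinearMap.exact_iff.2 (le_antisymm (fun h hh => ?_) ?_)
    · have hle : LinearMap.ker g ≤ LinearMap.ker h := by
        rw [LinearMap.exact_iff.1 hex, LinearMap.range_le_iff_comap]
        exact eq_top_iff.2 fun x _ => LinearMap.congr_fun hh x
      refine ⟨(LinearMap.ker g).liftQ h hle ∘ₗ (g.quotKerEquivOfSurjective hg).symm.toLinearMap,
        LinearMap.ext fun x => ?_⟩
      show (LinearMap.ker g).liftQ h hle ((g.quotKerEquivOfSurjective hg).symm (g x)) = h x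
      rw [show (g.quotKerEquivOfSurjective hg).symm (g x) = Submodule.Quotient.mk x from
        (LinearEquiv.symm_apply_eq _).2 rfl]
      rfl
    · rintro _ ⟨h, rfl⟩
      exact LinearMap.mem_ker.2 (LinearMap.ext fun x => by
        simp only [LinearMap.lcomp_apply, hex.apply_apply_eq_zero, map_zero, LinearMap.zero_apply])
  have hlB : Function.Exact (LinearMap.lTensor B (g.lcomp A N)) (LinearMap.lTensor B (φ.lcomp A N)) :=
    Module.Flat.lTensor_exact B hl
  have hginj : Function.Injective (LinearMap.lTensor B (g.lcomp A N)) :=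
    Module.Flat.lTensor_preserves_injective_linearMap _ fun a b hab => LinearMap.ext fun x => by
      obtain ⟨y, rfl⟩ := hg x
      exact LinearMap.congr_fun hab y
  constructor
  · rw [injective_iff_map_eq_zero]
    intro t ht
    refine hginj (h₀.1 ?_)
    rw [homMap_comp, ht, LinearMap.zero_comp, map_zero, map_zero]
  · intro h
    obtain ⟨s, hs⟩ := h₀.2 (h ∘ₗ g.baseChange B)
    have hs0 : LinearMap.lTensor B (φ.lcomp A N) s = 0 := h₁.1 (by
      rw [homMap_comp, hs, map_zero, LinearMap.comp_assoc]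
      refine LinearMap.ext fun x => ?_
      rw [LinearMap.comp_apply, LinearMap.comp_apply, hB.apply_apply_eq_zero, map_zero,
        LinearMap.zero_apply])
    obtain ⟨t, rfl⟩ := (hlB s).1 hs0
    refine ⟨t, LinearMap.ext fun x => ?_⟩
    obtain ⟨y, rfl⟩ := hgB x
    exact LinearMap.congr_fun ((homMap_comp (A := A) B M N g t).symm.trans hs) y

/-- `B ⊗ Hom(M, N) ≅ Hom(B ⊗ M, B ⊗ N)`. -/
noncomputable def homEquiv [Module.FinitePresentation A M] :
    B ⊗[A] (M →ₗ[A] N) ≃ₗ[B] (B ⊗[A] M →ₗ[B] B ⊗[A] N) :=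
  LinearEquiv.ofBijective (homMap (A := A) B M N) (homMap_bijective (A := A) B M N)

end Hom

variable [Module.Flat A B]

theorem nonempty_coker_equiv (N : Type u) [AddCommGroup N] [Module A N] {K F : Type u}
    [AddCommGroup K] [Module A K] [AddCommGroup F] [Module A F] (f : K →ₗ[A] F)
    {P P' Q : Type u} [AddCommGroup P] [Module B P] [AddCommGroup P'] [Module B P'] [AddCommGroup Q]
    [Module B Q] (fB : P →ₗ[B] P') (eK : B ⊗[A] (K →ₗ[A] N) ≃ₗ[B] (P →ₗ[B] Q))
    (eF : B ⊗[A] (F →ₗ[A] N) ≃ₗ[B] (P' →ₗ[B] Q))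
    (h : ∀ t, eK (LinearMap.lTensor B (f.lcomp A N) t) = eF t ∘ₗ fB) :
    Nonempty (B ⊗[A] ((K →ₗ[A] N) ⧸ LinearMap.range (f.lcomp A N)) ≃ₗ[B]
      (P →ₗ[B] Q) ⧸ LinearMap.range (fB.lcomp B Q)) := by
  let L := LinearMap.range (f.lcomp A N)
  let φ := (f.lcomp A N).baseChange B
  let q := L.mkQ.baseChange B
  have hq : Function.Surjective q := LinearMap.lTensor_surjective B L.mkQ_surjective
  have hker : LinearMap.ker q = LinearMap.range φ :=
    LinearMap.exact_iff.1 (lTensor_exact B (LinearMap.exact_map_mkQ_range _) L.mkQ_surjective)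
  have hsq : eK.toLinearMap.comp φ = (fB.lcomp B Q).comp eF.toLinearMap := LinearMap.ext h
  refine ⟨(q.quotKerEquivOfSurjective hq).symm ≪≫ₗ Submodule.Quotient.equiv _ _ eK ?_⟩
  rw [hker]
  refine (LinearMap.range_comp φ eK.toLinearMap).symm.trans ?_
  rw [hsq, LinearMap.range_comp, LinearEquiv.range, Submodule.map_top]

set_option backward.isDefEq.respectTransparency false in
/-- `B ⊗ Ext^k(M, N) ≅ Ext^k(B ⊗ M, B ⊗ N)`. -/
theorem nonempty_ext_equiv [IsNoetherianRing A] : ∀ (k : ℕ) (M N : Type u) [AddCommGroup M] [Module A M]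
    [Module.Finite A M] [AddCommGroup N] [Module A N],
    Nonempty (B ⊗[A] (Ext (ModuleCat.of A M) (ModuleCat.of A N) k) ≃ₗ[B]
      Ext (ModuleCat.of B (B ⊗[A] M)) (ModuleCat.of B (B ⊗[A] N)) k) := by
  intro k
  induction k with
  | zero =>
    intro M N _ _ _ _ _
    haveI : Module.FinitePresentation A M := Module.finitePresentation_of_finite A M
    exact ⟨(Ext.linearEquiv₀ (R := A) ≪≫ₗ ModuleCat.homLinearEquiv (S := A)).baseChange A B _ _ ≪≫ₗ
      homEquiv (A := A) B M N ≪≫ₗ (ModuleCat.homLinearEquiv (S := B)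
        (M := ModuleCat.of B (B ⊗[A] M)) (N := ModuleCat.of B (B ⊗[A] N))).symm ≪≫ₗ
        (Ext.linearEquiv₀ (R := B)).symm⟩
  | succ k ih =>
    intro M N _ _ _ _ _
    obtain ⟨n, g, hg⟩ := Module.Finite.exists_fin' A M
    haveI : Module.Finite A (LinearMap.ker g) := Module.Finite.of_fg (IsNoetherian.noetherian _)
    haveI : Module.FinitePresentation A (LinearMap.ker g) := Module.finitePresentation_of_finite A _
    let fB := (LinearMap.ker g).subtype.baseChange B
    let gB := g.baseChange B
    have hfB : Function.Injective fB :=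
      Module.Flat.lTensor_preserves_injective_linearMap _ (LinearMap.ker g).injective_subtype
    have hgB : Function.Surjective gB := LinearMap.lTensor_surjective B hg
    have hexB : Function.Exact fB gB := lTensor_exact B g.exact_subtype_ker_map hg
    match k, ih with
    | 0, _ =>
      obtain ⟨e⟩ := Groth.L04.LC.nonempty_ext_one_equiv (LinearMap.ker g).subtype g
        (LinearMap.ker g).injective_subtype hg g.exact_subtype_ker_map N
      obtain ⟨e'⟩ := Groth.L04.LC.nonempty_ext_one_equiv (A := B) (K := B ⊗[A] (LinearMap.ker g))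
        (F := B ⊗[A] (Fin n → A)) fB gB hfB hgB hexB (B ⊗[A] N)
      obtain ⟨c⟩ := nonempty_coker_equiv B N (LinearMap.ker g).subtype fB (homEquiv (A := A) B (LinearMap.ker g) N)
        (homEquiv (A := A) B (Fin n → A) N) (fun t => homMap_comp (A := A) B (Fin n → A) N _ t)
      exact ⟨e.baseChange A B _ _ ≪≫ₗ c ≪≫ₗ e'.symm⟩
    | k + 1, ih =>
      obtain ⟨e⟩ := Groth.L04.LC.nonempty_ext_succ_equiv (LinearMap.ker g).subtype g
        (LinearMap.ker g).injective_subtype hg g.exact_subtype_ker_map N k
      obtain ⟨e'⟩ := Groth.L04.LC.nonempty_ext_succ_equiv (A := B) (K := B ⊗[A] (LinearMap.ker g))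
        (F := B ⊗[A] (Fin n → A)) fB gB hfB hgB hexB (B ⊗[A] N) k
      obtain ⟨c⟩ := ih (LinearMap.ker g) N
      exact ⟨e.baseChange A B _ _ ≪≫ₗ c ≪≫ₗ e'.symm⟩

end Groth.L01.ExtBC
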