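import Groth.Agent.L01.NormalDomain
import Groth.Agent.L01.NagataComplete
import Groth.Agent.L07.RegularFlat
import Groth.Agent.L22.AffineDim
import Groth.Agent.L05.Hensel.IntegralDomain
import Groth.Agent.S0581
import Groth.Agent.S2069
import Groth.Agent.S9405
import Mathlib.RingTheory.Ideal.KrullsHeightTheorem
import Mathlib.RingTheory.KrullDimension.NonZeroDivisors
import Mathlib.RingTheory.TensorProduct.Quotient
import Mathlib.RingTheory.TensorProduct.Finite

/-!
Fibres of a flat map over a complete local ring whose closed fibre has no embedded components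
(EGA IV 7.9 type): no fibre has embedded components, and fibre components specialise to components.
-/

universe u

namespace Groth.L01.FibreEmb

open IsLocalRing TensorProduct

theorem comap_mem_associatedPrimes_quotient_iff {B C : Type u} [CommRing B] [CommRing C]
    [IsNoetherianRing B] (f : B →+* C) (hf : Function.Surjective f) (J : Ideal C) (Q : Ideal C) :
    Q ∈ associatedPrimes C (C ⧸ J) ↔ Q.comap f ∈ associatedPrimes B (B ⧸ J.comap f) := by
  haveI := isNoetherianRing_of_surjective B C f hf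
  rw [AssociatedPrimes.mem_iff, AssociatedPrimes.mem_iff, isAssociatedPrime_iff, isAssociatedPrime_iff]
  have key : ∀ b, ((⊥ : Submodule C (C ⧸ J)).colon {Ideal.Quotient.mk J (f b)}).comap f =
      (⊥ : Submodule B (B ⧸ J.comap f)).colon {Ideal.Quotient.mk (J.comap f) b} := fun b => by
    ext c
    simp only [Ideal.mem_comap, Submodule.mem_colon_singleton, Submodule.mem_bot]
    change Ideal.Quotient.mk J (f c * f b) = 0 ↔ Ideal.Quotient.mk (J.comap f) (c * b) = 0
    rw [Ideal.Quotient.eq_zero_iff_mem, Ideal.Quotient.eq_zero_iff_mem, Ideal.mem_comap, map_mul]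
  constructor
  · rintro ⟨hQ, x, hx⟩
    obtain ⟨c, rfl⟩ := Ideal.Quotient.mk_surjective x
    obtain ⟨b, rfl⟩ := hf c
    exact ⟨hQ.comap f, _, (congrArg (Ideal.comap f) hx).trans (key b)⟩
  · rintro ⟨hQ, x, hx⟩
    obtain ⟨b, rfl⟩ := Ideal.Quotient.mk_surjective x
    have heq : Q = (⊥ : Submodule C (C ⧸ J)).colon {Ideal.Quotient.mk J (f b)} :=
      Ideal.comap_injective_of_surjective f hf (hx.trans (key b).symm)
    refine ⟨⟨fun h => hQ.ne_top (by rw [h, Ideal.comap_top]), fun {x y} hxy => ?_⟩, _, heq⟩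
    obtain ⟨x, rfl⟩ := hf x
    obtain ⟨y, rfl⟩ := hf y
    exact hQ.mem_or_mem (by rwa [Ideal.mem_comap, map_mul])

/-- Associated primes restrict along a ring map. -/
theorem comap_mem_associatedPrimes {B C M : Type u} [CommRing B] [CommRing C] [IsNoetherianRing B]
    [IsNoetherianRing C] [Algebra B C]
    [AddCommGroup M] [Module C M] [Module B M] [IsScalarTower B C M] {Q : Ideal C}
    (hQ : Q ∈ associatedPrimes C M) : Q.comap (algebraMap B C) ∈ associatedPrimes B M := by
  obtain ⟨hQp, x, rfl⟩ := isAssociatedPrime_iff.mp hQ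
  refine isAssociatedPrime_iff.mpr ⟨hQp.comap _, x, ?_⟩
  ext b
  simp [Submodule.mem_colon_singleton, algebraMap_smul]

/-- An associated prime of `N/pN`, `N = B` flat over `A`, lies over `p`. -/
theorem comap_eq_of_mem_associatedPrimes {A B : Type u} [CommRing A] [CommRing B] [IsNoetherianRing B]
    [Algebra A B] [Module.Flat A B] (p : Ideal A) [p.IsPrime] {Q : Ideal B}
    (hQ : Q ∈ associatedPrimes B (B ⧸ p.map (algebraMap A B))) :
    Q.comap (algebraMap A B) = p := by
  obtain ⟨hQp, x, hx⟩ := isAssociatedPrime_iff.mp hQ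
  have hann : ∀ b, b ∈ Q ↔ b • x = 0 := fun b => by
    rw [hx, Submodule.mem_colon_singleton, Submodule.mem_bot]
  refine le_antisymm (fun a ha => ?_) (fun a ha => ?_)
  · by_contra hap
    have hreg : IsSMulRegular (A ⧸ p) a := fun u v h => by
      refine mul_left_cancel₀ (show Ideal.Quotient.mk p a ≠ 0 by
        rwa [Ne, Ideal.Quotient.eq_zero_iff_mem]) ?_
      simpa [Algebra.smul_def] using h
    have hreg' : IsSMulRegular (B ⧸ p.map (algebraMap A B)) a :=
      ((((Algebra.TensorProduct.quotIdealMapEquivTensorQuot B p).toLinearEquiv.restrictScalars A)).isSMulRegular_congr a).mpr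
        (hreg.lTensor B)
    have h0 := (hann _).mp ha
    rw [algebraMap_smul] at h0
    refine hQp.ne_top ((Ideal.eq_top_iff_one _).mpr ((hann 1).mpr ?_))
    rw [one_smul]
    exact hreg' (h0.trans (smul_zero a).symm)
  · rw [Ideal.mem_comap, hann]
    obtain ⟨y, rfl⟩ := Ideal.Quotient.mk_surjective x
    exact Ideal.Quotient.eq_zero_iff_mem.mpr (Ideal.mul_mem_right _ _ (Ideal.mem_map_of_mem _ ha))

/-- Associated primes of `B/xB` for `B` flat over `A`. -/
theorem associatedPrimes_quotient_map {A B : Type u} [CommRing A] [IsNoetherianRing A] [CommRing B]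
    [Algebra A B] [Module.Flat A B] (I : Ideal A) {Q : Ideal B}
    (hQ : Q ∈ associatedPrimes B (B ⧸ I.map (algebraMap A B))) :
    ∃ p ∈ associatedPrimes A (A ⧸ I), Q ∈ associatedPrimes B (B ⧸ p.map (algebraMap A B)) := by
  have e := (Algebra.TensorProduct.quotIdealMapEquivTensorQuot B I).toLinearEquiv
  rw [LinearEquiv.AssociatedPrimes.eq e, Groth.Agent.S2069.result] at hQ
  simp only [Set.mem_iUnion] at hQ
  obtain ⟨p, hp, hQ⟩ := hQ
  refine ⟨p, hp, ?_⟩
  rwa [LinearEquiv.AssociatedPrimes.eq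
    (Submodule.quotEquivOfEq _ _ (by rw [smul_eq_mul, Ideal.mul_top]))] at hQ

/-- Minimal primes of a ring are associated. -/
theorem minimalPrimes_subset_associatedPrimes_quotient {B : Type u} [CommRing B] [IsNoetherianRing B]
    (I : Ideal B) : I.minimalPrimes ⊆ associatedPrimes B (B ⧸ I) := by
  have := Module.associatedPrimes.minimalPrimes_annihilator_subset_associatedPrimes B (B ⧸ I)
  rwa [Ideal.annihilator_quotient] at this

theorem mem_associatedPrimes_self_iff {B : Type u} [CommRing B] (Q : Ideal B) :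
    Q ∈ associatedPrimes B B ↔ Q ∈ associatedPrimes B (B ⧸ (⊥ : Ideal B)) := by
  rw [LinearEquiv.AssociatedPrimes.eq (Submodule.quotEquivOfEqBot (⊥ : Ideal B) rfl)]

/-- The closed fibre has no embedded components. -/
def H0 (A B : Type u) [CommRing A] [IsLocalRing A] [CommRing B] [Algebra A B] : Prop :=
  ∀ Q ∈ associatedPrimes B (B ⧸ (maximalIdeal A).map (algebraMap A B)),
    Q ∈ ((maximalIdeal A).map (algebraMap A B)).minimalPrimes

/-- The conclusion, at the generic point of a domain `A`. -/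
def Cl (A B : Type u) [CommRing A] [IsLocalRing A] [CommRing B] [Algebra A B] : Prop :=
  (∀ Q ∈ associatedPrimes B B, Q.comap (algebraMap A B) = ⊥ → Q ∈ (⊥ : Ideal B).minimalPrimes) ∧
  ∀ Q ∈ (⊥ : Ideal B).minimalPrimes, Q.comap (algebraMap A B) = ⊥ →
    ∀ P ∈ (Q ⊔ (maximalIdeal A).map (algebraMap A B)).minimalPrimes,
      P ∈ ((maximalIdeal A).map (algebraMap A B)).minimalPrimes

/-- The statement for complete local domains of dimension at most `n`. -/
def Dom (n : ℕ) : Prop :=
  ∀ (A : Type u) [CommRing A] [IsDomain A] [IsNoetherianRing A] [IsLocalRing A]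
    [IsAdicComplete (maximalIdeal A) A], ringKrullDim A ≤ n →
    ∀ (B : Type u) [CommRing B] [IsNoetherianRing B] [Algebra A B] [Module.Flat A B],
      (maximalIdeal A).map (algebraMap A B) ≤ Ideal.jacobson ⊥ → H0 A B → Cl A B

theorem exists_nat_dim (A : Type u) [CommRing A] [IsNoetherianRing A] [IsLocalRing A] :
    ∃ n : ℕ, ringKrullDim A = n := by
  obtain ⟨n, hn⟩ := ENat.ne_top_iff_exists.mp
    (Ideal.height_ne_top (I := maximalIdeal A) (maximalIdeal.isMaximal A).ne_top)
  exact ⟨n, by rw [← IsLocalRing.maximalIdeal_height_eq_ringKrullDim, ← hn]; rfl⟩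

/-- From the generic point to every prime. -/
theorem of_dom {A B : Type u} [CommRing A] [IsNoetherianRing A] [IsLocalRing A]
    [IsAdicComplete (maximalIdeal A) A] [CommRing B] [IsNoetherianRing B] [Algebra A B] [Module.Flat A B]
    (hloc : (maximalIdeal A).map (algebraMap A B) ≤ Ideal.jacobson ⊥) (h0 : H0 A B)
    (p : Ideal A) [p.IsPrime] (hdom : ∃ n : ℕ, ringKrullDim (A ⧸ p) ≤ n ∧ Dom.{u} n) :
    (∀ Q ∈ associatedPrimes B (B ⧸ p.map (algebraMap A B)), Q.comap (algebraMap A B) = p →
      Q ∈ (p.map (algebraMap A B)).minimalPrimes) ∧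
    ∀ Q ∈ (p.map (algebraMap A B)).minimalPrimes, Q.comap (algebraMap A B) = p →
      ∀ P ∈ (Q ⊔ (maximalIdeal A).map (algebraMap A B)).minimalPrimes,
        P ∈ ((maximalIdeal A).map (algebraMap A B)).minimalPrimes := by
  obtain ⟨n, hn, hdom⟩ := hdom
  haveI : IsLocalRing (A ⧸ p) := IsLocalRing.of_surjective' _ Ideal.Quotient.mk_surjective
  haveI := Groth.L01.NagataComplete.isAdicComplete_quotient p
  let pB := p.map (algebraMap A B)
  let g := Ideal.Quotient.mk pB
  have hg : Function.Surjective g := Ideal.Quotient.mk_surjective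
  letI : Algebra (A ⧸ p) (B ⧸ pB) :=
    (Ideal.quotientMap pB (algebraMap A B) (Ideal.map_le_iff_le_comap.mp le_rfl)).toAlgebra
  haveI : IsScalarTower A (A ⧸ p) (B ⧸ pB) := IsScalarTower.of_algebraMap_eq fun _ => rfl
  haveI : Module.Flat (A ⧸ p) (B ⧸ pB) := Groth.L07.RegFlat.flat_quotient (B := A) (N := B) p
    Ideal.Quotient.mk_surjective Ideal.mk_ker (N' := B ⧸ pB) (Ideal.Quotient.mkₐ A pB).toLinearMap
    Ideal.Quotient.mk_surjective (by
      rw [Ideal.smul_top_eq_map]
      ext b
      exact Ideal.Quotient.eq_zero_iff_mem)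
  have hcomp : (algebraMap (A ⧸ p) (B ⧸ pB)).comp (Ideal.Quotient.mk p) = g.comp (algebraMap A B) :=
    RingHom.ext fun _ => rfl
  have hm : (maximalIdeal (A ⧸ p)).map (algebraMap (A ⧸ p) (B ⧸ pB)) =
      ((maximalIdeal A).map (algebraMap A B)).map g := by
    rw [← (show (maximalIdeal A).map (Ideal.Quotient.mk p) = maximalIdeal (A ⧸ p) from
      eq_maximalIdeal ((Ideal.map_eq_top_or_isMaximal_of_surjective _ Ideal.Quotient.mk_surjective
        (maximalIdeal.isMaximal A)).resolve_left fun h => (maximalIdeal.isMaximal A).ne_top (by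
          have := congrArg (Ideal.comap (Ideal.Quotient.mk p)) h
          rwa [Ideal.comap_map_mk (le_maximalIdeal ‹p.IsPrime›.ne_top), Ideal.comap_top] at this))),
      Ideal.map_map, hcomp, Ideal.map_map]
  have hpm : pB ≤ (maximalIdeal A).map (algebraMap A B) :=
    Ideal.map_mono (IsLocalRing.le_maximalIdeal ‹p.IsPrime›.ne_top)
  have hcm : ((maximalIdeal (A ⧸ p)).map (algebraMap (A ⧸ p) (B ⧸ pB))).comap g =
      (maximalIdeal A).map (algebraMap A B) := by
    rw [hm, Ideal.comap_map_mk hpm]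
  have hminiff : ∀ (J : Ideal (B ⧸ pB)) (Q : Ideal (B ⧸ pB)),
      Q.comap g ∈ (J.comap g).minimalPrimes ↔ Q ∈ J.minimalPrimes := by
    intro J Q
    rw [Ideal.comap_minimalPrimes_eq_of_surjective hg]
    constructor
    · rintro ⟨Q', hQ', he⟩
      exact Ideal.comap_injective_of_surjective g hg he ▸ hQ'
    · exact fun h => ⟨Q, h, rfl⟩
  have hloc' : (maximalIdeal (A ⧸ p)).map (algebraMap (A ⧸ p) (B ⧸ pB)) ≤ Ideal.jacobson ⊥ := by
    rw [hm, Ideal.map_le_iff_le_comap]
    refine hloc.trans ?_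
    rw [Ideal.comap_jacobson_of_surjective hg]
    exact Ideal.jacobson_mono bot_le
  have h0' : H0 (A ⧸ p) (B ⧸ pB) := by
    intro Q hQ
    rw [comap_mem_associatedPrimes_quotient_iff g hg, hcm] at hQ
    exact (hminiff _ _).mp (hcm.symm ▸ h0 _ hQ)
  obtain ⟨h1, h2⟩ := hdom (A ⧸ p) hn (B ⧸ pB) hloc' h0'
  have hbot : ∀ Q : Ideal B, Q.comap (algebraMap A B) = p → pB ≤ Q →
      (Q.map g).comap (algebraMap (A ⧸ p) (B ⧸ pB)) = ⊥ := by
    intro Q hQ hle
    refine Ideal.comap_injective_of_surjective _ Ideal.Quotient.mk_surjective ?_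
    rw [Ideal.comap_comap, hcomp, ← Ideal.comap_comap, Ideal.comap_map_mk hle, hQ,
      ← RingHom.ker_eq_comap_bot, Ideal.mk_ker]
  have hb : (⊥ : Ideal (B ⧸ pB)).comap g = pB := by rw [← RingHom.ker_eq_comap_bot, Ideal.mk_ker]
  refine ⟨fun Q hQ hQp => ?_, fun Q hQ hQp P hP => ?_⟩
  · haveI := hQ.isPrime
    have hle : pB ≤ Q := by
      exact Ideal.map_le_iff_le_comap.mpr hQp.ge
    have hQ' : Q.map g ∈ associatedPrimes (B ⧸ pB) (B ⧸ pB) := by
      rw [mem_associatedPrimes_self_iff, comap_mem_associatedPrimes_quotient_iff g hg, hb,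
        Ideal.comap_map_mk hle]
      exact hQ
    have := (hminiff ⊥ _).mpr (h1 _ hQ' (hbot Q hQp hle))
    rwa [hb, Ideal.comap_map_mk hle] at this
  · have hle : pB ≤ Q := hQ.le
    have hQ' : Q.map g ∈ (⊥ : Ideal (B ⧸ pB)).minimalPrimes := by
      rw [← hminiff, hb, Ideal.comap_map_mk hle]
      exact hQ
    have hPle : pB ≤ P := hle.trans (le_sup_left.trans hP.le)
    have hP' : P.map g ∈ (Q.map g ⊔ (maximalIdeal (A ⧸ p)).map (algebraMap (A ⧸ p) (B ⧸ pB))).minimalPrimes := by
      rw [← hminiff, hm, ← Ideal.map_sup, Ideal.comap_map_mk (hle.trans le_sup_left),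
        Ideal.comap_map_mk hPle]
      exact hP
    have := (hminiff _ _).mpr (h2 _ hQ' (hbot Q hQp hle) _ hP')
    rwa [hcm, Ideal.comap_map_mk hPle] at this

theorem mem_associatedPrimes_of_minimal {B : Type u} [CommRing B] [IsNoetherianRing B] {Q Q₁ : Ideal B}
    {x : B} (hQ : Q ∈ associatedPrimes B B) (hx : IsSMulRegular B x)
    (hQ₁ : Q₁ ∈ (Q ⊔ Ideal.span {x}).minimalPrimes) :
    Q₁ ∈ associatedPrimes B (B ⧸ Ideal.span {x}) := by
  classical
  haveI := hQ₁.isPrime
  obtain ⟨-, z, hz⟩ := isAssociatedPrime_iff.mp hQ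
  have hQz : ∀ b, b ∈ Q ↔ b * z = 0 := fun b => by
    rw [hz, Submodule.mem_colon_singleton, Submodule.mem_bot, smul_eq_mul]
  let K : Submodule B B := Submodule.torsionBySet B B (Q : Set B)
  have hK : ∀ {w}, w ∈ K ↔ ∀ a ∈ Q, a * w = 0 := fun {w} => by
    simp [K, Submodule.mem_torsionBySet_iff]
  have hzK : z ∈ K := hK.mpr fun a ha => (hQz a).mp ha
  let N : Submodule B (B ⧸ Ideal.span {x}) := K.map (Submodule.mkQ (Ideal.span {x}))
  refine associatedPrimes.subset_of_injective N.injective_subtype ?_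
  apply Module.associatedPrimes.minimalPrimes_annihilator_subset_associatedPrimes
  have hJle : Q ⊔ Ideal.span {x} ≤ Module.annihilator B N := by
    intro b hb
    rw [Module.mem_annihilator]
    rintro ⟨_, w, hw, rfl⟩
    obtain ⟨a, ha, c, hc, rfl⟩ := Submodule.mem_sup.mp hb
    refine Subtype.ext ?_
    show (a + c) • Submodule.mkQ (Ideal.span {x}) w = 0
    rw [Submodule.mkQ_apply, ← Submodule.Quotient.mk_smul, Submodule.Quotient.mk_eq_zero, smul_eq_mul,
      add_mul, hK.mp hw a ha, zero_add]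
    exact Ideal.mul_mem_right _ _ hc
  refine ⟨⟨hQ₁.isPrime, fun t ht => ?_⟩, fun q hq hqle => hQ₁.2 ⟨hq.1, hJle.trans hq.2⟩ hqle⟩
  rw [Module.mem_annihilator] at ht
  by_contra htQ
  have hrange : LinearMap.range (LinearMap.lsmul B K t) ≤ Ideal.span {x} • (⊤ : Submodule B K) := by
    rintro _ ⟨⟨w, hw⟩, rfl⟩
    have h := congrArg Subtype.val (ht ⟨_, w, hw, rfl⟩)
    change t • Submodule.mkQ (Ideal.span {x}) w = 0 at h
    rw [Submodule.mkQ_apply, ← Submodule.Quotient.mk_smul, Submodule.Quotient.mk_eq_zero, smul_eq_mul] at h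
    obtain ⟨v, hv⟩ := Ideal.mem_span_singleton'.mp h
    have hvK : v ∈ K := hK.mpr fun a ha => hx (by
      simp only [smul_eq_mul, mul_zero]
      rw [show x * (a * v) = t * (a * w) by rw [mul_left_comm t, ← hv]; ring, hK.mp hw a ha, mul_zero])
    have : LinearMap.lsmul B K t ⟨w, hw⟩ = x • (⟨v, hvK⟩ : K) := Subtype.ext (by
      show t • w = x • v
      rw [smul_eq_mul, smul_eq_mul, ← hv, mul_comm])
    rw [this]
    exact Submodule.smul_mem_smul (Ideal.mem_span_singleton_self x) Submodule.mem_top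
  obtain ⟨P, hPm, -, hP, hPe⟩ := LinearMap.exists_monic_and_coeff_mem_pow_and_aeval_eq_zero_of_range_le_smul
    B (LinearMap.lsmul B K t) (Ideal.span {x}) hrange
  have hev : P.eval t * z = 0 := by
    have h := congrArg Subtype.val (LinearMap.congr_fun hPe ⟨z, hzK⟩)
    rw [show LinearMap.lsmul B K t = algebraMap B (Module.End B K) t from rfl,
      Polynomial.aeval_algebraMap_apply_eq_algebraMap_eval] at h
    simpa using h
  have hmem := (hQz _).mpr hev
  have hQle : Q ≤ Q₁ := le_sup_left.trans hQ₁.le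
  rw [Polynomial.eval_eq_sum_range, Finset.sum_range_succ, hPm.coeff_natDegree, one_mul] at hmem
  have hsum : ∑ i ∈ Finset.range P.natDegree, P.coeff i * t ^ i ∈ Q₁ :=
    Ideal.sum_mem _ fun i hi => Ideal.mul_mem_right _ _ ((le_sup_right.trans hQ₁.le)
      (Ideal.pow_le_self (Nat.sub_ne_zero_of_lt (Finset.mem_range.mp hi)) (hP i)))
  exact htQ (hQ₁.isPrime.mem_of_pow_mem _ ((Submodule.add_mem_iff_right _ hsum).mp (hQle hmem)))

/-- The step for a normal domain. -/
theorem of_normal {n : ℕ} (ih : ∀ m < n, Dom.{u} m) {A B : Type u} [CommRing A] [IsDomain A]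
    [IsNoetherianRing A] [IsLocalRing A] [IsIntegrallyClosed A]
    [IsAdicComplete (maximalIdeal A) A] (hn : ringKrullDim A ≤ n)
    [CommRing B] [IsNoetherianRing B] [Algebra A B] [Module.Flat A B]
    (hloc : (maximalIdeal A).map (algebraMap A B) ≤ Ideal.jacobson ⊥) (h0 : H0 A B) : Cl A B := by
  by_cases hm : maximalIdeal A = ⊥
  · have hmB : (maximalIdeal A).map (algebraMap A B) = ⊥ := by rw [hm, Ideal.map_bot]
    constructor
    · intro Q hQ _
      have := h0 Q (by rw [hmB]; exact (mem_associatedPrimes_self_iff Q).mp hQ)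
      rwa [hmB] at this
    · intro Q hQ _ P hP
      haveI := hQ.isPrime
      rw [hmB, sup_bot_eq, Ideal.minimalPrimes_eq_subsingleton_self, Set.mem_singleton_iff] at hP
      rw [hmB, hP]
      exact hQ
  obtain ⟨x, hxm, hx0⟩ := (Submodule.ne_bot_iff _).mp hm
  have hxJ : algebraMap A B x ∈ Ideal.jacobson (⊥ : Ideal B) := hloc (Ideal.mem_map_of_mem _ hxm)
  have hreg : IsSMulRegular B (algebraMap A B x) := by
    have h : IsSMulRegular B x := ((TensorProduct.rid A B).isSMulRegular_congr x).mp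
      ((show IsSMulRegular A x from fun a b h => mul_left_cancel₀ hx0 h).lTensor B)
    intro a b hab
    refine h ?_
    show x • a = x • b
    rw [Algebra.smul_def, Algebra.smul_def]
    exact hab
  have hspan : (Ideal.span {x}).map (algebraMap A B) = Ideal.span {algebraMap A B x} := by
    rw [Ideal.map_span, Set.image_singleton]
  /- key: a component of `Q + xB` is a component of the fibre over a prime of height one -/
  have key : ∀ Q ∈ associatedPrimes B B, Q.comap (algebraMap A B) = ⊥ →
      ∀ Q₁ ∈ (Q ⊔ (Ideal.span {x}).map (algebraMap A B)).minimalPrimes,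
      ∃ p : Ideal A, p.IsPrime ∧ p ≠ ⊥ ∧ p.height = 1 ∧ Q₁.comap (algebraMap A B) = p ∧
        Q₁ ∈ (p.map (algebraMap A B)).minimalPrimes ∧
        (∃ m : ℕ, ringKrullDim (A ⧸ p) ≤ m ∧ Dom.{u} m) := by
    intro Q hQ hQb Q₁ hQ₁
    obtain ⟨p, hp, hQ₁p⟩ := associatedPrimes_quotient_map (Ideal.span {x})
      (Q := Q₁) (hspan.symm ▸ mem_associatedPrimes_of_minimal hQ hreg (hspan ▸ hQ₁))
    haveI := hp.isPrime
    have hc := comap_eq_of_mem_associatedPrimes p hQ₁p
    have hht := Groth.L01.height_eq_one_of_mem_associatedPrimes hx0 hp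
    have hp0 : p ≠ ⊥ := fun h => by
      rw [h, Ideal.height_bot] at hht
      exact zero_ne_one hht
    have hdom : ∃ m : ℕ, ringKrullDim (A ⧸ p) ≤ m ∧ Dom.{u} m := by
      haveI : IsLocalRing (A ⧸ p) := IsLocalRing.of_surjective' _ Ideal.Quotient.mk_surjective
      obtain ⟨m, hm⟩ := exists_nat_dim (A ⧸ p)
      obtain ⟨y, hy, hy0⟩ := (Submodule.ne_bot_iff _).mp hp0
      have hlt := (ringKrullDim_quotient_succ_le_of_nonZeroDivisor
        (mem_nonZeroDivisors_of_ne_zero hy0)).trans hn
      replace hlt := (add_le_add (ringKrullDim_le_of_surjective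
        (Ideal.Quotient.factor ((Ideal.span_singleton_le_iff_mem p).mpr hy))
        (Ideal.Quotient.factor_surjective _)) le_rfl).trans hlt
      rw [hm] at hlt
      refine ⟨m, hm.le, ih m ?_⟩
      have : ((m + 1 : ℕ) : WithBot ℕ∞) ≤ (n : ℕ) := by exact_mod_cast hlt
      exact_mod_cast this
    exact ⟨p, hp.isPrime, hp0, hht, hc, (of_dom hloc h0 p hdom).1 Q₁ hQ₁p hc, hdom⟩
  have hprop : ∀ Q : Ideal B, Q.IsPrime → ∀ I ≤ Ideal.jacobson (⊥ : Ideal B), Q ⊔ I ≠ ⊤ := by
    intro Q hQ I hI htop
    obtain ⟨M, hM, hQM⟩ := Ideal.exists_le_maximal Q hQ.ne_top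
    exact hM.ne_top (top_le_iff.mp (htop ▸ sup_le hQM (hI.trans ((sInf_le ⟨bot_le, hM⟩)))))
  constructor
  · intro Q hQ hQb
    haveI := hQ.isPrime
    by_contra hmin
    obtain ⟨Q₀, hQ₀, hle⟩ := Ideal.exists_minimalPrimes_le (I := (⊥ : Ideal B)) (J := Q) bot_le
    haveI := hQ₀.isPrime
    obtain ⟨M, hM, hleM⟩ := Ideal.exists_le_maximal _ (hprop Q ‹_› _
      ((Ideal.map_mono ((Ideal.span_singleton_le_iff_mem (I := maximalIdeal A)).mpr hxm)).trans hloc))
    obtain ⟨Q₁, hQ₁, -⟩ := Ideal.exists_minimalPrimes_le (J := M) hleM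
    haveI := hQ₁.isPrime
    obtain ⟨p, hp, -, hht, hc, hmin₁, -⟩ := key Q hQ hQb Q₁ hQ₁
    haveI : Q₁.LiesOver p := ⟨hc.symm⟩
    have hfib : (Q₁.map (Ideal.Quotient.mk (p.map (algebraMap A B)))).height = 0 := by
      have hle' : p.map (algebraMap A B) ≤ Q₁ := hmin₁.le
      haveI : (Q₁.map (Ideal.Quotient.mk (p.map (algebraMap A B)))).IsPrime :=
        Ideal.map_isPrime_of_surjective Ideal.Quotient.mk_surjective (by rwa [Ideal.mk_ker])
      rw [Ideal.height_eq_zero_iff]
      show _ ∈ (⊥ : Ideal _).minimalPrimes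
      refine ⟨⟨inferInstance, bot_le⟩, fun q ⟨hq, _⟩ hqle => ?_⟩
      rw [← Ideal.map_comap_of_surjective _ Ideal.Quotient.mk_surjective q]
      refine Ideal.map_mono (hmin₁.2 ⟨hq.comap _, ?_⟩ ?_)
      · exact Ideal.mk_ker.ge.trans (Ideal.comap_mono bot_le)
      · exact (Ideal.comap_mono hqle).trans_eq (Ideal.comap_map_mk hle')
    have h1 := Ideal.height_le_height_add_of_liesOver p Q₁
    rw [hfib, hht, add_zero] at h1
    have hQlt : Q < Q₁ := lt_of_le_of_ne (le_sup_left.trans hQ₁.le) fun h => by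
      have hx1 : x ∈ Q.comap (algebraMap A B) := by
        rw [h]; exact hQ₁.le (Ideal.mem_sup_right (Ideal.mem_map_of_mem _ (Ideal.mem_span_singleton_self x)))
      rw [hQb] at hx1
      exact hx0 hx1
    have hQ0lt : Q₀ < Q := lt_of_le_of_ne hle fun h => hmin (h ▸ hQ₀)
    have h2 := (add_le_add (Ideal.height_add_one_le_of_lt_of_isPrime hQ0lt) le_rfl).trans
      (Ideal.height_add_one_le_of_lt_of_isPrime hQlt)
    have h3 : (2 : ℕ∞) ≤ 1 := le_trans (le_trans (by rw [add_assoc]; exact le_add_self) h2) h1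
    exact absurd h3 (by norm_num)
  · intro Q hQ hQb P hP
    haveI := hQ.isPrime
    have hQass : Q ∈ associatedPrimes B B := (mem_associatedPrimes_self_iff Q).mpr
      (minimalPrimes_subset_associatedPrimes_quotient ⊥ hQ)
    have hle : Q ⊔ (Ideal.span {x}).map (algebraMap A B) ≤ P := le_trans (sup_le_sup_left
      (Ideal.map_mono ((Ideal.span_singleton_le_iff_mem (I := maximalIdeal A)).mpr hxm)) _) hP.le
    haveI := hP.isPrime
    obtain ⟨Q₁, hQ₁, hQ₁P⟩ := Ideal.exists_minimalPrimes_le hle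
    obtain ⟨p, hp, -, -, hc, hmin₁, hdom⟩ := key Q hQass hQb Q₁ hQ₁
    refine (of_dom hloc h0 p hdom).2 Q₁ hmin₁ hc P ⟨⟨hP.isPrime, sup_le hQ₁P (le_sup_right.trans hP.le)⟩,
      fun q hq hqP => hP.2 ⟨hq.1, sup_le ((le_sup_left.trans hQ₁.le).trans (le_sup_left.trans hq.2))
        (le_sup_right.trans hq.2)⟩ hqP⟩

/-- `B ⊗ A'` modulo `m'` as a `B`-module. -/
theorem nonempty_tensorQuot {A A' B : Type u} [CommRing A] [CommRing A'] [CommRing B] [Algebra A A']
    [Algebra A B] (J : Ideal A') :
    letI : Algebra A' (B ⊗[A] A') := Algebra.TensorProduct.rightAlgebra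
    Nonempty (((B ⊗[A] A') ⧸ J.map (algebraMap A' (B ⊗[A] A'))) ≃ₗ[B] B ⊗[A] (A' ⧸ J)) := by
  letI : Algebra A' (B ⊗[A] A') := Algebra.TensorProduct.rightAlgebra
  exact ⟨((Submodule.Quotient.restrictScalarsEquiv B _).symm.trans (Submodule.quotEquivOfEq _ _ rfl)).trans
    (Algebra.TensorProduct.tensorQuotientEquiv (R := A) B A' B J).symm.toLinearEquiv⟩

/-- Reduction to a normal domain. -/
theorem of_normalization {n : ℕ} (ih : ∀ m < n, Dom.{u} m) : Dom.{u} n := by
  intro A _ _ _ _ _ hn B _ _ _ _ hloc h0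
  classical
  obtain ⟨Λ, _, d, f, hΛ, hinj, hfin, -⟩ := Groth.Agent.S0581.result A
  haveI hA' : Module.Finite A (integralClosure A (FractionRing A)) :=
    Groth.L01.NagataComplete.isN2_complete_local_domain A f hΛ hinj hfin (FractionRing A) inferInstance
  set A' := integralClosure A (FractionRing A) with hA'def
  haveI : IsNoetherianRing A' := IsNoetherianRing.of_finite A A'
  haveI : IsFractionRing A' (FractionRing A) :=
    integralClosure.isFractionRing_of_finite_extension (FractionRing A) (FractionRing A)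
  haveI : IsIntegrallyClosed A' :=
    integralClosure.isIntegrallyClosedOfFiniteExtension (FractionRing A)
  haveI : HenselianLocalRing A := Groth.L05.henselianLocalRing_of_henselianRing
  haveI : IsLocalRing A' := Groth.L05.isLocalRing_of_finite_domain (A := A) A'
  have hinjA : Function.Injective (algebraMap A A') := fun a b h =>
    IsFractionRing.injective A (FractionRing A) (congrArg Subtype.val h)
  have hmax : ∀ M : Ideal A', M.IsMaximal → M.comap (algebraMap A A') = maximalIdeal A := fun M hM =>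
    eq_maximalIdeal (Ideal.isMaximal_comap_of_isIntegral_of_isMaximal M)
  have hm' : (maximalIdeal A').comap (algebraMap A A') = maximalIdeal A :=
    hmax _ (maximalIdeal.isMaximal A')
  haveI : IsAdicComplete (maximalIdeal A') A' := by
    haveI : IsAdicComplete (maximalIdeal A) A' :=
      Groth.Agent.S9405.isAdicComplete_of_finite (maximalIdeal A) A'
    haveI hJ : IsAdicComplete ((maximalIdeal A).map (algebraMap A A')) A' :=
      (_root_.IsAdicComplete.map_algebraMap_iff (I := maximalIdeal A) (S := A') (M := A')).mpr this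
    obtain ⟨N, hN⟩ := ((maximalIdeal A).map (algebraMap A A')).exists_pow_le_of_le_radical_of_fg
      (I := maximalIdeal A') (by
        rw [Ideal.radical_eq_sInf]
        refine le_sInf fun P ⟨hP, hPp⟩ => ?_
        haveI := hPp
        have : P.IsMaximal := Ideal.isMaximal_of_isIntegral_of_isMaximal_comap (R := A) P (by
          rw [show P.comap (algebraMap A A') = maximalIdeal A from
            ((maximalIdeal.isMaximal A).eq_of_le (Ideal.comap_ne_top _ hPp.ne_top)
              (Ideal.map_le_iff_le_comap.mp hP)).symm]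
          exact maximalIdeal.isMaximal A)
        rw [eq_maximalIdeal this]) (IsNoetherian.noetherian _)
    exact Groth.Agent.S9405.isAdicComplete_of_pow_le
      (Ideal.map_le_iff_le_comap.mpr hm'.ge) hN
  have hn' : ringKrullDim A' ≤ n := by
    rwa [Groth.L22.AffineDim.ringKrullDim_eq_of_isIntegral hinjA]
  let B' := B ⊗[A] A'
  letI : Algebra A' B' := Algebra.TensorProduct.rightAlgebra
  haveI : IsScalarTower A A' B' := IsScalarTower.of_algebraMap_eq fun a => by
    show algebraMap A B a ⊗ₜ (1 : A') = (1 : B) ⊗ₜ algebraMap A A' a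
    rw [Algebra.algebraMap_eq_smul_one, Algebra.algebraMap_eq_smul_one, TensorProduct.smul_tmul]
  haveI : Module.Finite B B' := Module.Finite.base_change A B A'
  haveI : IsNoetherianRing B' := IsNoetherianRing.of_finite B B'
  haveI : Algebra.IsIntegral B B' := Algebra.IsIntegral.of_finite B B'
  haveI : Module.Flat A' B' := by
    haveI : Module.Flat A' (A' ⊗[A] B) := inferInstance
    refine Module.Flat.of_linearEquiv (N := B') (M := A' ⊗[A] B) ?_
    exact { (Algebra.TensorProduct.comm A B A').toLinearEquiv.toAddEquiv with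
      map_smul' := fun a z => by
        show Algebra.TensorProduct.comm A B A' (a • z) = a • Algebra.TensorProduct.comm A B A' z
        rw [Algebra.smul_def, map_mul, Algebra.smul_def]
        congr 1 }
  have hA : ∀ a, algebraMap B B' (algebraMap A B a) = algebraMap A' B' (algebraMap A A' a) := fun a =>
    (IsScalarTower.algebraMap_apply A B B' a).symm.trans (IsScalarTower.algebraMap_apply A A' B' a)
  have hcc : ∀ I : Ideal B', (I.comap (algebraMap B B')).comap (algebraMap A B) =
      (I.comap (algebraMap A' B')).comap (algebraMap A A') := fun I => by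
    ext a
    simp only [Ideal.mem_comap, hA]
  have hmmle : ∀ I : Ideal B', (maximalIdeal A').map (algebraMap A' B') ≤ I →
      (maximalIdeal A).map (algebraMap A B) ≤ I.comap (algebraMap B B') := fun I hI => by
    rw [Ideal.map_le_iff_le_comap, hcc, ← hm']
    exact Ideal.comap_mono (Ideal.map_le_iff_le_comap.mp hI)
  have hloc' : (maximalIdeal A').map (algebraMap A' B') ≤ Ideal.jacobson ⊥ := by
    refine le_sInf fun M ⟨_, hM⟩ => ?_
    have h1 := hloc.trans (sInf_le ⟨bot_le, Ideal.isMaximal_comap_of_isIntegral_of_isMaximal (R := B) M⟩)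
    rw [Ideal.map_le_iff_le_comap, hcc] at h1
    rw [Ideal.map_le_iff_le_comap]
    haveI := hM.isPrime.comap (algebraMap A' B')
    haveI : (M.comap (algebraMap A' B')).IsMaximal := Ideal.isMaximal_of_isIntegral_of_isMaximal_comap
      (R := A) _ (by
        rw [show (M.comap (algebraMap A' B')).comap (algebraMap A A') = maximalIdeal A from
          ((maximalIdeal.isMaximal A).eq_of_le (Ideal.comap_ne_top _ (Ideal.IsPrime.ne_top ‹_›)) h1).symm]
        exact maximalIdeal.isMaximal A)
    exact (eq_maximalIdeal this).ge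
  /- associated primes of the closed fibre of `B'` contract to those of the closed fibre of `B` -/
  have hclosed : ∀ Q' ∈ associatedPrimes B' (B' ⧸ (maximalIdeal A').map (algebraMap A' B')),
      Q'.comap (algebraMap B B') ∈ ((maximalIdeal A).map (algebraMap A B)).minimalPrimes := by
    intro Q' hQ'
    obtain ⟨e⟩ := nonempty_tensorQuot (A := A) (B := B) (maximalIdeal A')
    have h := comap_mem_associatedPrimes (B := B) hQ'
    rw [LinearEquiv.AssociatedPrimes.eq e, Groth.Agent.S2069.result] at h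
    simp only [Set.mem_iUnion] at h
    obtain ⟨p, hp, h⟩ := h
    have hpm : p = maximalIdeal A := by
      refine le_antisymm (le_maximalIdeal hp.isPrime.ne_top) fun a ha => ?_
      obtain ⟨-, x, hx⟩ := isAssociatedPrime_iff.mp hp
      rw [hx, Submodule.mem_colon_singleton, Submodule.mem_bot]
      obtain ⟨y, rfl⟩ := Ideal.Quotient.mk_surjective x
      rw [← hm', Ideal.mem_comap] at ha
      show Ideal.Quotient.mk _ (a • y) = 0
      rw [Algebra.smul_def, Ideal.Quotient.eq_zero_iff_mem]
      exact Ideal.mul_mem_right _ _ ha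
    subst hpm
    rw [LinearEquiv.AssociatedPrimes.eq
      (Submodule.quotEquivOfEq _ _ (by rw [smul_eq_mul, Ideal.mul_top]))] at h
    exact h0 _ h
  have h0' : H0 A' B' := by
    intro Q' hQ'
    haveI := hQ'.isPrime
    have hle : (maximalIdeal A').map (algebraMap A' B') ≤ Q' := by
      refine le_trans (le_of_eq (Ideal.annihilator_quotient (I := (maximalIdeal A').map (algebraMap A' B'))).symm) ?_
      rw [← Submodule.annihilator_top]
      exact hQ'.annihilator_le
    refine ⟨⟨hQ'.isPrime, hle⟩, fun q ⟨hq, hqm⟩ hqle => ?_⟩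
    by_contra hne
    haveI := hq
    have hlt := Ideal.IsIntegral.comap_lt_comap (R := B) (lt_of_le_not_ge hqle hne)
    exact absurd ((hclosed Q' hQ').2 ⟨hq.comap _, hmmle q hqm⟩ hlt.le) hlt.not_ge
  obtain ⟨hi, hii⟩ := of_normal ih hn' hloc' h0'
  /- a common denominator of `A'` -/
  obtain ⟨G, hG⟩ := hA'.fg_top
  obtain ⟨⟨s, hs0⟩, hs⟩ := IsLocalization.exist_integer_multiples_of_finset (nonZeroDivisors A)
    (G.image fun g : A' => (g : FractionRing A))
  have hsA' : ∀ a' : A', ∃ a : A, s • a' = algebraMap A A' a := by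
    intro a'
    have : a' ∈ Submodule.span A (G : Set A') := by rw [hG]; trivial
    induction this using Submodule.span_induction with
    | mem g hg =>
      obtain ⟨a, ha⟩ := hs _ (Finset.mem_image_of_mem _ hg)
      exact ⟨a, Subtype.ext ha.symm⟩
    | zero => exact ⟨0, by simp⟩
    | add x y _ _ hx hy =>
      obtain ⟨a, ha⟩ := hx; obtain ⟨b, hb⟩ := hy
      exact ⟨a + b, by rw [smul_add, ha, hb, map_add]⟩
    | smul r x _ hx =>
      obtain ⟨a, ha⟩ := hx
      exact ⟨r * a, by rw [smul_comm, ha, map_mul, Algebra.smul_def]⟩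
  have hsB' : ∀ b' : B', ∃ b : B, algebraMap A B' s * b' = algebraMap B B' b := by
    intro b'
    induction b' using TensorProduct.induction_on with
    | zero => exact ⟨0, by simp⟩
    | tmul b a' =>
      obtain ⟨a, ha⟩ := hsA' a'
      refine ⟨a • b, ?_⟩
      rw [← Algebra.smul_def, ← TensorProduct.tmul_smul, ha]
      show b ⊗ₜ[A] algebraMap A A' a = (a • b) ⊗ₜ[A] (1 : A')
      rw [Algebra.algebraMap_eq_smul_one, TensorProduct.smul_tmul]
    | add x y hx hy =>
      obtain ⟨a, ha⟩ := hx; obtain ⟨b, hb⟩ := hy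
      exact ⟨a + b, by rw [mul_add, ha, hb, map_add]⟩
  have hinjB : Function.Injective (algebraMap B B') := by
    have h : Function.Injective (LinearMap.lTensor B (Algebra.linearMap A A')) :=
      Module.Flat.lTensor_preserves_injective_linearMap _ hinjA
    have he : ∀ b : B, algebraMap B B' b =
        LinearMap.lTensor B (Algebra.linearMap A A') ((TensorProduct.rid A B).symm b) := fun b => by
      simp [B', Algebra.TensorProduct.algebraMap_apply]
    intro a b hab
    rw [he, he] at hab
    exact (TensorProduct.rid A B).symm.injective (h hab)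
  /- lifting an associated prime of the generic fibre -/
  have lift : ∀ Q ∈ associatedPrimes B B, Q.comap (algebraMap A B) = ⊥ →
      ∃ Q' ∈ associatedPrimes B' B', Q'.comap (algebraMap B B') = Q ∧
        Q'.comap (algebraMap A' B') = ⊥ := by
    intro Q hQ hQb
    obtain ⟨hQp, z, hz⟩ := isAssociatedPrime_iff.mp hQ
    let J : Ideal B' := (⊥ : Submodule B' B').colon {algebraMap B B' z}
    have hJ : J.comap (algebraMap B B') = Q := by
      ext b
      simp only [J, hz, Ideal.mem_comap, Submodule.mem_colon_singleton, Submodule.mem_bot, smul_eq_mul]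
      rw [← map_mul, map_eq_zero_iff _ hinjB]
    obtain ⟨q₀, hq₀, hJq₀, hq₀Q⟩ := Ideal.exists_comap_eq_of_mem_minimalPrimes (I := J)
      (algebraMap B B') Q (by rw [hJ, Ideal.minimalPrimes_eq_subsingleton_self]; rfl)
    haveI := hq₀
    obtain ⟨q, hq, hqle⟩ := Ideal.exists_minimalPrimes_le hJq₀
    have hqQ : q.comap (algebraMap B B') = Q := le_antisymm (hq₀Q ▸ Ideal.comap_mono hqle)
      (hJ ▸ Ideal.comap_mono hq.le)
    haveI := hq.isPrime
    refine ⟨q, ?_, hqQ, ?_⟩
    · have hann : ∀ b', b' • algebraMap B B' z = 0 ↔ b' ∈ J := fun b' => by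
        simp [J, Submodule.mem_colon_singleton]
      refine associatedPrimes.subset_of_injective
        (f := Submodule.liftQ J (LinearMap.toSpanSingleton B' B' (algebraMap B B' z))
          (fun b' hb' => (hann b').mpr hb')) ?_ (minimalPrimes_subset_associatedPrimes_quotient J hq)
      rw [← LinearMap.ker_eq_bot]
      exact Submodule.ker_liftQ_eq_bot _ _ _ (fun b' hb' => (hann b').mp (LinearMap.mem_ker.mp hb'))
    · refine Ideal.eq_bot_of_comap_eq_bot (R := A) ?_
      rw [← hcc, hqQ, hQb]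
  constructor
  · intro Q hQ hQb
    obtain ⟨Q', hQ', hQQ', hQ'b⟩ := lift Q hQ hQb
    haveI := hQ.isPrime
    haveI := hQ'.isPrime
    have hmin := hi Q' hQ' hQ'b
    refine ⟨⟨hQ.isPrime, bot_le⟩, fun q₀ ⟨hq₀, _⟩ hle => ?_⟩
    haveI := hq₀
    obtain ⟨q, -, hq, hqq₀⟩ := Ideal.exists_ideal_over_prime_of_isIntegral q₀ (⊥ : Ideal B') (by
      intro b hb
      rw [Ideal.mem_comap, Ideal.mem_bot, map_eq_zero_iff _ hinjB] at hb
      rw [hb]; exact zero_mem _)
    have hqle : q ≤ Q' := fun b' hb' => by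
      obtain ⟨b, hb⟩ := hsB' b'
      have hbq : b ∈ q₀ := by
        rw [← hqq₀, Ideal.mem_comap, ← hb]
        exact q.mul_mem_left _ hb'
      have h1 : algebraMap B B' b ∈ Q' := by rw [← Ideal.mem_comap, hQQ']; exact hle hbq
      rw [← hb] at h1
      refine (hQ'.isPrime.mem_or_mem h1).resolve_left fun h => ?_
      rw [IsScalarTower.algebraMap_apply A B B', ← Ideal.mem_comap, hQQ', ← Ideal.mem_comap, hQb] at h
      exact nonZeroDivisors.ne_zero hs0 h
    have := hmin.2 ⟨hq, bot_le⟩ hqle
    rw [← hQQ', ← hqq₀]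
    exact Ideal.comap_mono this
  · intro Q hQ hQb P hP
    haveI := hQ.isPrime
    haveI := hP.isPrime
    obtain ⟨Q', hQ', hQQ', hQ'b⟩ := lift Q ((mem_associatedPrimes_self_iff Q).mpr
      (minimalPrimes_subset_associatedPrimes_quotient ⊥ hQ)) hQb
    haveI := hQ'.isPrime
    have hmin := hi Q' hQ' hQ'b
    obtain ⟨P₀, hP₀le, hP₀, hP₀P⟩ := Ideal.exists_ideal_over_prime_of_isIntegral P Q'
      (hQQ'.trans_le (le_sup_left.trans hP.le))
    haveI := hP₀
    have hle : Q' ⊔ (maximalIdeal A').map (algebraMap A' B') ≤ P₀ := by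
      refine sup_le hP₀le (Ideal.map_le_iff_le_comap.mpr ?_)
      haveI : (P₀.comap (algebraMap A' B')).IsMaximal := Ideal.isMaximal_of_isIntegral_of_isMaximal_comap
        (R := A) _ (by
          rw [← hcc, hP₀P, show P.comap (algebraMap A B) = maximalIdeal A from
            ((maximalIdeal.isMaximal A).eq_of_le (Ideal.comap_ne_top _ hP.isPrime.ne_top)
              (Ideal.map_le_iff_le_comap.mp (le_sup_right.trans hP.le))).symm]
          exact maximalIdeal.isMaximal A)
      exact (eq_maximalIdeal this).ge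
    obtain ⟨P', hP', hP'le⟩ := Ideal.exists_minimalPrimes_le hle
    haveI := hP'.isPrime
    have heq : P'.comap (algebraMap B B') = P :=
      le_antisymm (hP₀P ▸ Ideal.comap_mono hP'le) (hP.2 ⟨hP'.isPrime.comap _, sup_le
        (hQQ' ▸ Ideal.comap_mono (le_sup_left.trans hP'.le)) (hmmle P' (le_sup_right.trans hP'.le))⟩
        (hP₀P ▸ Ideal.comap_mono hP'le))
    have := hclosed P' (minimalPrimes_subset_associatedPrimes_quotient _ (hii Q' hmin hQ'b P' hP'))
    rwa [heq] at this

theorem dom (n : ℕ) : Dom.{u} n := Nat.strong_induction_on n fun _ ih => of_normalization ih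

/-- The theorem at every prime. -/
theorem main {A B : Type u} [CommRing A] [IsNoetherianRing A] [IsLocalRing A]
    [IsAdicComplete (maximalIdeal A) A] [CommRing B] [IsNoetherianRing B] [Algebra A B] [Module.Flat A B]
    (hloc : (maximalIdeal A).map (algebraMap A B) ≤ Ideal.jacobson ⊥) (h0 : H0 A B)
    (p : Ideal A) [p.IsPrime] :
    (∀ Q ∈ associatedPrimes B (B ⧸ p.map (algebraMap A B)), Q.comap (algebraMap A B) = p →
      Q ∈ (p.map (algebraMap A B)).minimalPrimes) ∧
    ∀ Q ∈ (p.map (algebraMap A B)).minimalPrimes, Q.comap (algebraMap A B) = p →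
      ∀ P ∈ (Q ⊔ (maximalIdeal A).map (algebraMap A B)).minimalPrimes,
        P ∈ ((maximalIdeal A).map (algebraMap A B)).minimalPrimes := by
  haveI : IsLocalRing (A ⧸ p) := IsLocalRing.of_surjective' _ Ideal.Quotient.mk_surjective
  obtain ⟨m, hm⟩ := exists_nat_dim (A ⧸ p)
  exact of_dom hloc h0 p ⟨m, hm.le, dom m⟩

end Groth.L01.FibreEmb
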