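import Mathlib.RingTheory.Flat.Equalizer
import Mathlib.RingTheory.Flat.Localization
import Mathlib.RingTheory.LocalRing.Module
import Mathlib.RingTheory.Localization.BaseChange
import Mathlib.RingTheory.Localization.Finiteness
import Mathlib.RingTheory.LocalRing.ResidueField.Ideal
import Mathlib.RingTheory.FinitePresentation
import Mathlib.RingTheory.FiniteType
import Mathlib.LinearAlgebra.TensorProduct.Quotient
import Mathlib.LinearAlgebra.TensorProduct.RightExactness
import Mathlib.RingTheory.Nakayama
import Mathlib.RingTheory.Finiteness.ModuleFinitePresentation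
import Mathlib.RingTheory.RingHom.FiniteType

/-! Fibrewise isomorphisms to finite flat algebras. -/

set_option autoImplicit false

open TensorProduct

namespace L01.FibreIso

universe u

theorem exists_smul_mem {R M : Type u} [CommRing R] [AddCommGroup M] [Module R M] (p : Ideal R) [p.IsPrime]
    [Subsingleton (p.ResidueField ⊗[R] M)] (x : M) :
    ∃ s, s ∉ p ∧ s • x ∈ p • (⊤ : Submodule R M) := by
  haveI : IsLocalization (Algebra.algebraMapSubmonoid (R ⧸ p) p.primeCompl) p.ResidueField := by
    have : Algebra.algebraMapSubmonoid (R ⧸ p) p.primeCompl = nonZeroDivisors (R ⧸ p) := by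
      ext x
      obtain ⟨r, rfl⟩ := Ideal.Quotient.mk_surjective x
      rw [mem_nonZeroDivisors_iff_ne_zero, ne_eq, Ideal.Quotient.eq_zero_iff_mem]
      constructor
      · rintro ⟨s, hs, e⟩ h
        have h1 : s - r ∈ p := Ideal.Quotient.eq.1 e
        exact hs (by simpa using add_mem h1 h)
      · exact fun h => ⟨r, h, rfl⟩
    rw [this]; infer_instance
  haveI : IsLocalizedModule p.primeCompl (IsScalarTower.toAlgHom R (R ⧸ p) p.ResidueField).toLinearMap :=
    isLocalizedModule_iff_isLocalization.2 inferInstance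
  let g := AlgebraTensorModule.rTensor R M (IsScalarTower.toAlgHom R (R ⧸ p) p.ResidueField).toLinearMap
  obtain ⟨⟨s, hs⟩, hsx⟩ := (IsLocalizedModule.eq_iff_exists (S := p.primeCompl) g
    (x₁ := (1 : R ⧸ p) ⊗ₜ x) (x₂ := 0)).1 (Subsingleton.elim _ _)
  refine ⟨s, hs, ?_⟩
  rw [smul_zero, show (⟨s, hs⟩ : p.primeCompl) • ((1 : R ⧸ p) ⊗ₜ[R] x) = (1 : R ⧸ p) ⊗ₜ[R] (s • x) by
    rw [Submonoid.mk_smul, tmul_smul]] at hsx
  have h2 := congrArg (quotTensorEquivQuotSMul M p) hsx
  rw [map_zero, ← map_one (Ideal.Quotient.mk p), quotTensorEquivQuotSMul_mk_tmul, one_smul] at h2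
  exact (Submodule.Quotient.mk_eq_zero _).1 h2

theorem bijective {R A B : Type u} [CommRing R] [CommRing A] [CommRing B] [Algebra R A] [Algebra R B]
    [Module.Finite R A] [Module.Flat R A] [Algebra.FiniteType R B] (f : B →ₐ[R] A)
    (hrank : ∀ (p : Ideal R) [p.IsPrime],
      Module.rank p.ResidueField (p.ResidueField ⊗[R] B) = Module.rank p.ResidueField (p.ResidueField ⊗[R] A))
    (hmax : ∀ (m : Ideal R) [m.IsMaximal],
      Function.Surjective (LinearMap.lTensor m.ResidueField f.toLinearMap)) :
    Function.Bijective f := by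
  classical
  have hsurj : Function.Surjective f := by
    let C := A ⧸ LinearMap.range f.toLinearMap
    suffices Subsingleton C from fun a => (Submodule.Quotient.mk_eq_zero _).1 (Subsingleton.elim (Submodule.Quotient.mk (p := LinearMap.range f.toLinearMap) a) 0)
    refine subsingleton_of_forall_eq 0 fun c => ?_
    by_contra hc
    obtain ⟨m, hm, hle⟩ := Ideal.exists_le_maximal (Submodule.colon (⊥ : Submodule R C) {c}) (by
      intro h
      have h1 : (1 : R) ∈ Submodule.colon (⊥ : Submodule R C) {c} := h ▸ trivial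
      rw [Submodule.mem_colon_singleton, one_smul, Submodule.mem_bot] at h1
      exact hc h1)
    haveI : Subsingleton (m.ResidueField ⊗[R] C) := by
      refine subsingleton_of_forall_eq 0 fun z => ?_
      obtain ⟨y, rfl⟩ := LinearMap.lTensor_surjective m.ResidueField (Submodule.mkQ_surjective (LinearMap.range f.toLinearMap)) z
      obtain ⟨w, rfl⟩ := hmax m y
      rw [← LinearMap.comp_apply, ← LinearMap.lTensor_comp, LinearMap.range_mkQ_comp, LinearMap.lTensor_zero,
        LinearMap.zero_apply]
    have htop : (⊤ : Submodule R C) ≤ m • ⊤ := fun x _ => by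
      obtain ⟨s, hs, hsx⟩ := exists_smul_mem m x
      obtain ⟨a, i, hi, e⟩ := hm.exists_inv hs
      rw [← one_smul R x, ← e, add_smul, mul_smul]
      exact add_mem (Submodule.smul_mem _ _ hsx) (Submodule.smul_mem_smul hi trivial)
    obtain ⟨r, hr, hr0⟩ := Submodule.exists_sub_one_mem_and_smul_eq_zero_of_fg_of_le_smul m ⊤
      Module.Finite.fg_top htop
    have hrm : r ∈ m := hle (Submodule.mem_colon_singleton.2 (by rw [hr0 c trivial]; exact zero_mem _))
    exact hm.ne_top ((Ideal.eq_top_iff_one _).2 (by simpa using sub_mem hrm hr))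
  refine ⟨?_, hsurj⟩
  let K : Submodule R B := LinearMap.ker f.toLinearMap
  have hinjK : ∀ (X : Type u) [AddCommGroup X] [Module R X], Function.Injective (K.subtype.lTensor X) := fun X _ _ =>
    LinearMap.lTensor_injective_of_exact_of_flat f.toLinearMap hsurj K.subtype Subtype.val_injective
      (LinearMap.exact_subtype_ker_map f.toLinearMap) X
  have hK : ∀ (p : Ideal R) [p.IsPrime] (x : K), ∃ s, s ∉ p ∧ s • x ∈ p • (⊤ : Submodule R K) := by
    intro p _ x
    let φ := (Algebra.TensorProduct.map (AlgHom.id p.ResidueField p.ResidueField) f).toLinearMap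
    have hφ : ∀ z, φ z = f.toLinearMap.lTensor p.ResidueField z := fun z => by
      induction z using TensorProduct.induction_on with
      | zero => simp
      | tmul a b => rfl
      | add a b ha hb => rw [map_add, map_add, ha, hb]
    have hφs : Function.Surjective φ := fun z => by
      obtain ⟨w, rfl⟩ := LinearMap.lTensor_surjective p.ResidueField (g := f.toLinearMap) hsurj z
      exact ⟨w, hφ w⟩
    haveI : Module.Finite p.ResidueField (p.ResidueField ⊗[R] B) := by
      rw [← Module.rank_lt_aleph0_iff, hrank p]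
      exact Module.rank_lt_aleph0 _ _
    have hφi : Function.Injective φ := (LinearMap.injective_iff_surjective_of_finrank_eq_finrank
      (by unfold Module.finrank; rw [hrank p])).2 hφs
    haveI : Subsingleton (p.ResidueField ⊗[R] K) := subsingleton_of_forall_eq 0 fun z => by
      refine hinjK _ (hφi ?_)
      rw [map_zero, map_zero, hφ, ← LinearMap.comp_apply, ← LinearMap.lTensor_comp,
        show f.toLinearMap ∘ₗ K.subtype = 0 from LinearMap.ext fun y => y.2, LinearMap.lTensor_zero,
        LinearMap.zero_apply]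
    exact exists_smul_mem p x
  rw [injective_iff_map_eq_zero]
  intro k hk
  by_contra hk0
  obtain ⟨m, hm, hle⟩ := Ideal.exists_le_maximal (Submodule.colon (⊥ : Submodule R B) {k}) (by
    intro h
    have h1 : (1 : R) ∈ Submodule.colon (⊥ : Submodule R B) {k} := h ▸ trivial
    rw [Submodule.mem_colon_singleton, one_smul, Submodule.mem_bot] at h1
    exact hk0 h1)
  let R' := Localization.AtPrime m
  let B' := R' ⊗[R] B
  let A' := R' ⊗[R] A
  let ι : B →ₐ[R] B' := Algebra.TensorProduct.includeRight
  haveI hloc : IsLocalizedModule m.primeCompl ι.toLinearMap :=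
    (isLocalizedModule_iff_isBaseChange m.primeCompl R' _).2 (TensorProduct.isBaseChange R B R')
  suffices hk' : ι k = 0 by
    obtain ⟨⟨s, hs⟩, e⟩ := (IsLocalizedModule.eq_zero_iff (S := m.primeCompl) (f := ι.toLinearMap)).1 hk'
    exact hs (hle (Submodule.mem_colon_singleton.2 ((Submodule.mem_bot R).2 e)))
  haveI : Module.Free R' A' := Module.free_of_flat_of_isLocalRing
  haveI : Module.FinitePresentation R' A' := Module.finitePresentation_of_projective R' A'
  haveI : Algebra.FinitePresentation R' A' := inferInstance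
  let ψ : B' →ₐ[R'] A' := Algebra.TensorProduct.map (AlgHom.id R' R') f
  have hψs : Function.Surjective ψ := fun z => by
    induction z using TensorProduct.induction_on with
    | zero => exact ⟨0, map_zero _⟩
    | tmul a b => obtain ⟨b, rfl⟩ := hsurj b; exact ⟨a ⊗ₜ b, rfl⟩
    | add a b ha hb => obtain ⟨x, rfl⟩ := ha; obtain ⟨y, rfl⟩ := hb; exact ⟨x + y, map_add _ _ _⟩
  let I : Ideal B' := RingHom.ker ψ.toRingHom
  have hIfg : I.FG := by
    obtain ⟨n, π, hπ⟩ := Algebra.FiniteType.iff_quotient_mvPolynomial''.1 (inferInstance : Algebra.FiniteType R' B')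
    have h := (Algebra.FinitePresentation.ker_fG_of_surjective (ψ.comp π) (hψs.comp hπ)).map π.toRingHom
    have e : RingHom.ker (ψ.comp π).toRingHom = I.comap π.toRingHom := rfl
    rw [e, Ideal.map_comap_of_surjective π.toRingHom hπ] at h
    exact h
  have hkI : ι k ∈ I := by
    show ψ (1 ⊗ₜ k) = 0
    rw [Algebra.TensorProduct.map_tmul, hk, tmul_zero]
  suffices hI : I = ⊥ from (Submodule.mem_bot B').1 (hI ▸ hkI)
  refine (Submodule.eq_bot_iff _).2 fun z hz => ?_
  by_contra hz0
  obtain ⟨q, hq, hqle⟩ := Ideal.exists_le_maximal (Submodule.colon (⊥ : Submodule B' B') {z}) (by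
    intro h
    have h1 : (1 : B') ∈ Submodule.colon (⊥ : Submodule B' B') {z} := h ▸ trivial
    rw [Submodule.mem_colon_singleton, one_smul, Submodule.mem_bot] at h1
    exact hz0 h1)
  let p := q.comap (algebraMap R B')
  have hle' : I ≤ q • I := fun w hw => by
    obtain ⟨⟨x, s⟩, hsw⟩ := IsLocalizedModule.surj m.primeCompl ι.toLinearMap w
    have hx : ψ (1 ⊗ₜ x) = 0 := by
      rw [show (1 : R') ⊗ₜ[R] x = s.1 • w from hsw.symm, ← algebraMap_smul B' s.1, smul_eq_mul, map_mul, show ψ w = 0 from hw, mul_zero]
    rw [Algebra.TensorProduct.map_tmul, map_one] at hx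
    haveI : IsLocalizedModule m.primeCompl (TensorProduct.mk R R' A 1) :=
      (isLocalizedModule_iff_isBaseChange m.primeCompl R' _).2 (TensorProduct.isBaseChange R A R')
    obtain ⟨t, ht⟩ := (IsLocalizedModule.eq_zero_iff (S := m.primeCompl) (f := TensorProduct.mk R R' A 1)).1 hx
    have htx : t.1 • x ∈ K := show f (t.1 • x) = 0 by rw [map_smul]; exact ht
    obtain ⟨σ, hσ, hσx⟩ := hK p ⟨_, htx⟩
    have hmem : ∀ y ∈ p • (⊤ : Submodule R K), ι (y : B) ∈ q • I := fun y hy => by
      refine Submodule.smul_induction_on hy (fun r hr c _ => ?_) (fun a b ha hb => ?_)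
      · rw [Submodule.coe_smul, map_smul, ← algebraMap_smul B' r]
        refine Submodule.smul_mem_smul hr ?_
        show ψ (1 ⊗ₜ (c : B)) = 0
        rw [Algebra.TensorProduct.map_tmul, show f (c : B) = 0 from c.2, tmul_zero]
      · rw [Submodule.coe_add, map_add]; exact add_mem ha hb
    have h1 := hmem _ hσx
    rw [Submodule.coe_smul, map_smul, map_smul, show ι x = s.1 • w from hsw.symm, ← algebraMap_smul B' σ,
      ← algebraMap_smul B' t.1, ← algebraMap_smul B' s.1, ← mul_smul, ← mul_smul] at h1
    have hu : ∀ r : m.primeCompl, algebraMap R B' r ∉ q := fun r hr => hq.ne_top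
      (Ideal.eq_top_of_isUnit_mem _ hr (by
        rw [IsScalarTower.algebraMap_apply R R' B']
        exact (IsLocalization.map_units R' r).map _))
    obtain ⟨a, i, hi, e⟩ := hq.exists_inv (fun h => (hq.isPrime.mem_or_mem h).elim
      (fun h => (hq.isPrime.mem_or_mem h).elim hσ (hu t)) (hu s))
    rw [← one_smul B' w, ← e, add_smul, mul_smul]
    exact add_mem (Submodule.smul_mem _ _ h1) (Submodule.smul_mem_smul hi hw)
  obtain ⟨r, hr, hr0⟩ := Submodule.exists_sub_one_mem_and_smul_eq_zero_of_fg_of_le_smul q I hIfg hle'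
  have hrq : r ∈ q := hqle (Submodule.mem_colon_singleton.2 (by rw [hr0 z hz]; exact zero_mem _))
  exact hq.ne_top ((Ideal.eq_top_iff_one _).2 (by simpa using sub_mem hrq hr))

end L01.FibreIso
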