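import Mathlib.RingTheory.Artinian.Module
import Mathlib.RingTheory.Idempotents
import Mathlib.Dynamics.Newton
import Mathlib.FieldTheory.IsAlgClosed.Basic
import Mathlib.FieldTheory.Separable
import Mathlib.RingTheory.Finiteness.Basic

/-!
Finite algebras over an algebraically closed field: the reduced quotient and its unique section.
-/

set_option autoImplicit false
universe u v

namespace Groth.L01.FinAlgClosed

variable (k : Type u) [Field k] [IsAlgClosed k] (A : Type v) [CommRing A] [Algebra k A] [Module.Finite k A]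

/-- evaluation at all `k`-points -/
noncomputable abbrev ev : A →ₐ[k] ((A →ₐ[k] k) → k) := AlgHom.pi (R := k) (fun f : A →ₐ[k] k => f)

omit [IsAlgClosed k] [Module.Finite k A] in
theorem surj_point (f : A →ₐ[k] k) : Function.Surjective f := fun c => ⟨algebraMap k A c, f.commutes c⟩

omit [IsAlgClosed k] [Module.Finite k A] in
theorem point_ext {f g : A →ₐ[k] k} (h : RingHom.ker f = RingHom.ker g) : f = g := by
  refine AlgHom.ext fun a => ?_
  have h1 : a - algebraMap k A (f a) ∈ RingHom.ker f := by
    simp [RingHom.mem_ker]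
  rw [h, RingHom.mem_ker, map_sub, g.commutes, sub_eq_zero] at h1
  exact h1.symm

omit [IsAlgClosed k] in
theorem finite_points : Finite (A →ₐ[k] k) := by
  haveI : IsArtinianRing A := IsArtinianRing.of_finite k A
  exact Finite.of_injective (fun f : A →ₐ[k] k => (⟨RingHom.ker f, RingHom.ker_isMaximal_of_surjective _ (surj_point k A f)⟩ : MaximalSpectrum A))
    fun f g h => point_ext k A (congrArg MaximalSpectrum.asIdeal h)

theorem exists_point (p : Ideal A) [p.IsPrime] : ∃ f : A →ₐ[k] k, RingHom.ker f = p := by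
  haveI : Algebra.IsIntegral k (A ⧸ p) := inferInstance
  let e : k ≃ₐ[k] A ⧸ p := AlgEquiv.ofBijective (Algebra.ofId k (A ⧸ p)) IsAlgClosed.algebraMap_bijective_of_isIntegral
  refine ⟨e.symm.toAlgHom.comp (Ideal.Quotient.mkₐ k p), ?_⟩
  ext x
  rw [RingHom.mem_ker, AlgHom.comp_apply, ← Ideal.Quotient.eq_zero_iff_mem]
  exact (map_eq_zero_iff _ e.symm.injective)

theorem ker_ev : RingHom.ker (ev k A) = nilradical A := by
  ext x
  rw [RingHom.mem_ker, mem_nilradical, nilpotent_iff_mem_prime]
  constructor
  · intro h p hp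
    haveI := hp
    obtain ⟨f, hf⟩ := exists_point k A p
    rw [← hf]
    exact congrFun h f
  · intro h
    funext f
    exact h (RingHom.ker f) (RingHom.ker_isPrime _)

omit [IsAlgClosed k] in
theorem ev_surjective : Function.Surjective (ev k A) := by
  haveI := finite_points k A
  intro c
  have hf : Pairwise (Function.onFun IsCoprime fun f : A →ₐ[k] k => RingHom.ker f) := fun f g hfg => by
    refine Ideal.isCoprime_iff_sup_eq.mpr ?_
    haveI hf := RingHom.ker_isMaximal_of_surjective _ (surj_point k A f)
    haveI hg := RingHom.ker_isMaximal_of_surjective _ (surj_point k A g)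
    exact hf.coprime_of_ne hg fun h => hfg (point_ext k A h)
  obtain ⟨z, hz⟩ := Ideal.quotientInfToPiQuotient_surj hf fun f => Ideal.Quotient.mk _ (algebraMap k A (c f))
  obtain ⟨a, rfl⟩ := Ideal.Quotient.mk_surjective z
  refine ⟨a, funext fun f => ?_⟩
  have h1 := congrFun hz f
  rw [Ideal.quotientInfToPiQuotient_mk', Ideal.Quotient.eq, RingHom.mem_ker, map_sub, f.commutes, sub_eq_zero] at h1
  exact h1

open Polynomial in
/-- Two points of a reduced subalgebra differing by a nilpotent coincide. -/
theorem eq_of_isNilpotent_sub {s t : A} (hs : ∃ q : k[X], q.Separable ∧ aeval s q = 0 ∧ aeval t q = 0)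
    (h : IsNilpotent (s - t)) : s = t := by
  obtain ⟨q, ⟨a, b, hab⟩, hs0, ht0⟩ := hs
  have hu : IsUnit (aeval s (derivative q)) := by
    refine IsUnit.of_mul_eq_one_right (aeval s b) ?_
    have := congrArg (aeval s) hab
    simpa [hs0] using this
  obtain ⟨r, -, hr⟩ := Polynomial.existsUnique_nilpotent_sub_and_aeval_eq_zero (P := q) (x := s) (hs0 ▸ IsNilpotent.zero) hu
  rw [hr s ⟨by simp, hs0⟩, hr t ⟨h, ht0⟩]

open Polynomial in
/-- A separable polynomial killing a function on a finite set. -/
theorem exists_separable {ι : Type*} [Finite ι] (x : ι → k) : ∃ q : k[X], q.Separable ∧ aeval x q = 0 := by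
  classical
  cases nonempty_fintype ι
  refine ⟨∏ c ∈ Finset.univ.image x, (X - C c), separable_prod_X_sub_C_iff'.mpr fun _ _ _ _ h => h, ?_⟩
  funext i
  rw [aeval_pi_apply]
  show aeval (x i) _ = 0
  rw [map_prod]
  exact Finset.prod_eq_zero (Finset.mem_image_of_mem x (Finset.mem_univ i)) (by simp)

theorem exists_section : ∃ s : ((A →ₐ[k] k) → k) →ₐ[k] A, (ev k A).comp s = AlgHom.id k _ := by
  classical
  haveI := finite_points k A
  cases nonempty_fintype (A →ₐ[k] k)
  obtain ⟨e, he, hev⟩ := (CompleteOrthogonalIdempotents.single (fun _ : A →ₐ[k] k => k)).lift_of_isNilpotent_ker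
    (ev k A).toRingHom (fun x hx => (ker_ev k A).le hx) (fun i => ev_surjective k A _)
  let L : ((A →ₐ[k] k) → k) →ₗ[k] A := Fintype.linearCombination k e
  have hL : ∀ c, L c = ∑ i, c i • e i := fun c => Fintype.linearCombination_apply k e c
  refine ⟨AlgHom.ofLinearMap L ?_ ?_, ?_⟩
  · rw [hL]; simpa using he.complete
  · intro x y
    rw [hL, hL, hL, Finset.sum_mul_sum]
    refine Finset.sum_congr rfl fun i _ => ?_
    rw [Finset.sum_eq_single i (fun j _ hji => by rw [smul_mul_smul_comm, he.ortho (Ne.symm hji), smul_zero]) (by simp),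
      smul_mul_smul_comm, (he.idem i).eq, Pi.mul_apply]
  · refine AlgHom.ext fun c => funext fun f => ?_
    show ev k A (L c) f = c f
    rw [hL, map_sum, Finset.sum_apply]
    simp only [map_smul, Pi.smul_apply]
    rw [Finset.sum_eq_single f (fun i _ hif => ?_) (by simp)]
    · rw [show ev k A (e f) = Pi.single f 1 from congrFun hev f, Pi.single_eq_same, smul_eq_mul, mul_one]
    · rw [show ev k A (e i) = Pi.single i 1 from congrFun hev i, Pi.single_eq_of_ne (Ne.symm hif), smul_zero]

theorem section_unique (s t : ((A →ₐ[k] k) → k) →ₐ[k] A) (hs : ∀ c, ev k A (s c) = c) (ht : ∀ c, ev k A (t c) = c) :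
    s = t := by
  haveI := finite_points k A
  refine AlgHom.ext fun c => ?_
  obtain ⟨q, hq, hq0⟩ := exists_separable k c
  refine eq_of_isNilpotent_sub k A ⟨q, hq, by rw [Polynomial.aeval_algHom_apply, hq0, map_zero],
    by rw [Polynomial.aeval_algHom_apply, hq0, map_zero]⟩ ?_
  rw [← mem_nilradical, ← ker_ev k A, RingHom.mem_ker, map_sub, hs, ht, sub_self]

end Groth.L01.FinAlgClosed
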