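import Mathlib.RingTheory.Spectrum.Prime.Basic
import Mathlib.RingTheory.Localization.AtPrime.Basic
import Mathlib.RingTheory.Localization.Away.Basic

/-! Localisations at primes of rings with finite spectrum are localisations at single elements. -/

set_option autoImplicit false

namespace L01.FinSpecLoc

theorem exists_away {B : Type*} [CommRing B] [Finite (PrimeSpectrum B)] (P : Ideal B) [P.IsPrime]
    (T : Type*) [CommRing T] [Algebra B T] [IsLocalization.AtPrime T P] :
    ∃ f, f ∉ P ∧ IsLocalization.Away f T := by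
  classical
  let := Fintype.ofFinite (PrimeSpectrum B)
  choose g hg using fun Q : PrimeSpectrum B =>
    (show ∃ g, g ∉ P ∧ (¬ Q.asIdeal ≤ P → g ∈ Q.asIdeal) from by
      by_cases h : Q.asIdeal ≤ P
      · exact ⟨1, P.one_notMem, fun h' => absurd h h'⟩
      · obtain ⟨g, hgQ, hgP⟩ := Set.not_subset.1 h
        exact ⟨g, hgP, fun _ => hgQ⟩)
  refine ⟨∏ Q, g Q, ?_, ?_⟩
  · rw [Ideal.IsPrime.prod_mem_iff]
    rintro ⟨Q, -, hQ⟩
    exact (hg Q).1 hQ
  · have hle : Submonoid.powers (∏ Q, g Q) ≤ P.primeCompl := by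
      rw [Submonoid.powers_le]
      show _ ∉ P
      rw [Ideal.IsPrime.prod_mem_iff]
      rintro ⟨Q, -, hQ⟩
      exact (hg Q).1 hQ
    have hdvd : ∀ s ∈ P.primeCompl, ∃ m ∈ Submonoid.powers (∏ Q, g Q), s ∣ m := by
      intro s hs
      have h1 : (∏ Q, g Q) ∈ (Ideal.span {s}).radical := by
        rw [Ideal.radical_eq_sInf, Submodule.mem_sInf]
        rintro Q ⟨hQs, hQ⟩
        refine (hQ.prod_mem_iff).2 ⟨⟨Q, hQ⟩, Finset.mem_univ _, (hg ⟨Q, hQ⟩).2 fun h => hs ?_⟩
        exact h (hQs (Ideal.mem_span_singleton_self s))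
      obtain ⟨n, hn⟩ := h1
      exact ⟨_, ⟨n, rfl⟩, Ideal.mem_span_singleton.1 hn⟩
    exact (IsLocalization.iff_of_le_of_exists_dvd (Submonoid.powers (∏ Q, g Q)) P.primeCompl hle hdvd).2
      inferInstance

end L01.FinSpecLoc
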