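import Mathlib.RingTheory.MvPowerSeries.Order
import Mathlib.RingTheory.MvPowerSeries.Substitution
import Mathlib.LinearAlgebra.Matrix.NonsingularInverse

universe u
open MvPowerSeries Finset

namespace Groth.L01.FormalInverse

variable {R : Type u} [CommRing R] {n : ℕ}

theorem exists_decomp {m : ℕ} {f : MvPowerSeries (Fin n) R} (hf : ((m + 1 : ℕ) : ℕ∞) ≤ f.order) :
    ∃ g : Fin n → MvPowerSeries (Fin n) R, f = ∑ i, X i * g i ∧ ∀ i, (m : ℕ∞) ≤ (g i).order := by
  classical
  let g : Fin n → MvPowerSeries (Fin n) R := fun i d =>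
    if ∀ j < i, d j = 0 then coeff (d + Finsupp.single i 1) f else 0
  refine ⟨g, ?_, fun i => nat_le_order fun d hd => ?_⟩
  · ext d
    have hsum : ∀ i, coeff d (X i * g i) = if 1 ≤ d i ∧ ∀ j < i, d j = 0 then coeff d f else 0 := by
      intro i
      rw [MvPowerSeries.X, coeff_monomial_mul, one_mul]
      by_cases h : 1 ≤ d i
      · rw [if_pos (Finsupp.single_le_iff.mpr h)]
        change (if ∀ j < i, (d - Finsupp.single i 1 : Fin n →₀ ℕ) j = 0 then _ else _) = _
        rw [tsub_add_cancel_of_le (Finsupp.single_le_iff.mpr h)]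
        refine if_congr ?_ rfl rfl
        simp only [h, true_and]
        refine forall₂_congr fun j hj => ?_
        simp [Finsupp.single_eq_of_ne hj.ne]
      · rw [if_neg (by simpa [Finsupp.single_le_iff] using h), if_neg (by tauto)]
    rw [map_sum, Finset.sum_congr rfl fun i _ => hsum i]
    rcases eq_or_ne d 0 with rfl | hd
    · rw [coeff_of_lt_order (lt_of_lt_of_le (by simp) hf), Finset.sum_eq_zero]
      simp
    · have hne : d.support.Nonempty := Finsupp.support_nonempty_iff.mpr hd
      set i₀ := d.support.min' hne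
      have h1 : 1 ≤ d i₀ := Nat.one_le_iff_ne_zero.mpr (Finsupp.mem_support_iff.mp (d.support.min'_mem hne))
      have h2 : ∀ j < i₀, d j = 0 := fun j hj => by
        by_contra h
        exact absurd (d.support.min'_le j (Finsupp.mem_support_iff.mpr h)) (not_le.mpr hj)
      rw [Finset.sum_eq_single i₀ (fun i _ hi => if_neg ?_) (by simp), if_pos ⟨h1, h2⟩]
      rintro ⟨h, h'⟩
      rcases lt_or_gt_of_ne hi with hlt | hgt
      · have := h2 i hlt; omega
      · have := h' i₀ hgt; omega
  · change (if _ then _ else _) = _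
    split_ifs
    · refine coeff_of_lt_order (lt_of_lt_of_le ?_ hf)
      rw [map_add, Finsupp.degree_single]
      exact_mod_cast Nat.add_lt_add_right hd 1
    · rfl

variable (φ : MvPowerSeries (Fin n) R →ₐ[R] MvPowerSeries (Fin n) R)

theorem order_map (h0 : ∀ i, constantCoeff (φ (X i)) = 0) :
    ∀ (m : ℕ) (f : MvPowerSeries (Fin n) R), (m : ℕ∞) ≤ f.order → (m : ℕ∞) ≤ (φ f).order
  | 0, _, _ => by simp
  | m + 1, f, hf => by
    obtain ⟨g, rfl, hg⟩ := exists_decomp hf
    rw [map_sum]
    refine nat_le_order fun d hd => ?_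
    rw [map_sum]
    refine Finset.sum_eq_zero fun i _ => ?_
    rw [map_mul]
    refine coeff_of_lt_order (lt_of_lt_of_le ?_ le_order_mul)
    refine lt_of_lt_of_le (Nat.cast_lt.mpr hd) ?_
    rw [Nat.cast_add, add_comm, Nat.cast_one]
    exact add_le_add (one_le_order_iff_constCoeff_eq_zero.mpr (h0 i)) (order_map h0 m _ (hg i))

theorem order_sum_le {ι : Type*} (s : Finset ι) (f : ι → MvPowerSeries (Fin n) R) (m : ℕ∞)
    (h : ∀ i ∈ s, m ≤ (f i).order) : m ≤ (∑ i ∈ s, f i).order := by
  classical
  induction s using Finset.induction_on with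
  | empty => simp
  | insert a s ha ih =>
    rw [Finset.sum_insert ha]
    exact (le_min (h a (mem_insert_self a s)) (ih fun i hi => h i (mem_insert_of_mem hi))).trans min_order_le_add

theorem order_perturb (h : ∀ i, 2 ≤ (φ (X i) - X i).order) :
    ∀ (m : ℕ) (f : MvPowerSeries (Fin n) R), (m : ℕ∞) ≤ f.order → ((m + 1 : ℕ) : ℕ∞) ≤ (φ f - f).order := by
  have h0 : ∀ i, constantCoeff (φ (X i)) = 0 := fun i => by
    have := one_le_order_iff_constCoeff_eq_zero.mp (le_trans (by norm_num) (h i))
    simpa using this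
  intro m
  induction m with
  | zero =>
    intro f _
    rw [Nat.cast_add, Nat.cast_zero, Nat.cast_one, zero_add]
    have h1 : 1 ≤ (f - algebraMap R _ (constantCoeff f)).order :=
      one_le_order_iff_constCoeff_eq_zero.mpr (by simp [algebraMap_apply])
    have h2 := order_map φ h0 1 _ (by exact_mod_cast h1)
    rw [map_sub, AlgHom.commutes] at h2
    rw [show φ f - f = (φ f - algebraMap R _ (constantCoeff f)) + -(f - algebraMap R _ (constantCoeff f)) by abel]
    exact (le_min (by exact_mod_cast h2) (by rwa [order_neg])).trans min_order_le_add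
  | succ m ih =>
    intro f hf
    obtain ⟨g, rfl, hg⟩ := exists_decomp hf
    rw [map_sum, ← Finset.sum_sub_distrib]
    refine order_sum_le _ _ _ fun i _ => ?_
    rw [map_mul, show φ (X i) * φ (g i) - X i * g i = (φ (X i) - X i) * φ (g i) + X i * (φ (g i) - g i) by ring]
    refine (le_min ?_ ?_).trans min_order_le_add
    · refine le_trans ?_ le_order_mul
      refine le_trans ?_ (add_le_add (h i) (order_map φ h0 m _ (hg i)))
      norm_cast
      omega
    · refine le_trans ?_ le_order_mul
      refine le_trans ?_ (add_le_add (one_le_order_iff_constCoeff_eq_zero.mpr (constantCoeff_X i)) (ih _ (hg i)))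
      norm_cast
      omega

theorem eq_zero_of_order {f : MvPowerSeries (Fin n) R} (h : ∀ m : ℕ, (m : ℕ∞) ≤ f.order) : f = 0 :=
  order_eq_top_iff.mp (ENat.eq_top_iff_forall_ge.mpr h)

theorem bijective_of_perturb (h : ∀ i, 2 ≤ (φ (X i) - X i).order) : Function.Bijective φ := by
  have h0 : ∀ i, constantCoeff (φ (X i)) = 0 := fun i => by
    have := one_le_order_iff_constCoeff_eq_zero.mp (le_trans (by norm_num) (h i))
    simpa using this
  refine ⟨(injective_iff_map_eq_zero φ).mpr fun f hf => eq_zero_of_order fun m => ?_, fun g => ?_⟩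
  · induction m with
    | zero => simp
    | succ m ih => simpa [hf, order_neg] using order_perturb φ h m f ih
  · let e : ℕ → MvPowerSeries (Fin n) R := fun m => (fun x => x - φ x)^[m] g
    have he : ∀ m : ℕ, (m : ℕ∞) ≤ (e m).order := fun m => by
      induction m with
      | zero => simp
      | succ m ih =>
        rw [show e (m + 1) = e m - φ (e m) from Function.iterate_succ_apply' _ m g, ← order_neg, neg_sub]
        exact order_perturb φ h m _ ih
    let s : MvPowerSeries (Fin n) R := fun d => ∑ m ∈ range (Finsupp.degree d + 1), coeff d (e m)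
    have hs : ∀ m : ℕ, (m : ℕ∞) ≤ (s - ∑ k ∈ range m, e k).order := fun m => nat_le_order fun d hd => by
      rw [map_sub, map_sum, sub_eq_zero]
      change (∑ k ∈ range (Finsupp.degree d + 1), coeff d (e k)) = _
      refine Finset.sum_subset (range_mono hd) fun k _ hk => ?_
      refine coeff_of_lt_order (lt_of_lt_of_le (Nat.cast_lt.mpr ?_) (he k))
      simp only [mem_range, not_lt] at hk
      omega
    refine ⟨s, (sub_eq_zero.mp (eq_zero_of_order fun m => ?_)).symm⟩
    have hp : g - φ (∑ k ∈ range m, e k) = e m := by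
      induction m with
      | zero => simp [e]
      | succ m ih =>
        rw [Finset.sum_range_succ, map_add, ← sub_sub, ih]
        exact (Function.iterate_succ_apply' (fun x => x - φ x) m g).symm
    rw [show g - φ s = (g - φ (∑ k ∈ range m, e k)) + -φ (s - ∑ k ∈ range m, e k) by rw [map_sub]; abel, hp]
    exact (le_min (he m) ((order_map φ h0 m _ (hs m)).trans (order_neg _).ge)).trans min_order_le_add

theorem sum_smul_X_eq {A B : Matrix (Fin n) (Fin n) R} (h : A * B = 1) (i : Fin n) :
    ∑ j, A i j • ∑ k, B j k • (X k : MvPowerSeries (Fin n) R) = X i := by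
  simp_rw [Finset.smul_sum, smul_smul]
  rw [Finset.sum_comm]
  simp_rw [← Finset.sum_smul, ← Matrix.mul_apply, h]
  simp [Matrix.one_apply]

theorem bijective_of_isUnit_det (h0 : ∀ i, constantCoeff (φ (X i)) = 0)
    (hJ : IsUnit (Matrix.det (Matrix.of fun i j : Fin n => coeff (Finsupp.single j 1) (φ (X i))))) :
    Function.Bijective φ := by
  classical
  set J : Matrix (Fin n) (Fin n) R := Matrix.of fun i j : Fin n => coeff (Finsupp.single j 1) (φ (X i))
  let a : Fin n → MvPowerSeries (Fin n) R := fun i => ∑ j, J⁻¹ i j • X j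
  have ha : ∀ i, constantCoeff (a i) = 0 := fun i => by simp [a]
  let ψ := substAlgHom (R := R) (hasSubst_of_constantCoeff_zero ha)
  have hψ : ∀ i, ψ (X i) = a i := substAlgHom_X _
  have hr : ∀ i, 2 ≤ (φ (X i) - ∑ j, J i j • X j).order := fun i => by
    refine nat_le_order fun d hd => ?_
    rw [map_sub, map_sum]
    rcases Nat.lt_succ_iff.mp hd |>.eq_or_lt with hd1 | hd1
    · obtain ⟨k, hk⟩ : ∃ k, d = Finsupp.single k 1 := by
        obtain ⟨k, hk⟩ : ∃ k, d k ≠ 0 := by
          by_contra! h
          rw [show d = 0 from Finsupp.ext h, map_zero] at hd1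
          exact absurd hd1 zero_ne_one
        refine ⟨k, ?_⟩
        have hle : Finsupp.single k 1 ≤ d := Finsupp.single_le_iff.mpr (Nat.one_le_iff_ne_zero.mpr hk)
        obtain ⟨e, rfl⟩ := le_iff_exists_add.mp hle
        rw [map_add, Finsupp.degree_single, add_eq_left, Finsupp.degree_eq_zero_iff] at hd1
        rw [hd1, add_zero]
      subst hk
      simp [coeff_X, Finsupp.single_left_inj one_ne_zero, J]
    · obtain rfl := (Finsupp.degree_eq_zero_iff d).mp (Nat.lt_one_iff.mp hd1)
      simp [h0]
  have hA : J⁻¹ * J = 1 := Matrix.nonsing_inv_mul J hJ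
  have hB : J * J⁻¹ = 1 := Matrix.mul_nonsing_inv J hJ
  have h1 : Function.Bijective (φ.comp ψ) := bijective_of_perturb _ fun i => by
    have : (φ.comp ψ) (X i) - X i = ∑ j, J⁻¹ i j • (φ (X j) - ∑ k, J j k • X k) := by
      rw [AlgHom.comp_apply, hψ]
      simp only [a, map_sum, map_smul, smul_sub, Finset.sum_sub_distrib, sum_smul_X_eq hA]
    rw [this]
    exact order_sum_le _ _ _ fun j _ => (hr j).trans le_order_smul
  have h2 : Function.Bijective (ψ.comp φ) := bijective_of_perturb _ fun i => by
    have : (ψ.comp φ) (X i) - X i = ψ (φ (X i) - ∑ j, J i j • X j) := by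
      rw [AlgHom.comp_apply, map_sub, map_sum]
      simp only [map_smul, hψ, a, sum_smul_X_eq hB]
    rw [this]
    exact order_map ψ (fun j => by rw [hψ]; exact ha j) 2 _ (hr i)
  exact ⟨Function.Injective.of_comp (f := ψ) h2.1, Function.Surjective.of_comp (g := ψ) h1.2⟩

end Groth.L01.FormalInverse
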