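import Mathlib.RingTheory.Spectrum.Prime.Topology
import Mathlib.RingTheory.LocalRing.ResidueField.Ideal
import Mathlib.RingTheory.IntegralClosure.IsIntegralClosure.Basic
import Mathlib.FieldTheory.IsAlgClosed.AlgebraicClosure
import Mathlib.FieldTheory.IsAlgClosed.Basic
import Mathlib.RingTheory.Adjoin.Basic
import Mathlib.RingTheory.Ideal.GoingUp

/-!
Spectra of algebras generated by elements on which field valued points are determined by the base.
-/

set_option autoImplicit false
universe u

namespace Groth.L01.GenHomeo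

variable {R S : Type u} [CommRing R] [CommRing S] [Algebra R S]

theorem algHom_ext_of_agree {G : Set S} (hG : Algebra.adjoin R G = ⊤) {K : Type u} [Field K] (f g : S →+* K)
    (hR : f.comp (algebraMap R S) = g.comp (algebraMap R S)) (hx : ∀ x ∈ G, f x = g x) : f = g := by
  refine RingHom.ext fun s => ?_
  have hs : s ∈ Algebra.adjoin R G := hG ▸ Algebra.mem_top
  induction hs using Algebra.adjoin_induction with
  | mem x hx' => exact hx x hx'
  | algebraMap r => exact RingHom.congr_fun hR r
  | add a b _ _ ha hb => rw [map_add, map_add, ha, hb]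
  | mul a b _ _ ha hb => rw [map_mul, map_mul, ha, hb]

theorem isIntegral_of_gen {G : Set S} (hG : Algebra.adjoin R G = ⊤) (hint : ∀ x ∈ G, IsIntegral R x) :
    Algebra.IsIntegral R S := by
  refine ⟨fun s => ?_⟩
  have hs : s ∈ Algebra.adjoin R G := hG ▸ Algebra.mem_top
  induction hs using Algebra.adjoin_induction with
  | mem x hx => exact hint x hx
  | algebraMap r => exact isIntegral_algebraMap
  | add a b _ _ ha hb => exact ha.add hb
  | mul a b _ _ ha hb => exact ha.mul hb

theorem isHomeomorph_comap {G : Set S} (hG : Algebra.adjoin R G = ⊤) (hint : ∀ x ∈ G, IsIntegral R x)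
    (hker : ∀ r : R, algebraMap R S r = 0 → IsNilpotent r)
    (hagree : ∀ x ∈ G, ∀ (K : Type u) [Field K] (f g : S →+* K),
      f.comp (algebraMap R S) = g.comp (algebraMap R S) → f x = g x) :
    IsHomeomorph (PrimeSpectrum.comap (algebraMap R S)) := by
  haveI := isIntegral_of_gen hG hint
  have hclosed : IsClosedMap (PrimeSpectrum.comap (algebraMap R S)) :=
    PrimeSpectrum.isClosedMap_comap_of_isIntegral _ (algebraMap_isIntegral_iff.mpr inferInstance)
  refine isHomeomorph_iff_continuous_isClosedMap_bijective.mpr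
    ⟨PrimeSpectrum.continuous_comap _, hclosed, ?_, ?_⟩
  · intro q q' hqq
    let p := PrimeSpectrum.comap (algebraMap R S) q
    haveI : q.asIdeal.LiesOver p.asIdeal := ⟨rfl⟩
    haveI : q'.asIdeal.LiesOver p.asIdeal := ⟨congrArg PrimeSpectrum.asIdeal hqq⟩
    let a : R →+* q.asIdeal.ResidueField := (algebraMap S _).comp (algebraMap R S)
    let a' : R →+* q'.asIdeal.ResidueField := (algebraMap S _).comp (algebraMap R S)
    let i : p.asIdeal.ResidueField →+* q.asIdeal.ResidueField := Ideal.ResidueField.map p.asIdeal q.asIdeal (algebraMap R S) rfl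
    let i' : p.asIdeal.ResidueField →+* q'.asIdeal.ResidueField :=
      Ideal.ResidueField.map p.asIdeal q'.asIdeal (algebraMap R S) (congrArg PrimeSpectrum.asIdeal hqq)
    letI := i.toAlgebra
    letI := i'.toAlgebra
    let Ω := AlgebraicClosure p.asIdeal.ResidueField
    have halg : ∀ (r : PrimeSpectrum S) (j : p.asIdeal.ResidueField →+* r.asIdeal.ResidueField),
        (∀ x, j (algebraMap R _ x) = algebraMap S _ (algebraMap R S x)) →
        ∀ z, j.IsIntegralElem z := by
      intro r j hj z
      letI := j.toAlgebra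
      have hS : ∀ s : S, IsIntegral p.asIdeal.ResidueField (algebraMap S r.asIdeal.ResidueField s) := by
        intro s
        obtain ⟨P, hP, hP0⟩ := Algebra.IsIntegral.isIntegral (R := R) s
        refine ⟨P.map (algebraMap R _), hP.map _, ?_⟩
        rw [Polynomial.eval₂_map, show (algebraMap p.asIdeal.ResidueField r.asIdeal.ResidueField).comp (algebraMap R _) =
          (algebraMap S r.asIdeal.ResidueField).comp (algebraMap R S) from RingHom.ext hj, ← Polynomial.hom_eval₂, hP0, map_zero]
      obtain ⟨b, c, hc, rfl⟩ := IsFractionRing.div_surjective (A := S ⧸ r.asIdeal) z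
      obtain ⟨b, rfl⟩ := Ideal.Quotient.mk_surjective b
      obtain ⟨d, rfl⟩ := Ideal.Quotient.mk_surjective c
      show IsIntegral p.asIdeal.ResidueField _
      exact ((hS b).isAlgebraic.mul (hS d).isAlgebraic.inv).isIntegral
    haveI : Algebra.IsAlgebraic p.asIdeal.ResidueField q.asIdeal.ResidueField :=
      ⟨fun z => IsIntegral.isAlgebraic (halg q i (fun x => Ideal.ResidueField.map_algebraMap _ _ _ _ x) z)⟩
    haveI : Algebra.IsAlgebraic p.asIdeal.ResidueField q'.asIdeal.ResidueField :=
      ⟨fun z => IsIntegral.isAlgebraic (halg q' i' (fun x => Ideal.ResidueField.map_algebraMap _ _ _ _ x) z)⟩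
    let f : q.asIdeal.ResidueField →ₐ[p.asIdeal.ResidueField] Ω := IsAlgClosed.lift
    let f' : q'.asIdeal.ResidueField →ₐ[p.asIdeal.ResidueField] Ω := IsAlgClosed.lift
    have hcomp : (f.toRingHom.comp (algebraMap S _)).comp (algebraMap R S) =
        (f'.toRingHom.comp (algebraMap S _)).comp (algebraMap R S) := by
      refine RingHom.ext fun r => ?_
      show f (algebraMap S _ (algebraMap R S r)) = f' (algebraMap S _ (algebraMap R S r))
      rw [← Ideal.ResidueField.map_algebraMap p.asIdeal q.asIdeal (algebraMap R S) rfl,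
        ← Ideal.ResidueField.map_algebraMap p.asIdeal q'.asIdeal (algebraMap R S) (congrArg PrimeSpectrum.asIdeal hqq)]
      exact (f.commutes _).trans (f'.commutes _).symm
    have heq := algHom_ext_of_agree hG _ _ hcomp fun x hx => hagree x hx Ω _ _ hcomp
    refine PrimeSpectrum.ext (Ideal.ext fun s => ?_)
    rw [← Ideal.algebraMap_residueField_eq_zero, ← map_eq_zero_iff f.toRingHom f.toRingHom.injective,
      ← Ideal.algebraMap_residueField_eq_zero (I := q'.asIdeal), ← map_eq_zero_iff f'.toRingHom f'.toRingHom.injective]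
    exact Eq.congr_left (RingHom.congr_fun heq s)
  · intro p
    have hk : RingHom.ker (algebraMap R S) ≤ p.asIdeal := fun r hr => by
      obtain ⟨n, hn⟩ := hker r hr
      exact p.isPrime.mem_of_pow_mem n (hn ▸ p.asIdeal.zero_mem)
    obtain ⟨Q, -, hQ, hQp⟩ := Ideal.exists_ideal_over_prime_of_isIntegral (S := S) p.asIdeal (⊥ : Ideal S)
      (by rwa [← RingHom.ker_eq_comap_bot])
    exact ⟨⟨Q, hQ⟩, PrimeSpectrum.ext hQp⟩

end Groth.L01.GenHomeo
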