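import Groth.Prelude.Def_W4c2ratsingkovacsGH
import Mathlib.RingTheory.GradedAlgebra.Noetherian
import Mathlib.RingTheory.GradedAlgebra.Homogeneous.Ideal
import Mathlib.RingTheory.Ideal.KrullsHeightTheorem
import Mathlib.RingTheory.Ideal.MinimalPrime.Localization
import Mathlib.RingTheory.Ideal.MinimalPrime.Noetherian

/-!
Heights of homogeneous localizations `J_(f)` of ideals spanned by homogeneous elements.
-/

noncomputable section

namespace Groth.L01.GeomHeight

open HomogeneousLocalization W4c2ratsingkovacs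

universe u v

variable {R : Type u} {A : Type v} [CommRing R] [CommRing A] [Algebra R A]
variable (𝒜 : ℕ → Submodule R A) [GradedRing 𝒜] {f : A} {d : ℕ} (hf : f ∈ 𝒜 d)

local notation "F" => Localization.Away f
local notation "ι" => algebraMap (HomogeneousLocalization.Away 𝒜 f) (Localization.Away f)

/-- The fraction `a_(k d) / f^k`. -/
def comp (k : ℕ) (a : A) : HomogeneousLocalization.Away 𝒜 f :=
  Away.mk 𝒜 hf k (DirectSum.decompose 𝒜 a (k • d)) (SetLike.coe_mem _)

theorem iota_mk_mul (k : ℕ) (a : A) (ha : a ∈ 𝒜 (k • d)) :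
    ι (Away.mk 𝒜 hf k a ha) * algebraMap A F (f ^ k) = algebraMap A F a := by
  rw [HomogeneousLocalization.algebraMap_apply, Away.val_mk, Localization.mk_eq_mk', ← IsLocalization.mk'_spec F a
    (⟨f ^ k, k, rfl⟩ : Submonoid.powers f)]

theorem unit_pow (k : ℕ) : IsUnit (algebraMap A F (f ^ k)) :=
  IsLocalization.map_units F (⟨f ^ k, k, rfl⟩ : Submonoid.powers f)

theorem iota_inj : Function.Injective ι := fun x y h => by
  rw [HomogeneousLocalization.algebraMap_apply, HomogeneousLocalization.algebraMap_apply] at h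
  exact val_injective _ h

theorem comp_add (k : ℕ) (a b : A) : comp 𝒜 hf k (a + b) = comp 𝒜 hf k a + comp 𝒜 hf k b := by
  apply iota_inj 𝒜
  rw [map_add]
  apply (unit_pow (f := f) k).mul_left_injective
  simp only [add_mul, comp, iota_mk_mul]
  simp [DirectSum.decompose_add]

theorem comp_zero (k : ℕ) : comp 𝒜 hf k 0 = 0 := by
  apply iota_inj 𝒜
  rw [map_zero]
  apply (unit_pow (f := f) k).mul_left_injective
  simp only [comp, iota_mk_mul, zero_mul]
  simp

theorem comp_of_mem (k : ℕ) (a : A) (ha : a ∈ 𝒜 (k • d)) :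
    comp 𝒜 hf k a = Away.mk 𝒜 hf k a ha := by
  simp only [comp, DirectSum.decompose_of_mem_same 𝒜 ha]

theorem comp_shift (k l : ℕ) (a : A) :
    comp 𝒜 hf (k + l) (a * f ^ l) = comp 𝒜 hf k a := by
  apply iota_inj 𝒜
  apply (unit_pow (f := f) (k + l)).mul_left_injective
  simp only [comp, iota_mk_mul]
  rw [DirectSum.coe_decompose_mul_of_right_mem_of_le 𝒜 (SetLike.pow_mem_graded l hf)
    (by simp [add_mul]), show (k + l) • d - l • d = k • d by simp [add_mul], pow_add, map_mul, map_mul _ (f ^ k),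
    ← mul_assoc, iota_mk_mul]

theorem comp_eq_of_mul_eq {x : HomogeneousLocalization.Away 𝒜 f} {k : ℕ} {a : A}
    (h : ι x * algebraMap A F (f ^ k) = algebraMap A F a) : x = comp 𝒜 hf k a := by
  obtain ⟨m, b, hb, rfl⟩ := Away.mk_surjective 𝒜 hf x
  have h1 : algebraMap A F (b * f ^ k) = algebraMap A F (a * f ^ m) := by
    rw [map_mul, map_mul, ← h, ← iota_mk_mul 𝒜 hf m b hb]
    ring
  obtain ⟨⟨-, t, rfl⟩, ht⟩ := (IsLocalization.eq_iff_exists (Submonoid.powers f) F).mp h1
  simp only at ht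
  rw [← comp_shift 𝒜 hf k (m + t) a, ← comp_of_mem 𝒜 hf m b hb, ← comp_shift 𝒜 hf m (k + t) b]
  rw [show m + (k + t) = k + (m + t) by ring]
  congr 1
  rw [pow_add, pow_add]
  linear_combination ht

include hf in
theorem comap_map_eq (I : Ideal (HomogeneousLocalization.Away 𝒜 f)) : (I.map ι).comap ι = I := by
  refine le_antisymm (fun x hx => ?_) Ideal.le_comap_map
  suffices H : ∀ y ∈ I.map ι, ∀ c : F, ∃ k a,
      c * y * algebraMap A F (f ^ k) = algebraMap A F a ∧ comp 𝒜 hf k a ∈ I by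
    obtain ⟨k, a, h1, h2⟩ := H _ hx 1
    rw [one_mul] at h1
    rwa [comp_eq_of_mul_eq 𝒜 hf h1]
  intro y hy
  rw [Ideal.map] at hy
  induction hy using Submodule.span_induction with
  | mem y hy =>
    obtain ⟨z, hz, rfl⟩ := hy
    intro c
    obtain ⟨m, b, hb, rfl⟩ := Away.mk_surjective 𝒜 hf z
    obtain ⟨⟨a, ⟨-, k, rfl⟩⟩, hc⟩ := IsLocalization.surj (Submonoid.powers f) c
    simp only at hc
    refine ⟨k + m, a * b, ?_, ?_⟩
    · rw [pow_add, map_mul, map_mul, ← hc, ← iota_mk_mul 𝒜 hf m b hb]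
      ring
    · suffices comp 𝒜 hf (k + m) (a * b) = comp 𝒜 hf k a * Away.mk 𝒜 hf m b hb by
        rw [this]; exact I.mul_mem_left _ hz
      apply iota_inj 𝒜
      apply (unit_pow (f := f) (k + m)).mul_left_injective
      simp only [comp, iota_mk_mul]
      rw [DirectSum.coe_decompose_mul_of_right_mem_of_le 𝒜 hb (by simp [add_mul]), map_mul, map_mul,
        show (k + m) • d - m • d = k • d by simp [add_mul],
        pow_add, map_mul, mul_mul_mul_comm, iota_mk_mul, iota_mk_mul]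
  | zero => intro c; exact ⟨0, 0, by simp, by simp [comp_zero]⟩
  | add y z _ _ hy hz =>
    intro c
    obtain ⟨k, a, h1, h2⟩ := hy c
    obtain ⟨l, b, h3, h4⟩ := hz c
    refine ⟨k + l, a * f ^ l + b * f ^ k, ?_, ?_⟩
    · rw [map_add, map_mul _ a, map_mul _ b, ← h1, ← h3, pow_add, map_mul]
      ring
    · rw [comp_add]
      exact add_mem (by rwa [comp_shift]) (by rw [add_comm k l, comp_shift]; exact h4)
  | smul r y _ hy =>
    intro c
    obtain ⟨k, a, h1, h2⟩ := hy (c * r)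
    exact ⟨k, a, by rw [← h1, smul_eq_mul, mul_assoc c r y], h2⟩

include hf in
theorem isNoetherianRing [IsNoetherianRing A] :
    IsNoetherianRing (HomogeneousLocalization.Away 𝒜 f) := by
  haveI : IsNoetherianRing F := IsLocalization.isNoetherianRing (Submonoid.powers f) F ‹_›
  have hmono : StrictMono fun I : Ideal (HomogeneousLocalization.Away 𝒜 f) => I.map ι :=
    Monotone.strictMono_of_injective (fun I J h => Ideal.map_mono h)
      (Function.LeftInverse.injective (g := Ideal.comap ι) (comap_map_eq 𝒜 hf))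
  haveI : WellFoundedGT (Ideal (HomogeneousLocalization.Away 𝒜 f)) :=
    hmono.wellFoundedGT
  exact isNoetherianRing_iff.mpr (isNoetherian_iff'.mpr ‹_›)

include hf in
theorem locIdeal_ne_top {I : Ideal A} (h : f ∉ I.radical) : locIdeal 𝒜 I f ≠ ⊤ := by
  intro htop
  rw [Ideal.eq_top_iff_one, locIdeal, Ideal.mem_comap, map_one,
    ← (algebraMap A F).map_one, IsLocalization.algebraMap_mem_map_algebraMap_iff (Submonoid.powers f)] at htop
  obtain ⟨-, ⟨k, rfl⟩, hk⟩ := htop
  exact h ⟨k, by simpa using hk⟩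

theorem locIdeal_mono {I J : Ideal A} (h : I ≤ J) : locIdeal 𝒜 I f ≤ locIdeal 𝒜 J f :=
  Ideal.comap_mono (Ideal.map_mono h)

/-- `z^d / f^e` for `z` homogeneous of degree `e`. -/
def frac {e : ℕ} {z : A} (hz : z ∈ 𝒜 e) : HomogeneousLocalization.Away 𝒜 f :=
  Away.mk 𝒜 hf e (z ^ d) (by
    have := SetLike.pow_mem_graded d hz
    rwa [smul_eq_mul, mul_comm, ← smul_eq_mul] at this)

theorem frac_mem {e : ℕ} {z : A} (hz : z ∈ 𝒜 e) (hd : 0 < d) {I : Ideal A} (hzI : z ∈ I) :
    frac 𝒜 hf hz ∈ locIdeal 𝒜 I f := by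
  rw [locIdeal, Ideal.mem_comap, ← Ideal.mul_unit_mem_iff_mem _ (unit_pow (f := f) e), frac,
    iota_mk_mul]
  exact Ideal.mem_map_of_mem _ (I.pow_mem_of_mem hzI d hd)

theorem mem_of_frac_mem {e : ℕ} {z : A} (hz : z ∈ 𝒜 e) {q : Ideal F} [q.IsPrime]
    (h : frac 𝒜 hf hz ∈ q.comap ι) : z ∈ q.comap (algebraMap A F) := by
  rw [Ideal.mem_comap, ← Ideal.mul_unit_mem_iff_mem _ (unit_pow (f := f) e), frac,
    iota_mk_mul] at h
  exact (Ideal.IsPrime.comap (algebraMap A F) (K := q)).mem_of_pow_mem _ (Ideal.mem_comap.mpr h)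

theorem comp_mul_eq_zero {e k : ℕ} {z : A} (hz : z ∈ 𝒜 e) (he : ¬ e ≤ k • d) (c : A) :
    comp 𝒜 hf k (c * z) = 0 := by
  apply iota_inj 𝒜
  rw [map_zero]
  apply (unit_pow (f := f) k).mul_left_injective
  simp only [comp, iota_mk_mul, zero_mul]
  rw [DirectSum.coe_decompose_mul_of_right_mem_of_not_le 𝒜 hz he, map_zero]

theorem comp_mul_pow_mem {e k : ℕ} {z : A} (hz : z ∈ 𝒜 e) (he : e ≤ k • d) (c : A)
    {I : Ideal (HomogeneousLocalization.Away 𝒜 f)} (hI : frac 𝒜 hf hz ∈ I) :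
    comp 𝒜 hf k (c * z) ^ d ∈ I := by
  have hc := SetLike.pow_mem_graded d (SetLike.coe_mem (DirectSum.decompose 𝒜 c (k • d - e)))
  have hdeg : (DirectSum.decompose 𝒜 c (k • d - e) : A) ^ d ∈ 𝒜 ((k • d - e) • d) := by
    rwa [smul_eq_mul, mul_comm, ← smul_eq_mul]
  have : comp 𝒜 hf k (c * z) ^ d =
      Away.mk 𝒜 hf (k • d - e) _ hdeg * frac 𝒜 hf hz := by
    apply iota_inj 𝒜
    apply (unit_pow (f := f) (k * d)).mul_left_injective
    simp only
    rw [map_pow, pow_mul, map_pow, ← mul_pow, comp, iota_mk_mul, ← map_pow (algebraMap A F) (f ^ k), ← pow_mul, map_mul (algebraMap (HomogeneousLocalization.Away 𝒜 f) F),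
      show k * d = (k • d - e) + e by simp at he ⊢; omega, pow_add, map_mul (algebraMap A F) (f ^ (k • d - e)), mul_mul_mul_comm, frac,
      iota_mk_mul, iota_mk_mul, DirectSum.coe_decompose_mul_of_right_mem_of_le 𝒜 hz he,
      map_mul, mul_pow, map_pow, map_pow]
  rw [this]
  exact I.mul_mem_left _ hI

include hf in
theorem height_le_of_minimal [IsNoetherianRing A] (hd : 0 < d) (S : Finset A)
    (hS : ∀ z ∈ S, ∃ e, z ∈ 𝒜 e) {P : Ideal (HomogeneousLocalization.Away 𝒜 f)}
    (hP : P ∈ (locIdeal 𝒜 (Ideal.span (S : Set A)) f).minimalPrimes) : P.height ≤ S.card := by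
  classical
  haveI := isNoetherianRing 𝒜 hf
  choose e he using hS
  set W := S.attach.image fun z => frac 𝒜 hf (he z.1 z.2) with hW
  suffices h : P ∈ (Ideal.span (W : Set _)).minimalPrimes from
    (Ideal.height_le_card_of_mem_minimalPrimes_span_finset h).trans
      (by exact_mod_cast Finset.card_image_le.trans (Finset.card_attach).le)
  have hle : Ideal.span (W : Set _) ≤ locIdeal 𝒜 (Ideal.span (S : Set A)) f := by
    rw [Ideal.span_le]
    intro w hw
    obtain ⟨z, -, rfl⟩ := Finset.mem_image.mp (hW ▸ Finset.mem_coe.mp hw)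
    exact frac_mem 𝒜 hf _ hd (Ideal.subset_span z.2)
  have hge : locIdeal 𝒜 (Ideal.span (S : Set A)) f ≤ (Ideal.span (W : Set _)).radical := by
    intro x hx
    obtain ⟨m, a, ha, rfl⟩ := Away.mk_surjective 𝒜 hf x
    rw [locIdeal, Ideal.mem_comap, ← Ideal.mul_unit_mem_iff_mem _ (unit_pow (f := f) m),
      iota_mk_mul, IsLocalization.algebraMap_mem_map_algebraMap_iff (Submonoid.powers f)] at hx
    obtain ⟨-, ⟨t, rfl⟩, ht⟩ := hx
    simp only at ht
    rw [← comp_of_mem 𝒜 hf m a ha, ← comp_shift 𝒜 hf m t, mul_comm a]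
    revert ht
    generalize f ^ t * a = u
    intro hu
    suffices H : ∀ c, comp 𝒜 hf (m + t) (c * u) ∈ (Ideal.span (W : Set _)).radical by
      simpa using H 1
    induction hu using Submodule.span_induction with
    | mem z hz =>
      intro c
      by_cases hez : e z hz ≤ (m + t) • d
      · exact ⟨d, comp_mul_pow_mem 𝒜 hf (he z hz) hez c
          (Ideal.subset_span (Finset.mem_image_of_mem _ (Finset.mem_attach _ ⟨z, hz⟩)))⟩
      · rw [comp_mul_eq_zero 𝒜 hf (he z hz) hez]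
        exact zero_mem _
    | zero => intro c; simp [comp_zero]
    | add a b _ _ ha hb => intro c; rw [mul_add, comp_add]; exact add_mem (ha c) (hb c)
    | smul r a _ ha => intro c; rw [smul_eq_mul, ← mul_assoc]; exact ha _
  refine ⟨⟨hP.isPrime, hle.trans hP.le⟩, fun q ⟨hq, hWq⟩ hqP => hP.2 ⟨hq, hge.trans ?_⟩ hqP⟩
  exact (Ideal.radical_mono hWq).trans hq.radical.le

include hf in
/-- A minimal prime of `I_(f)` is `Q_(f)` for a minimal prime `Q` of `I`. -/
theorem exists_of_minimal {I : Ideal A} {P : Ideal (HomogeneousLocalization.Away 𝒜 f)}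
    (hP : P ∈ (locIdeal 𝒜 I f).minimalPrimes) :
    ∃ (q : Ideal F), q.IsPrime ∧ P = q.comap ι ∧ q.comap (algebraMap A F) ∈ I.minimalPrimes ∧
      f ∉ q.comap (algebraMap A F) ∧ P = locIdeal 𝒜 (q.comap (algebraMap A F)) f := by
  obtain ⟨q₀, hq₀, hle, rfl⟩ := Ideal.exists_comap_eq_of_mem_minimalPrimes ι P hP
  haveI := hq₀
  obtain ⟨q, hq, hqle⟩ := Ideal.exists_minimalPrimes_le hle
  haveI := hq.isPrime
  have heq : q₀.comap ι = q.comap ι :=
    le_antisymm (hP.2 ⟨hq.isPrime.comap _, Ideal.comap_mono hq.le⟩ (Ideal.comap_mono hqle))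
      (Ideal.comap_mono hqle)
  refine ⟨q, hq.isPrime, heq, ?_, fun hfq => hq.isPrime.ne_top ?_, ?_⟩
  · rw [IsLocalization.minimalPrimes_map (Submonoid.powers f) F I] at hq
    exact hq
  · exact Ideal.eq_top_of_isUnit_mem _ (Ideal.mem_comap.mp hfq)
      (IsLocalization.map_units F (⟨f, Submonoid.mem_powers f⟩ : Submonoid.powers f))
  · rw [heq, locIdeal, IsLocalization.map_comap (Submonoid.powers f) F]

end Groth.L01.GeomHeight
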