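import Groth.Agent.L29.Dual.GorensteinRing
import Groth.Agent.L04.Depth2
import Mathlib.Algebra.Category.ModuleCat.Ext.Finite
import Mathlib.RingTheory.Regular.Category

/-!
`Ext` into a Gorenstein local ring of modules of maximal depth.
-/

set_option autoImplicit false
universe u

open CategoryTheory CategoryTheory.Abelian IsLocalRing RingTheory.Sequence
open scoped Pointwise

attribute [local instance] HasDerivedCategory.standard

set_option backward.isDefEq.respectTransparency false

namespace Groth.L01.GorExt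

variable {A : Type u} [CommRing A]

/-- `Ext` into a Gorenstein local ring vanishes above the dimension. -/
theorem subsingleton_ext_above [LocCoh.IsGorensteinLocalRing A] {n : ℕ} (hn : ringKrullDim A = n)
    (N : Type u) [AddCommGroup N] [Module A N] [Module.Finite A N] {i : ℕ} (hi : n + 1 ≤ i) :
    Subsingleton (Ext (ModuleCat.of A N) (ModuleCat.of A A) i) := by
  obtain ⟨-, hnorm⟩ := Groth.L29.Gorenstein.exists_normalized_self (A := A) n hn
  refine Groth.L29.Gorenstein.subsingleton_ext_of_residueField (ModuleCat.of A A) (n + 1) (fun j hj => ?_) n N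
    ((Module.supportDim_le_ringKrullDim _ _).trans hn.le) i hi
  haveI := hnorm ((j : ℤ) - n) (by omega)
  haveI : Subsingleton (Dual.inD A (ResidueField A) ⟶ (Dual.inD A A)⟦(j : ℤ)⟧) :=
    (Groth.L29.HomD.homShiftEquiv _ (Dual.inD A A) (n : ℤ) ((j : ℤ) - n) j (by omega)).symm.toEquiv.subsingleton
  exact (Ext.homEquiv (X := ModuleCat.of A (ResidueField A)) (Y := ModuleCat.of A A) (n := j)).subsingleton

theorem subsingleton_ext_of_regular [LocCoh.IsGorensteinLocalRing A] {n : ℕ} (hn : ringKrullDim A = n) :
    ∀ (rs : List A) (N : Type u) [AddCommGroup N] [Module A N] [Module.Finite A N],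
      IsWeaklyRegular N rs → (∀ r ∈ rs, r ∈ maximalIdeal A) → ∀ i : ℕ, n + 1 ≤ i + rs.length →
        Subsingleton (Ext (ModuleCat.of A N) (ModuleCat.of A A) i) := by
  intro rs
  induction rs with
  | nil => exact fun N _ _ _ _ _ i hi => subsingleton_ext_above hn N hi
  | cons y rs ih =>
    intro N _ _ _ hreg hmem i hi
    rw [isWeaklyRegular_cons_iff] at hreg
    rw [List.forall_mem_cons] at hmem
    rw [List.length_cons] at hi
    haveI := ih (QuotSMulTop y N) hreg.2 hmem.2 (i + 1) (by omega)
    have hS := IsSMulRegular.smulShortComplex_shortExact (M := ModuleCat.of A N) hreg.1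
    have htop : (⊤ : Submodule A (Ext (ModuleCat.of A N) (ModuleCat.of A A) i)) = ⊥ := by
      refine Submodule.eq_bot_of_le_smul_of_le_jacobson_bot (maximalIdeal A) _ Module.Finite.fg_top ?_
        (maximalIdeal_le_jacobson _)
      intro z _
      obtain ⟨w, hw⟩ := Ext.contravariant_sequence_exact₁ hS (ModuleCat.of A A) z (show 1 + i = i + 1 by omega)
        (Subsingleton.elim (α := Ext (ModuleCat.of A (QuotSMulTop y N)) (ModuleCat.of A A) (i + 1)) _ _)
      rw [← hw, ModuleCat.smulShortComplex_f_eq_smul_id, Ext.mk₀_smul, Ext.smul_comp]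
      exact Submodule.smul_mem_smul hmem.1 Submodule.mem_top
    exact subsingleton_of_forall_eq 0 fun z => (Submodule.mem_bot A).mp (htop.le (Submodule.mem_top (x := z)))

/-- A Cohen–Macaulay quotient of full dimension has no higher `Ext` into the ring. -/
theorem subsingleton_ext_quotient [LocCoh.IsGorensteinLocalRing A] (I : Ideal A)
    (hI : ringKrullDim (A ⧸ I) = ringKrullDim A) [LocCoh.IsCohenMacaulayLocalRing (A ⧸ I)] {i : ℕ}
    (hi : 1 ≤ i) : Subsingleton (Ext (ModuleCat.of A (A ⧸ I)) (ModuleCat.of A A) i) := by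
  obtain ⟨n, hn⟩ := Groth.L01.exists_dim_eq_nat (R := A)
  have hIt : I ≠ ⊤ := Ideal.Quotient.nontrivial_iff.mp inferInstance
  have hcm := (inferInstance : LocCoh.IsCohenMacaulayLocalRing (A ⧸ I)).supportDim_eq_depth
  rw [Module.supportDim_self_eq_ringKrullDim, hI, hn] at hcm
  have hdep : (n : ℕ∞) ≤ LocCoh.idealDepth (maximalIdeal A) (A ⧸ I) := by
    rw [Groth.L04.idealDepth_eq_idealDepth_map_of_finite (B := A ⧸ I) (maximalIdeal A) (A ⧸ I),
      show (maximalIdeal A).map (algebraMap A (A ⧸ I)) = maximalIdeal (A ⧸ I) from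
        (Groth.L01.maximalIdeal_quotient_eq_map).symm]
    exact (WithBot.coe_le_coe.mp (le_of_eq hcm))
  obtain ⟨rs, hlen, hrs, hmem⟩ := Groth.L04.exists_of_le_idealDepth (I := maximalIdeal A) (M := A ⧸ I)
    (fun h => Submodule.top_ne_ideal_smul_of_le_jacobson_annihilator
      (maximalIdeal_le_jacobson (Module.annihilator A (A ⧸ I))) h.symm) hdep
  exact subsingleton_ext_of_regular hn rs (A ⧸ I) hrs hmem i (by omega)

end Groth.L01.GorExt
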