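import Groth.Agent.L02.CountableML
import Groth.Agent.L11.Az.Hensel
import Mathlib.RingTheory.AdjoinRoot
import Mathlib.RingTheory.Artinian.Module
import Mathlib.LinearAlgebra.DFinsupp
import Mathlib.LinearAlgebra.Dimension.Finite

/-!
Over a henselian local ring, countably generated Mittag-Leffler modules are direct sums of finitely
presented submodules.
-/

universe u

open TensorProduct IsLocalRing

namespace Groth.L01.HensML

variable {R : Type u} [CommRing R]

theorem exists_idem_units [HenselianLocalRing R] {B : Type u} [CommRing B] [Algebra R B]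
    [Module.Finite R B] (a : B) :
    ∃ e u w : B, IsIdempotentElem e ∧ u * (a * e) = e ∧ w * (1 - a) = 1 - e := by
  haveI : IsArtinianRing (ResidueField R ⊗[R] B) := IsArtinianRing.of_finite (ResidueField R) _
  obtain ⟨n, y, hy⟩ := IsArtinian.exists_pow_succ_smul_dvd ((1 : ResidueField R) ⊗ₜ[R] a)
    (1 : ResidueField R ⊗[R] B)
  simp only [smul_eq_mul, mul_one] at hy
  set b : ResidueField R ⊗[R] B := (1 : ResidueField R) ⊗ₜ[R] a with hb
  have hn : ∀ j, b ^ (n + j) * y ^ j = b ^ n := fun j => by
    induction j with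
    | zero => simp
    | succ j ih =>
      calc b ^ (n + (j + 1)) * y ^ (j + 1) = (b ^ (n + 1) * y) * (b ^ j * y ^ j) := by ring
        _ = b ^ n * (b ^ j * y ^ j) := by rw [hy]
        _ = b ^ (n + j) * y ^ j := by ring
        _ = b ^ n := ih
  set ε := b ^ n * y ^ n with hε
  have hεi : IsIdempotentElem ε := by
    show ε * ε = ε
    calc ε * ε = (b ^ (n + n) * y ^ n) * y ^ n := by rw [hε]; ring
      _ = ε := by rw [hn, hε]
  have hεb : ε * b ^ n = b ^ n := by
    calc ε * b ^ n = b ^ (n + n) * y ^ n := by rw [hε]; ring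
      _ = b ^ n := hn n
  obtain ⟨e, he, he'⟩ := Groth.L11.Az.exists_idempotent_lift ε hεi
  let π : B →ₐ[R] ResidueField R ⊗[R] B := Algebra.TensorProduct.includeRight
  have hπs : Function.Surjective π := TensorProduct.mk_surjective R B _ Ideal.Quotient.mk_surjective
  have hπ : ∀ x : B, IsUnit (π x) → IsUnit x := by
    intro x hx
    rw [← Ideal.span_singleton_eq_top]
    by_contra hne
    obtain ⟨M, hM, hxM⟩ := Ideal.exists_le_maximal _ hne
    have hmM : (maximalIdeal R).map (algebraMap R B) ≤ M := by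
      refine Ideal.map_le_iff_le_comap.2 (le_of_eq (Eq.symm ?_))
      exact IsLocalRing.eq_maximalIdeal (Ideal.isMaximal_comap_of_isIntegral_of_isMaximal M)
    obtain ⟨z, hz⟩ := hx.exists_right_inv
    obtain ⟨z, rfl⟩ := hπs z
    have h0 : π (x * z - 1) = 0 := by rw [map_sub, map_mul, hz, map_one, sub_self]
    have hM' : x * z - 1 ∈ M := by
      refine hmM ?_
      have := Groth.L11.Az.mem_smul_top_of_one_tmul_eq_zero (R := R) h0
      rwa [Ideal.smul_top_eq_map] at this
    refine hM.ne_top ((Ideal.eq_top_iff_one _).2 ?_)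
    have := sub_mem (M.mul_mem_right z (hxM (Ideal.mem_span_singleton_self x))) hM'
    rwa [sub_sub_cancel] at this
  have he'' : π e = ε := he'
  have hb' : π a = b := rfl
  have hU : IsUnit (e * a + (1 - e)) := by
    refine hπ _ ?_
    rw [map_add, map_mul, map_sub, map_one, he'', hb']
    refine isUnit_iff_exists_inv.2 ⟨ε * y + (1 - ε), ?_⟩
    have h3 : ε * (b * y) = ε := by
      calc ε * (b * y) = (b ^ (n + 1) * y) * y ^ n := by rw [hε]; ring
        _ = ε := by rw [hy, hε]
    linear_combination (b * y - b - y + 1) * hεi.eq + h3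
  obtain ⟨v, hv⟩ := hU.exists_left_inv
  have hnil : IsNilpotent (π ((1 - e) * a)) := by
    refine ⟨n + 1, ?_⟩
    rw [map_mul, map_sub, map_one, he'', hb', mul_pow, hεi.one_sub.pow_succ_eq, pow_succ]
    linear_combination (-b) * hεb
  have hU' : IsUnit (1 - (1 - e) * a) := hπ _ (by
    rw [map_sub, map_one]; exact hnil.isUnit_one_sub)
  obtain ⟨v', hv'⟩ := hU'.exists_left_inv
  refine ⟨e, v * e, v' * (1 - e), he, ?_, ?_⟩
  · calc v * e * (a * e) = v * (e * a + (1 - e)) * e := by
          linear_combination v * he.eq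
      _ = e := by rw [hv, one_mul]
  · calc v' * (1 - e) * (1 - a) = v' * (1 - (1 - e) * a) * (1 - e) := by
          linear_combination (v' * a) * he.one_sub.eq
      _ = 1 - e := by rw [hv', one_mul]

/-- Fitting decomposition for an endomorphism of a finite module over a henselian local ring. -/
theorem exists_decomp [HenselianLocalRing R] {N : Type u} [AddCommGroup N] [Module R N] [Module.Finite R N]
    (a : Module.End R N) : ∃ e u w : Module.End R N,
      IsIdempotentElem e ∧ u * (a * e) = e ∧ w * (1 - a) = 1 - e := by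
  obtain ⟨χ, hχm, hχ⟩ := LinearMap.exists_monic_and_aeval_eq_zero R a
  haveI : Module.Finite R (AdjoinRoot χ) := hχm.finite_adjoinRoot
  obtain ⟨e, u, w, he, hu, hw⟩ := exists_idem_units (R := R) (AdjoinRoot.root χ)
  let φ : AdjoinRoot χ →ₐ[R] Module.End R N := Ideal.Quotient.liftₐ _ (Polynomial.aeval a) fun p hp => by
    obtain ⟨q, rfl⟩ := Ideal.mem_span_singleton'.1 hp
    rw [map_mul, hχ, mul_zero]
  have hr : φ (AdjoinRoot.root χ) = a := Polynomial.aeval_X a
  exact ⟨φ e, φ u, φ w, he.map φ, by rw [← hr, ← map_mul, ← map_mul, hu],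
    by rw [← hr, ← map_one φ, ← map_sub, ← map_mul, ← map_sub, hw]⟩

variable {M : Type u} [AddCommGroup M] [Module R M]

/-- Every map from a finitely presented module lands in a finitely presented pure submodule. -/
theorem exists_pure_fp [HenselianLocalRing R] (hML : CAlg.IsMittagLeffler R M) {N : Type u}
    [AddCommGroup N] [Module R N] [Module.FinitePresentation R N] (k : N →ₗ[R] M) (x : M) :
    ∃ P : Submodule R M, Module.FinitePresentation R P ∧ LinearMap.range k ≤ P ∧ x ∈ P ∧
      CAlgX.UniversallyInjective R P.subtype := by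
  classical
  obtain ⟨n, K, hK, k₁, v, hkv, hx, -⟩ := Groth.L02.ml_step hML k x
  haveI : Module.FinitePresentation R ((Fin n → R) ⧸ K) :=
    Module.finitePresentation_of_surjective K.mkQ K.mkQ_surjective (by rwa [Submodule.ker_mkQ])
  obtain ⟨M₂, _, _, _, f, k₂, hk₂, hf⟩ := Groth.L02.exists_dominating_factor k₁ hML
  obtain ⟨M₃, _, _, _, g, k₃, hk₃, hg⟩ := Groth.L02.exists_dominating_factor k₂ hML
  haveI : Module.FinitePresentation R (M₃ ⧸ LinearMap.range (g ∘ₗ f)) :=
    Module.finitePresentation_of_surjective _ (Submodule.mkQ_surjective _)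
      (by rw [Submodule.ker_mkQ, LinearMap.range_eq_map]; exact Module.Finite.fg_top.map _)
  obtain ⟨h, hh⟩ := Groth.L02.factors_of_ker_rTensor_le (g ∘ₗ f) f fun Q _ _ z hz => by
    rw [← hf Q, LinearMap.mem_ker, hk₂, hk₃, LinearMap.comp_assoc, LinearMap.rTensor_comp,
      LinearMap.comp_apply, LinearMap.mem_ker.1 hz, map_zero]
  obtain ⟨e, u, w, he, hu, hw⟩ := exists_decomp (h ∘ₗ g)
  have hef : e ∘ₗ f = f := LinearMap.ext fun y => by
    have h1 := LinearMap.congr_fun hw (f y)
    have h2 := LinearMap.congr_fun hh y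
    simp only [Module.End.mul_apply, LinearMap.sub_apply, Module.End.one_apply, LinearMap.comp_apply] at h1 h2 ⊢
    rw [← h2, sub_self, map_zero] at h1
    exact (sub_eq_zero.1 h1.symm).symm
  let E := LinearMap.range e
  haveI : Module.FinitePresentation R E :=
    Module.finitePresentation_of_surjective e.rangeRestrict e.surjective_rangeRestrict (by
      rw [LinearMap.ker_rangeRestrict]
      have : LinearMap.ker e = LinearMap.range (1 - e : Module.End R M₂) := by
        ext y
        refine ⟨fun hy => ⟨y, by simp [LinearMap.mem_ker.1 hy]⟩, ?_⟩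
        rintro ⟨z, rfl⟩
        have := LinearMap.congr_fun he.eq z
        simp only [Module.End.mul_apply] at this
        simp [this]
      rw [this, LinearMap.range_eq_map]
      exact Module.Finite.fg_top.map _)
  let φ : E →ₗ[R] M := k₂ ∘ₗ E.subtype
  let r : M₃ →ₗ[R] E := e.rangeRestrict ∘ₗ u ∘ₗ h
  have hr : r ∘ₗ (g ∘ₗ E.subtype) = LinearMap.id := LinearMap.ext fun y => by
    obtain ⟨z, hz⟩ := y.2
    refine Subtype.ext ?_
    show e (u (h (g (y : M₂)))) = (y : M₂)
    have hee : e (e z) = e z := LinearMap.congr_fun he.eq z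
    rw [← hz]
    have := LinearMap.congr_fun hu z
    simp only [Module.End.mul_apply, LinearMap.comp_apply] at this
    rw [this, hee]
  have hφ : CAlgX.UniversallyInjective R φ := by
    intro Q _ _
    rw [injective_iff_map_eq_zero]
    intro z hz
    have h1 : g.rTensor Q (E.subtype.rTensor Q z) = 0 := by
      rw [← LinearMap.mem_ker, ← hg Q, LinearMap.mem_ker, ← LinearMap.comp_apply, ← LinearMap.rTensor_comp]
      exact hz
    rw [← LinearMap.comp_apply, ← LinearMap.rTensor_comp] at h1
    rw [← LinearMap.id_apply (R := R) z, ← LinearMap.rTensor_id, ← hr, LinearMap.rTensor_comp,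
      LinearMap.comp_apply, h1, map_zero]
  have hφi : Function.Injective φ := by
    intro y z hyz
    refine (TensorProduct.rid R E).symm.injective (hφ R ?_)
    simp [hyz]
  have hP : ∀ y, k₁ y ∈ LinearMap.range φ := fun y => by
    refine ⟨⟨e (f y), ⟨_, rfl⟩⟩, ?_⟩
    show k₂ (e (f y)) = k₁ y
    rw [← LinearMap.comp_apply e f, hef, hk₂]
    rfl
  refine ⟨LinearMap.range φ,
    Module.finitePresentation_of_surjective (LinearEquiv.ofInjective φ hφi).toLinearMap
      (LinearEquiv.surjective _) (by simp [Submodule.fg_bot]), ?_, ?_, ?_⟩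
  · rintro _ ⟨y, rfl⟩
    rw [← hkv]
    exact hP _
  · obtain ⟨y, rfl⟩ := hx
    exact hP y
  · intro Q _ _
    have : (LinearMap.range φ).subtype = φ ∘ₗ (LinearEquiv.ofInjective φ hφi).symm.toLinearMap :=
      LinearMap.ext fun y => by
        obtain ⟨y, rfl⟩ := (LinearEquiv.ofInjective φ hφi).surjective y
        simp
    rw [this, LinearMap.rTensor_comp, LinearMap.coe_comp]
    exact (hφ Q).comp ((LinearEquiv.ofInjective φ hφi).symm.rTensor Q).injective

/-- A finitely presented pure submodule of a finitely presented pure submodule is a summand. -/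
theorem exists_complement {P P' : Submodule R M} (hle : P ≤ P') [Module.FinitePresentation R P]
    [Module.FinitePresentation R P'] (hP : CAlgX.UniversallyInjective R P.subtype) :
    ∃ C : Submodule R M, Module.FinitePresentation R C ∧ P ⊔ C = P' ∧ Disjoint P C := by
  let i := Submodule.inclusion hle
  haveI : Module.FinitePresentation R (P' ⧸ LinearMap.range i) :=
    Module.finitePresentation_of_surjective _ (Submodule.mkQ_surjective _)
      (by rw [Submodule.ker_mkQ, LinearMap.range_eq_map]; exact Module.Finite.fg_top.map _)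
  obtain ⟨r, hr⟩ := Groth.L02.factors_of_ker_rTensor_le i (LinearMap.id : P →ₗ[R] P) fun Q _ _ z hz => by
    rw [LinearMap.mem_ker] at hz ⊢
    have : P.subtype.rTensor Q z = 0 := by
      rw [show P.subtype = P'.subtype ∘ₗ i from rfl, LinearMap.rTensor_comp, LinearMap.comp_apply, hz,
        map_zero]
    rw [LinearMap.rTensor_id, LinearMap.id_apply]
    exact (injective_iff_map_eq_zero _).1 (hP Q) z this
  have hri : ∀ y, r (i y) = y := fun y => (LinearMap.congr_fun hr y).symm
  let d : P' →ₗ[R] M := P'.subtype ∘ₗ (LinearMap.id - i ∘ₗ r)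
  refine ⟨LinearMap.range d, Module.finitePresentation_of_surjective d.rangeRestrict
    d.surjective_rangeRestrict ?_, ?_, ?_⟩
  · have : LinearMap.ker d.rangeRestrict = LinearMap.range i := by
      rw [LinearMap.ker_rangeRestrict]
      ext y
      refine ⟨fun hy => ⟨r y, ?_⟩, ?_⟩
      · have : y - i (r y) = 0 := Subtype.ext (by simpa [d] using hy)
        exact (sub_eq_zero.1 this).symm
      · rintro ⟨z, rfl⟩
        simp [d, hri]
    rw [this, LinearMap.range_eq_map]
    exact Module.Finite.fg_top.map _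
  · refine le_antisymm (sup_le hle ?_) fun y hy => ?_
    · rintro _ ⟨y, rfl⟩
      exact (y - i (r y)).2
    · refine Submodule.mem_sup.2 ⟨r ⟨y, hy⟩, (r ⟨y, hy⟩).2, _, ⟨⟨y, hy⟩, rfl⟩, ?_⟩
      show (r ⟨y, hy⟩ : M) + (y - r ⟨y, hy⟩) = y
      exact add_sub_cancel _ _
  · rw [Submodule.disjoint_def]
    rintro x hx ⟨y, hy⟩
    have h1 : r (y - i (r y)) = 0 := by rw [map_sub, hri, sub_self]
    have h2 : y - i (r y) = i ⟨x, hx⟩ := Subtype.ext hy
    rw [h2, hri] at h1
    exact congrArg Subtype.val h1

theorem internal_of_tower [DecidableEq ℕ] (P C : ℕ → Submodule R M) (h0 : P 0 = ⊥)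
    (hC : ∀ n, P n ⊔ C n = P (n + 1)) (hd : ∀ n, Disjoint (P n) (C n)) (htop : ⨆ n, P n = ⊤) :
    iSupIndep C ∧ iSup C = ⊤ := by
  have hmono : Monotone P := monotone_nat_of_le_succ fun n => le_sup_left.trans (hC n).le
  have hCP : ∀ i n, i < n → C i ≤ P n := fun i n hin =>
    le_sup_right.trans ((hC i).le.trans (hmono hin))
  constructor
  · rw [iSupIndep_iff_finsetSum_eq_zero_imp_eq_zero]
    intro s
    refine Finset.induction_on_max s (by simp) fun a s has ih => ?_
    intro v hv hsum i hi
    have ha : a ∉ s := fun h => (has a h).false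
    rw [Finset.sum_insert ha] at hsum
    have hsP : ∑ j ∈ s, v j ∈ P a := Submodule.sum_mem _ fun j hj =>
      hCP j a (has j hj) (hv j (Finset.mem_insert_of_mem hj))
    have hva : v a = 0 := Submodule.disjoint_def.1 (hd a) _
      (by rw [eq_neg_of_add_eq_zero_left hsum]; exact neg_mem hsP) (hv a (Finset.mem_insert_self _ _))
    rcases Finset.mem_insert.1 hi with rfl | hi
    · exact hva
    · rw [hva, zero_add] at hsum
      exact ih v (fun j hj => hv j (Finset.mem_insert_of_mem hj)) hsum i hi
  · refine eq_top_iff.2 (htop.ge.trans (iSup_le fun n => ?_))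
    induction n with
    | zero => rw [h0]; exact bot_le
    | succ n ih => rw [← hC n]; exact sup_le ih (le_iSup C n)

theorem exists_decomposition [HenselianLocalRing R] (hc : CAlg.IsCountablyGenerated R M)
    (hML : CAlg.IsMittagLeffler R M) :
    ∃ C : ℕ → Submodule R M, iSupIndep C ∧ iSup C = ⊤ ∧ ∀ n, Module.FinitePresentation R (C n) := by
  classical
  obtain ⟨s, hs, hspan⟩ := hc
  obtain ⟨x, hx⟩ := (hs.insert 0).exists_eq_range (Set.insert_nonempty _ _)
  let T := {P : Submodule R M // Module.FinitePresentation R P ∧ CAlgX.UniversallyInjective R P.subtype}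
  have hstep : ∀ (n : ℕ) (P : T), ∃ P' : T, P.1 ≤ P'.1 ∧ x n ∈ P'.1 := fun n P => by
    haveI := P.2.1
    obtain ⟨P', h1, h2, h3, h4⟩ := exists_pure_fp hML P.1.subtype (x n)
    exact ⟨⟨P', h1, h4⟩, by rwa [Submodule.range_subtype] at h2, h3⟩
  choose next hnext hxnext using hstep
  let P₀ : T := ⟨⊥, inferInstance, fun Q _ _ => fun a b _ => Subsingleton.elim a b⟩
  let st : ℕ → T := fun n => Nat.rec P₀ (fun n P => next n P) n
  have hC : ∀ n, ∃ C : Submodule R M, Module.FinitePresentation R C ∧
      (st n).1 ⊔ C = (st (n + 1)).1 ∧ Disjoint (st n).1 C := fun n => by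
    haveI := (st n).2.1
    haveI := (st (n + 1)).2.1
    exact exists_complement (hnext n (st n)) (st n).2.2
  choose C hfp hsup hdisj using hC
  have htop : ⨆ n, (st n).1 = ⊤ := by
    refine eq_top_iff.2 (hspan.ge.trans (Submodule.span_le.2 fun b hb => ?_))
    obtain ⟨n, rfl⟩ := hx.subset (Set.mem_insert_of_mem 0 hb)
    exact le_iSup (fun n => (st n).1) (n + 1) (hxnext n _)
  obtain ⟨h1, h2⟩ := internal_of_tower (fun n => (st n).1) C rfl hsup hdisj htop
  exact ⟨C, h1, h2, hfp⟩

end Groth.L01.HensML
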