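import Mathlib.RingTheory.Henselian
import Mathlib.RingTheory.Filtration
import Mathlib.RingTheory.AdjoinRoot
import Mathlib.RingTheory.Flat.Localization
import Groth.Agent.L05.Hensel.Factor
import Groth.Agent.L05.Hensel.Perm
import Groth.Agent.L05.Hensel.Gabber
import Groth.Agent.L05.Henselization.Nbhd
import Groth.Agent.L05.Hfp.Finite

/-!
Weierstrass preparation in the henselization of `R[t]` along `(t)`, for a henselian local ring `R`.
-/

set_option autoImplicit false

open Polynomial IsLocalRing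

namespace L01.HensWeier

universe u

variable {R : Type u} [CommRing R] [HenselianLocalRing R] {B : Type u} [CommRing B] [Algebra R B]
  [Algebra R[X] B] [IsScalarTower R R[X] B]

local notation "𝔪" => IsLocalRing.maximalIdeal R
local notation "τ" => algebraMap (Polynomial R) B (Polynomial.X : Polynomial R)

/-- `P` is a distinguished polynomial. -/
def Dist (P : R[X]) : Prop := P.Monic ∧ P.map (residue R) = (X : (ResidueField R)[X]) ^ P.natDegree

theorem dist_iff {P : R[X]} : Dist P ↔
    P.Monic ∧ ∀ i : ℕ, i < P.natDegree → P.coeff i ∈ maximalIdeal R := by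
  refine and_congr_right fun hP => ⟨fun h i hi => ?_, fun h => ?_⟩
  · rw [← residue_eq_zero_iff, ← Polynomial.coeff_map, h, coeff_X_pow, if_neg hi.ne]
  · ext i
    rw [Polynomial.coeff_map, coeff_X_pow]
    rcases lt_trichotomy i P.natDegree with hi | hi | hi
    · rw [if_neg hi.ne, residue_eq_zero_iff]; exact h i hi
    · rw [if_pos hi, hi, hP.coeff_natDegree, map_one]
    · rw [if_neg hi.ne', coeff_eq_zero_of_natDegree_lt hi, map_zero]

theorem henselianRing_quotient {P : R[X]} (hP : Dist P) :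
    HenselianRing (R[X] ⧸ Ideal.span {P})
      ((Ideal.span {(X : R[X])}).map (Ideal.Quotient.mk (Ideal.span {P}))) := by
  haveI : Module.Finite R (R[X] ⧸ Ideal.span {P}) := hP.1.finite_quotient
  haveI := Groth.L05.henselianRing_map_of_isIntegral (maximalIdeal R) (R[X] ⧸ Ideal.span {P})
  haveI := Groth.L05.henselianRing_radical ((maximalIdeal R).map (algebraMap R (R[X] ⧸ Ideal.span {P})))
  refine Groth.L05.henselianRing_mono
    (J := ((maximalIdeal R).map (algebraMap R (R[X] ⧸ Ideal.span {P}))).radical) ?_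
  rw [Ideal.map_span, Set.image_singleton, Ideal.span_singleton_le_iff_mem]
  refine ⟨P.natDegree, ?_⟩
  have h1 : (X : R[X]) ^ P.natDegree - P ∈ (maximalIdeal R).map (C : R →+* R[X]) := by
    refine Ideal.mem_map_C_iff.2 fun i => ?_
    rw [← residue_eq_zero_iff, ← Polynomial.coeff_map, Polynomial.map_sub, hP.2, Polynomial.map_pow,
      Polynomial.map_X, sub_self, coeff_zero]
  have h2 := Ideal.mem_map_of_mem (Ideal.Quotient.mk (Ideal.span {P})) h1
  rw [Ideal.map_map, map_sub, Ideal.Quotient.eq_zero_iff_mem.2 (Ideal.mem_span_singleton_self P),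
    sub_zero, map_pow] at h2
  exact h2

variable (hB : Hens2.IsPairHenselization R[X] (Ideal.span {(X : R[X])}) B)
include hB

omit [IsScalarTower R R[X] B] in
theorem isUnit_one_add (x : B) : IsUnit (1 + τ * x) := by
  rw [add_comm]
  refine Ideal.mem_jacobson_bot.1 (hB.1.jac ?_) x
  exact Ideal.mem_map_of_mem _ (Ideal.mem_span_singleton_self _)

omit [IsScalarTower R R[X] B] in
theorem exists_poly (n : ℕ) (b : B) : ∃ q : R[X], b - algebraMap R[X] B q ∈ Ideal.span {τ ^ n} := by
  obtain ⟨x, hx⟩ := (Groth.L05.Henselization.quotientMap_pow_bijective _ _ hB n).2 (Ideal.Quotient.mk _ b)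
  obtain ⟨q, rfl⟩ := Ideal.Quotient.mk_surjective x
  rw [Ideal.quotientMap_mk, eq_comm, Ideal.Quotient.eq, Ideal.span_singleton_pow, Ideal.map_span,
    Set.image_singleton, map_pow] at hx
  exact ⟨q, hx⟩

theorem exists_retract (n : ℕ) :
    ∃ g : B →+* R[X] ⧸ Ideal.span {(X : R[X]) ^ n}, ∀ q, g (algebraMap R[X] B q) = Ideal.Quotient.mk _ q := by
  let e := RingEquiv.ofBijective _ (Groth.L05.Henselization.quotientMap_pow_bijective _ _ hB n)
  let g₀ : B →+* R[X] ⧸ (Ideal.span {(X : R[X])}) ^ n := e.symm.toRingHom.comp (Ideal.Quotient.mk _)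
  have hpe := Ideal.span_singleton_pow (X : R[X]) n
  refine ⟨(Ideal.quotEquivOfEq hpe).toRingHom.comp g₀, fun q => ?_⟩
  show Ideal.quotEquivOfEq hpe (e.symm (Ideal.Quotient.mk ((Ideal.span {(X : R[X])} ^ n).map (algebraMap R[X] B)) (algebraMap R[X] B q))) = _
  have he : e (Ideal.Quotient.mk (Ideal.span {(X : R[X])} ^ n) q) =
      Ideal.Quotient.mk ((Ideal.span {(X : R[X])} ^ n).map (algebraMap R[X] B)) (algebraMap R[X] B q) :=
    rfl
  rw [← he, e.symm_apply_apply, Ideal.quotEquivOfEq_mk]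

theorem coeff_mem_of_mem {q : R[X]} {n : ℕ}
    (h : algebraMap R[X] B q ∈ (maximalIdeal R).map (algebraMap R B) ⊔ Ideal.span {τ ^ n}) {i : ℕ}
    (hi : i < n) : q.coeff i ∈ maximalIdeal R := by
  obtain ⟨g, hg⟩ := exists_retract hB n
  have h1 := Ideal.mem_map_of_mem g h
  rw [Ideal.map_sup, Ideal.map_map, Ideal.map_span, Set.image_singleton, map_pow g, hg, hg,
    show g.comp (algebraMap R B) = (Ideal.Quotient.mk (Ideal.span {(X : R[X]) ^ n})).comp C from
      RingHom.ext fun r => by
        rw [IsScalarTower.algebraMap_eq R R[X] B, ← RingHom.comp_assoc]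
        exact hg (C r),
    ← Ideal.map_map, ← map_pow, ← Set.image_singleton (f := Ideal.Quotient.mk (Ideal.span {(X : R[X]) ^ n})),
    ← Ideal.map_span, ← Ideal.map_sup,
    Ideal.mem_map_iff_of_surjective _ Ideal.Quotient.mk_surjective] at h1
  obtain ⟨p, hp, hpq⟩ := h1
  obtain ⟨c, hc, d, hd, rfl⟩ := Submodule.mem_sup.1 hp
  rw [Ideal.Quotient.eq, Ideal.mem_span_singleton'] at hpq
  obtain ⟨y, hy⟩ := hpq
  obtain ⟨z, rfl⟩ := Ideal.mem_span_singleton'.1 hd
  have hq : q = c + (z - y) * X ^ n := by linear_combination hy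
  rw [hq, coeff_add, coeff_mul_X_pow', if_neg (by omega), add_zero]
  exact Ideal.mem_map_C_iff.1 hc i

/-- Congruence to a unit of `R` modulo `t` implies invertibility. -/
theorem isUnit_of_coeff_zero {b : B} {q : R[X]} (hq : IsUnit (q.coeff 0))
    (hb : b - algebraMap R[X] B q ∈ Ideal.span {τ}) : IsUnit b := by
  obtain ⟨c, hc⟩ := Ideal.mem_span_singleton'.1 hb
  set v := q.divX
  have hqv : q = X * v + C (q.coeff 0) := (X_mul_divX_add q).symm
  set r := algebraMap R B (q.coeff 0)
  have hr : IsUnit r := hq.map _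
  have : b = r * (1 + τ * (↑hr.unit⁻¹ * (c + algebraMap R[X] B v))) := by
    have h1 : algebraMap R[X] B q = τ * algebraMap R[X] B v + r := by
      conv_lhs => rw [hqv]
      rw [map_add, map_mul]
      congr 1
      exact (IsScalarTower.algebraMap_apply R R[X] B _).symm
    rw [mul_add, mul_one, mul_left_comm, ← mul_assoc r, hr.mul_val_inv, one_mul]
    linear_combination h1 - hc
  rw [this]
  exact hr.mul (isUnit_one_add hB _)

theorem isUnit_or_mem (b : B) :
    IsUnit b ∨ b ∈ (maximalIdeal R).map (algebraMap R B) ⊔ Ideal.span {τ} := by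
  obtain ⟨q, hq⟩ := exists_poly hB 1 b
  rw [pow_one] at hq
  by_cases h : IsUnit (q.coeff 0)
  · exact Or.inl (isUnit_of_coeff_zero hB h hq)
  · refine Or.inr ?_
    rw [← sub_add_cancel b (algebraMap R[X] B q)]
    refine add_mem (Ideal.mem_sup_right hq) ?_
    rw [← X_mul_divX_add q, map_add, map_mul]
    refine add_mem (Ideal.mem_sup_right (Ideal.mul_mem_right _ _ (Ideal.mem_span_singleton_self _)))
      (Ideal.mem_sup_left ?_)
    rw [show algebraMap R[X] B (C (q.coeff 0)) = algebraMap R B (q.coeff 0) from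
      (IsScalarTower.algebraMap_apply R R[X] B _).symm]
    exact Ideal.mem_map_of_mem _ ((IsLocalRing.mem_maximalIdeal _).2 h)

theorem pow_notMem (n : ℕ) : τ ^ n ∉ (maximalIdeal R).map (algebraMap R B) := fun h => by
  have := coeff_mem_of_mem hB (q := X ^ n) (n := n + 1)
    (Ideal.mem_sup_left (by rwa [map_pow])) (Nat.lt_succ_self n)
  rw [coeff_X_pow, if_pos rfl] at this
  exact (IsLocalRing.maximalIdeal.isMaximal R).ne_top ((Ideal.eq_top_iff_one _).2 this)

omit [IsScalarTower R R[X] B] in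
/-- `R[t]/(P) → B/(P)` is injective for distinguished `P`. -/
theorem mem_span_of_map_mem {P : R[X]} (hP : Dist P) {q : R[X]}
    (hq : algebraMap R[X] B q ∈ Ideal.span {algebraMap R[X] B P}) : q ∈ Ideal.span {P} := by
  obtain ⟨g, hg, -⟩ := hB.2 _ _ (Ideal.Quotient.mk (Ideal.span {P})) (henselianRing_quotient hP) le_rfl
  obtain ⟨c, hc⟩ := Ideal.mem_span_singleton'.1 hq
  have h1 := congrArg g hc
  rw [map_mul, ← RingHom.comp_apply g, ← RingHom.comp_apply g, hg,
    Ideal.Quotient.eq_zero_iff_mem.2 (Ideal.mem_span_singleton_self P), mul_zero, eq_comm] at h1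
  exact Ideal.Quotient.eq_zero_iff_mem.1 h1

omit [IsScalarTower R R[X] B] in
/-- `R[t]/(P) → B/(P)` is surjective for distinguished `P`. -/
theorem exists_poly_sub_mem {P : R[X]} (hP : Dist P) (b : B) :
    ∃ q : R[X], algebraMap R[X] B q - b ∈ Ideal.span {algebraMap R[X] B P} := by
  obtain ⟨g, hg, -⟩ := hB.2 _ _ (Ideal.Quotient.mk (Ideal.span {P})) (henselianRing_quotient hP) le_rfl
  set J := Ideal.span {algebraMap R[X] B P}
  let mkJ : B →+* B ⧸ J := Ideal.Quotient.mk J
  let δ : R[X] ⧸ Ideal.span {P} →+* B ⧸ J :=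
    Ideal.Quotient.lift _ (mkJ.comp (algebraMap R[X] B)) fun x hx => by
      obtain ⟨c, rfl⟩ := Ideal.mem_span_singleton'.1 hx
      exact Ideal.Quotient.eq_zero_iff_mem.2 (by
        rw [map_mul]; exact Ideal.mul_mem_left _ _ (Ideal.mem_span_singleton_self _))
  haveI := hB.1
  have hJ : HenselianRing (B ⧸ J) (((Ideal.span {(X : R[X])}).map (algebraMap R[X] B)).map mkJ) :=
    Groth.L05.henselianRing_map_of_isIntegral ((Ideal.span {(X : R[X])}).map (algebraMap R[X] B)) (B ⧸ J)
  have h1 : δ.comp g = mkJ := by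
    refine (hB.2 (B ⧸ J) _ (mkJ.comp (algebraMap R[X] B)) hJ (by rw [Ideal.map_map])).unique ?_ rfl
    rw [RingHom.comp_assoc, hg]
    exact Ideal.Quotient.lift_comp_mk _ _ _
  obtain ⟨q, hq⟩ := Ideal.Quotient.mk_surjective (g b)
  refine ⟨q, Ideal.Quotient.eq.1 ?_⟩
  have h2 := DFunLike.congr_fun h1 b
  rw [RingHom.comp_apply, ← hq] at h2
  exact h2

omit hB in
/-- A finite type algebra generated modulo `(s) + 𝔪` by one nilpotent element near `φ`. -/
theorem isIntegral_of_chart {A' C M' : Type u} [CommRing A'] [CommRing C] [CommRing M'] [Algebra R A']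
    [Algebra R C] [Algebra R M'] [Algebra.FiniteType R C] (ι : A' →ₐ[R] C) (Φ : C →ₐ[R] M')
    (hM : (maximalIdeal R).map (algebraMap R M') ≤ (⊥ : Ideal M').jacobson) (s η t : A') (n : ℕ)
    (hιs : ι s = 0) (hη : IsUnit (ι η)) (hsurj : ∀ x : C, ∃ (a : A') (k : ℕ), x * ι η ^ k = ι a)
    (hpoly : ∀ x, ∃ (q : R[X]) (y : A'), x = aeval t q + t ^ n * y)
    (hq : ∃ (q : R[X]) (y : A'), η = aeval t q + t ^ n * y ∧ (0 < n → IsUnit (q.coeff 0)))
    (hmem : t ^ n * η ∈ Ideal.span {s} ⊔ (maximalIdeal R).map (algebraMap R A')) :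
    IsIntegral R (Φ (ι t)) := by
  set mC := (maximalIdeal R).map (algebraMap R C)
  let π : C →ₐ[R] C ⧸ mC := Ideal.Quotient.mkₐ R mC
  set z := π (ι t) with hz
  have hιη : IsUnit (π (ι η)) := hη.map π
  have hzn : z ^ n = 0 := by
    have h1 := Ideal.mem_map_of_mem (π.comp ι).toRingHom hmem
    have h2 : Ideal.map (π.comp ι).toRingHom
        (Ideal.span {s} ⊔ (maximalIdeal R).map (algebraMap R A')) = ⊥ := by
      rw [Ideal.map_sup, Ideal.map_map, Ideal.map_span, Set.image_singleton,
        show (π.comp ι).toRingHom s = 0 by show π (ι s) = 0; rw [hιs, map_zero],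
        show (π.comp ι).toRingHom.comp (algebraMap R A') = (Ideal.Quotient.mk mC).comp (algebraMap R C) from
          (π.comp ι).comp_algebraMap, ← Ideal.map_map, Ideal.map_quotient_self]
      simp
    rw [h2, Ideal.mem_bot] at h1
    refine hιη.mul_left_eq_zero.1 ?_
    rw [hz, ← map_pow, ← map_pow, ← map_mul, ← map_mul]
    exact h1
  let δ : R[X] ⧸ Ideal.span {(X : R[X]) ^ n} →ₐ[R] C ⧸ mC :=
    Ideal.Quotient.liftₐ _ (aeval z) fun x hx => by
      obtain ⟨c, hc⟩ := Ideal.mem_span_singleton'.1 hx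
      rw [← hc, map_mul, map_pow, aeval_X, hzn, mul_zero]
  have hδ : ∀ (q : R[X]) (y : A'), π (ι (aeval t q + t ^ n * y)) = δ (Ideal.Quotient.mk _ q) := by
    intro q y
    rw [map_add, map_add, map_mul, map_mul, map_pow, map_pow, ← hz, hzn, zero_mul, add_zero,
      ← aeval_algHom_apply ι t q, ← aeval_algHom_apply π (ι t) q]
    rfl
  haveI : Module.Finite R (C ⧸ mC) := by
    haveI : Module.Finite R (R[X] ⧸ Ideal.span {(X : R[X]) ^ n}) := (monic_X_pow n).finite_quotient
    obtain ⟨q, y, hηq, hq0⟩ := hq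
    have hqu : IsUnit (Ideal.Quotient.mk (Ideal.span {(X : R[X]) ^ n}) q) := by
      rcases Nat.eq_zero_or_pos n with hn | hn
      · haveI : Subsingleton (R[X] ⧸ Ideal.span {(X : R[X]) ^ n}) :=
          Ideal.Quotient.subsingleton_iff.2 (by rw [hn, pow_zero, Ideal.span_singleton_one])
        exact isUnit_of_subsingleton _
      · rw [← X_mul_divX_add q, map_add]
        refine IsNilpotent.isUnit_add_right_of_commute ?_ (((hq0 hn).map Polynomial.C).map _) (Commute.all _ _)
        refine ⟨n, ?_⟩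
        rw [← map_pow, Ideal.Quotient.eq_zero_iff_mem, mul_pow]
        exact Ideal.mul_mem_right _ _ (Ideal.mem_span_singleton_self _)
    refine Module.Finite.of_surjective δ.toLinearMap fun x => ?_
    obtain ⟨l, rfl⟩ := Ideal.Quotient.mk_surjective x
    obtain ⟨a, k, hl⟩ := hsurj l
    obtain ⟨p, y', rfl⟩ := hpoly a
    refine ⟨Ideal.Quotient.mk _ p * (↑(hqu.pow k).unit⁻¹ : R[X] ⧸ Ideal.span {(X : R[X]) ^ n}),
      (hιη.pow k).mul_right_cancel ?_⟩
    show δ (_ * _) * _ = π l * _
    have hqe : π (ι η) = δ (Ideal.Quotient.mk _ q) := by rw [hηq, hδ]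
    generalize hw : (↑(hqu.pow k).unit⁻¹ : R[X] ⧸ Ideal.span {(X : R[X]) ^ n}) = w
    have hwq : w * Ideal.Quotient.mk _ q ^ k = 1 := hw ▸ (hqu.pow k).val_inv_mul
    rw [hqe, ← map_pow δ, ← map_mul δ, mul_assoc, hwq, mul_one, map_pow δ, ← hqe, ← map_pow π,
      ← map_mul π, hl, hδ p y']
  obtain ⟨e, he, heI, hfin⟩ := Groth.L05.Hfp.exists_idem_finite_of_quotient_finite (maximalIdeal R) (R := C)
  have hΦe : Φ e = 1 := Groth.L05.idem_eq_of_sub_mem hM (he.map Φ) IsIdempotentElem.one (by
    have h1 := Ideal.mem_map_of_mem Φ.toRingHom heI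
    rw [Ideal.map_map, show Φ.toRingHom.comp (algebraMap R C) = algebraMap R M' from Φ.comp_algebraMap] at h1
    rw [← map_one Φ, ← map_sub]
    exact h1)
  let Ψ : C ⧸ Ideal.span ({1 - e} : Set C) →ₐ[R] M' := Ideal.Quotient.liftₐ _ Φ fun x hx => by
    obtain ⟨c, hc⟩ := Ideal.mem_span_singleton'.1 hx
    rw [← hc, map_mul, map_sub, map_one, hΦe, sub_self, mul_zero]
  exact (IsIntegral.of_finite R (Ideal.Quotient.mk (Ideal.span ({1 - e} : Set C)) (ι t))).map Ψ

omit hB in
/-- An element which is nilpotent modulo `(s) + 𝔪` near `φ` becomes integral over `R` in the target. -/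
theorem isIntegral_of_pow_mul_mem {A' M' : Type u} [CommRing A'] [CommRing M'] [Algebra R A'] [Algebra R M']
    [Algebra.FiniteType R A'] (φ : A' →ₐ[R] M')
    (hM : (maximalIdeal R).map (algebraMap R M') ≤ (⊥ : Ideal M').jacobson) (s η t : A') (n : ℕ)
    (hφs : φ s = 0) (hη : IsUnit (φ η)) (hpoly : ∀ x, ∃ (q : R[X]) (y : A'), x = aeval t q + t ^ n * y)
    (hq : ∃ (q : R[X]) (y : A'), η = aeval t q + t ^ n * y ∧ (0 < n → IsUnit (q.coeff 0)))
    (hmem : t ^ n * η ∈ Ideal.span {s} ⊔ (maximalIdeal R).map (algebraMap R A')) :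
    IsIntegral R (φ t) := by
  let L := Localization.Away η
  let S₀ : Ideal L := Ideal.span {algebraMap A' L s}
  let φL : L →ₐ[R] M' := IsLocalization.liftAlgHom (M := Submonoid.powers η) (f := φ) (fun y => by
    obtain ⟨k, hk⟩ := y.2
    rw [← hk]
    show IsUnit (φ (η ^ k))
    rw [map_pow]
    exact hη.pow k)
  have hφL : ∀ a, φL (algebraMap A' L a) = φ a := fun a => IsLocalization.lift_eq _ a
  let Φ : L ⧸ S₀ →ₐ[R] M' := Ideal.Quotient.liftₐ S₀ φL fun x hx => by
    obtain ⟨c, hc⟩ := Ideal.mem_span_singleton'.1 hx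
    rw [← hc, map_mul, hφL, hφs, mul_zero]
  have key := isIntegral_of_chart ((Ideal.Quotient.mkₐ R S₀).comp (IsScalarTower.toAlgHom R A' L)) Φ hM s η t n
    (Ideal.Quotient.eq_zero_iff_mem.2 (Ideal.mem_span_singleton_self _))
    ((IsLocalization.Away.algebraMap_isUnit (S := L) η).map (Ideal.Quotient.mkₐ R S₀))
    (fun x => by
      obtain ⟨l, rfl⟩ := Ideal.Quotient.mk_surjective x
      obtain ⟨k, a, hl⟩ := IsLocalization.Away.surj η l
      refine ⟨a, k, ?_⟩
      show Ideal.Quotient.mk S₀ l * Ideal.Quotient.mk S₀ (algebraMap A' L η) ^ k =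
        Ideal.Quotient.mk S₀ (algebraMap A' L a)
      rw [← map_pow, ← map_mul, hl])
    hpoly hq hmem
  exact hφL t ▸ key

/-- The maximal ideal of `R` lies in the Jacobson radical of `B`. -/
theorem map_maximalIdeal_le_jacobson :
    (maximalIdeal R).map (algebraMap R B) ≤ (⊥ : Ideal B).jacobson := fun x hx => by
  rw [Ideal.mem_jacobson_bot]
  intro y
  obtain ⟨q, hq⟩ := exists_poly hB 1 (x * y + 1)
  rw [pow_one] at hq
  refine isUnit_of_coeff_zero hB (q := q) ?_ hq
  have h1 : algebraMap R[X] B (q - 1) ∈ (maximalIdeal R).map (algebraMap R B) ⊔ Ideal.span {τ ^ 1} := by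
    rw [pow_one, map_sub, map_one, show algebraMap R[X] B q - 1 =
      x * y - (x * y + 1 - algebraMap R[X] B q) by ring]
    exact sub_mem (Ideal.mem_sup_left (Ideal.mul_mem_right _ _ hx)) (Ideal.mem_sup_right hq)
  have h2 := coeff_mem_of_mem hB h1 (i := 0) one_pos
  rw [coeff_sub, coeff_one_zero] at h2
  by_contra hq0
  refine (IsLocalRing.maximalIdeal.isMaximal R).ne_top ((Ideal.eq_top_iff_one _).2 ?_)
  simpa using sub_mem ((IsLocalRing.mem_maximalIdeal _).2 hq0) h2

/-- Modulo `𝔪 B` every `f ∉ 𝔪 B` is a power of `t` times a unit, and `t` is integral over `R` modulo `f`. -/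
theorem exists_order (f : B) (hf : f ∉ (maximalIdeal R).map (algebraMap R B)) :
    ∃ (n : ℕ) (u : Bˣ), f - τ ^ n * u ∈ (maximalIdeal R).map (algebraMap R B) ∧
      ∃ F : R[X], F.Monic ∧ algebraMap R[X] B F ∈ Ideal.span {f} := by
  classical
  obtain ⟨A', _, _, _, σ, φ, s, hσ, rfl⟩ := Groth.L05.Henselization.exists_section_lift _ hB f
  letI : Algebra R A' := ((algebraMap R[X] A').comp C).toAlgebra
  haveI : IsScalarTower R R[X] A' := IsScalarTower.of_algebraMap_eq fun _ => rfl
  haveI : Algebra.FiniteType R A' := Algebra.FiniteType.trans (S := R[X]) inferInstance inferInstance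
  let φR : A' →ₐ[R] B := φ.restrictScalars R
  set tA : A' := algebraMap R[X] A' X
  have hφt : φ tA = τ := φ.commutes X
  set mA := (maximalIdeal R).map (algebraMap R A')
  have hmA : ∀ x ∈ mA, φ x ∈ (maximalIdeal R).map (algebraMap R B) := fun x hx => by
    have := Ideal.mem_map_of_mem φR.toRingHom hx
    rwa [Ideal.map_map, show φR.toRingHom.comp (algebraMap R A') = algebraMap R B from
      φR.comp_algebraMap] at this
  -- every element is a polynomial modulo `t ^ n`
  have hpoly : ∀ (n : ℕ) (x : A'), ∃ (q : R[X]) (y : A'), x = algebraMap R[X] A' q + tA ^ n * y := by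
    intro n
    induction n with
    | zero => exact fun x => ⟨0, x, by simp⟩
    | succ n ih =>
      intro x
      obtain ⟨q, y, hx⟩ := ih x
      obtain ⟨p, hp⟩ := Ideal.Quotient.mk_surjective (σ y)
      have h1 : y - algebraMap R[X] A' p ∈ RingHom.ker σ := by
        rw [RingHom.mem_ker, map_sub, AlgHom.commutes, ← hp]
        exact sub_self _
      rw [hσ, Ideal.map_span, Set.image_singleton, Ideal.mem_span_singleton'] at h1
      obtain ⟨z, hz⟩ := h1
      refine ⟨q + X ^ n * p, z, ?_⟩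
      rw [map_add, map_mul, map_pow, hx]
      linear_combination -(tA ^ n) * hz
  obtain ⟨g₁, hg₁⟩ := exists_retract hB 1
  let ev : R[X] ⧸ Ideal.span {(X : R[X]) ^ 1} →+* ResidueField R :=
    Ideal.Quotient.lift _ ((residue R).comp (evalRingHom 0)) fun x hx => by
      obtain ⟨c, rfl⟩ := Ideal.mem_span_singleton'.1 hx
      simp
  let κ : A' →+* ResidueField R := (ev.comp g₁).comp φ.toRingHom
  have hκ : ∀ q : R[X], κ (algebraMap R[X] A' q) = residue R (q.coeff 0) := fun q => by
    show ev (g₁ (φ (algebraMap R[X] A' q))) = _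
    rw [φ.commutes, hg₁, coeff_zero_eq_eval_zero]
    rfl
  have hκt : κ tA = 0 := by rw [hκ, coeff_X_zero, map_zero]
  have hunitφ : ∀ x, κ x ≠ 0 → IsUnit (φ x) := fun x hx => by
    obtain ⟨q, y, rfl⟩ := hpoly 1 x
    refine isUnit_of_coeff_zero hB (q := q) ?_ ?_
    · rw [pow_one, map_add, map_mul, hκt, zero_mul, add_zero, hκ] at hx
      exact (IsLocalRing.residue_ne_zero_iff_isUnit _).1 hx
    · rw [map_add, φ.commutes, add_sub_cancel_left, map_mul, map_pow, hφt, pow_one]
      exact Ideal.mul_mem_right _ _ (Ideal.mem_span_singleton_self _)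
  have hkerκ : ∀ x, κ x = 0 → x ∈ mA ⊔ Ideal.span {tA} := fun x hx => by
    obtain ⟨q, y, rfl⟩ := hpoly 1 x
    rw [pow_one, map_add, map_mul, hκt, zero_mul, add_zero, hκ, residue_eq_zero_iff] at hx
    rw [pow_one, ← X_mul_divX_add q, map_add, map_mul]
    refine add_mem (add_mem (Ideal.mem_sup_right (Ideal.mul_mem_right _ _ (Ideal.mem_span_singleton_self _)))
      (Ideal.mem_sup_left (Ideal.mem_map_of_mem (algebraMap R A') hx)))
      (Ideal.mem_sup_right (Ideal.mul_mem_right _ _ (Ideal.mem_span_singleton_self _)))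
  -- the fibre
  have hmAκ : ∀ x ∈ mA, κ x = 0 := fun x hx => by
    refine (Ideal.map_le_iff_le_comap (K := RingHom.ker κ)).2 (fun r hr => ?_) hx
    show κ (algebraMap R[X] A' (C r)) = 0
    rw [hκ, coeff_C_zero, residue_eq_zero_iff]
    exact hr
  let T := A' ⧸ mA
  haveI : IsNoetherianRing T := by
    letI : Algebra (ResidueField R) T := (Ideal.Quotient.lift _ (algebraMap R T) fun r hr => by
      show Ideal.Quotient.mk mA (algebraMap R A' r) = 0
      exact Ideal.Quotient.eq_zero_iff_mem.2 (Ideal.mem_map_of_mem _ hr)).toAlgebra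
    haveI : IsScalarTower R (ResidueField R) T := IsScalarTower.of_algebraMap_eq fun _ => rfl
    haveI : Algebra.FiniteType (ResidueField R) T :=
      Algebra.FiniteType.of_restrictScalars_finiteType R (ResidueField R) T
    exact Algebra.FiniteType.isNoetherianRing (ResidueField R) T
  let κT : T →+* ResidueField R := Ideal.Quotient.lift mA κ hmAκ
  let Q : Ideal T := RingHom.ker κT
  haveI : Q.IsPrime := RingHom.ker_isPrime κT
  let L := Localization.AtPrime Q
  set tL : L := algebraMap T L (Ideal.Quotient.mk mA tA)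
  have hmax : IsLocalRing.maximalIdeal L = Ideal.span {tL} := by
    rw [← Localization.AtPrime.map_eq_maximalIdeal]
    refine (congrArg (Ideal.map (algebraMap T L)) (show Q = Ideal.span {Ideal.Quotient.mk mA tA} by
        refine le_antisymm (fun x hx => ?_) ((Ideal.span_singleton_le_iff_mem _).2 hκt)
        obtain ⟨x, rfl⟩ := Ideal.Quotient.mk_surjective x
        have h1 := Ideal.mem_map_of_mem (Ideal.Quotient.mk mA) (hkerκ x hx)
        rwa [Ideal.map_sup, Ideal.map_quotient_self, bot_sup_eq, Ideal.map_span, Set.image_singleton] at h1)).trans ?_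
    rw [Ideal.map_span, Set.image_singleton]
  set sL : L := algebraMap T L (Ideal.Quotient.mk mA s)
  have hs0 : sL ≠ 0 := by
    intro h0
    obtain ⟨⟨c, hc⟩, h1⟩ := (IsLocalization.map_eq_zero_iff Q.primeCompl L _).1 h0
    obtain ⟨c, rfl⟩ := Ideal.Quotient.mk_surjective c
    rw [← map_mul, Ideal.Quotient.eq_zero_iff_mem] at h1
    have h2 := hmA _ h1
    rw [map_mul] at h2
    refine hf ?_
    have hcu := hunitφ c hc
    rw [← one_mul (φ s), ← hcu.val_inv_mul, mul_assoc]
    exact Ideal.mul_mem_left _ _ h2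
  have hex : ∃ n, sL ∈ Ideal.span {tL} ^ n ∧ sL ∉ Ideal.span {tL} ^ (n + 1) := by
    by_contra hcon
    push Not at hcon
    have hall : ∀ n, sL ∈ Ideal.span {tL} ^ n := fun n => by
      induction n with
      | zero => simp
      | succ n ih => exact hcon n ih
    have hne : Ideal.span {tL} ≠ ⊤ := hmax ▸ (IsLocalRing.maximalIdeal.isMaximal L).ne_top
    have h1 : sL ∈ ⨅ n, Ideal.span {tL} ^ n := Ideal.mem_iInf.2 hall
    rw [Ideal.iInf_pow_eq_bot_of_isLocalRing _ hne] at h1
    exact hs0 h1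
  obtain ⟨n, hn, hn'⟩ := hex
  rw [Ideal.span_singleton_pow, Ideal.mem_span_singleton'] at hn
  obtain ⟨w, hw⟩ := hn
  have hwu : IsUnit w := by
    by_contra hwn
    have h1 : w ∈ Ideal.span {tL} := hmax ▸ (IsLocalRing.mem_maximalIdeal _).2 hwn
    refine hn' ?_
    rw [← hw, pow_succ']
    exact Ideal.mul_mem_mul h1 (Ideal.pow_mem_pow (Ideal.mem_span_singleton_self _) n)
  obtain ⟨⟨a, ⟨h, hh⟩⟩, haw⟩ := IsLocalization.surj Q.primeCompl w
  have ha : a ∉ Q := fun ha => by
    have h1 : algebraMap T L a ∈ IsLocalRing.maximalIdeal L := by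
      rw [← Localization.AtPrime.map_eq_maximalIdeal]
      exact Ideal.mem_map_of_mem _ ha
    rw [← haw] at h1
    exact (IsLocalRing.mem_maximalIdeal _).1 h1
      (hwu.mul (IsLocalization.map_units L (⟨h, hh⟩ : Q.primeCompl)))
  obtain ⟨a, rfl⟩ := Ideal.Quotient.mk_surjective a
  obtain ⟨h, rfl⟩ := Ideal.Quotient.mk_surjective h
  have hkey : algebraMap T L (Ideal.Quotient.mk mA (s * h)) =
      algebraMap T L (Ideal.Quotient.mk mA (tA ^ n * a)) := by
    simp only [map_mul, map_pow]
    show sL * _ = tL ^ n * _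
    rw [← haw, ← hw]
    ring
  obtain ⟨⟨c, hc⟩, hceq⟩ := (IsLocalization.eq_iff_exists Q.primeCompl L).1 hkey
  obtain ⟨c, rfl⟩ := Ideal.Quotient.mk_surjective c
  rw [← map_mul, ← map_mul (Ideal.Quotient.mk mA) c, Ideal.Quotient.eq] at hceq
  set η := c * a
  have hη : κ η ≠ 0 := by rw [map_mul]; exact mul_ne_zero hc ha
  have hch : κ (c * h) ≠ 0 := by rw [map_mul]; exact mul_ne_zero hc hh
  have hηu := hunitφ η hη
  have hchu := hunitφ (c * h) hch
  refine ⟨n, hchu.unit⁻¹ * hηu.unit, ?_, ?_⟩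
  · have h1 := hmA _ hceq
    rw [map_sub, map_mul, map_mul φ s, map_mul, map_mul φ (tA ^ n), map_pow, hφt] at h1
    have h2 := Ideal.mul_mem_left _ (↑hchu.unit⁻¹ : B) h1
    convert h2 using 1
    have e1 : φ c * φ h * (↑hchu.unit⁻¹ : B) = 1 := by rw [← map_mul]; exact hchu.mul_val_inv
    rw [Units.val_mul, IsUnit.unit_spec]
    generalize (↑hchu.unit⁻¹ : B) = iu at e1 ⊢
    simp only [η, map_mul]
    linear_combination -(φ s) * e1
  -- integrality of `t`
  · set J := Ideal.span {φ s}
    have hM : (maximalIdeal R).map (algebraMap R (B ⧸ J)) ≤ (⊥ : Ideal (B ⧸ J)).jacobson := by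
      rw [IsScalarTower.algebraMap_eq R B (B ⧸ J), ← Ideal.map_map, Ideal.map_le_iff_le_comap]
      intro x hx
      rw [Ideal.mem_comap, Ideal.mem_jacobson_bot]
      intro y
      obtain ⟨y, rfl⟩ := Ideal.Quotient.mk_surjective y
      show IsUnit (Ideal.Quotient.mk J x * Ideal.Quotient.mk J y + 1)
      rw [← map_mul, ← map_one (Ideal.Quotient.mk J), ← map_add]
      exact (Ideal.mem_jacobson_bot.1 (map_maximalIdeal_le_jacobson hB hx) y).map _
    have hae : ∀ q : R[X], algebraMap R[X] A' q = aeval tA q := fun q =>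
      DFunLike.congr_fun (Polynomial.algHom_ext (f := IsScalarTower.toAlgHom R R[X] A') (g := aeval tA)
        (by rw [aeval_X]; rfl)) q
    obtain ⟨F, hF, hF0⟩ := isIntegral_of_pow_mul_mem ((Ideal.Quotient.mkₐ R J).comp φR)
      hM s η tA n (Ideal.Quotient.eq_zero_iff_mem.2 (Ideal.mem_span_singleton_self _))
      (hηu.map (Ideal.Quotient.mkₐ R J))
      (fun x => by obtain ⟨q, y, hx⟩ := hpoly n x; exact ⟨q, y, by rw [hx, hae]⟩)
      (by
        obtain ⟨q, y, hx⟩ := hpoly n η
        refine ⟨q, y, by rw [hx, hae], fun hn0 => ?_⟩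
        rw [← IsLocalRing.residue_ne_zero_iff_isUnit, ← hκ]
        rw [hx, map_add, map_mul, map_pow, hκt, zero_pow hn0.ne', zero_mul, add_zero] at hη
        exact hη)
      (by
        have e1 : tA ^ n * η = c * h * s - (c * (s * h) - c * (tA ^ n * a)) := by simp only [η]; ring
        rw [e1]
        exact sub_mem (Ideal.mem_sup_left (Ideal.mul_mem_left _ _ (Ideal.mem_span_singleton_self _)))
          (Ideal.mem_sup_right hceq))
    refine ⟨F, hF, Ideal.Quotient.eq_zero_iff_mem.1 ?_⟩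
    rw [← φ.commutes F, hae]
    show ((Ideal.Quotient.mkₐ R J).comp φR) (aeval tA F) = 0
    rw [← aeval_algHom_apply]
    exact hF0

/-- Distinguished polynomials are nonzero divisors in `B`. -/
theorem mul_eq_zero_of_dist {P : R[X]} (hP : Dist P) {b : B} (h : algebraMap R[X] B P * b = 0) : b = 0 := by
  haveI := Groth.L05.Henselization.flat_of_isPairHenselization _ _ hB
  let μ : R[X] →ₗ[R[X]] R[X] := LinearMap.mulLeft R[X] P
  have hμ : Function.Injective μ := fun x y hxy => hP.1.isRegular.left hxy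
  refine (TensorProduct.rid R[X] B).symm.injective
    (Module.Flat.lTensor_preserves_injective_linearMap (M := B) μ hμ ?_)
  simp only [TensorProduct.rid_symm_apply, LinearMap.lTensor_tmul, map_zero, μ, LinearMap.mulLeft_apply]
  rw [mul_one, ← mul_one P, ← smul_eq_mul, ← TensorProduct.smul_tmul, Algebra.smul_def, h,
    TensorProduct.zero_tmul]

theorem exists_dist_mem {f : B} {F : R[X]} (hF : F.Monic) (hFf : algebraMap R[X] B F ∈ Ideal.span {f}) :
    ∃ P : R[X], Dist P ∧ algebraMap R[X] B P ∈ Ideal.span {f} := by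
  obtain ⟨H, hH, hH'⟩ := Polynomial.exists_eq_pow_rootMultiplicity_mul_and_not_dvd
    (F.map (residue R)) (hF.map _).ne_zero 0
  rw [map_zero, sub_zero] at hH hH'
  have hc : IsCoprime ((X : (ResidueField R)[X]) ^ (F.map (residue R)).rootMultiplicity 0) H :=
    (Polynomial.irreducible_X.coprime_iff_not_dvd.2 hH').pow_left
  obtain ⟨g, h, hgh, hg, hg', hh'⟩ := Groth.L05.exists_monic_factor_lift (maximalIdeal R) F
    _ H (monic_X_pow _) hc hH
  refine ⟨g, ⟨hg, ?_⟩, ?_⟩
  · have hd : (g.map (residue R)).natDegree = g.natDegree := hg.natDegree_map _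
    rw [show g.map (residue R) = X ^ _ from hg', natDegree_X_pow] at hd
    rw [← hd]; exact hg'
  · have hu : IsUnit (algebraMap R[X] B h) := by
      refine isUnit_of_coeff_zero hB (q := h) ?_ (by rw [sub_self]; exact zero_mem _)
      rw [← IsLocalRing.residue_ne_zero_iff_isUnit, ← Polynomial.coeff_map,
        show h.map (residue R) = H from hh']
      exact fun h0 => hH' (X_dvd_iff.2 h0)
    rw [hgh, map_mul] at hFf
    rwa [← Ideal.mul_unit_mem_iff_mem _ hu]

/-- Existence in Weierstrass preparation. -/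
theorem exists_dist (f : B) (hf : f ∉ (maximalIdeal R).map (algebraMap R B)) :
    ∃ (P : R[X]) (u : Bˣ), Dist P ∧ f = algebraMap R[X] B P * u := by
  classical
  obtain ⟨n, u, hμ, F, hF, hFf⟩ := exists_order hB f hf
  obtain ⟨G, hG, hGf⟩ := exists_dist_mem hB hF hFf
  let mkf : B →ₐ[R] B ⧸ Ideal.span {f} := Ideal.Quotient.mkₐ R (Ideal.span {f})
  haveI : Module.Finite R (B ⧸ Ideal.span {f}) := by
    haveI : Module.Finite R (R[X] ⧸ Ideal.span {G}) := hG.1.finite_quotient
    refine Module.Finite.of_surjective (Ideal.Quotient.liftₐ (Ideal.span {G})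
      (mkf.comp (IsScalarTower.toAlgHom R R[X] B)) fun x hx => by
        obtain ⟨c, rfl⟩ := Ideal.mem_span_singleton'.1 hx
        refine Ideal.Quotient.eq_zero_iff_mem.2 ?_
        show algebraMap R[X] B (c * G) ∈ _
        rw [map_mul]
        exact Ideal.mul_mem_left _ _ hGf).toLinearMap fun z => ?_
    obtain ⟨b, rfl⟩ := Ideal.Quotient.mk_surjective z
    obtain ⟨q, hq⟩ := exists_poly_sub_mem hB hG b
    exact ⟨Ideal.Quotient.mk _ q,
      Ideal.Quotient.eq.2 ((Ideal.span_singleton_le_iff_mem _).2 hGf hq)⟩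
  let N : Submodule R (B ⧸ Ideal.span {f}) := Submodule.span R (Set.range fun i : Fin n => mkf (τ ^ (i : ℕ)))
  have hN : ∀ r : R[X], r.degree < n → mkf (algebraMap R[X] B r) ∈ N := fun r hr => by
    rcases eq_or_ne r 0 with rfl | h0
    · rw [map_zero, map_zero]; exact zero_mem _
    rw [r.as_sum_range' n ((natDegree_lt_iff_degree_lt h0).2 hr), map_sum, map_sum]
    refine Submodule.sum_mem _ fun i hi => ?_
    rw [← C_mul_X_pow_eq_monomial, map_mul, map_pow, show algebraMap R[X] B (C (r.coeff i)) =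
      algebraMap R B (r.coeff i) from (IsScalarTower.algebraMap_apply R R[X] B _).symm,
      ← Algebra.smul_def, map_smul]
    exact Submodule.smul_mem _ _ (Submodule.subset_span ⟨⟨i, Finset.mem_range.1 hi⟩, rfl⟩)
  have htop : (⊤ : Submodule R (B ⧸ Ideal.span {f})) ≤ N := by
    refine Submodule.le_of_le_smul_of_le_jacobson_bot Module.Finite.fg_top (I := maximalIdeal R)
      (IsLocalRing.maximalIdeal_le_jacobson ⊥) fun z _ => ?_
    obtain ⟨b, rfl⟩ := Ideal.Quotient.mk_surjective z
    have hsm : ∀ x ∈ (maximalIdeal R).map (algebraMap R B), mkf x ∈ maximalIdeal R • (⊤ : Submodule R _) := by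
      intro x hx
      rw [Ideal.smul_top_eq_map]
      have h1 := Ideal.mem_map_of_mem mkf.toRingHom hx
      rwa [Ideal.map_map, show mkf.toRingHom.comp (algebraMap R B) = algebraMap R _ from mkf.comp_algebraMap] at h1
    have hτn : mkf (τ ^ n) ∈ maximalIdeal R • (⊤ : Submodule R _) := by
      have h1 : τ ^ n = ↑u⁻¹ * f - ↑u⁻¹ * (f - τ ^ n * u) := by
        rw [mul_sub, sub_sub_cancel, mul_left_comm, u.inv_mul, mul_one]
      rw [h1, map_sub, map_mul, show mkf f = 0 from Ideal.Quotient.eq_zero_iff_mem.2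
        (Ideal.mem_span_singleton_self f), mul_zero, zero_sub]
      exact neg_mem (hsm _ (Ideal.mul_mem_left _ _ hμ))
    have hτn' : ∀ x, mkf (τ ^ n * x) ∈ maximalIdeal R • (⊤ : Submodule R _) := fun x => by
      rw [Ideal.smul_top_eq_map] at hτn ⊢
      rw [map_mul]
      exact Ideal.mul_mem_right _ _ hτn
    obtain ⟨q, hq⟩ := exists_poly hB n b
    obtain ⟨y, hy⟩ := Ideal.mem_span_singleton'.1 hq
    have hb : b = algebraMap R[X] B (q %ₘ X ^ n) + τ ^ n * (y + algebraMap R[X] B (q /ₘ X ^ n)) := by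
      conv_lhs => rw [← sub_add_cancel b (algebraMap R[X] B q), ← hy, ← modByMonic_add_div q (X ^ n)]
      rw [map_add, map_mul, map_pow]; ring
    show mkf b ∈ _
    rw [hb, map_add]
    refine Submodule.add_mem_sup (hN _ ?_) (hτn' _)
    exact (degree_modByMonic_lt q (monic_X_pow n)).trans_le (by rw [degree_X_pow])
  obtain ⟨c, hc⟩ := (Submodule.mem_span_range_iff_exists_fun R).1 (htop (Submodule.mem_top (x := mkf (τ ^ n))))
  set r : R[X] := ∑ i : Fin n, C (c i) * X ^ (i : ℕ) with hr
  have hrd : r.degree < n := degree_sum_fin_lt c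
  set P : R[X] := X ^ n - r with hPdef
  have hPm : P.Monic := monic_X_pow_sub hrd
  have hPf : algebraMap R[X] B P ∈ Ideal.span {f} := by
    refine Ideal.Quotient.eq_zero_iff_mem.1 ?_
    show mkf (algebraMap R[X] B P) = 0
    rw [map_sub, map_sub, map_pow, ← hc, sub_eq_zero, hr, map_sum, map_sum]
    refine Finset.sum_congr rfl fun i _ => ?_
    rw [map_mul, map_pow, show algebraMap R[X] B (C (c i)) = algebraMap R B (c i) from
      (IsScalarTower.algebraMap_apply R R[X] B _).symm, ← Algebra.smul_def, map_smul]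
    simp only [map_pow]
  obtain ⟨g₂, hg₂⟩ := Ideal.mem_span_singleton'.1 hPf
  -- `P` is distinguished
  have hmem : algebraMap R[X] B r ∈ (maximalIdeal R).map (algebraMap R B) ⊔ Ideal.span {τ ^ n} := by
    have h1 : algebraMap R[X] B r = τ ^ n * (1 - g₂ * u) - g₂ * (f - τ ^ n * u) := by
      rw [show r = X ^ n - P by rw [hPdef, sub_sub_cancel], map_sub, ← hg₂, map_pow]; ring
    rw [h1]
    exact sub_mem (Ideal.mem_sup_right (Ideal.mul_mem_right _ _ (Ideal.mem_span_singleton_self _)))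
      (Ideal.mem_sup_left (Ideal.mul_mem_left _ _ hμ))
  have hnd : P.natDegree = n := natDegree_eq_of_degree_eq_some (by
    rw [hPdef, degree_sub_eq_left_of_degree_lt (by rwa [degree_X_pow]), degree_X_pow])
  have hcoef : ∀ i, r.coeff i ∈ maximalIdeal R := fun i => by
    rcases lt_or_ge i n with hi | hi
    · exact coeff_mem_of_mem hB hmem hi
    · rw [coeff_eq_zero_of_degree_lt (hrd.trans_le (by exact_mod_cast hi))]
      exact zero_mem _
  have hPd : Dist P := dist_iff.2 ⟨hPm, fun i hi => by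
    rw [hnd] at hi
    rw [hPdef, coeff_sub, coeff_X_pow, if_neg hi.ne, zero_sub]
    exact neg_mem (hcoef i)⟩
  have hg₂u : IsUnit g₂ := by
    refine (isUnit_or_mem hB g₂).resolve_right fun hg => ?_
    have hjac : (maximalIdeal R).map (algebraMap R B) ⊔ Ideal.span {τ} ≤ (⊥ : Ideal B).jacobson :=
      sup_le (map_maximalIdeal_le_jacobson hB) ((Ideal.span_singleton_le_iff_mem _).2
        (hB.1.jac (Ideal.mem_map_of_mem _ (Ideal.mem_span_singleton_self _))))
    have h1 : IsUnit (g₂ * u * (-1) + 1) := Ideal.mem_jacobson_bot.1 (hjac (Ideal.mul_mem_right _ _ hg)) _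
    have h2 : τ ^ n * (g₂ * u * (-1) + 1) ∈ (maximalIdeal R).map (algebraMap R B) := by
      have h3 : algebraMap R[X] B r ∈ (maximalIdeal R).map (algebraMap R B) := by
        have h4 := Ideal.mem_map_of_mem (algebraMap R[X] B) ((Ideal.mem_map_C_iff (I := maximalIdeal R)).2 hcoef)
        rwa [Ideal.map_map, show (algebraMap R[X] B).comp C = algebraMap R B from
          (IsScalarTower.algebraMap_eq R R[X] B).symm] at h4
      have h5 : τ ^ n * (g₂ * u * (-1) + 1) = algebraMap R[X] B r + g₂ * (f - τ ^ n * u) := by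
        rw [show r = X ^ n - P by rw [hPdef, sub_sub_cancel], map_sub, ← hg₂, map_pow]; ring
      rw [h5]
      exact add_mem h3 (Ideal.mul_mem_left _ _ hμ)
    exact pow_notMem hB n ((Ideal.mul_unit_mem_iff_mem _ h1).1 h2)
  refine ⟨P, hg₂u.unit⁻¹, hPd, ?_⟩
  rw [← hg₂, mul_comm g₂ f, mul_assoc, hg₂u.mul_val_inv, mul_one]

end L01.HensWeier
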