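import Groth.Agent.L06.SupportDim
import Mathlib.Algebra.Module.LocalizedModule.Basic
import Mathlib.LinearAlgebra.Dimension.Free
import Mathlib.LinearAlgebra.Basis.VectorSpace
import Mathlib.RingTheory.Nilpotent.Lemmas
import Mathlib.RingTheory.Ideal.MinimalPrime.Noetherian
import Mathlib.RingTheory.Localization.AtPrime.Basic
import Mathlib.RingTheory.Localization.Module

/-!
Primes of maximal dimension; over a reduced ring every finite module agrees there with a sum of prime
quotients.
-/

set_option autoImplicit false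
set_option linter.style.haveILetI false

universe u

namespace Groth.L01.TopPrimes

open Groth.L06

variable {R : Type u} [CommRing R]

/-- The primes of dimension `d`. -/
def top' (R : Type u) [CommRing R] (d : ℕ) : Set (Ideal R) :=
  {P | P.IsPrime ∧ ringKrullDim (R ⧸ P) = d}

theorem minimal_of_mem {d : ℕ} (hd : ringKrullDim R ≤ d) {P : Ideal R} (hP : P ∈ top' R d) :
    P ∈ minimalPrimes R := by
  obtain ⟨hPp, hdim⟩ := hP
  haveI := hPp
  rw [minimalPrimes]
  refine ⟨⟨hPp, bot_le⟩, fun Q hQ hQP => ?_⟩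
  by_contra hne
  have hlt : (⟨Q, hQ.1⟩ : PrimeSpectrum R) < ⟨P, hPp⟩ := lt_of_le_of_ne hQP fun h =>
    hne ((congrArg PrimeSpectrum.asIdeal h).ge)
  rw [ringKrullDim_quotient, Order.krullDim] at hdim
  haveI : Nonempty (PrimeSpectrum.zeroLocus (P : Set R)) := ⟨⟨⟨P, hPp⟩, fun _ h => h⟩⟩
  obtain ⟨l, hl⟩ : ∃ l : LTSeries (PrimeSpectrum.zeroLocus (P : Set R)), l.length = d := by
    by_contra hne'
    push Not at hne'
    have hle : ∀ l : LTSeries (PrimeSpectrum.zeroLocus (P : Set R)), l.length ≤ d := fun l => by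
      have h1 : ((l.length : ℕ) : WithBot ℕ∞) ≤ ((d : ℕ) : WithBot ℕ∞) := by
        rw [← hdim]; exact le_iSup (fun l : LTSeries _ => ((l.length : ℕ) : WithBot ℕ∞)) l
      exact_mod_cast h1
    cases d with
    | zero => exact hne' (RelSeries.singleton _ (Classical.arbitrary _)) rfl
    | succ d =>
      have h2 : (⨆ l : LTSeries (PrimeSpectrum.zeroLocus (P : Set R)), ((l.length : ℕ) : WithBot ℕ∞)) ≤ (d : ℕ) :=
        iSup_le fun l => by
          have := hle l
          have := hne' l
          exact_mod_cast (by omega : l.length ≤ d)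
      rw [hdim] at h2
      have h3 : d + 1 ≤ d := by exact_mod_cast h2
      omega
  let l' : LTSeries (PrimeSpectrum R) := l.map Subtype.val (fun _ _ h => h)
  have hhead : (⟨P, hPp⟩ : PrimeSpectrum R) ≤ l'.head := l.head.2
  let L := l'.cons ⟨Q, hQ.1⟩ (hlt.trans_le hhead)
  have h1 : ((L.length : ℕ) : WithBot ℕ∞) ≤ ringKrullDim R := Order.LTSeries.length_le_krullDim L
  have h2 : L.length = d + 1 := by
    simp [L, l', LTSeries.map, RelSeries.map, hl]
  rw [h2] at h1
  have h4 : d + 1 ≤ d := by exact_mod_cast h1.trans hd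
  omega

theorem finite_top [IsNoetherianRing R] {d : ℕ} (hd : ringKrullDim R ≤ d) : (top' R d).Finite :=
  (minimalPrimes.finite_of_isNoetherianRing R).subset fun _ h => minimal_of_mem hd h

/-- A module vanishing at the primes of top dimension has smaller dimension. -/
theorem supportDim_lt {d : ℕ} (hd : ringKrullDim R ≤ d) (M : Type u) [AddCommGroup M] [Module R M]
    [Module.Finite R M] (h : ∀ P ∈ top' R d, ∀ x : M, ∃ t ∉ P, t • x = 0) :
    Module.supportDim R M < d := by
  have hle : Module.supportDim R M ≤ d := (Module.supportDim_le_ringKrullDim R M).trans hd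
  refine lt_of_le_of_ne hle fun heq => ?_
  rw [Module.supportDim, Order.krullDim] at heq
  obtain ⟨l, hl⟩ : ∃ l : LTSeries (Module.support R M), l.length = d := by
    by_contra hne'
    push Not at hne'
    have hle' : ∀ l : LTSeries (Module.support R M), l.length ≤ d := fun l => by
      have h1 : ((l.length : ℕ) : WithBot ℕ∞) ≤ ((d : ℕ) : WithBot ℕ∞) := by
        rw [← heq]; exact le_iSup (fun l : LTSeries _ => ((l.length : ℕ) : WithBot ℕ∞)) l
      exact_mod_cast h1
    rcases isEmpty_or_nonempty (Module.support R M) with he | he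
    · rw [ciSup_of_empty (fun l : LTSeries (Module.support R M) => ((l.length : ℕ) : WithBot ℕ∞))] at heq
      exact absurd heq.symm (by simp)
    cases d with
    | zero => exact hne' (RelSeries.singleton _ (Classical.arbitrary _)) rfl
    | succ d =>
      have h2 : (⨆ l : LTSeries (Module.support R M), ((l.length : ℕ) : WithBot ℕ∞)) ≤ (d : ℕ) :=
        iSup_le fun l => by
          have := hle' l
          have := hne' l
          exact_mod_cast (by omega : l.length ≤ d)
      rw [heq] at h2
      have h3 : d + 1 ≤ d := by exact_mod_cast h2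
      omega
  let P := l.head.1
  have hP : P.asIdeal ∈ top' R d := by
    refine ⟨P.isPrime, le_antisymm ((ringKrullDim_quotient_le P.asIdeal).trans hd) ?_⟩
    rw [ringKrullDim_quotient, ← hl]
    let l' : LTSeries (PrimeSpectrum.zeroLocus (P.asIdeal : Set R)) :=
      { length := l.length
        toFun := fun i => ⟨(l i).1, fun x hx => (l.head_le i) hx⟩
        step := fun i => l.step i }
    exact Order.LTSeries.length_le_krullDim l'
  obtain ⟨x, hx⟩ := Module.mem_support_iff_exists_annihilator.mp l.head.2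
  obtain ⟨t, htP, htx⟩ := h _ hP x
  exact htP (hx ((Submodule.mem_annihilator_span_singleton x t).mpr htx))

section Reduced

variable [IsNoetherianRing R] [IsReduced R]

/-- A separating element for a minimal prime. -/
theorem exists_sep {P : Ideal R} (hP : P ∈ minimalPrimes R) :
    ∃ u, u ∉ P ∧ (∀ x ∈ P, u * x = 0) ∧ ∀ Q ∈ minimalPrimes R, Q ≠ P → u ∈ Q := by
  classical
  haveI : P.IsPrime := Ideal.minimalPrimes_isPrime hP
  let s := (minimalPrimes.finite_of_isNoetherianRing R).toFinset.erase P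
  have hsel : ∀ Q ∈ s, ∃ v ∈ Q, v ∉ P := fun Q hQ => by
    obtain ⟨hne, hQ'⟩ := Finset.mem_erase.mp hQ
    rw [Set.Finite.mem_toFinset] at hQ'
    refine SetLike.not_le_iff_exists.mp fun h => hne ?_
    exact le_antisymm h (hP.2 ⟨Ideal.minimalPrimes_isPrime hQ', bot_le⟩ h)
  choose v hv hvP using hsel
  let u := ∏ Q : {Q // Q ∈ s}, v Q.1 Q.2
  have hu : ∀ Q ∈ minimalPrimes R, Q ≠ P → u ∈ Q := fun Q hQ hne => by
    have hQs : Q ∈ s := Finset.mem_erase.mpr ⟨hne, by rw [Set.Finite.mem_toFinset]; exact hQ⟩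
    exact Q.prod_mem (Finset.mem_univ (⟨Q, hQs⟩ : {Q // Q ∈ s})) (hv Q hQs)
  refine ⟨u, fun h => ?_, fun x hx => ?_, hu⟩
  · obtain ⟨Q, -, hQ⟩ := (inferInstance : P.IsPrime).prod_mem_iff.mp h
    exact hvP Q.1 Q.2 hQ
  · apply IsNilpotent.eq_zero
    rw [← mem_nilradical, nilradical, Ideal.radical_eq_sInf, Submodule.mem_sInf]
    intro Q hQ
    haveI : Ideal.IsPrime Q := hQ.2
    obtain ⟨Q', hQ', hle⟩ := Ideal.exists_minimalPrimes_le (I := (⊥ : Ideal R)) (J := Q) bot_le
    apply hle
    by_cases hne : Q' = P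
    · rw [hne]; exact P.mul_mem_left u hx
    · exact Q'.mul_mem_right x (hu Q' hQ' hne)

/-- At a minimal prime, a finite module compares with a free module over the prime quotient. -/
theorem exists_local_maps (M : Type u) [AddCommGroup M] [Module R M] [Module.Finite R M]
    {P : Ideal R} (hP : P ∈ minimalPrimes R) :
    ∃ (r : ℕ) (f : M →ₗ[R] (Fin r → R ⧸ P)) (g : (Fin r → R ⧸ P) →ₗ[R] M),
      (∀ y, ∃ t ∉ P, ∃ x, f x = t • y) ∧ ∀ x, ∃ t ∉ P, ∃ y, g y = t • x := by
  classical
  haveI : P.IsPrime := Ideal.minimalPrimes_isPrime hP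
  obtain ⟨u, huP, hu0, -⟩ := exists_sep hP
  let RP := Localization.AtPrime P
  have hker : ∀ a : R, algebraMap R RP a = 0 ↔ a ∈ P := fun a => by
    rw [IsLocalization.map_eq_zero_iff P.primeCompl RP]
    refine ⟨fun ⟨s, hs⟩ => ?_, fun ha => ⟨⟨u, huP⟩, hu0 a ha⟩⟩
    exact ((inferInstance : P.IsPrime).mem_or_mem (hs ▸ P.zero_mem)).resolve_left s.2
  have hfield : IsField RP := by
    rw [IsLocalRing.isField_iff_maximalIdeal_eq, ← Localization.AtPrime.map_eq_maximalIdeal, eq_bot_iff,
      Ideal.map_le_iff_le_comap]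
    intro a ha
    rw [Ideal.mem_comap, Ideal.mem_bot]
    exact (hker a).mpr ha
  letI : Field RP := hfield.toField
  let V := LocalizedModule P.primeCompl M
  let ι : M →ₗ[R] V := LocalizedModule.mkLinearMap P.primeCompl M
  haveI : Module.Finite RP V := Module.Finite.of_isLocalizedModule P.primeCompl ι
  let b₀ := Module.finBasis RP V
  choose num hnum using fun j => IsLocalizedModule.surj P.primeCompl ι (b₀ j)
  let r := Module.finrank RP V
  let b : Module.Basis (Fin r) RP V :=
    b₀.unitsSMul fun j => (IsLocalization.map_units RP (num j).2).unit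
  have hb : ∀ j, b j = ι (num j).1 := fun j => by
    rw [← hnum j, Module.Basis.unitsSMul_apply, Units.smul_def]
    exact algebraMap_smul RP _ _
  obtain ⟨G, hG⟩ := (Module.Finite.fg_top : (⊤ : Submodule R M).FG)
  obtain ⟨⟨s, hs⟩, hsden⟩ := IsLocalization.exist_integer_multiples_of_finite P.primeCompl
    (S := RP) (fun gj : {g // g ∈ G} × Fin r => b.repr (ι gj.1.1) gj.2)
  let N : Submodule R RP := LinearMap.range (Algebra.linearMap R RP)
  let co : Fin r → M →ₗ[R] RP := fun j =>
    s • (((LinearMap.proj j : (Fin r → RP) →ₗ[RP] RP)).restrictScalars R ∘ₗ (b.equivFun.toLinearMap.restrictScalars R) ∘ₗ ι)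
  have hco : ∀ j x, co j x ∈ N := fun j x => by
    have hx : x ∈ Submodule.span R (G : Set M) := hG ▸ Submodule.mem_top
    induction hx using Submodule.span_induction with
    | mem g hg =>
      obtain ⟨a, ha⟩ := hsden (⟨g, hg⟩, j)
      exact ⟨a, ha.trans rfl⟩
    | zero => rw [map_zero]; exact N.zero_mem
    | add x y _ _ hx hy => rw [map_add]; exact N.add_mem hx hy
    | smul c x _ hx => rw [map_smul]; exact N.smul_mem c hx
  have hπ : ∀ a ∈ P, Algebra.linearMap R RP a = 0 := fun a ha => (hker a).mpr ha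
  let π : (R ⧸ P) →ₗ[R] RP := Submodule.liftQ P (Algebra.linearMap R RP) fun a ha => LinearMap.mem_ker.mpr (hπ a ha)
  have hπinj : Function.Injective π := by
    rw [← LinearMap.ker_eq_bot, Submodule.ker_liftQ, eq_bot_iff]
    rintro _ ⟨a, ha, rfl⟩
    rw [Submodule.mem_bot, Submodule.mkQ_apply, Submodule.Quotient.mk_eq_zero]
    exact (hker a).mp ha
  have hrange : ∀ j x, co j x ∈ LinearMap.range π := fun j x => by
    obtain ⟨a, ha⟩ := hco j x
    exact ⟨Submodule.Quotient.mk a, ha⟩
  let f : M →ₗ[R] (Fin r → R ⧸ P) := LinearMap.pi fun j =>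
    (LinearEquiv.ofInjective π hπinj).symm.toLinearMap ∘ₗ (co j).codRestrict _ (hrange j)
  have hf : ∀ x j, π (f x j) = s • b.repr (ι x) j := fun x j => by
    show π ((LinearEquiv.ofInjective π hπinj).symm ⟨co j x, hrange j x⟩) = _
    rw [← LinearEquiv.ofInjective_apply (h := hπinj) π, LinearEquiv.apply_symm_apply]
    rfl
  let g : (Fin r → R ⧸ P) →ₗ[R] M := ∑ j,
    (Submodule.liftQ P (LinearMap.toSpanSingleton R M (u • (num j).1)) fun a ha => by
      rw [LinearMap.mem_ker, LinearMap.toSpanSingleton_apply, smul_smul, mul_comm, hu0 a ha, zero_smul]).comp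
        (LinearMap.proj j)
  refine ⟨r, f, g, fun y => ?_, fun x => ?_⟩
  · choose a ha using fun j => Submodule.Quotient.mk_surjective P (y j)
    refine ⟨s, hs, ∑ j, a j • (num j).1, funext fun i => hπinj ?_⟩
    rw [hf, map_sum, map_sum, Finsupp.coe_finsetSum, Finset.sum_apply, Pi.smul_apply, map_smul, ← ha i]
    congr 1
    show _ = algebraMap R RP (a i)
    rw [Finset.sum_eq_single i]
    · rw [map_smul, ← hb, ← algebraMap_smul RP (a i) (b i), map_smul, b.repr_self]
      simp [Algebra.smul_def]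
    · intro j _ hji
      rw [map_smul, ← hb, ← algebraMap_smul RP (a j) (b j), map_smul, b.repr_self]
      simp [hji]
    · simp
  · -- coordinates with a common denominator
    obtain ⟨⟨w, hw⟩, hwden⟩ := IsLocalization.exist_integer_multiples_of_finite P.primeCompl
      (S := RP) (fun j => b.repr (ι x) j)
    choose a ha using hwden
    have h1 : ι (w • x - ∑ j, a j • (num j).1) = 0 := by
      rw [map_sub, map_smul, map_sum, sub_eq_zero]
      conv_lhs => rw [← b.sum_repr (ι x), Finset.smul_sum]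
      refine Finset.sum_congr rfl fun j _ => ?_
      rw [map_smul, ← hb, ← smul_assoc, ← show algebraMap R RP (a j) = w • b.repr (ι x) j from ha j,
        algebraMap_smul]
    obtain ⟨⟨t, ht⟩, ht0⟩ := (IsLocalizedModule.eq_zero_iff P.primeCompl ι).mp h1
    refine ⟨u * (t * w), fun h => ?_, fun j => Submodule.Quotient.mk (t * a j), ?_⟩
    · rcases (inferInstance : P.IsPrime).mem_or_mem h with h | h
      · exact huP h
      · exact ((inferInstance : P.IsPrime).mem_or_mem h).elim ht hw
    · have h2 : t • (w • x) = ∑ j, (t * a j) • (num j).1 := by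
        have h3 : t • (w • x - ∑ j, a j • (num j).1) = 0 := ht0
        rw [smul_sub, sub_eq_zero, Finset.smul_sum] at h3
        rw [h3]
        exact Finset.sum_congr rfl fun j _ => smul_smul _ _ _
      simp only [g, LinearMap.coe_sum, Finset.sum_apply, LinearMap.comp_apply, LinearMap.proj_apply,
        Submodule.liftQ_apply, LinearMap.toSpanSingleton_apply]
      rw [mul_smul u, mul_smul t, h2, Finset.smul_sum]
      exact Finset.sum_congr rfl fun j _ => smul_comm _ _ _

/-- Maps in both directions, with cokernels of small dimension. -/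
theorem exists_maps {d : ℕ} (hd : ringKrullDim R ≤ d) [Fintype (top' R d)]
    (M : Type u) [AddCommGroup M] [Module R M] [Module.Finite R M] :
    ∃ r : top' R d → ℕ, ∃ (f : M →ₗ[R] ((P : top' R d) → Fin (r P) → R ⧸ P.1))
      (g : ((P : top' R d) → Fin (r P) → R ⧸ P.1) →ₗ[R] M),
      Module.supportDim R (((P : top' R d) → Fin (r P) → R ⧸ P.1) ⧸ LinearMap.range f) < d ∧
      Module.supportDim R (M ⧸ LinearMap.range g) < d := by
  classical
  choose r f g hf hg using fun P : top' R d => exists_local_maps M (minimal_of_mem hd P.2)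
  let F : M →ₗ[R] ((P : top' R d) → Fin (r P) → R ⧸ P.1) := LinearMap.pi f
  let Gm : ((P : top' R d) → Fin (r P) → R ⧸ P.1) →ₗ[R] M := ∑ P, (g P).comp (LinearMap.proj P)
  refine ⟨r, F, Gm, supportDim_lt hd _ fun P hP z => ?_, supportDim_lt hd _ fun P hP z => ?_⟩
  · obtain ⟨y, rfl⟩ := Submodule.Quotient.mk_surjective _ z
    obtain ⟨u, huP, -, huQ⟩ := exists_sep (minimal_of_mem hd hP)
    obtain ⟨t, htP, x, hx⟩ := hf ⟨P, hP⟩ (y ⟨P, hP⟩)
    haveI := hP.1
    refine ⟨u * t, fun h => (hP.1.mem_or_mem h).elim huP htP, ?_⟩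
    rw [← Submodule.Quotient.mk_smul, Submodule.Quotient.mk_eq_zero]
    refine ⟨u • x, funext fun Q => ?_⟩
    show f Q (u • x) = (u * t) • y Q
    by_cases hQ : Q = ⟨P, hP⟩
    · subst hQ
      rw [map_smul, hx, smul_smul]
    · have huQ' : u ∈ Q.1 := huQ _ (minimal_of_mem hd Q.2) fun h => hQ (Subtype.ext h)
      have hz : ∀ v : Fin (r Q) → R ⧸ Q.1, u • v = 0 := fun v => funext fun i => by
        obtain ⟨c, hc⟩ := Submodule.Quotient.mk_surjective Q.1 (v i)
        rw [Pi.smul_apply, ← hc, ← Submodule.Quotient.mk_smul, Pi.zero_apply, Submodule.Quotient.mk_eq_zero,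
          smul_eq_mul]
        exact Q.1.mul_mem_right c huQ'
      rw [map_smul, hz, mul_smul, hz]
  · obtain ⟨x, rfl⟩ := Submodule.Quotient.mk_surjective _ z
    obtain ⟨t, htP, y, hy⟩ := hg ⟨P, hP⟩ x
    refine ⟨t, htP, ?_⟩
    rw [← Submodule.Quotient.mk_smul, Submodule.Quotient.mk_eq_zero]
    refine ⟨Pi.single ⟨P, hP⟩ y, ?_⟩
    simp only [Gm, LinearMap.coe_sum, Finset.sum_apply, LinearMap.comp_apply, LinearMap.proj_apply]
    rw [Finset.sum_eq_single (⟨P, hP⟩ : top' R d), Pi.single_eq_same, hy]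
    · intro Q _ hQ
      rw [Pi.single_eq_of_ne hQ, map_zero]
    · simp

end Reduced

end Groth.L01.TopPrimes
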