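import Mathlib.RingTheory.HopfAlgebra.Quotient
import Mathlib.RingTheory.LocalRing.Basic
import Mathlib.RingTheory.LocalRing.MaximalIdeal.Basic
import Mathlib.RingTheory.Artinian.Ring
import Mathlib.RingTheory.Artinian.Module
import Mathlib.LinearAlgebra.Dimension.Constructions
import Mathlib.Tactic.LinearCombination

/-! Principal Hopf ideals in commutative Hopf algebras; finite local algebras with principal maximal ideal. -/

universe u v

open scoped TensorProduct

namespace Groth.L01.HopfPrincipal

variable {k : Type u} [CommRing k] {A : Type v} [CommRing A] [HopfAlgebra k A]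

theorem isHopfIdeal_span_singleton (x : A) (hε : Bialgebra.counitAlgHom k A x = 0)
    (hΔ : ∃ a b : A, Coalgebra.comul (R := k) x = x ⊗ₜ[k] a + b ⊗ₜ[k] x)
    (hS : HopfAlgebra.antipodeAlgHom k A x ∈ Ideal.span {x}) :
    (Ideal.span {x}).IsHopfIdeal k := by
  haveI : ((Ideal.span {x}).restrictScalars k).IsCoideal := by
    refine Submodule.IsCoideal.mk ?_ ?_
    · intro y hy
      obtain ⟨a, rfl⟩ := Ideal.mem_span_singleton'.mp hy
      show Bialgebra.counitAlgHom k A (a * x) = 0
      rw [map_mul, hε, mul_zero]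
    · intro y hy
      obtain ⟨c, rfl⟩ := Ideal.mem_span_singleton'.mp hy
      obtain ⟨a, b, hab⟩ := hΔ
      rw [Bialgebra.comul_mul, hab, mul_add, map_add]
      have key : ∀ z : A ⊗[k] A, ∀ p q : A, p ∈ Ideal.span {x} ∨ q ∈ Ideal.span {x} →
          TensorProduct.map ((Ideal.span {x}).restrictScalars k).mkQ ((Ideal.span {x}).restrictScalars k).mkQ (z * (p ⊗ₜ q)) = 0 := by
        intro z p q hpq
        induction z using TensorProduct.induction_on with
        | zero => rw [zero_mul, map_zero]
        | tmul u w =>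
          rw [Algebra.TensorProduct.tmul_mul_tmul, TensorProduct.map_tmul]
          rcases hpq with h | h
          · rw [show ((Ideal.span {x}).restrictScalars k).mkQ (u * p) = 0 from
              (Submodule.Quotient.mk_eq_zero _).mpr (Ideal.mul_mem_left _ u h), TensorProduct.zero_tmul]
          · rw [show ((Ideal.span {x}).restrictScalars k).mkQ (w * q) = 0 from
              (Submodule.Quotient.mk_eq_zero _).mpr (Ideal.mul_mem_left _ w h), TensorProduct.tmul_zero]
        | add z₁ z₂ h₁ h₂ => rw [add_mul, map_add, h₁, h₂, add_zero]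
      rw [key _ _ _ (Or.inl (Ideal.mem_span_singleton_self x)), key _ _ _ (Or.inr (Ideal.mem_span_singleton_self x)), add_zero]
  refine Ideal.IsHopfIdeal.mk ?_
  intro y hy
  obtain ⟨a, rfl⟩ := Ideal.mem_span_singleton'.mp hy
  show HopfAlgebra.antipodeAlgHom k A (a * x) ∈ _
  rw [map_mul]
  exact Ideal.mul_mem_left _ _ hS

/-- If the augmentation ideal is generated by `y` and `y ^ n = 0`, then `1, y, …, y ^ (n - 1)` span. -/
theorem span_pow_eq_top (y : A) (n : ℕ) (hy : RingHom.ker (Bialgebra.counitAlgHom k A) = Ideal.span {y})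
    (hn : y ^ n = 0) : Submodule.span k (Set.range fun i : Fin n => y ^ (i : ℕ)) = ⊤ := by
  have step : ∀ j, ∀ a : A, ∃ s ∈ Submodule.span k (Set.range fun i : Fin n => y ^ (i : ℕ)), ∃ b, a = s + b * y ^ j := by
    intro j
    induction j with
    | zero => exact fun a => ⟨0, zero_mem _, a, by simp⟩
    | succ j ih =>
      intro a
      obtain ⟨s, hs, b, rfl⟩ := ih a
      have hb : b - algebraMap k A (Bialgebra.counitAlgHom k A b) ∈ Ideal.span {y} := by
        rw [← hy, RingHom.mem_ker, map_sub, AlgHom.commutes]; exact sub_self _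
      obtain ⟨c, hc⟩ := Ideal.mem_span_singleton'.mp hb
      refine ⟨s + Bialgebra.counitAlgHom k A b • y ^ j, add_mem hs ?_, c, ?_⟩
      · by_cases hj : j < n
        · exact Submodule.smul_mem _ _ (Submodule.subset_span ⟨⟨j, hj⟩, rfl⟩)
        · rw [show y ^ j = 0 from pow_eq_zero_of_le (by omega) hn, smul_zero]; exact zero_mem _
      · rw [Algebra.smul_def, pow_succ']
        linear_combination (-(y ^ j)) * hc
  refine eq_top_iff.mpr fun a _ => ?_
  obtain ⟨s, hs, b, rfl⟩ := step n a
  rwa [hn, mul_zero, add_zero]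

end Groth.L01.HopfPrincipal
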