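import Mathlib.RingTheory.HopfAlgebra.Quotient
import Mathlib.RingTheory.FiniteType
import Mathlib.RingTheory.Bialgebra.Equiv

/-! A Hopf algebra of finite type over `k : Type u` is isomorphic to one in `Type u`. -/

universe u v

open TensorProduct

namespace Groth.L01.HopfShrink

variable {k : Type u} [CommRing k] {A : Type v} [CommRing A] [HopfAlgebra k A]
  {A' : Type u} [CommRing A'] [Algebra k A'] (e : A' ≃ₐ[k] A)

noncomputable def comul' : A' →ₐ[k] A' ⊗[k] A' :=
  (Algebra.TensorProduct.map e.symm.toAlgHom e.symm.toAlgHom).comp ((Bialgebra.comulAlgHom k A).comp e.toAlgHom)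

noncomputable def counit' : A' →ₐ[k] k := (Bialgebra.counitAlgHom k A).comp e.toAlgHom

theorem map_symm (z : A ⊗[k] A) :
    Algebra.TensorProduct.map e.symm.toAlgHom e.symm.toAlgHom z =
      TensorProduct.map e.symm.toAlgHom.toLinearMap e.symm.toAlgHom.toLinearMap z := by
  induction z using TensorProduct.induction_on with
  | zero => simp
  | tmul a b => simp
  | add a b ha hb => simp only [map_add, ha, hb]

theorem coassoc' : (Algebra.TensorProduct.assoc k k k A' A' A').toAlgHom.comp
    ((Algebra.TensorProduct.map (comul' e) (.id k A')).comp (comul' e)) =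
    (Algebra.TensorProduct.map (.id k A') (comul' e)).comp (comul' e) := by
  refine AlgHom.ext fun x => ?_
  let T := TensorProduct.map e.symm.toAlgHom.toLinearMap
    (TensorProduct.map e.symm.toAlgHom.toLinearMap e.symm.toAlgHom.toLinearMap)
  have h1 : ∀ z : A ⊗[k] A, Algebra.TensorProduct.assoc k k k A' A' A'
      (Algebra.TensorProduct.map (comul' e) (.id k A') (Algebra.TensorProduct.map e.symm.toAlgHom e.symm.toAlgHom z)) =
        T (TensorProduct.assoc k A A A ((Coalgebra.comul (R := k)).rTensor A z)) := by
    intro z
    induction z using TensorProduct.induction_on with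
    | zero => simp
    | add a b ha hb => simp only [map_add, ha, hb]
    | tmul a b =>
      simp only [Algebra.TensorProduct.map_tmul, LinearMap.rTensor_tmul, AlgHom.id_apply]
      have : comul' e (e.symm.toAlgHom a) =
          Algebra.TensorProduct.map e.symm.toAlgHom e.symm.toAlgHom (Coalgebra.comul (R := k) a) := by
        simp [comul']
      rw [this]
      induction Coalgebra.comul (R := k) a using TensorProduct.induction_on with
      | zero => simp
      | add c d hc hd => simp only [map_add, TensorProduct.add_tmul, hc, hd]
      | tmul c d => simp [T]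
  have h2 : ∀ z : A ⊗[k] A, Algebra.TensorProduct.map (.id k A') (comul' e)
      (Algebra.TensorProduct.map e.symm.toAlgHom e.symm.toAlgHom z) =
        T ((Coalgebra.comul (R := k)).lTensor A z) := by
    intro z
    induction z using TensorProduct.induction_on with
    | zero => simp
    | add a b ha hb => simp only [map_add, ha, hb]
    | tmul a b =>
      simp only [Algebra.TensorProduct.map_tmul, LinearMap.lTensor_tmul, AlgHom.id_apply]
      have : comul' e (e.symm.toAlgHom b) =
          Algebra.TensorProduct.map e.symm.toAlgHom e.symm.toAlgHom (Coalgebra.comul (R := k) b) := by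
        simp [comul']
      rw [this, map_symm]
      simp [T]
  show Algebra.TensorProduct.assoc k k k A' A' A' (Algebra.TensorProduct.map (comul' e) (.id k A')
    (Algebra.TensorProduct.map e.symm.toAlgHom e.symm.toAlgHom (Coalgebra.comul (R := k) (e x)))) =
    Algebra.TensorProduct.map (.id k A') (comul' e)
    (Algebra.TensorProduct.map e.symm.toAlgHom e.symm.toAlgHom (Coalgebra.comul (R := k) (e x)))
  rw [h1, h2, Coalgebra.coassoc_apply]

theorem rTensor' : (Algebra.TensorProduct.map (counit' e) (.id k A')).comp (comul' e) =
    (Algebra.TensorProduct.lid k A').symm.toAlgHom := by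
  refine AlgHom.ext fun x => ?_
  have h1 : ∀ z : A ⊗[k] A, Algebra.TensorProduct.map (counit' e) (.id k A')
      (Algebra.TensorProduct.map e.symm.toAlgHom e.symm.toAlgHom z) =
        e.symm.toAlgHom.toLinearMap.lTensor k ((Coalgebra.counit (R := k)).rTensor A z) := by
    intro z
    induction z using TensorProduct.induction_on with
    | zero => simp
    | add a b ha hb => simp only [map_add, ha, hb]
    | tmul a b => simp [counit']
  refine (h1 (Coalgebra.comul (R := k) (e x))).trans ?_
  rw [Coalgebra.rTensor_counit_comul]
  simp

theorem lTensor' : (Algebra.TensorProduct.map (.id k A') (counit' e)).comp (comul' e) =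
    (Algebra.TensorProduct.rid k k A').symm.toAlgHom := by
  refine AlgHom.ext fun x => ?_
  have h1 : ∀ z : A ⊗[k] A, Algebra.TensorProduct.map (.id k A') (counit' e)
      (Algebra.TensorProduct.map e.symm.toAlgHom e.symm.toAlgHom z) =
        e.symm.toAlgHom.toLinearMap.rTensor k ((Coalgebra.counit (R := k)).lTensor A z) := by
    intro z
    induction z using TensorProduct.induction_on with
    | zero => simp
    | add a b ha hb => simp only [map_add, ha, hb]
    | tmul a b => simp [counit']
  refine (h1 (Coalgebra.comul (R := k) (e x))).trans ?_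
  rw [Coalgebra.lTensor_counit_comul]
  simp

/-- The transported Hopf algebra, with a bialgebra isomorphism. -/
theorem exists_small (k : Type u) [CommRing k] (A : Type v) [CommRing A] [HopfAlgebra k A]
    [Algebra.FiniteType k A] :
    ∃ (A' : Type u) (_ : CommRing A') (_ : HopfAlgebra k A') (_ : Algebra.FiniteType k A'),
      Nonempty (A' ≃ₐc[k] A) := by
  obtain ⟨n, f, hf⟩ := Algebra.FiniteType.iff_quotient_mvPolynomial''.1 ‹Algebra.FiniteType k A›
  let A' := MvPolynomial (Fin n) k ⧸ RingHom.ker f
  let e : A' ≃ₐ[k] A := Ideal.quotientKerAlgEquivOfSurjective hf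
  letI : Bialgebra k A' := Bialgebra.ofAlgHom (comul' e) (counit' e) (coassoc' e) (rTensor' e) (lTensor' e)
  let g : A →ₐc[k] A' := BialgHom.ofAlgHom e.symm.toAlgHom
    (AlgHom.ext fun x => by show Coalgebra.counit (R := k) (e (e.symm x)) = _; rw [e.apply_symm_apply]; rfl)
    (AlgHom.ext fun x => by
      show _ = Algebra.TensorProduct.map e.symm.toAlgHom e.symm.toAlgHom (Coalgebra.comul (R := k) (e (e.symm x)))
      rw [e.apply_symm_apply]; rfl)
  letI : HopfAlgebraStruct k A' :=
    { antipode := e.symm.toAlgHom.toLinearMap ∘ₗ HopfAlgebra.antipode k ∘ₗ e.toAlgHom.toLinearMap }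
  letI : HopfAlgebra k A' := HopfAlgebra.ofSurjective g e.symm.surjective (LinearMap.ext fun x => by
    show e.symm (HopfAlgebra.antipode k (e (e.symm x))) = e.symm (HopfAlgebra.antipode k x)
    rw [e.apply_symm_apply])
  exact ⟨A', inferInstance, inferInstance,
    Algebra.FiniteType.of_surjective (Ideal.Quotient.mkₐ k _) Ideal.Quotient.mk_surjective,
    ⟨(BialgEquiv.ofBijective g e.symm.bijective).symm⟩⟩

end Groth.L01.HopfShrink
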