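import Groth.Agent.L01.EakinNagata
import Mathlib.RingTheory.Invariant.Basic
import Mathlib.Tactic.LinearCombination
import Mathlib.Tactic.Ring
import Mathlib.RingTheory.Localization.FractionRing
import Mathlib.FieldTheory.Fixed
import Mathlib.RingTheory.UniqueFactorizationDomain.Basic
import Mathlib.RingTheory.Ideal.Height
import Mathlib.RingTheory.Ideal.GoingUp
import Mathlib.LinearAlgebra.Matrix.Charpoly.LinearMap
import Mathlib.RingTheory.Localization.AtPrime.Basic
import Mathlib.RingTheory.LocalRing.ResidueField.Ideal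

/-!
A height one prime of the invariant ring of a finite group acting on a factorial domain,
with trivial residue extension, is generated by a norm.
-/

set_option autoImplicit false
universe u

open scoped Pointwise

namespace Groth.L01.InvariantPrincipal

variable {A B G : Type u} [CommRing A] [IsDomain A] [UniqueFactorizationMonoid A]
  [CommRing B] [Algebra B A] [FaithfulSMul B A] [Module.Finite B A]
  [Group G] [Finite G] [MulSemiringAction G A] [FaithfulSMul G A] [SMulCommClass G B A]
  [Algebra.IsInvariant B A G]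

theorem sum_rearrange {F ι : Type*} [CommRing F] [Fintype ι] [DecidableEq ι] (s g : F) (l x h : ι → F) :
    s * ((g * ∑ v, l v * x v) * ∏ v, h v) =
      g * ∑ v, s * l v * (h v * x v * ∏ u ∈ Finset.univ.erase v, h u) := by
  simp only [Finset.mul_sum, Finset.sum_mul]
  refine Finset.sum_congr rfl fun v _ => ?_
  rw [← Finset.mul_prod_erase Finset.univ h (Finset.mem_univ v)]
  ring

omit [UniqueFactorizationMonoid A] [FaithfulSMul B A] in
/-- If every element is, up to the denominators of `q`, a combination of `W`, then the group is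
no larger than `W`. -/
theorem card_le_of_span (q : Ideal B) [q.IsPrime] (hq0 : ∀ c : B, c ∉ q → algebraMap B A c ≠ 0)
    {ι : Type u} [Fintype ι] (w : ι → A)
    (h : ∀ a : A, ∃ c : B, c ∉ q ∧ ∃ b : ι → B, algebraMap B A c * a = ∑ i, algebraMap B A (b i) * w i) :
    Nat.card G ≤ Fintype.card ι := by
  classical
  haveI : Fintype G := Fintype.ofFinite G
  let L := FractionRing A
  letI := IsFractionRing.mulSemiringAction G A L
  have hsmul : ∀ (g : G) (a : A), g • algebraMap A L a = algebraMap A L (g • a) := fun g a =>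
    IsFractionRing.ringEquivOfRingEquiv_algebraMap _ a
  haveI : FaithfulSMul G L := ⟨fun {g g'} hg => eq_of_smul_eq_smul fun a : A =>
    IsFractionRing.injective A L (by rw [← hsmul, ← hsmul]; exact hg _)⟩
  let K := FixedPoints.subfield G L
  have hB : ∀ b : B, algebraMap A L (algebraMap B A b) ∈ K := fun b g => by
    show g • algebraMap A L (algebraMap B A b) = _
    rw [hsmul, show g • algebraMap B A b = algebraMap B A b by
      rw [Algebra.algebraMap_eq_smul_one (A := A) b, smul_comm g b (1 : A), smul_one]]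
  have htop : Submodule.span K (Set.range fun i => algebraMap A L (w i)) = ⊤ := by
    refine eq_top_iff.mpr fun x _ => ?_
    obtain ⟨a, s, hs, rfl⟩ := IsFractionRing.div_surjective A x
    obtain ⟨N, hN⟩ := Algebra.IsInvariant.isInvariant (A := B) (G := G) (∏ g : G, g • s) (fun g => by
      rw [Finset.smul_prod']
      exact Fintype.prod_equiv (Equiv.mulLeft g) _ _ fun g' => by rw [smul_smul]; rfl)
    obtain ⟨a', ha'⟩ : s ∣ ∏ g : G, g • s := by
      have := Finset.dvd_prod_of_mem (fun g : G => g • s) (Finset.mem_univ (1 : G))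
      rwa [one_smul] at this
    obtain ⟨c, hc, b, hb⟩ := h (a * a')
    have hN0 : algebraMap B A N ≠ 0 := by
      rw [hN]
      exact Finset.prod_ne_zero_iff.mpr fun g _ => by
        rw [ne_eq, smul_eq_zero_iff_eq]; exact nonZeroDivisors.ne_zero hs
    have hcN : algebraMap A L (algebraMap B A (c * N)) ≠ 0 := by
      rw [map_ne_zero_iff _ (IsFractionRing.injective A L), map_mul]
      exact mul_ne_zero (hq0 c hc) hN0
    have hs0 : algebraMap A L s ≠ 0 := by
      rw [map_ne_zero_iff _ (IsFractionRing.injective A L)]; exact nonZeroDivisors.ne_zero hs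
    have hx : algebraMap A L a / algebraMap A L s =
        ∑ i, (⟨_, hB (b i)⟩ * (⟨_, hB (c * N)⟩ : K)⁻¹ : K) • algebraMap A L (w i) := by
      have h1 : (algebraMap A L a / algebraMap A L s) * algebraMap A L (algebraMap B A (c * N)) =
          ∑ i, algebraMap A L (algebraMap B A (b i)) * algebraMap A L (w i) := by
        simp only [← map_mul, ← map_sum, ← hb]
        rw [div_mul_eq_mul_div, div_eq_iff hs0, ← map_mul, ← map_mul]
        refine congrArg _ ?_
        rw [map_mul, hN, ha']
        ring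
      calc algebraMap A L a / algebraMap A L s
          = (∑ i, algebraMap A L (algebraMap B A (b i)) * algebraMap A L (w i)) /
              algebraMap A L (algebraMap B A (c * N)) := by rw [← h1, mul_div_cancel_right₀ _ hcN]
        _ = _ := by
          rw [div_eq_mul_inv, Finset.sum_mul]
          refine Finset.sum_congr rfl fun i _ => ?_
          rw [Subfield.smul_def, smul_eq_mul, Subfield.coe_mul, Subfield.coe_inv]
          ring
    rw [hx]
    exact Submodule.sum_mem _ fun i _ => Submodule.smul_mem _ _ (Submodule.subset_span ⟨i, rfl⟩)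
  calc Nat.card G = Module.finrank K L := by rw [Nat.card_eq_fintype_card]; exact (FixedPoints.finrank_eq_card G L).symm
    _ ≤ Fintype.card ι := by
      rw [← finrank_top K L, ← htop]
      exact finrank_range_le_card _

include G in
theorem exists_generator (q : Ideal B) [q.IsPrime] (hq : q.height = 1) (p : Ideal A) [p.IsPrime]
    [p.LiesOver q]
    (hres : ∀ a : A, ∃ b c : B, c ∉ q ∧ algebraMap B A c * a - algebraMap B A b ∈ p) :
    ∃ N : B, N ≠ 0 ∧ q = Ideal.span {N} := by
  classical
  haveI : Fintype G := Fintype.ofFinite G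
  have hinj : Function.Injective (algebraMap B A) := FaithfulSMul.algebraMap_injective B A
  haveI : IsDomain B := hinj.isDomain
  have hpq : ∀ b : B, algebraMap B A b ∈ p ↔ b ∈ q := fun b => (Ideal.mem_of_liesOver p q b).symm
  have hfix : ∀ (g : G) (b : B), g • algebraMap B A b = algebraMap B A b := fun g b => by
    rw [Algebra.algebraMap_eq_smul_one, smul_comm g b (1 : A), smul_one]
  have hnorm : ∀ a : A, ∃ N : B, algebraMap B A N = ∏ g : G, g • a := fun a =>
    Algebra.IsInvariant.isInvariant (G := G) _ (fun g => by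
      rw [Finset.smul_prod']
      exact Fintype.prod_equiv (Equiv.mulLeft g) _ _ fun g' => by rw [smul_smul]; rfl)
  -- `p` is principal
  have hq0 : q ≠ ⊥ := by
    rintro rfl
    rw [Ideal.height_bot] at hq
    exact zero_ne_one hq
  have hp0 : p ≠ ⊥ := by
    intro h
    obtain ⟨b, hb, hb0⟩ := Submodule.exists_mem_ne_zero_of_ne_bot hq0
    have := (hpq b).mpr hb
    rw [h, Ideal.mem_bot] at this
    exact hb0 (hinj (by rw [this, map_zero]))
  obtain ⟨π, hπp, hπ⟩ := Ideal.IsPrime.exists_mem_prime_of_ne_bot ‹p.IsPrime› hp0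
  obtain ⟨N, hN⟩ := hnorm π
  have hN0 : N ≠ 0 := by
    rintro rfl
    rw [map_zero, eq_comm, Finset.prod_eq_zero_iff] at hN
    obtain ⟨g, -, hg⟩ := hN
    exact hπ.ne_zero ((smul_eq_zero_iff_eq g).mp hg)
  haveI hπprime : (Ideal.span {π}).IsPrime := (Ideal.span_singleton_prime hπ.ne_zero).mpr hπ
  have hdvdN : π ∣ algebraMap B A N := by
    have := Finset.dvd_prod_of_mem (fun g : G => g • π) (Finset.mem_univ (1 : G))
    rwa [one_smul, ← hN] at this
  haveI : Algebra.IsIntegral B A := Algebra.IsIntegral.of_finite B A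
  have hp : p = Ideal.span {π} := by
    have hle : Ideal.span {π} ≤ p := (Ideal.span_singleton_le_iff_mem (I := p)).mpr hπp
    have hcomap : (Ideal.span {π}).comap (algebraMap B A) = q := by
      by_contra hne
      have hlt : (Ideal.span {π}).comap (algebraMap B A) < q :=
        lt_of_le_of_ne (fun b hb => (hpq b).mp (hle hb)) hne
      haveI : q.FiniteHeight := q.finiteHeight_iff.mpr (Or.inr (by rw [hq]; exact ENat.one_ne_top))
      have h1 := Ideal.height_strict_mono_of_isPrime_of_isPrime hlt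
      rw [hq, Order.lt_one_iff] at h1
      have hmin : (Ideal.span {π}).comap (algebraMap B A) ∈ minimalPrimes B := Ideal.height_eq_zero_iff.mp h1
      rw [minimalPrimes_eq_minimals] at hmin
      have hbot : (Ideal.span {π}).comap (algebraMap B A) = ⊥ :=
        le_antisymm (hmin.2 Ideal.isPrime_bot bot_le) bot_le
      have : N ∈ (Ideal.span {π}).comap (algebraMap B A) := Ideal.mem_span_singleton.mpr hdvdN
      rw [hbot] at this
      exact hN0 this
    by_contra hne
    obtain ⟨x, hxp, hx⟩ := Set.exists_of_ssubset (lt_of_le_of_ne hle (fun e => hne e.symm) : (Ideal.span {π} : Ideal A) < p)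
    have := Ideal.comap_lt_comap_of_integral_mem_sdiff hle ⟨hxp, hx⟩ (Algebra.IsIntegral.isIntegral (R := B) x)
    rw [hcomap] at this
    exact this.not_ge fun b hb => (hpq b).mp hb
  -- the orbit
  let P : G → Ideal A := fun g => Ideal.span {g • π}
  let O : Finset (Ideal A) := Finset.univ.image P
  have hgπ : ∀ g : G, Prime (g • π) := fun g =>
    (MulEquiv.prime_iff (MulSemiringAction.toRingEquiv G A g).toMulEquiv).mpr hπ
  have hmemP : ∀ (g : G) (x : A), x ∈ P g ↔ g⁻¹ • x ∈ p := fun g x => by
    rw [hp, Ideal.mem_span_singleton, Ideal.mem_span_singleton]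
    constructor
    · rintro ⟨y, rfl⟩; exact ⟨g⁻¹ • y, by rw [smul_mul', inv_smul_smul]⟩
    · rintro ⟨y, hy⟩; exact ⟨g • y, by rw [← smul_mul', ← hy, smul_inv_smul]⟩
  let d := (Finset.univ.filter fun g => P g = P 1).card
  have hP1 : P 1 = p := by show Ideal.span {(1 : G) • π} = p; rw [one_smul, hp]
  have hsmulP : ∀ (h g : G) (x : A), x ∈ P (h * g) ↔ h⁻¹ • x ∈ P g := fun h g x => by
    rw [hmemP, hmemP, mul_inv_rev, mul_smul]
  have hfib : ∀ Q ∈ O, (Finset.univ.filter fun g => P g = Q).card = d := by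
    intro Q hQ
    obtain ⟨h, -, rfl⟩ := Finset.mem_image.mp hQ
    refine Finset.card_bij (fun g _ => h⁻¹ * g) ?_ (fun a _ b _ e => mul_left_cancel e) ?_
    · intro g hg
      rw [Finset.mem_filter] at hg ⊢
      refine ⟨Finset.mem_univ _, Ideal.ext fun x => ?_⟩
      rw [hsmulP, hg.2, inv_inv, hmemP h, inv_smul_smul, hP1]
    · intro g hg
      rw [Finset.mem_filter] at hg
      refine ⟨h * g, Finset.mem_filter.mpr ⟨Finset.mem_univ _, Ideal.ext fun x => ?_⟩, inv_mul_cancel_left h g⟩
      rw [hsmulP, hg.2, hP1, hmemP h]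
  have hcard : Nat.card G = O.card * d := by
    rw [Nat.card_eq_fintype_card, ← Finset.card_univ,
      Finset.card_eq_sum_card_fiberwise (f := P) (t := O) (fun g _ => Finset.mem_image_of_mem _ (Finset.mem_univ g)),
      Finset.sum_congr rfl hfib, Finset.sum_const, smul_eq_mul]
  have hgen' : ∀ Q : Ideal A, ∃ ρ : A, Q ∈ O → Q = Ideal.span {ρ} ∧ Prime ρ := fun Q => by
    by_cases hQ : Q ∈ O
    · obtain ⟨g, -, rfl⟩ := Finset.mem_image.mp hQ
      exact ⟨g • π, fun _ => ⟨rfl, hgπ g⟩⟩
    · exact ⟨0, fun h => absurd h hQ⟩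
  choose gen hgen using hgen'
  let ρ : A := ∏ Q ∈ O, gen Q
  have hρ0 : ρ ≠ 0 := Finset.prod_ne_zero_iff.mpr fun Q hQ => (hgen Q hQ).2.ne_zero
  have hassN : Associated (algebraMap B A N) (ρ ^ d) := by
    rw [hN, ← Finset.prod_pow,
      ← Finset.prod_fiberwise_of_maps_to (g := P) (t := O) (fun g _ => Finset.mem_image_of_mem _ (Finset.mem_univ g))]
    refine Associated.prod O _ _ fun Q hQ => ?_
    rw [← hfib Q hQ, ← Finset.prod_const]
    refine Associated.prod _ _ _ fun g hg => ?_
    rw [← Ideal.span_singleton_eq_span_singleton]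
    exact (Finset.mem_filter.mp hg).2.trans (hgen Q hQ).1
  -- membership in `ρ A`
  have hρmem : ∀ a : A, (∀ Q ∈ O, a ∈ Q) → ρ ∣ a := fun a ha => by
    refine Finset.prod_dvd_of_isRelPrime (fun Q hQ Q' hQ' hne => ?_) fun Q hQ => ?_
    · refine ((hgen Q hQ).2.irreducible.isRelPrime_iff_not_dvd).mpr fun hdvd => hne ?_
      rw [(hgen Q hQ).1, (hgen Q' hQ').1, Ideal.span_singleton_eq_span_singleton]
      exact (hgen Q hQ).2.irreducible.associated_of_dvd (hgen Q' hQ').2.irreducible hdvd
    · have := ha Q hQ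
      rw [(hgen Q hQ).1] at this
      exact Ideal.mem_span_singleton.mp this
  have hρQ : ∀ Q ∈ O, ρ ∈ Q := fun Q hQ => by
    rw [(hgen Q hQ).1, Ideal.mem_span_singleton]
    exact Finset.dvd_prod_of_mem gen hQ
  -- residues
  let κ := q.ResidueField
  let θ : B →+* κ := algebraMap B κ
  have hθ : ∀ b : B, θ b = 0 ↔ b ∈ q := fun b => Ideal.algebraMap_residueField_eq_zero
  choose bres cres hcres hbres using hres
  have hg : ∀ Q ∈ O, ∃ g : G, P g = Q := fun Q hQ => by
    obtain ⟨g, -, h⟩ := Finset.mem_image.mp hQ; exact ⟨g, h⟩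
  choose grep hgrep using hg
  let χ : A → (O → κ) := fun a Q =>
    θ (bres ((grep Q.1 Q.2)⁻¹ • a)) / θ (cres ((grep Q.1 Q.2)⁻¹ • a))
  have hχ : ∀ (a : A) (b c : B) (Q : O), algebraMap B A c * a - algebraMap B A b ∈ Q.1 →
      θ c * χ a Q = θ b := by
    intro a b c Q h
    set g := grep Q.1 Q.2
    set a' := g⁻¹ • a
    rw [← hgrep Q.1 Q.2, hmemP, smul_sub, smul_mul', hfix, hfix] at h
    have h2 := hbres a'
    have : algebraMap B A (c * bres a' - b * cres a') ∈ p := by
      rw [show algebraMap B A (c * bres a' - b * cres a') =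
        algebraMap B A (cres a') * (algebraMap B A c * a' - algebraMap B A b) -
          algebraMap B A c * (algebraMap B A (cres a') * a' - algebraMap B A (bres a')) by
          simp only [map_sub, map_mul]; ring]
      exact sub_mem (p.mul_mem_left _ h) (p.mul_mem_left _ h2)
    rw [hpq, ← hθ, map_sub, map_mul, map_mul, sub_eq_zero] at this
    show θ c * (θ (bres a') / θ (cres a')) = θ b
    have hc0 : θ (cres a') ≠ 0 := fun h0 => hcres a' ((hθ _).mp h0)
    rw [← mul_div_assoc, div_eq_iff hc0]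
    exact this
  have hχ' : ∀ (a : A) (Q : O), ∃ b c : B, c ∉ q ∧ algebraMap B A c * a - algebraMap B A b ∈ Q.1 := fun a Q => by
    refine ⟨bres ((grep Q.1 Q.2)⁻¹ • a), cres ((grep Q.1 Q.2)⁻¹ • a), hcres _, ?_⟩
    refine (hgrep Q.1 Q.2).le ?_
    rw [hmemP, smul_sub, smul_mul', hfix, hfix]
    exact hbres _
  obtain ⟨S, hSsub, hSspan, hSli⟩ := exists_linearIndependent κ (Set.range χ)
  haveI : Fintype S := hSli.setFinite.fintype
  have hScard : Fintype.card S ≤ O.card := by
    have := hSli.fintype_card_le_finrank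
    rwa [Module.finrank_pi, Fintype.card_coe] at this
  have hw : ∀ v : S, ∃ a : A, χ a = v.1 := fun v => hSsub v.2
  choose w hwχ using hw
  have hstep : ∀ a : A, ∃ c : B, c ∉ q ∧ ∃ b : S → B,
      ρ ∣ algebraMap B A c * a - ∑ v, algebraMap B A (b v) * w v := by
    intro a
    have hmem : χ a ∈ Submodule.span κ (Set.range fun v : S => v.1) := by
      rw [Subtype.range_coe, hSspan]; exact Submodule.subset_span ⟨a, rfl⟩
    obtain ⟨l, hl⟩ := (Submodule.mem_span_range_iff_exists_fun κ).mp hmem
    let Bq := Localization.AtPrime q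
    have hlift : ∀ v, ∃ z : Bq, IsLocalRing.residue Bq z = l v := fun v => IsLocalRing.residue_surjective _
    choose z hz using hlift
    obtain ⟨⟨s, hs⟩, hsz⟩ := IsLocalization.exist_integer_multiples_of_finite q.primeCompl z
    choose b hb using hsz
    have hsθ : ∀ v, θ (b v) = θ s * l v := fun v => by
      have h1 : IsLocalRing.residue Bq (algebraMap B Bq (b v)) = IsLocalRing.residue Bq (s • z v) :=
        congrArg (IsLocalRing.residue Bq) (hb v)
      rw [Algebra.smul_def, map_mul, hz] at h1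
      exact h1
    refine ⟨s, hs, b, hρmem _ fun Q hQ => ?_⟩
    obtain ⟨b₀, c₀, hc₀, hmem₀⟩ := hχ' (algebraMap B A s * a - ∑ v, algebraMap B A (b v) * w v) ⟨Q, hQ⟩
    let β : A → B := fun a => (hχ' a ⟨Q, hQ⟩).choose
    have hβ : ∀ a, ∃ c : B, c ∉ q ∧ algebraMap B A c * a - algebraMap B A (β a) ∈ Q := fun a =>
      (hχ' a ⟨Q, hQ⟩).choose_spec
    choose γ hγq hγ using hβ
    -- a common denominator
    let C : B := γ a * ∏ v, γ (w v)
    let num : B := s * (β a * ∏ v, γ (w v)) - γ a * ∑ v, b v * (β (w v) * ∏ u ∈ Finset.univ.erase v, γ (w u))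
    have hC : C ∉ q := fun h => by
      rcases Ideal.IsPrime.mem_or_mem ‹q.IsPrime› h with h | h
      · exact hγq a h
      · obtain ⟨v, -, hv⟩ := (Ideal.IsPrime.prod_mem_iff).mp h
        exact hγq _ hv
    have hnum : algebraMap B A C * (algebraMap B A s * a - ∑ v, algebraMap B A (b v) * w v) -
        algebraMap B A num ∈ Q := by
      have hsplit : ∀ v, algebraMap B A (∏ u, γ (w u)) =
          algebraMap B A (γ (w v)) * algebraMap B A (∏ u ∈ Finset.univ.erase v, γ (w u)) := fun v => by
        rw [← map_mul]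
        exact congrArg _ (Finset.mul_prod_erase Finset.univ (fun u => γ (w u)) (Finset.mem_univ v)).symm
      rw [show algebraMap B A C * (algebraMap B A s * a - ∑ v, algebraMap B A (b v) * w v) - algebraMap B A num =
          algebraMap B A s * algebraMap B A (∏ u, γ (w u)) * (algebraMap B A (γ a) * a - algebraMap B A (β a)) -
          algebraMap B A (γ a) * ∑ v, algebraMap B A (b v) * algebraMap B A (∏ u ∈ Finset.univ.erase v, γ (w u)) *
            (algebraMap B A (γ (w v)) * w v - algebraMap B A (β (w v))) by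
        have e1 : ∑ v, algebraMap B A (b v) * algebraMap B A (∏ u ∈ Finset.univ.erase v, γ (w u)) *
            (algebraMap B A (γ (w v)) * w v - algebraMap B A (β (w v))) =
            algebraMap B A (∏ u, γ (w u)) * (∑ v, algebraMap B A (b v) * w v) -
            ∑ v, algebraMap B A (b v) * (algebraMap B A (β (w v)) * algebraMap B A (∏ u ∈ Finset.univ.erase v, γ (w u))) := by
          rw [Finset.mul_sum, ← Finset.sum_sub_distrib]
          refine Finset.sum_congr rfl fun v _ => ?_
          rw [hsplit v]; ring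
        rw [e1]
        simp only [C, num, map_mul, map_sub, map_sum]
        ring]
      exact sub_mem (Q.mul_mem_left _ (hγ a)) (Q.mul_mem_left _ (Ideal.sum_mem _ fun v _ => Q.mul_mem_left _ (hγ (w v))))
    have hnum0 : num ∈ q := by
      rw [← hθ]
      have e1 : θ (γ a) * χ a ⟨Q, hQ⟩ = θ (β a) := hχ a _ _ ⟨Q, hQ⟩ (hγ a)
      have e2 : ∀ v : S, θ (γ (w v)) * v.1 ⟨Q, hQ⟩ = θ (β (w v)) := fun v => by
        rw [← hwχ v]; exact hχ (w v) _ _ ⟨Q, hQ⟩ (hγ (w v))
      have e3 : χ a ⟨Q, hQ⟩ = ∑ v, l v * v.1 ⟨Q, hQ⟩ := by rw [← hl]; simp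
      simp only [num, map_sub, map_mul, map_sum, map_prod, hsθ, ← e1, ← e2, e3]
      rw [sub_eq_zero]
      exact sum_rearrange (θ s) (θ (γ a)) l (fun v => v.1 ⟨Q, hQ⟩) (fun v => θ (γ (w v)))
    have hQp : ∀ b : B, algebraMap B A b ∈ Q ↔ b ∈ q := fun b => by
      rw [← hgrep Q hQ, hmemP, hfix, hpq]
    haveI : Q.IsPrime := by
      rw [(hgen Q hQ).1]; exact (Ideal.span_singleton_prime (hgen Q hQ).2.ne_zero).mpr (hgen Q hQ).2
    have h := add_mem hnum ((hQp num).mpr hnum0)
    rw [sub_add_cancel] at h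
    exact (Ideal.IsPrime.mem_or_mem ‹Q.IsPrime› h).resolve_left fun h' => hC ((hQp C).mp h')
  -- spanning modulo powers of `ρ`
  have hpow : ∀ e : ℕ, ∀ a : A, ∃ c : B, c ∉ q ∧ ∃ b : Fin e × S → B,
      ρ ^ e ∣ algebraMap B A c * a - ∑ i, algebraMap B A (b i) * (ρ ^ (i.1 : ℕ) * w i.2) := by
    intro e
    induction e with
    | zero => exact fun a => ⟨1, fun h => Ideal.IsPrime.ne_top ‹_› ((Ideal.eq_top_iff_one q).mpr h), fun _ => 0, by simp⟩
    | succ e ih =>
      intro a
      obtain ⟨c, hc, b, t, ht⟩ := ih a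
      obtain ⟨c', hc', b', t', ht'⟩ := hstep t
      refine ⟨c' * c, fun h => (Ideal.IsPrime.mem_or_mem ‹q.IsPrime› h).elim hc' hc,
        fun i => (Fin.lastCases b' (fun j v => c' * b (j, v)) i.1 : S → B) i.2, t', ?_⟩
      rw [Fintype.sum_prod_type, Fin.sum_univ_castSucc]
      simp only [Fin.lastCases_castSucc, Fin.lastCases_last, Fin.val_castSucc, Fin.val_last]
      rw [Fintype.sum_prod_type] at ht
      have e1 : ∑ i : Fin e, ∑ v, algebraMap B A (c' * b (i, v)) * (ρ ^ (i : ℕ) * w v) =
          algebraMap B A c' * ∑ i : Fin e, ∑ v, algebraMap B A (b (i, v)) * (ρ ^ (i : ℕ) * w v) := by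
        simp only [Finset.mul_sum, map_mul, mul_assoc]
      have e2 : ∑ v, algebraMap B A (b' v) * (ρ ^ e * w v) = ρ ^ e * ∑ v, algebraMap B A (b' v) * w v := by
        rw [Finset.mul_sum]; exact Finset.sum_congr rfl fun v _ => by ring
      rw [e1, e2, map_mul, pow_succ]
      linear_combination algebraMap B A c' * ht + ρ ^ e * ht'
  -- every element of `q` is divisible by `ρ ^ d`
  have hkey : ∀ x : B, x ∈ q → ρ ^ d ∣ algebraMap B A x := by
    intro x hx
    by_contra hndvd
    obtain ⟨e, he⟩ : ∃ e, e < d ∧ ρ ^ e ∣ algebraMap B A x ∧ ¬ ρ ^ (e + 1) ∣ algebraMap B A x := by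
      have hex : ∃ e, ¬ ρ ^ e ∣ algebraMap B A x := ⟨d, hndvd⟩
      let m := Nat.find hex
      have hm0 : m ≠ 0 := fun h => by
        have := Nat.find_spec hex
        rw [show Nat.find hex = 0 from h, pow_zero] at this
        exact this (one_dvd _)
      refine ⟨m - 1, ?_, not_not.mp (Nat.find_min hex (show m - 1 < Nat.find hex by omega)), ?_⟩
      · have : m ≤ d := Nat.find_le hndvd
        omega
      · rw [show m - 1 + 1 = m by omega]; exact Nat.find_spec hex
    obtain ⟨hed, ⟨y, hy⟩, hmax⟩ := he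
    have hρg : ∀ g : G, ρ ∣ g • ρ := fun g => hρmem _ fun Q hQ => by
      rw [← hgrep Q hQ, hmemP, smul_smul]
      have h1 := (hmemP ((grep Q hQ)⁻¹ * g)⁻¹ ρ).mp (hρQ _ (Finset.mem_image_of_mem _ (Finset.mem_univ _)))
      rwa [inv_inv] at h1
    have hyQ : ∀ Q ∈ O, y ∉ Q := by
      intro Q hQ hyQ
      refine hmax ?_
      have hall : ∀ Q' ∈ O, y ∈ Q' := by
        intro Q' hQ'
        -- move `Q` to `Q'`
        set g := grep Q' hQ' * (grep Q hQ)⁻¹
        obtain ⟨u, hu⟩ := hρg g
        have hu' : IsUnit u := by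
          obtain ⟨u', hu''⟩ := hρg g⁻¹
          refine IsUnit.of_mul_eq_one (g • u') (mul_left_cancel₀ hρ0 ?_)
          rw [mul_one, ← mul_assoc, ← hu, ← smul_mul', ← hu'', smul_inv_smul]
        have heq : ρ ^ e * (u ^ e * (g • y)) = ρ ^ e * y := by
          have h1 : g • algebraMap B A x = algebraMap B A x := hfix g x
          rw [hy, smul_mul', smul_pow', hu] at h1
          linear_combination h1
        rw [← mul_left_cancel₀ (pow_ne_zero e hρ0) heq]
        refine Ideal.mul_mem_left _ _ ?_
        rw [← hgrep Q' hQ', hmemP, smul_smul, ← mul_assoc, inv_mul_cancel, one_mul]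
        rw [← hgrep Q hQ, hmemP] at hyQ
        exact hyQ
      obtain ⟨z, hz⟩ := hρmem y hall
      exact ⟨z, by rw [hy, hz, pow_succ, mul_assoc]⟩
    -- the spanning set of size `e * card O` is too small
    have hspan : ∀ a : A, ∃ c : B, c ∉ q ∧ ∃ b : Fin e × S → B, ∃ t : A,
        algebraMap B A c * a = (∑ i, algebraMap B A (b i) * (ρ ^ (i.1 : ℕ) * w i.2)) + algebraMap B A x * t := by
      intro a
      obtain ⟨c, hc, b, t, ht⟩ := hpow e a
      obtain ⟨Ny, hNy⟩ := hnorm y
      obtain ⟨y', hy'⟩ : y ∣ algebraMap B A Ny := by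
        have := Finset.dvd_prod_of_mem (fun g : G => g • y) (Finset.mem_univ (1 : G))
        rwa [one_smul, ← hNy] at this
      have hNyq : Ny ∉ q := fun h => by
        have h' := (hpq Ny).mpr h
        rw [hNy] at h'
        obtain ⟨g, -, hg⟩ := (Ideal.IsPrime.prod_mem_iff).mp h'
        refine hyQ (P g⁻¹) (Finset.mem_image_of_mem _ (Finset.mem_univ _)) ?_
        rw [hmemP, inv_inv]; exact hg
      refine ⟨Ny * c, fun h => (Ideal.IsPrime.mem_or_mem ‹q.IsPrime› h).elim hNyq hc, fun i => Ny * b i, y' * t, ?_⟩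
      have e1 : ∑ i, algebraMap B A (Ny * b i) * (ρ ^ (i.1 : ℕ) * w i.2) =
          algebraMap B A Ny * ∑ i, algebraMap B A (b i) * (ρ ^ (i.1 : ℕ) * w i.2) := by
        simp only [Finset.mul_sum, map_mul, mul_assoc]
      rw [e1, hy, map_mul]
      linear_combination algebraMap B A Ny * ht + ρ ^ e * t * hy'
    -- Nakayama at `q`
    let W : Submodule B A := Submodule.span B (Set.range fun i : Fin e × S => ρ ^ (i.1 : ℕ) * w i.2)
    have hW : ∀ a : A, ∃ c : B, c ∉ q ∧ c • a ∈ W ⊔ q • (⊤ : Submodule B A) := fun a => by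
      obtain ⟨c, hc, b, t, ht⟩ := hspan a
      refine ⟨c, hc, ?_⟩
      rw [Algebra.smul_def (A := A) c a, ht, ← Algebra.smul_def x t]
      refine add_mem (Submodule.mem_sup_left (Submodule.sum_mem _ fun i _ => ?_))
        (Submodule.mem_sup_right (Submodule.smul_mem_smul hx trivial))
      rw [← Algebra.smul_def]
      exact W.smul_mem _ (Submodule.subset_span ⟨i, rfl⟩)
    obtain ⟨S₀, hS₀⟩ := Module.Finite.fg_top (R := B) (M := A)
    choose c hc hcW using hW
    let c₀ := ∏ a ∈ S₀, c a
    have hc₀ : c₀ ∉ q := fun h => by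
      obtain ⟨a, -, ha⟩ := (Ideal.IsPrime.prod_mem_iff).mp h
      exact hc a ha
    have hc₀W : ∀ a : A, c₀ • a ∈ W ⊔ q • (⊤ : Submodule B A) := fun a => by
      have ha : a ∈ Submodule.span B (S₀ : Set A) := hS₀ ▸ Submodule.mem_top
      induction ha using Submodule.span_induction with
      | mem z hz =>
        obtain ⟨k, hk⟩ : c z ∣ c₀ := Finset.dvd_prod_of_mem c hz
        rw [hk, mul_comm, mul_smul]
        exact Submodule.smul_mem _ _ (hcW z)
      | zero => rw [smul_zero]; exact zero_mem _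
      | add x y _ _ h1 h2 => rw [smul_add]; exact add_mem h1 h2
      | smul r x _ h1 => rw [smul_comm]; exact Submodule.smul_mem _ r h1
    obtain ⟨P₀, hP₀, -, hcoef, haev⟩ :=
      LinearMap.exists_monic_and_natDegree_eq_and_coeff_mem_pow_and_aeval_eq_zero B
        (c₀ • (LinearMap.id : (A ⧸ W) →ₗ[B] A ⧸ W)) q (by
          rintro _ ⟨z, rfl⟩
          obtain ⟨a, rfl⟩ := Submodule.mkQ_surjective W z
          rw [LinearMap.smul_apply, LinearMap.id_apply, ← map_smul]
          have := Submodule.mem_map_of_mem (f := W.mkQ) (hc₀W a)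
          rw [Submodule.map_sup, Submodule.mkQ_map_self, bot_sup_eq, Submodule.map_smul'', Submodule.map_top,
            Submodule.range_mkQ] at this
          exact this)
    let c₁ := P₀.eval c₀
    have hc₁ : c₁ ∉ q := fun h => by
      have h1 : c₀ ^ P₀.natDegree ∈ q := by
        rw [show c₁ = ∑ i ∈ Finset.range (P₀.natDegree + 1), P₀.coeff i * c₀ ^ i from Polynomial.eval_eq_sum_range c₀,
          Finset.sum_range_succ, hP₀.coeff_natDegree, one_mul] at h
        refine (Ideal.add_mem_iff_right _ (Ideal.sum_mem _ fun i hi => Ideal.mul_mem_right _ _ ?_)).mp h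
        exact Ideal.pow_le_self (by have := Finset.mem_range.mp hi; omega) (hcoef i)
      exact hc₀ (Ideal.IsPrime.mem_of_pow_mem ‹q.IsPrime› _ h1)
    have hc₁W : ∀ a : A, c₁ • a ∈ W := fun a => by
      refine (Submodule.Quotient.mk_eq_zero W).mp ?_
      rw [Submodule.Quotient.mk_smul]
      have h1 := LinearMap.congr_fun haev (Submodule.Quotient.mk a)
      rw [LinearMap.zero_apply, show c₀ • (LinearMap.id : (A ⧸ W) →ₗ[B] A ⧸ W) = algebraMap B (Module.End B (A ⧸ W)) c₀ from rfl,
        Polynomial.aeval_algebraMap_apply] at h1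
      exact h1
    have := card_le_of_span (G := G) q (fun c hc => fun h0 => hc (by rw [(hinj (by rw [h0, map_zero]) : c = 0)]; exact zero_mem _))
      (fun i : Fin e × S => ρ ^ (i.1 : ℕ) * w i.2) (fun a => by
        obtain ⟨b, hb⟩ := (Submodule.mem_span_range_iff_exists_fun B).mp (hc₁W a)
        refine ⟨c₁, hc₁, b, ?_⟩
        rw [← Algebra.smul_def, ← hb]
        exact Finset.sum_congr rfl fun i _ => Algebra.smul_def _ _)
    rw [hcard, Fintype.card_prod, Fintype.card_fin] at this
    have hO : 0 < O.card := Finset.card_pos.mpr ⟨P 1, Finset.mem_image_of_mem _ (Finset.mem_univ _)⟩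
    have h2 : e * Fintype.card S ≤ e * O.card := Nat.mul_le_mul_left e hScard
    nlinarith
  refine ⟨N, hN0, le_antisymm (fun x hx => ?_) ((Ideal.span_singleton_le_iff_mem (I := q)).mpr ?_)⟩
  · obtain ⟨t, ht⟩ := hassN.dvd.trans (hkey x hx)
    obtain ⟨b, hb⟩ := Algebra.IsInvariant.isInvariant (A := B) (G := G) t (fun g => by
      refine mul_left_cancel₀ ((map_ne_zero_iff _ hinj).mpr hN0) ?_
      conv_lhs => rw [← hfix g N, ← smul_mul', ← ht, hfix g x]
      exact ht)
    refine Ideal.mem_span_singleton'.mpr ⟨b, hinj ?_⟩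
    rw [map_mul, hb, mul_comm, ← ht]
  · rw [← hpq]
    rw [hp, Ideal.mem_span_singleton]
    exact hdvdN

end Groth.L01.InvariantPrincipal
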