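import Mathlib.RingTheory.Ideal.Cotangent
import Mathlib.RingTheory.MvPolynomial.Basic
import Mathlib.Algebra.MvPolynomial.PDeriv
import Mathlib.LinearAlgebra.Matrix.Rank
import Mathlib.RingTheory.Localization.AtPrime.Basic
import Mathlib.RingTheory.LocalRing.ResidueField.Basic
import Mathlib.LinearAlgebra.FiniteDimensional.Lemmas
import Mathlib.LinearAlgebra.Dimension.Constructions
import Mathlib.Tactic.LinearCombination

/-!
The cotangent space of an affine scheme at a rational point via the Jacobian matrix.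
-/

set_option autoImplicit false
set_option linter.style.haveILetI false
universe u

namespace Groth.L01.JacobianPoint

open MvPolynomial IsLocalRing

variable {k : Type u} [Field k] {n : ℕ} (a : Fin n → k)

theorem taylor_mem_sq (f : MvPolynomial (Fin n) k) :
    f - C (eval a f) - ∑ j, C (eval a (pderiv j f)) * (X j - C (a j)) ∈
      RingHom.ker (eval a) ^ 2 := by
  induction f using MvPolynomial.induction_on with
  | C c => simp
  | add p q hp hq =>
    have := add_mem hp hq
    convert this using 1
    simp only [map_add, add_mul, Finset.sum_add_distrib]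
    ring
  | mul_X p i hp =>
    have hXi : (X i - C (a i) : MvPolynomial (Fin n) k) ∈ RingHom.ker (eval a) := by simp
    have hpc : p - C (eval a p) ∈ RingHom.ker (eval a) := by simp
    have h1 : (p - C (eval a p)) * (X i - C (a i)) ∈ RingHom.ker (eval a) ^ 2 := by
      rw [pow_two]; exact Ideal.mul_mem_mul hpc hXi
    have h2 := Ideal.mul_mem_left (RingHom.ker (eval a) ^ 2) (C (a i)) hp
    have h3 := add_mem h1 h2
    convert h3 using 1
    have hd : ∀ j, eval a (pderiv j (p * X i)) =
        eval a (pderiv j p) * a i + (if j = i then eval a p else 0) := by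
      intro j
      rw [pderiv_mul, map_add, map_mul, map_mul, eval_X, pderiv_X]
      by_cases h : j = i
      · subst h; simp
      · simp [Pi.single_apply, h, Ne.symm h]
    have hsum : ∑ j, C (eval a (pderiv j (p * X i))) * (X j - C (a j)) =
        C (a i) * (∑ j, C (eval a (pderiv j p)) * (X j - C (a j))) +
          C (eval a p) * (X i - C (a i)) := by
      simp_rw [hd, map_add, add_mul, Finset.sum_add_distrib, map_mul, Finset.mul_sum]
      congr 1
      · exact Finset.sum_congr rfl fun j _ => by ring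
      · simp [apply_ite C, ite_mul]
    rw [hsum, map_mul, eval_X, map_mul]
    ring

/-- gradient at `a` -/
noncomputable def grad : MvPolynomial (Fin n) k →ₗ[k] (Fin n → k) :=
  LinearMap.pi fun j => (aeval a).toLinearMap ∘ₗ (pderiv j).toLinearMap

theorem grad_apply (f : MvPolynomial (Fin n) k) (j : Fin n) :
    grad a f j = eval a (pderiv j f) := rfl

theorem grad_mul (f g : MvPolynomial (Fin n) k) :
    grad a (f * g) = eval a g • grad a f + eval a f • grad a g := by
  funext j
  simp only [grad_apply, pderiv_mul, map_add, map_mul, Pi.add_apply, Pi.smul_apply, smul_eq_mul]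
  ring

theorem grad_eq_zero_of_mem_sq {f : MvPolynomial (Fin n) k} (hf : f ∈ RingHom.ker (eval a) ^ 2) :
    grad a f = 0 := by
  rw [pow_two] at hf
  refine Submodule.mul_induction_on hf (fun x hx y hy => ?_) (fun x y hx hy => ?_)
  · rw [grad_mul, RingHom.mem_ker.mp hx, RingHom.mem_ker.mp hy, zero_smul, zero_smul, add_zero]
  · rw [map_add, hx, hy, add_zero]

theorem mem_sq_of_grad_eq_zero {f : MvPolynomial (Fin n) k} (h0 : eval a f = 0)
    (h : grad a f = 0) : f ∈ RingHom.ker (eval a) ^ 2 := by
  have := taylor_mem_sq a f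
  have h' : ∀ j, eval a (pderiv j f) = 0 := fun j => congrFun h j
  simpa [h0, h'] using this

theorem grad_linear (w : Fin n → k) :
    grad a (∑ j, C (w j) * (X j - C (a j))) = w := by
  funext i
  simp [grad_apply, Pi.single_apply]

set_option maxHeartbeats 1600000 in
theorem finrank_cotangentSpace_add_rank_aux {r : ℕ} (F : Fin r → MvPolynomial (Fin n) k)
    (I : Ideal (MvPolynomial (Fin n) k)) (hI : I = Ideal.span (Set.range F))
    (𝔪 : Ideal (MvPolynomial (Fin n) k ⧸ I)) [𝔪.IsMaximal]
    (h𝔪 : 𝔪.comap (Ideal.Quotient.mk I) = RingHom.ker (eval a))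
    (L : Type u) [CommRing L] [IsLocalRing L] [Algebra k L]
    [Algebra (MvPolynomial (Fin n) k ⧸ I) L] [IsScalarTower k (MvPolynomial (Fin n) k ⧸ I) L]
    [IsLocalization.AtPrime L 𝔪] :
    Module.finrank (ResidueField L) (CotangentSpace L) +
      (Matrix.of fun i j => eval a (pderiv j (F i))).rank = n := by
  classical
  set M := RingHom.ker (eval a) with hM
  let π : MvPolynomial (Fin n) k →ₐ[k] L :=
    (IsScalarTower.toAlgHom k (MvPolynomial (Fin n) k ⧸ I) L).comp (Ideal.Quotient.mkₐ k I)
  have hmk : ∀ f, Ideal.Quotient.mk I f ∈ 𝔪 ↔ f ∈ M := fun f => by rw [← h𝔪]; rfl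
  have hIM : I ≤ M := fun f hf => by
    rw [← hmk, Ideal.Quotient.eq_zero_iff_mem.mpr hf]; exact zero_mem _
  have hπmem : ∀ f, f ∈ M → π f ∈ maximalIdeal L := fun f hf => by
    rw [← IsLocalization.AtPrime.map_eq_maximalIdeal 𝔪 L]
    exact Ideal.mem_map_of_mem _ ((hmk f).mpr hf)
  let g : M.restrictScalars k →ₗ[k] CotangentSpace L :=
    { toFun := fun f => Ideal.toCotangent (maximalIdeal L) ⟨π f.1, hπmem _ f.2⟩
      map_add' := fun f f' => by
        rw [← map_add]
        exact congrArg _ (Subtype.ext (map_add π _ _))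
      map_smul' := fun c f => by
        refine Eq.trans (congrArg (Ideal.toCotangent (maximalIdeal L))
          (a₂ := algebraMap k L c • (⟨π f.1, hπmem _ f.2⟩ : maximalIdeal L)) (Subtype.ext ?_)) ?_
        · show π (c • f.1) = algebraMap k L c • π f.1
          rw [map_smul, algebraMap_smul]
        · rw [map_smul, RingHom.id_apply]
          exact algebraMap_smul L c _ }
  have hgapp : ∀ f : M.restrictScalars k, g f = Ideal.toCotangent (maximalIdeal L) ⟨π f.1, hπmem _ f.2⟩ :=
    fun f => rfl
  have hsq : ∀ f, π f ∈ maximalIdeal L ^ 2 ↔ f ∈ M ^ 2 ⊔ I := by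
    intro f
    constructor
    · intro hf
      rw [← IsLocalization.AtPrime.map_eq_maximalIdeal 𝔪 L, ← Ideal.map_pow] at hf
      obtain ⟨⟨⟨x, hx⟩, s⟩, hxs⟩ := (IsLocalization.mem_map_algebraMap_iff 𝔪.primeCompl L).mp hf
      obtain ⟨c, hc⟩ := (IsLocalization.eq_iff_exists 𝔪.primeCompl L).mp
        ((show algebraMap _ L (Ideal.Quotient.mk I f * s) = algebraMap _ L x by
          rw [map_mul]; exact hxs))
      have hcs : (c : MvPolynomial (Fin n) k ⧸ I) * s ∉ 𝔪 := (c * s).2
      obtain ⟨t, m, hm, ht⟩ := (inferInstance : 𝔪.IsMaximal).exists_inv hcs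
      have hx2 : Ideal.Quotient.mk I f * ((c : MvPolynomial (Fin n) k ⧸ I) * s) ∈ 𝔪 ^ 2 := by
        rw [mul_left_comm, hc]; exact Ideal.mul_mem_left _ _ hx
      have hfm : Ideal.Quotient.mk I f ∈ 𝔪 := by
        have : Ideal.Quotient.mk I f * ((c : MvPolynomial (Fin n) k ⧸ I) * s) ∈ 𝔪 :=
          Ideal.pow_le_self two_ne_zero hx2
        exact ((inferInstance : 𝔪.IsMaximal).isPrime.mem_or_mem this).resolve_right hcs
      have hf2 : Ideal.Quotient.mk I f ∈ 𝔪 ^ 2 := by
        have : Ideal.Quotient.mk I f = t * (Ideal.Quotient.mk I f * ((c : MvPolynomial (Fin n) k ⧸ I) * s)) +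
            Ideal.Quotient.mk I f * m := by
          linear_combination (-Ideal.Quotient.mk I f) * ht
        rw [this]
        exact add_mem (Ideal.mul_mem_left _ _ hx2) (by rw [pow_two]; exact Ideal.mul_mem_mul hfm hm)
      have hmap : 𝔪 = Ideal.map (Ideal.Quotient.mk I) M := by
        rw [← h𝔪, Ideal.map_comap_of_surjective _ Ideal.Quotient.mk_surjective]
      rw [hmap, ← Ideal.map_pow, ← Ideal.mem_comap,
        Ideal.comap_map_of_surjective _ Ideal.Quotient.mk_surjective, ← RingHom.ker_eq_comap_bot,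
        Ideal.mk_ker] at hf2
      exact hf2
    · intro hf
      obtain ⟨x, hx, y, hy, rfl⟩ := Submodule.mem_sup.mp hf
      have hy0 : π y = 0 := by
        show algebraMap _ L (Ideal.Quotient.mk I y) = 0
        rw [Ideal.Quotient.eq_zero_iff_mem.mpr hy, map_zero]
      rw [map_add, hy0, add_zero]
      have h1 : Ideal.map π (M ^ 2) ≤ maximalIdeal L ^ 2 := by
        rw [Ideal.map_pow]
        exact Ideal.pow_right_mono (Ideal.map_le_iff_le_comap.mpr hπmem) 2
      exact h1 (Ideal.mem_map_of_mem _ hx)
  have hgsurj : Function.Surjective g := by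
    intro z
    obtain ⟨⟨x, hx⟩, rfl⟩ := Ideal.toCotangent_surjective _ (z : Ideal.Cotangent (maximalIdeal L))
    obtain ⟨p, s, rfl⟩ := IsLocalization.exists_mk'_eq 𝔪.primeCompl x
    have hp : p ∈ 𝔪 := (IsLocalization.AtPrime.mk'_mem_maximal_iff L 𝔪 p s).mp hx
    obtain ⟨t, m, hm, ht⟩ := (inferInstance : 𝔪.IsMaximal).exists_inv (s.2 : (s : MvPolynomial (Fin n) k ⧸ I) ∉ 𝔪)
    obtain ⟨f, hf⟩ := Ideal.Quotient.mk_surjective (t * p)
    have hfM : f ∈ M := (hmk f).mp (hf ▸ Ideal.mul_mem_left _ _ hp)
    refine ⟨⟨f, hfM⟩, ?_⟩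
    rw [hgapp, Ideal.toCotangent_eq]
    have hmL : algebraMap _ L m ∈ maximalIdeal L := by
      rw [← IsLocalization.AtPrime.map_eq_maximalIdeal 𝔪 L]; exact Ideal.mem_map_of_mem _ hm
    have hkey : π f - IsLocalization.mk' L p s =
        -(algebraMap _ L m * IsLocalization.mk' L p s) := by
      show algebraMap _ L (Ideal.Quotient.mk I f) - _ = _
      rw [hf, map_mul]
      have h1 := IsLocalization.mk'_spec L p s
      have h2 := congrArg (algebraMap _ L) ht
      rw [map_add, map_mul, map_one] at h2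
      linear_combination (IsLocalization.mk' L p s) * h2 - algebraMap _ L t * h1
    show π f - IsLocalization.mk' L p s ∈ _
    rw [hkey, pow_two]
    exact neg_mem (Ideal.mul_mem_mul hmL hx)
  -- Jacobian side
  let S : Submodule k (Fin n → k) := Submodule.span k (Set.range fun i => grad a (F i))
  have hgradI : ∀ y ∈ I, grad a y ∈ S := by
    intro y hy
    rw [hI] at hy
    induction hy using Submodule.span_induction with
    | mem x hx => obtain ⟨i, rfl⟩ := hx; exact Submodule.subset_span ⟨i, rfl⟩
    | zero => rw [map_zero]; exact zero_mem _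
    | add x y _ _ hx hy => rw [map_add]; exact add_mem hx hy
    | smul c x hx' hx =>
      rw [smul_eq_mul, grad_mul, RingHom.mem_ker.mp (hIM (hI ▸ hx')), zero_smul, zero_add]
      exact S.smul_mem _ hx
  let Φ : M.restrictScalars k →ₗ[k] (Fin n → k) ⧸ S :=
    S.mkQ ∘ₗ (grad a) ∘ₗ (M.restrictScalars k).subtype
  have hΦsurj : Function.Surjective Φ := by
    intro z
    obtain ⟨w, rfl⟩ := S.mkQ_surjective z
    refine ⟨⟨∑ j, C (w j) * (X j - C (a j)), by simp [hM]⟩, ?_⟩
    exact congrArg S.mkQ (grad_linear a w)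
  have hker : LinearMap.ker g = LinearMap.ker Φ := by
    ext ⟨f, hf⟩
    rw [LinearMap.mem_ker, LinearMap.mem_ker, hgapp, Ideal.toCotangent_eq_zero]
    show π f ∈ maximalIdeal L ^ 2 ↔ S.mkQ (grad a f) = 0
    rw [hsq, Submodule.mkQ_apply, Submodule.Quotient.mk_eq_zero]
    constructor
    · intro h
      obtain ⟨x, hx, y, hy, rfl⟩ := Submodule.mem_sup.mp h
      rw [map_add, grad_eq_zero_of_mem_sq a hx, zero_add]
      exact hgradI y hy
    · intro h
      obtain ⟨c, hc⟩ := (Submodule.mem_span_range_iff_exists_fun k).mp h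
      have hy : ∑ i, C (c i) * F i ∈ I :=
        Ideal.sum_mem _ fun i _ => Ideal.mul_mem_left _ _ (hI ▸ Ideal.subset_span ⟨i, rfl⟩)
      have hd : grad a (f - ∑ i, C (c i) * F i) = 0 := by
        rw [map_sub, map_sum, ← hc, sub_eq_zero]
        refine Finset.sum_congr rfl fun i _ => ?_
        rw [C_mul', map_smul]
      have h0 : eval a (f - ∑ i, C (c i) * F i) = 0 := by
        rw [map_sub, RingHom.mem_ker.mp hf, RingHom.mem_ker.mp (hIM hy), sub_zero]
      rw [← sub_add_cancel f (∑ i, C (c i) * F i)]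
      exact Submodule.add_mem_sup (mem_sq_of_grad_eq_zero a h0 hd) hy
  have e : CotangentSpace L ≃ₗ[k] (Fin n → k) ⧸ S :=
    (g.quotKerEquivOfSurjective hgsurj).symm ≪≫ₗ Submodule.quotEquivOfEq _ _ hker ≪≫ₗ
      Φ.quotKerEquivOfSurjective hΦsurj
  have hres : Function.Surjective (algebraMap k (ResidueField L)) := by
    intro y
    obtain ⟨x, rfl⟩ := residue_surjective y
    obtain ⟨p, s, rfl⟩ := IsLocalization.exists_mk'_eq 𝔪.primeCompl x
    obtain ⟨t, m, hm, ht⟩ := (inferInstance : 𝔪.IsMaximal).exists_inv (s.2 : (s : MvPolynomial (Fin n) k ⧸ I) ∉ 𝔪)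
    obtain ⟨f, hf⟩ := Ideal.Quotient.mk_surjective (t * p)
    refine ⟨eval a f, ?_⟩
    rw [IsScalarTower.algebraMap_apply k L (ResidueField L)]
    show residue L _ = _
    rw [← sub_eq_zero, ← map_sub, residue_eq_zero_iff]
    have h1 : π (C (eval a f) - f) ∈ maximalIdeal L := hπmem _ (by simp [hM])
    have hmL : algebraMap _ L m ∈ maximalIdeal L := by
      rw [← IsLocalization.AtPrime.map_eq_maximalIdeal 𝔪 L]; exact Ideal.mem_map_of_mem _ hm
    have : algebraMap k L (eval a f) - IsLocalization.mk' L p s =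
        π (C (eval a f) - f) - algebraMap _ L m * IsLocalization.mk' L p s := by
      rw [map_sub, show π (C (eval a f)) = algebraMap k L (eval a f) from π.commutes _]
      show _ = _ - algebraMap _ L (Ideal.Quotient.mk I f) - _
      rw [hf, map_mul]
      have h2 := IsLocalization.mk'_spec L p s
      have h3 := congrArg (algebraMap _ L) ht
      rw [map_add, map_mul, map_one] at h3
      linear_combination (-algebraMap _ L t) * h2 + (IsLocalization.mk' L p s) * h3
    rw [this]
    exact sub_mem h1 (Ideal.mul_mem_right _ _ hmL)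
  have hrank1 : Module.finrank k (ResidueField L) = 1 := by
    rw [← (AlgEquiv.ofBijective (Algebra.ofId k (ResidueField L))
      ⟨RingHom.injective _, hres⟩).toLinearEquiv.finrank_eq, Module.finrank_self]
  have hS : (Matrix.of fun i j => eval a (pderiv j (F i))).rank = Module.finrank k S := by
    rw [Matrix.rank_eq_finrank_span_row]
    rfl
  haveI : IsScalarTower k (ResidueField L) (CotangentSpace L) :=
    IsScalarTower.of_algebraMap_smul fun c x => by
      rw [IsScalarTower.algebraMap_apply k L (ResidueField L), algebraMap_smul, algebraMap_smul]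
  have hmul := Module.finrank_mul_finrank k (ResidueField L) (CotangentSpace L)
  rw [hrank1, one_mul] at hmul
  rw [hS, hmul, e.finrank_eq, Submodule.finrank_quotient_add_finrank, Module.finrank_fin_fun]

theorem finrank_cotangentSpace_add_rank {r : ℕ} (F : Fin r → MvPolynomial (Fin n) k)
    (𝔪 : Ideal (MvPolynomial (Fin n) k ⧸ Ideal.span (Set.range F))) [𝔪.IsMaximal]
    (h𝔪 : 𝔪.comap (Ideal.Quotient.mk (Ideal.span (Set.range F))) = RingHom.ker (eval a)) :
    Module.finrank (ResidueField (Localization.AtPrime 𝔪))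
        (CotangentSpace (Localization.AtPrime 𝔪)) +
      (Matrix.of fun i j => eval a (pderiv j (F i))).rank = n :=
  finrank_cotangentSpace_add_rank_aux a F _ rfl 𝔪 h𝔪 _

end Groth.L01.JacobianPoint
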