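import Mathlib.Algebra.DirectSum.Module
import Mathlib.Algebra.Module.Projective
import Mathlib.LinearAlgebra.FreeModule.Basic
import Mathlib.RingTheory.LocalRing.Basic
import Mathlib.RingTheory.Finiteness.Nakayama
import Mathlib.RingTheory.OrzechProperty
import Mathlib.RingTheory.Nakayama
import Mathlib.RingTheory.FiniteType
import Mathlib.LinearAlgebra.DirectSum.Basis
import Mathlib.RingTheory.Jacobson.Ideal
import Mathlib.Order.CompactlyGenerated.Basic
import Mathlib.Order.Zorn
import Mathlib.Data.Set.Countable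
import Mathlib.RingTheory.LocalRing.MaximalIdeal.Basic
import Mathlib.LinearAlgebra.Finsupp.LinearCombination

/-!
Kaplansky's theorems: summands of direct sums of countably generated modules, and projective
modules over local rings are free.
-/

universe u v

namespace Groth.L01

section Summand

variable {R : Type u} [CommRing R] {M : Type v} [AddCommGroup M] [Module R M]

/-- The submodule has a countable spanning set. -/
def CountablyGen (N : Submodule R M) : Prop := ∃ s : Set M, s.Countable ∧ Submodule.span R s = N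

theorem countable_closure {ι : Type*} (F : ι → Set ι) (hF : ∀ i, (F i).Countable) (i₀ : ι) :
    ∃ T : Set ι, T.Countable ∧ i₀ ∈ T ∧ ∀ j ∈ T, F j ⊆ T := by
  let step : Set ι → Set ι := fun T => T ∪ ⋃ j ∈ T, F j
  refine ⟨⋃ n : ℕ, step^[n] {i₀}, Set.countable_iUnion fun n => ?_,
    Set.mem_iUnion.mpr ⟨0, rfl⟩, fun j hj => ?_⟩
  · induction n with
    | zero => exact Set.countable_singleton i₀
    | succ n ih =>
      rw [Function.iterate_succ_apply']
      exact ih.union (ih.biUnion fun j _ => hF j)
  · obtain ⟨n, hn⟩ := Set.mem_iUnion.mp hj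
    intro x hx
    refine Set.mem_iUnion.mpr ⟨n + 1, ?_⟩
    rw [Function.iterate_succ_apply']
    exact Or.inr (Set.mem_biUnion hn hx)

theorem kaplansky {ι : Type*} (N : ι → Submodule R M) (hindep : iSupIndep N)
    (htop : iSup N = ⊤) (hc : ∀ i, CountablyGen (N i)) (π : M →ₗ[R] M)
    (hπ : ∀ x, π (π x) = π x) :
    ∃ 𝓛 : Set (Submodule R M), sSupIndep 𝓛 ∧ sSup 𝓛 = LinearMap.range π ∧
      ∀ L ∈ 𝓛, CountablyGen L := by
  classical
  let NS : Set ι → Submodule R M := fun S => ⨆ i ∈ S, N i
  let good : Set ι × Set (Submodule R M) → Prop := fun p =>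
    (NS p.1).map π ≤ NS p.1 ∧ sSupIndep p.2 ∧ sSup p.2 = (NS p.1).map π ∧
      ∀ L ∈ p.2, CountablyGen L
  obtain ⟨⟨S, 𝓛⟩, hmax⟩ := zorn_le₀ {p | good p} (fun c hcg hc' => by
    refine ⟨(⋃ p ∈ c, p.1, ⋃ p ∈ c, p.2), ?_, fun z hz =>
      ⟨Set.subset_biUnion_of_mem (u := fun p : Set ι × Set (Submodule R M) => p.1) hz,
        Set.subset_biUnion_of_mem (u := fun p : Set ι × Set (Submodule R M) => p.2) hz⟩⟩
    have hNS : NS (⋃ p ∈ c, p.1) = ⨆ p ∈ c, NS p.1 := by
      simp only [NS, iSup_iUnion]
    refine ⟨?_, ?_, ?_, ?_⟩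
    · simp only [hNS, Submodule.map_iSup]
      exact iSup₂_mono fun p hp => (hcg hp).1
    · simp only
      rw [Set.biUnion_eq_iUnion]
      refine sSupIndep_iUnion_of_directed ?_ fun i => (hcg i.2).2.1
      exact (hc'.directedOn.directed_val).mono_comp _ fun a b hab => hab.2
    · simp only [hNS, Submodule.map_iSup, sSup_iUnion]
      exact biSup_congr fun p hp => (hcg hp).2.2.1
    · intro L hL
      simp only [Set.mem_iUnion] at hL
      obtain ⟨p, hp, hL⟩ := hL
      exact (hcg hp).2.2.2 L hL)
  obtain ⟨hS, hind, hsup, hcg⟩ := hmax.prop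
  simp only at hS hsup
  suffices hS' : S = Set.univ by
    refine ⟨𝓛, hind, ?_, hcg⟩
    rw [hsup, hS', LinearMap.range_eq_map, ← htop]
    simp [NS]
  by_contra hne
  obtain ⟨i₀, hi₀⟩ := (Set.ne_univ_iff_exists_notMem _).mp hne
  choose gen hgc hgs using hc
  have hsupp : ∀ x : M, ∃ F : Finset ι, x ∈ ⨆ i ∈ F, N i := fun x =>
    Submodule.exists_finset_of_mem_iSup _ (htop ▸ Submodule.mem_top)
  choose supp hsupp using hsupp
  obtain ⟨T, hTc, hiT, hT⟩ := countable_closure (fun j => ⋃ g ∈ gen j, (supp (π g) : Set ι))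
    (fun j => (hgc j).biUnion fun g _ => Finset.countable_toSet _) i₀
  have hNST : NS (S ∪ T) = NS S ⊔ NS T := iSup_union
  have hgenT : NS T = Submodule.span R (⋃ j ∈ T, gen j) := by
    simp only [NS, Submodule.span_iUnion₂, hgs]
  have hT' : (NS T).map π ≤ NS T := by
    rw [hgenT, Submodule.map_span, Submodule.span_le]
    rintro _ ⟨g, hg, rfl⟩
    rw [← hgenT]
    simp only [Set.mem_iUnion] at hg
    obtain ⟨j, hj, hg⟩ := hg
    refine (show ⨆ i ∈ supp (π g), N i ≤ NS T from ?_) (hsupp (π g))
    exact biSup_mono fun i hi => hT j hj (Set.mem_biUnion hg hi)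
  -- projection onto a complement of `π (NS S)`
  have hcompl : IsCompl (NS S) (NS Sᶜ) := by
    refine ⟨hindep.disjoint_biSup_biSup disjoint_compl_right, codisjoint_iff.mpr ?_⟩
    rw [show NS S ⊔ NS Sᶜ = NS (S ∪ Sᶜ) from iSup_union.symm, Set.union_compl_self, ← htop]
    simp [NS]
  let q : M →ₗ[R] M := LinearMap.id - π ∘ₗ (NS S).projection (NS Sᶜ) hcompl
  have hq0 : ∀ y ∈ (NS S).map π, q y = 0 := by
    rintro _ ⟨x, hx, rfl⟩
    have hy : π x ∈ NS S := hS ⟨x, hx, rfl⟩
    simp [q, Submodule.projection_apply_of_mem_left hcompl hy, hπ]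
  have hq1 : ∀ y, y - q y ∈ (NS S).map π := fun y => by
    refine ⟨(NS S).projection (NS Sᶜ) hcompl y, ?_, by simp [q]⟩
    exact Submodule.projection_apply_mem hcompl y
  let L : Submodule R M := (NS T).map (q ∘ₗ π)
  have hdis : Disjoint L ((NS S).map π) := by
    rw [Submodule.disjoint_def]
    rintro _ ⟨x, -, rfl⟩ hmem
    obtain ⟨y, hy, hye⟩ : ∃ y ∈ (NS S).map π, π x - q (π x) = y := ⟨_, hq1 _, rfl⟩
    have hπx : π x ∈ (NS S).map π := by
      have := add_mem (hq1 (π x)) hmem
      simpa using this
    simpa using hq0 _ hπx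
  have hnew : good (S ∪ T, insert L 𝓛) := by
    refine ⟨?_, ?_, ?_, ?_⟩
    · simp only
      rw [hNST, Submodule.map_sup]
      exact sup_le_sup hS hT'
    · intro a ha
      rcases Set.mem_insert_iff.mp ha with rfl | ha
      · refine hdis.mono_right ?_
        rw [← hsup]
        exact sSup_le_sSup fun b hb => by
          simp only [Set.mem_sdiff, Set.mem_insert_iff, Set.mem_singleton_iff] at hb
          exact hb.1.resolve_left hb.2
      · by_cases haL : a = L
        · subst haL
          have hb : L = ⊥ := by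
            refine eq_bot_iff.mpr fun z hz => ?_
            exact Submodule.disjoint_def.mp hdis z hz (hsup ▸ le_sSup ha hz)
          rw [hb]; exact disjoint_bot_left
        · have h1 : Disjoint a (sSup (𝓛 \ {a})) := hind ha
          have h2 : Disjoint (a ⊔ sSup (𝓛 \ {a})) L :=
            (hdis.symm.mono_left (sup_le (hsup ▸ le_sSup ha)
              ((sSup_le_sSup Set.sdiff_subset).trans hsup.le)))
          rw [Set.insert_sdiff_of_notMem _ (by simpa using Ne.symm haL), sSup_insert, sup_comm]
          exact h1.disjoint_sup_right_of_disjoint_sup_left h2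
    · simp only
      rw [sSup_insert, hsup, hNST, Submodule.map_sup]
      refine le_antisymm (sup_le ?_ le_sup_left) (sup_le le_sup_right ?_)
      · rintro _ ⟨x, hx, rfl⟩
        have := hq1 (π x)
        have h := sub_mem (show π x ∈ (NS S).map π ⊔ (NS T).map π from
          Submodule.mem_sup_right ⟨x, hx, rfl⟩) (Submodule.mem_sup_left this)
        simpa using h
      · rintro _ ⟨x, hx, rfl⟩
        have := hq1 (π x)
        have h := add_mem (Submodule.mem_sup_right this : π x - q (π x) ∈ L ⊔ (NS S).map π)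
          (Submodule.mem_sup_left ⟨x, hx, rfl⟩ : q (π x) ∈ L ⊔ (NS S).map π)
        simpa using h
    · intro a ha
      rcases Set.mem_insert_iff.mp ha with rfl | ha
      · refine ⟨(q ∘ₗ π) '' (⋃ j ∈ T, gen j), (hTc.biUnion fun j _ => hgc j).image _, ?_⟩
        rw [← Submodule.map_span, ← hgenT]
      · exact hcg a ha
  have := hmax.le_of_ge hnew ⟨Set.subset_union_left, Set.subset_insert _ _⟩
  exact hi₀ (this.1 (Or.inr hiT))

end Summand

section Local

variable {R : Type u} [CommRing R] [IsLocalRing R]

open IsLocalRing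

theorem bijective_of_sub_mem {σ : Type*} [Finite σ] (f : (σ → R) →ₗ[R] (σ → R))
    (h : ∀ w, f w - w ∈ (maximalIdeal R) • (⊤ : Submodule R (σ → R))) : Function.Bijective f := by
  refine OrzechProperty.bijective_of_surjective_endomorphism f (LinearMap.range_eq_top.mp ?_)
  refine top_le_iff.mp (Submodule.le_of_le_smul_of_le_jacobson_bot (I := maximalIdeal R)
    Module.Finite.fg_top (maximalIdeal_le_jacobson _) fun w _ => ?_)
  have := sub_mem (Submodule.mem_sup_left (LinearMap.mem_range_self f w) :
    f w ∈ LinearMap.range f ⊔ maximalIdeal R • ⊤) (Submodule.mem_sup_right (h w))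
  simpa using this

theorem exists_free_summand_mem (P : Type v) [AddCommGroup P] [Module R P]
    [Module.Projective R P] (x : P) :
    ∃ (n : ℕ) (ι : (Fin n → R) →ₗ[R] P) (r : P →ₗ[R] (Fin n → R)),
      r ∘ₗ ι = LinearMap.id ∧ x ∈ LinearMap.range ι := by
  classical
  obtain ⟨s, hs⟩ := Module.projective_def'.mp ‹Module.Projective R P›
  let p := Finsupp.linearCombination R (id : P → P)
  have hex : ∃ n, ∃ b : Module.Basis P R (P →₀ R), (b.repr (s x)).support.card = n :=
    ⟨_, Finsupp.basisSingleOne, rfl⟩
  obtain ⟨b, hb⟩ := Nat.find_spec hex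
  set a := b.repr (s x) with ha
  have hmin : ∀ i ∈ a.support, ∀ c : P → R,
      a i ≠ ∑ j ∈ a.support.erase i, c j * a j := by
    intro i hi c hc
    let f : (P →₀ R) →ₗ[R] (P →₀ R) :=
      (∑ j ∈ a.support.erase i, c j • b.coord j).smulRight (b i)
    have hf2 : f ∘ₗ f = 0 := by
      refine LinearMap.ext fun y => ?_
      simp only [f, LinearMap.comp_apply, LinearMap.smulRight_apply, map_smul, LinearMap.zero_apply]
      have h0 : (∑ j ∈ a.support.erase i, c j • b.coord j) (b i) = 0 := by
        rw [LinearMap.coe_sum, Finset.sum_apply]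
        refine Finset.sum_eq_zero fun j hj => ?_
        simp [Finsupp.single_eq_of_ne (Finset.mem_erase.mp hj).1]
      rw [h0, zero_smul, smul_zero]
    let φ : (P →₀ R) ≃ₗ[R] (P →₀ R) := LinearEquiv.ofLinearMap (LinearMap.id - f) (LinearMap.id + f)
      (LinearMap.ext fun y => by have := LinearMap.congr_fun hf2 y; simp at this; simp [this])
      (LinearMap.ext fun y => by have := LinearMap.congr_fun hf2 y; simp at this; simp [this])
    have hlt : ((b.map φ.symm).repr (s x)).support.card < Nat.find hex := by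
      rw [← hb]
      have hrepr : (b.map φ.symm).repr (s x) = a.erase i := by
        have e1 : (b.map φ.symm).repr (s x) = b.repr (φ (s x)) := rfl
        have e2 : f (s x) = a i • b i := by
          simp only [f, LinearMap.smulRight_apply, LinearMap.sum_apply, LinearMap.smul_apply,
            Module.Basis.coord_apply, smul_eq_mul, ← ha]
          rw [← hc]
        rw [e1, show φ (s x) = s x - f (s x) from rfl, e2, map_sub, map_smul, b.repr_self, ← ha,
          Finsupp.erase_eq_sub_single, Finsupp.smul_single, smul_eq_mul, mul_one]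
      rw [hrepr, Finsupp.support_erase, Finset.card_erase_of_mem hi]
      have : 0 < a.support.card := Finset.card_pos.mpr ⟨i, hi⟩
      omega
    exact Nat.find_min hex hlt ⟨_, rfl⟩
  let σ := (a.support : Set P)
  let ι₀ : (σ → R) →ₗ[R] P := (Finsupp.linearCombination R fun i : σ => p (b i)) ∘ₗ
    (Finsupp.linearEquivFunOnFinite R R σ).symm.toLinearMap
  let ρ : P →ₗ[R] (σ → R) := (LinearMap.pi fun i : σ => b.coord i) ∘ₗ s
  have hι₀ : ∀ w : σ → R, ι₀ w = ∑ i : σ, w i • p (b i) := fun w => by
    simp [ι₀, Finsupp.linearCombination_apply, Finsupp.sum_fintype]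
  have hx : ι₀ (fun i => a i) = x := by
    rw [hι₀]
    have h1 : s x = ∑ i ∈ a.support, a i • b i := by
      conv_lhs => rw [← b.linearCombination_repr (s x)]
      rfl
    have h2 : p (s x) = x := LinearMap.congr_fun hs x
    conv_rhs => rw [← h2, h1, map_sum]
    simp only [map_smul]
    exact Finset.sum_coe_sort a.support fun i => a i • p (b i)
  have hC : ∀ i j : σ, b.coord (i : P) (s (p (b j))) - (if i = j then 1 else 0) ∈ maximalIdeal R := by
    intro i j
    by_contra hne
    rw [mem_maximalIdeal, mem_nonunits_iff, not_not] at hne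
    obtain ⟨u, hu⟩ := hne
    have h1 := congrArg (fun z => b.coord (i : P) (s z)) hx
    simp only [hι₀, map_sum, map_smul, smul_eq_mul, Module.Basis.coord_apply] at h1
    rw [← ha] at h1
    have h2 : ∑ k : σ, a k * (b.repr (s (p (b k))) i - if i = k then 1 else 0) = 0 := by
      simp [mul_sub, Finset.sum_sub_distrib, h1]
    rw [← Finset.add_sum_erase _ _ (Finset.mem_univ j)] at h2
    rw [show b.repr (s (p (b j))) i - (if i = j then 1 else 0) = u from hu.symm] at h2
    refine hmin j j.2 (fun k => -(↑u⁻¹ : R) * (b.repr (s (p (b k))) i - if (i : P) = k then 1 else 0)) ?_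
    have h3 : ∑ k ∈ a.support.erase j,
        -(↑u⁻¹ : R) * (b.repr (s (p (b k))) i - if (i : P) = k then 1 else 0) * a k =
        -(↑u⁻¹ : R) * ∑ k ∈ Finset.univ.erase j, a (k : P) *
          (b.repr (s (p (b k))) i - if i = k then 1 else 0) := by
      rw [Finset.mul_sum]
      refine (Finset.sum_bij (fun (k : σ) _ => (k : P)) ?_ ?_ ?_ ?_).symm
      · intro k hk; simpa [Subtype.coe_ne_coe] using (Finset.mem_erase.mp hk).1
      · intro k _ k' _ h; exact Subtype.ext h
      · intro k hk
        exact ⟨⟨k, Finset.mem_of_mem_erase hk⟩, by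
          simpa [Subtype.ext_iff] using (Finset.mem_erase.mp hk).1, rfl⟩
      · intro k _; simp only [Subtype.ext_iff]; ring
    rw [h3, eq_neg_of_add_eq_zero_right h2]
    ring_nf
    simp [mul_comm]
  have hbij : Function.Bijective (ρ ∘ₗ ι₀) := by
    refine bijective_of_sub_mem _ fun w => ?_
    have hw : (ρ ∘ₗ ι₀) w - w = ∑ j : σ, w j • fun i : σ =>
        b.coord (i : P) (s (p (b j))) - (if i = j then 1 else 0) := by
      ext i
      simp [ρ, hι₀, Finset.sum_apply, mul_sub, Finset.sum_sub_distrib]
    rw [hw]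
    refine Submodule.sum_mem _ fun j _ => Submodule.smul_mem _ _ ?_
    rw [pi_eq_sum_univ (fun i : σ => b.coord (i : P) (s (p (b j))) - (if i = j then 1 else 0))]
    exact Submodule.sum_mem _ fun i _ => Submodule.smul_mem_smul (hC i j) Submodule.mem_top
  let e := LinearEquiv.ofBijective _ hbij
  let g := Fintype.equivFin σ
  let G := LinearEquiv.funCongrLeft R R g
  refine ⟨_, ι₀ ∘ₗ G.toLinearMap, G.symm.toLinearMap ∘ₗ e.symm.toLinearMap ∘ₗ ρ, ?_, ?_⟩
  · refine LinearMap.ext fun w => ?_
    have := e.symm_apply_apply (G w)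
    simp only [e, LinearEquiv.ofBijective_apply, LinearMap.comp_apply] at this
    simp [e, this]
  · exact ⟨G.symm fun i => a i, by simpa using hx⟩

theorem free_of_countablyGen (P : Type v) [AddCommGroup P] [Module R P]
    [Module.Projective R P] (hP : CountablyGen (⊤ : Submodule R P)) : Module.Free R P := by
  classical
  obtain ⟨t, htc, hts⟩ := hP
  obtain ⟨x, hx⟩ : ∃ x : ℕ → P, t ⊆ Set.range x := by
    rcases (htc.insert 0).exists_eq_range (Set.insert_nonempty _ _) with ⟨x, hx⟩
    exact ⟨x, (Set.subset_insert _ _).trans hx.subset⟩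
  have step : ∀ (p : {p : P →ₗ[R] P // ∀ y, p (p y) = p y}) (n : ℕ),
      ∃ (d : ℕ) (ι : (Fin d → R) →ₗ[R] P) (r : P →ₗ[R] (Fin d → R)),
        (∀ w, p.1 (ι w) = ι w) ∧ (∀ y, r (p.1 y) = r y) ∧ (∀ w, r (ι w) = w) ∧
          ι (r (x n)) = p.1 (x n) := by
    rintro ⟨p, hp⟩ n
    let p' := p.rangeRestrict
    have : Module.Projective R (LinearMap.range p) := by
      refine Module.Projective.of_split (R := R) (M := P) (LinearMap.range p).subtype p' (LinearMap.ext ?_)
      rintro ⟨_, y, rfl⟩
      exact Subtype.ext (hp y)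
    obtain ⟨d, ι, r, hri, hxr⟩ := exists_free_summand_mem (R := R) (LinearMap.range p) (p' (x n))
    refine ⟨d, (LinearMap.range p).subtype ∘ₗ ι, r ∘ₗ p', fun w => ?_, fun y => ?_, fun w => ?_, ?_⟩
    · obtain ⟨y, hy⟩ := (ι w).2
      simp only [LinearMap.comp_apply, Submodule.subtype_apply, ← hy, hp]
    · simp only [LinearMap.comp_apply]
      exact congrArg r (Subtype.ext (hp y))
    · have : p' (ι w : P) = ι w := by
        obtain ⟨y, hy⟩ := (ι w).2
        exact Subtype.ext (show p (ι w : P) = ι w by rw [← hy, hp])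
      simp only [LinearMap.comp_apply, Submodule.subtype_apply, this]
      exact LinearMap.congr_fun hri w
    · obtain ⟨w, hw⟩ := hxr
      simp only [LinearMap.comp_apply, Submodule.subtype_apply, ← hw]
      rw [show r (ι w) = w from LinearMap.congr_fun hri w, hw]
      rfl
  choose d ι r h1 h2 h3 h4 using step
  let next : ℕ → {p : P →ₗ[R] P // ∀ y, p (p y) = p y} → {p : P →ₗ[R] P // ∀ y, p (p y) = p y} :=
    fun n p => ⟨p.1 - ι p n ∘ₗ r p n, fun y => by simp [p.2, h1, h2, h3]⟩
  let S : ℕ → {p : P →ₗ[R] P // ∀ y, p (p y) = p y} :=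
    fun n => Nat.rec ⟨LinearMap.id, fun _ => rfl⟩ next n
  have hS : ∀ n y, (S (n + 1)).1 y = (S n).1 y - ι (S n) n (r (S n) n y) := fun n y => rfl
  have hle : ∀ m k, ∀ y, (S m).1 ((S (m + k)).1 y) = (S (m + k)).1 y ∧
      (S (m + k)).1 ((S m).1 y) = (S (m + k)).1 y := by
    intro m k
    induction k with
    | zero => exact fun y => ⟨(S m).2 y, (S m).2 y⟩
    | succ k ih =>
      intro y
      refine ⟨?_, ?_⟩
      · rw [show m + (k + 1) = m + k + 1 from rfl, hS, map_sub, (ih y).1,
          ← h1 (S (m + k)) (m + k), (ih _).1]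
      · rw [show m + (k + 1) = m + k + 1 from rfl, hS, hS, (ih y).2,
          ← h2 (S (m + k)) (m + k) ((S m).1 y), (ih y).2, h2]
  have orth : ∀ m n, m ≠ n → ∀ w, r (S n) n (ι (S m) m w) = 0 := by
    intro m n hmn w
    rcases Nat.lt_or_gt_of_ne hmn with h | h
    · obtain ⟨k, rfl⟩ := Nat.exists_eq_add_of_le (Nat.succ_le_of_lt h)
      rw [← h2, ← (hle (m + 1) k _).2, hS, h1, h3, sub_self, map_zero, map_zero]
    · obtain ⟨k, rfl⟩ := Nat.exists_eq_add_of_le (Nat.succ_le_of_lt h)
      rw [← h1 (S (n + 1 + k)) (n + 1 + k), ← (hle (n + 1) k _).1, hS, map_sub, h3, ← h2, (S n).2,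
        sub_eq_zero]
      simp [h1, h2]
  let Φ : DirectSum ℕ (fun n => Fin (d (S n) n) → R) →ₗ[R] P :=
    DirectSum.toModule R ℕ P fun n => ι (S n) n
  have hΦ : Function.Bijective Φ := by
    constructor
    · intro u v huv
      refine DirectSum.ext_component (R := R) fun n => ?_
      have key : r (S n) n ∘ₗ Φ = DirectSum.component R ℕ _ n := by
        refine DirectSum.linearMap_ext R fun m => LinearMap.ext fun w => ?_
        by_cases hmn : m = n
        · subst hmn; simp [Φ, h3]
        · simp [Φ, orth m n hmn, DirectSum.component.of, hmn]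
      rw [← LinearMap.congr_fun key, ← LinearMap.congr_fun key]
      simp [huv]
    · rw [← LinearMap.range_eq_top, ← top_le_iff, ← hts, Submodule.span_le]
      intro y hy
      obtain ⟨n, rfl⟩ := hx hy
      have hres : ∀ n y, y - (S n).1 y ∈ LinearMap.range Φ := by
        intro n y
        induction n with
        | zero => simp [S]
        | succ n ih =>
          rw [hS, sub_sub_eq_add_sub, add_sub_right_comm]
          exact add_mem ih ⟨DirectSum.lof R ℕ _ n (r (S n) n y), by simp [Φ]⟩
      have := hres (n + 1) (x n)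
      rw [hS, h4, sub_self, sub_zero] at this
      exact this
  exact Module.Free.of_equiv (LinearEquiv.ofBijective Φ hΦ)

end Local

end Groth.L01

namespace Groth.L01

variable {R : Type u} [CommRing R] {M : Type v} [AddCommGroup M] [Module R M]

theorem countablyGen_subtype {N : Submodule R M} (h : CountablyGen N) :
    ∃ s : Set N, s.Countable ∧ Submodule.span R s = ⊤ := by
  obtain ⟨s, hs, hsp⟩ := h
  refine ⟨Subtype.val ⁻¹' s, hs.preimage Subtype.val_injective, ?_⟩
  refine Submodule.map_injective_of_injective N.injective_subtype ?_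
  rw [Submodule.map_span, Submodule.map_top, Submodule.range_subtype, Submodule.coe_subtype]
  conv_rhs => rw [← hsp]
  congr 1
  exact Set.image_preimage_eq_of_subset fun x hx => ⟨⟨x, hsp ▸ Submodule.subset_span hx⟩, rfl⟩

theorem countablyGen_of_subtype {N : Submodule R M} {s : Set N} (hs : s.Countable)
    (hsp : Submodule.span R s = ⊤) : CountablyGen N :=
  ⟨N.subtype '' s, hs.image _, by rw [← Submodule.map_span, hsp, Submodule.map_top, Submodule.range_subtype]⟩

/-- Kaplansky's theorem in internal direct sum form. -/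
theorem kaplansky_internal {ι : Type*} [DecidableEq ι] (N : ι → Submodule R M)
    (hN : DirectSum.IsInternal N) (hc : ∀ i, CountablyGen (N i))
    (P Q : Submodule R M) (hPQ : IsCompl P Q) :
    ∃ (κ : Type v) (L : κ → Submodule R P), iSupIndep L ∧ iSup L = ⊤ ∧
      ∀ k, CountablyGen (L k) := by
  obtain ⟨𝓛, hind, hsup, hcg⟩ := kaplansky N hN.submodule_iSupIndep hN.submodule_iSup_eq_top hc
    (P.projection Q hPQ) (fun x => by
      rw [Submodule.projection_apply_of_mem_left hPQ (Submodule.projection_apply_mem hPQ x)])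
  have hrange : LinearMap.range (P.projection Q hPQ) = P :=
    le_antisymm (LinearMap.range_le_iff_comap.mpr (eq_top_iff.mpr fun x _ =>
      Submodule.projection_apply_mem hPQ x))
      fun x hx => ⟨x, Submodule.projection_apply_of_mem_left hPQ hx⟩
  rw [hrange] at hsup
  have hle : ∀ L ∈ 𝓛, L ≤ P := fun L hL => hsup ▸ le_sSup hL
  have hmap : ∀ L : 𝓛, (Submodule.comap P.subtype L.1).map P.subtype = L.1 := fun L => by
    rw [Submodule.map_comap_subtype, inf_eq_right.mpr (hle _ L.2)]
  refine ⟨𝓛, fun L => Submodule.comap P.subtype L.1, ?_, ?_, fun L => ?_⟩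
  · intro L
    rw [disjoint_iff]
    refine Submodule.map_injective_of_injective P.injective_subtype ?_
    simp only [Submodule.map_inf _ P.injective_subtype, Submodule.map_iSup, Submodule.map_bot, hmap]
    exact disjoint_iff.mp ((sSupIndep_iff _).mp hind L)
  · refine Submodule.map_injective_of_injective P.injective_subtype ?_
    simp only [Submodule.map_iSup, hmap, Submodule.map_top, Submodule.range_subtype]
    rw [← hsup, sSup_eq_iSup']
  · obtain ⟨s, hs, hsp⟩ := hcg L L.2
    refine ⟨P.subtype ⁻¹' s, hs.preimage P.injective_subtype, ?_⟩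
    refine Submodule.map_injective_of_injective P.injective_subtype ?_
    rw [Submodule.map_span, hmap]
    conv_rhs => rw [← hsp]
    congr 1
    refine Set.image_preimage_eq_of_subset fun x hx => ?_
    exact ⟨⟨x, hle _ L.2 (hsp ▸ Submodule.subset_span hx)⟩, rfl⟩

theorem projective_of_isInternal {κ : Type*} [DecidableEq κ] (L : κ → Submodule R M)
    (hL : DirectSum.IsInternal L) [Module.Projective R M] (k : κ) : Module.Projective R (L k) := by
  let e := LinearEquiv.ofBijective (DirectSum.coeLinearMap L) hL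
  refine Module.Projective.of_split (R := R) (M := M) (L k).subtype
    ((DirectSum.component R κ (fun k => L k) k) ∘ₗ e.symm.toLinearMap) (LinearMap.ext fun x => ?_)
  have : e.symm (x : M) = DirectSum.lof R κ (fun k => L k) k x :=
    e.injective (by simp [e, DirectSum.coeLinearMap])
  simp [this]

theorem free_of_iSupIndep [IsLocalRing R] [Module.Projective R M] {κ : Type*}
    (L : κ → Submodule R M) (hind : iSupIndep L) (hsup : iSup L = ⊤)
    (hcg : ∀ k, CountablyGen (L k)) : Module.Free R M := by
  classical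
  have hint : DirectSum.IsInternal L :=
    (DirectSum.isInternal_submodule_iff_iSupIndep_and_iSup_eq_top L).mpr ⟨hind, hsup⟩
  have hfree : ∀ k, Module.Free R (L k) := fun k => by
    have := projective_of_isInternal L hint k
    obtain ⟨t, ht, hts⟩ := countablyGen_subtype (hcg k)
    exact free_of_countablyGen _ ⟨t, ht, hts⟩
  exact Module.Free.of_equiv (LinearEquiv.ofBijective (DirectSum.coeLinearMap L) hint)

/-- Projective modules over local rings are free. -/
theorem free_of_projective [IsLocalRing R] (P : Type v) [AddCommGroup P] [Module R P]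
    [Module.Projective R P] : Module.Free R P := by
  classical
  obtain ⟨s, hs⟩ := Module.projective_def'.mp ‹Module.Projective R P›
  let p := Finsupp.linearCombination R (id : P → P)
  have hps : ∀ x, p (s x) = x := fun x => LinearMap.congr_fun hs x
  let N : P → Submodule R (P →₀ R) := fun i => LinearMap.range (Finsupp.lsingle i)
  have hN : DirectSum.IsInternal N := by
    rw [DirectSum.isInternal_submodule_iff_iSupIndep_and_iSup_eq_top]
    refine ⟨fun i => ?_, ?_⟩
    · exact (Finsupp.disjoint_lsingle_lsingle {i} {j | j ≠ i}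
        (by simp)).mono (by simp [N]) (by simp [N])
    · exact Finsupp.iSup_lsingle_range
  have hc : ∀ i, CountablyGen (N i) := fun i => by
    refine ⟨{Finsupp.single i 1}, Set.countable_singleton _, ?_⟩
    rw [show N i = LinearMap.range (Finsupp.lsingle i) from rfl, LinearMap.range_eq_map,
      ← Ideal.span_singleton_one, Ideal.span, Submodule.map_span, Set.image_singleton]
    rfl
  have hPQ : IsCompl (LinearMap.range s) (LinearMap.ker p) := by
    refine ⟨Submodule.disjoint_def.mpr ?_, codisjoint_iff.mpr (eq_top_iff.mpr fun x _ => ?_)⟩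
    · rintro _ ⟨x, rfl⟩ h
      rw [LinearMap.mem_ker, hps] at h
      simp [h]
    · have : x = s (p x) + (x - s (p x)) := by abel
      rw [this]
      exact Submodule.add_mem_sup ⟨_, rfl⟩ (by simp [LinearMap.mem_ker, hps])
  let e' : P ≃ₗ[R] LinearMap.range s :=
    LinearEquiv.ofInjective s (Function.LeftInverse.injective hps)
  have : Module.Projective R (LinearMap.range s) := .of_equiv e'
  obtain ⟨κ, L, hind, hsup, hcg⟩ := kaplansky_internal N hN hc _ _ hPQ
  have : Module.Free R (LinearMap.range s) :=
    free_of_iSupIndep (R := R) (M := ↥(LinearMap.range s)) L hind hsup hcg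
  exact Module.Free.of_equiv e'.symm

end Groth.L01
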