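import Groth.Agent.L01.Regular
import Mathlib.RingTheory.Flat.EquationalCriterion
import Mathlib.RingTheory.RingHom.Flat
import Mathlib.RingTheory.Length
import Mathlib.RingTheory.Ideal.KrullsHeightTheorem
import Mathlib.Algebra.CharP.Lemmas
import Mathlib.Algebra.CharP.Frobenius
import Mathlib.RingTheory.RegularLocalRing.Defs
import Mathlib.RingTheory.Artinian.Module
import Mathlib.RingTheory.FiniteLength

/-!
Kunz's theorem: a Noetherian local ring with flat Frobenius is regular (Lech independence).
-/

universe u

namespace Groth.L01.Kunz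

open IsLocalRing Finset

variable {R : Type u} [CommRing R] {n : ℕ}

/-- Lech independence of a finite family. -/
def Indep (f : Fin n → R) : Prop :=
  ∀ a : Fin n → R, ∑ i, a i * f i = 0 → ∀ i, a i ∈ Ideal.span (Set.range f)

/-- The length of the quotient by a family. -/
noncomputable def L (f : Fin n → R) : ℕ∞ := Module.length R (R ⧸ Ideal.span (Set.range f))

theorem self_mem (f : Fin n → R) (i : Fin n) : f i ∈ Ideal.span (Set.range f) :=
  Ideal.subset_span ⟨i, rfl⟩

theorem span_update_le {f : Fin n → R} {i : Fin n} {x : R} {I : Ideal R} (hx : x ∈ I)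
    (h : ∀ j ≠ i, f j ∈ I) : Ideal.span (Set.range (Function.update f i x)) ≤ I := by
  rw [Ideal.span_le]
  rintro _ ⟨j, rfl⟩
  by_cases hj : j = i
  · subst hj; simpa using hx
  · simpa [hj] using h j hj

theorem indep_left {f : Fin n → R} {i : Fin n} {g h : R} (hI : Indep (Function.update f i (g * h))) :
    Indep (Function.update f i g) := by
  intro a ha
  have hle : Ideal.span (Set.range (Function.update f i (g * h))) ≤ Ideal.span (Set.range (Function.update f i g)) :=
    span_update_le (Ideal.mul_mem_right _ _ (by simpa using self_mem (Function.update f i g) i))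
      fun j hj => by simpa [hj] using self_mem (Function.update f i g) j
  have h1 : ∀ j, Function.update (fun j => h * a j) i (a i) j ∈ Ideal.span (Set.range (Function.update f i (g * h))) :=
    hI _ (by
      refine Eq.trans ?_ (show h * (∑ j, a j * Function.update f i g j) = 0 by rw [ha, mul_zero])
      rw [Finset.mul_sum]
      refine Finset.sum_congr rfl fun j _ => ?_
      by_cases hj : j = i
      · subst hj; simp; ring
      · simp [hj, mul_assoc])
  have hai := h1 i
  rw [Function.update_self, Ideal.mem_span_range_iff_exists_fun] at hai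
  obtain ⟨c, hc⟩ := hai
  have h2 : ∀ j, Function.update (fun j => c j * g + a j) i (c i * g) j ∈
      Ideal.span (Set.range (Function.update f i (g * h))) := hI _ (by
    refine Eq.trans ?_ ha
    rw [← Finset.add_sum_erase _ _ (Finset.mem_univ i), ← Finset.add_sum_erase _ _ (Finset.mem_univ i)]
    rw [← hc, ← Finset.add_sum_erase _ _ (Finset.mem_univ i)]
    simp only [Function.update_self, add_mul, Finset.sum_mul]
    rw [add_assoc, ← Finset.sum_add_distrib]
    refine congrArg₂ _ (by ring) (Finset.sum_congr rfl fun j hj => ?_)
    simp [Finset.ne_of_mem_erase hj]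
    ring)
  intro j
  by_cases hj : j = i
  · subst hj
    have := h1 j
    rw [Function.update_self] at this
    exact hle this
  · have := hle (h2 j)
    rw [Function.update_of_ne hj] at this
    refine (Submodule.add_mem_iff_right _ ?_).mp this
    exact Ideal.mul_mem_left _ _ (by simpa using self_mem (Function.update f i g) i)

variable (f : Fin n → R) (i : Fin n) (g h : R)

theorem mulLeft_le : Ideal.span (Set.range (Function.update f i h)) ≤
    Submodule.comap (LinearMap.mulLeft R g) (Ideal.span (Set.range (Function.update f i (g * h)))) := by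
  rw [Ideal.span_le]
  rintro _ ⟨j, rfl⟩
  show g * _ ∈ Ideal.span _
  by_cases hj : j = i
  · subst hj; simpa using self_mem (Function.update f j (g * h)) j
  · refine Ideal.mul_mem_left _ g ?_
    simpa [hj] using self_mem (Function.update f i (g * h)) j

theorem id_le : Ideal.span (Set.range (Function.update f i (g * h))) ≤
    Submodule.comap (LinearMap.id : R →ₗ[R] R) (Ideal.span (Set.range (Function.update f i g))) :=
  span_update_le (Ideal.mul_mem_right _ _ (by simpa using self_mem (Function.update f i g) i))
    fun j hj => by simpa [hj] using self_mem (Function.update f i g) j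

/-- `R/(h, f') → R/(gh, f')`. -/
noncomputable def mulMap : (R ⧸ Ideal.span (Set.range (Function.update f i h))) →ₗ[R]
    (R ⧸ Ideal.span (Set.range (Function.update f i (g * h)))) :=
  Submodule.mapQ _ _ (LinearMap.mulLeft R g) (mulLeft_le f i g h)

/-- `R/(gh, f') → R/(g, f')`. -/
noncomputable def projMap : (R ⧸ Ideal.span (Set.range (Function.update f i (g * h)))) →ₗ[R]
    (R ⧸ Ideal.span (Set.range (Function.update f i g))) :=
  Submodule.mapQ _ _ LinearMap.id (id_le f i g h)

theorem exact_maps : Function.Exact (mulMap f i g h) (projMap f i g h) := by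
  intro x
  obtain ⟨a, rfl⟩ := Submodule.Quotient.mk_surjective _ x
  rw [projMap, Submodule.mapQ_apply, LinearMap.id_apply, Submodule.Quotient.mk_eq_zero]
  constructor
  · intro ha
    obtain ⟨c, hc⟩ := Ideal.mem_span_range_iff_exists_fun.mp ha
    refine ⟨Submodule.Quotient.mk (c i), ?_⟩
    rw [mulMap, Submodule.mapQ_apply, Submodule.Quotient.eq, LinearMap.mulLeft_apply, ← hc,
      ← Finset.add_sum_erase _ _ (Finset.mem_univ i), Function.update_self]
    rw [show g * c i - (c i * g + ∑ j ∈ Finset.univ.erase i, c j * Function.update f i g j) =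
      - ∑ j ∈ Finset.univ.erase i, c j * Function.update f i g j by ring]
    refine neg_mem (Ideal.sum_mem _ fun j hj => Ideal.mul_mem_left _ _ ?_)
    simpa [Finset.ne_of_mem_erase hj] using self_mem (Function.update f i (g * h)) j
  · rintro ⟨y, hy⟩
    obtain ⟨r, rfl⟩ := Submodule.Quotient.mk_surjective _ y
    rw [mulMap, Submodule.mapQ_apply, Submodule.Quotient.eq, LinearMap.mulLeft_apply] at hy
    have h1 := id_le f i g h hy
    have h2 : g * r ∈ Ideal.span (Set.range (Function.update f i g)) :=
      Ideal.mul_mem_right _ _ (by simpa using self_mem (Function.update f i g) i)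
    simpa using sub_mem h2 h1

theorem projMap_surjective : Function.Surjective (projMap f i g h) := fun x => by
  obtain ⟨a, rfl⟩ := Submodule.Quotient.mk_surjective _ x
  exact ⟨Submodule.Quotient.mk a, rfl⟩

theorem L_mul_le : L (Function.update f i (g * h)) ≤ L (Function.update f i h) + L (Function.update f i g) := by
  rw [L, Module.length_eq_add_of_exact (LinearMap.range (mulMap f i g h)).subtype (projMap f i g h)
    Subtype.val_injective (projMap_surjective f i g h) (by
      intro x
      rw [exact_maps f i g h x]
      simp)]
  refine add_le_add ?_ le_rfl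
  exact Module.length_le_of_surjective (mulMap f i g h).rangeRestrict (LinearMap.surjective_rangeRestrict _)

variable {f i g h}

theorem L_mul (hI : Indep (Function.update f i (g * h))) :
    L (Function.update f i (g * h)) = L (Function.update f i h) + L (Function.update f i g) := by
  refine Module.length_eq_add_of_exact _ _ ?_ (projMap_surjective f i g h) (exact_maps f i g h)
  rw [injective_iff_map_eq_zero]
  intro x hx
  obtain ⟨a, rfl⟩ := Submodule.Quotient.mk_surjective _ x
  rw [mulMap, Submodule.mapQ_apply, Submodule.Quotient.mk_eq_zero, LinearMap.mulLeft_apply,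
    Ideal.mem_span_range_iff_exists_fun] at hx
  obtain ⟨c, hc⟩ := hx
  rw [Submodule.Quotient.mk_eq_zero]
  have hle : Ideal.span (Set.range (Function.update f i (g * h))) ≤ Ideal.span (Set.range (Function.update f i h)) :=
    span_update_le (Ideal.mul_mem_left _ _ (by simpa using self_mem (Function.update f i h) i))
      fun j hj => by simpa [hj] using self_mem (Function.update f i h) j
  have h1 := hI (Function.update (fun j => -(h * c j)) i (a - c i * h)) (by
    rw [← Finset.add_sum_erase _ _ (Finset.mem_univ i), Function.update_self, Function.update_self]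
    rw [← Finset.add_sum_erase _ _ (Finset.mem_univ i), Function.update_self] at hc
    have : ∑ j ∈ Finset.univ.erase i, Function.update (fun j => -(h * c j)) i (a - c i * h) j *
        Function.update f i (g * h) j = -(h * ∑ j ∈ Finset.univ.erase i, c j * Function.update f i (g * h) j) := by
      rw [Finset.mul_sum, ← Finset.sum_neg_distrib]
      refine Finset.sum_congr rfl fun j hj => ?_
      simp [Finset.ne_of_mem_erase hj]
      ring
    rw [this]
    linear_combination -h * hc) i
  rw [Function.update_self] at h1
  have h2 : c i * h ∈ Ideal.span (Set.range (Function.update f i h)) :=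
    Ideal.mul_mem_left _ _ (by simpa using self_mem (Function.update f i h) i)
  simpa using add_mem (hle h1) h2

theorem L_update_one : L (Function.update f i (1 : R)) = 0 := by
  haveI : Subsingleton (R ⧸ Ideal.span (Set.range (Function.update f i (1 : R)))) :=
    Ideal.Quotient.subsingleton_iff.mpr ((Ideal.eq_top_iff_one _).mpr
      (by simpa using self_mem (Function.update f i (1 : R)) i))
  exact Module.length_eq_zero

theorem L_pow_le (f : Fin n → R) (i : Fin n) (x : R) :
    ∀ q : ℕ, L (Function.update f i (x ^ q)) ≤ q * L (Function.update f i x) := by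
  intro q
  induction q with
  | zero => rw [pow_zero, L_update_one]; exact zero_le
  | succ q ih =>
    rw [pow_succ]
    refine (L_mul_le f i (x ^ q) x).trans ?_
    rw [Nat.cast_succ, add_mul, one_mul, add_comm]
    gcongr

theorem L_pow : ∀ (q : ℕ) (f : Fin n → R) (i : Fin n) (x : R), Indep (Function.update f i (x ^ q)) →
    L (Function.update f i (x ^ q)) = q * L (Function.update f i x) := by
  intro q
  induction q with
  | zero => intro f i x _; rw [pow_zero, L_update_one, Nat.cast_zero, zero_mul]
  | succ q ih =>
    intro f i x hI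
    rw [pow_succ] at hI ⊢
    rw [L_mul hI, ih f i x (indep_left hI), Nat.cast_succ, add_mul, one_mul, add_comm]

theorem L_powers_le (q : ℕ) (f : Fin n → R) : L (fun i => f i ^ q) ≤ (q : ℕ∞) ^ n * L f := by
  classical
  suffices H : ∀ s : Finset (Fin n), L (fun i => if i ∈ s then f i ^ q else f i) ≤ (q : ℕ∞) ^ s.card * L f by
    simpa using H Finset.univ
  intro s
  induction s using Finset.induction_on with
  | empty => simp
  | insert a s ha ih =>
    have h1 : (fun i => if i ∈ insert a s then f i ^ q else f i) =
        Function.update (fun i => if i ∈ s then f i ^ q else f i) a (f a ^ q) := by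
      funext i
      by_cases hi : i = a
      · subst hi; simp
      · simp [hi]
    have h2 : Function.update (fun i => if i ∈ s then f i ^ q else f i) a (f a) =
        fun i => if i ∈ s then f i ^ q else f i := by
      funext i
      by_cases hi : i = a
      · subst hi; simp [ha]
      · simp [hi]
    rw [h1]
    refine (L_pow_le _ a (f a) q).trans ?_
    rw [h2, Finset.card_insert_of_notMem ha, pow_succ', mul_assoc]
    gcongr

theorem L_powers (q : ℕ) (hq : 0 < q) (f : Fin n → R) (hI : Indep fun i => f i ^ q) :
    L (fun i => f i ^ q) = (q : ℕ∞) ^ n * L f := by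
  classical
  suffices H : ∀ s : Finset (Fin n), Indep (fun i => if i ∈ s then f i else f i ^ q) ∧
      L (fun i => f i ^ q) = (q : ℕ∞) ^ s.card * L (fun i => if i ∈ s then f i else f i ^ q) by
    simpa using (H Finset.univ).2
  intro s
  induction s using Finset.induction_on with
  | empty => simpa using hI
  | insert a s ha ih =>
    obtain ⟨hs, hL⟩ := ih
    let F := fun i => if i ∈ s then f i else f i ^ q
    have h1 : (fun i => if i ∈ insert a s then f i else f i ^ q) = Function.update F a (f a) := by
      funext i
      by_cases hi : i = a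
      · subst hi; simp
      · simp [hi, F]
    have h2 : F = Function.update F a (f a ^ q) := by
      funext i
      by_cases hi : i = a
      · subst hi; simp [ha, F]
      · simp [hi]
    rw [h1]
    rw [show (fun i => if i ∈ s then f i else f i ^ q) = F from rfl, h2] at hs hL
    refine ⟨?_, ?_⟩
    · obtain ⟨m, rfl⟩ : ∃ m, q = m + 1 := ⟨q - 1, by omega⟩
      rw [pow_succ'] at hs
      exact indep_left hs
    · rw [hL, L_pow q F a (f a) hs, Finset.card_insert_of_notMem ha, pow_succ, mul_assoc]

/-- Images of minimal generators of the maximal ideal under a flat map are independent. -/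
theorem indep_map [IsLocalRing R] [IsNoetherianRing R] {S : Type u} [CommRing S] (φ : R →+* S) (hφ : φ.Flat)
    (x : Fin n → R) (hx : Ideal.span (Set.range x) = maximalIdeal R)
    (hmin : n = (maximalIdeal R).spanFinrank) : Indep (fun i => φ (x i)) := by
  classical
  intro a ha i
  letI := φ.toAlgebra
  haveI : Module.Flat R S := hφ
  obtain ⟨k, c, y, hy, hc⟩ := Module.Flat.isTrivialRelation_of_sum_smul_eq_zero (R := R) (M := S) (f := x) (x := a) (by
    simpa [Algebra.smul_def, RingHom.algebraMap_toAlgebra, mul_comm] using ha)
  rw [hy i]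
  refine Ideal.sum_mem _ fun j _ => ?_
  rw [Algebra.smul_def, RingHom.algebraMap_toAlgebra]
  refine Ideal.mul_mem_right _ _ ?_
  have hcm : c i j ∈ maximalIdeal R := by
    by_contra hu
    rw [mem_maximalIdeal, mem_nonunits_iff, not_not] at hu
    have hsub : maximalIdeal R ≤ Ideal.span ((Finset.univ.erase i).image x : Set R) := by
      rw [← hx, Ideal.span_le]
      rintro _ ⟨l, rfl⟩
      by_cases hl : l = i
      · subst hl
        rw [SetLike.mem_coe, ← Ideal.unit_mul_mem_iff_mem _ hu, mul_comm]
        have h0 := hc j
        rw [← Finset.add_sum_erase _ _ (Finset.mem_univ l)] at h0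
        rw [show x l * c l j = -∑ m ∈ Finset.univ.erase l, x m * c m j from eq_neg_of_add_eq_zero_left h0]
        exact neg_mem (Ideal.sum_mem _ fun m hm => Ideal.mul_mem_right _ _
          (Ideal.subset_span (Finset.mem_image_of_mem x hm)))
      · exact Ideal.subset_span (Finset.mem_image_of_mem x (Finset.mem_erase.mpr ⟨hl, Finset.mem_univ _⟩))
    have heq : maximalIdeal R = Ideal.span ((Finset.univ.erase i).image x : Set R) :=
      le_antisymm hsub (by rw [← hx]; exact Ideal.span_mono (by intro z hz; simp at hz; obtain ⟨l, -, rfl⟩ := hz; exact ⟨l, rfl⟩))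
    have := Submodule.spanFinrank_span_le_ncard_of_finite (R := R)
      (s := (((Finset.univ.erase i).image x : Finset R) : Set R)) (Finset.finite_toSet _)
    rw [Ideal.span] at heq
    rw [← heq, ← hmin, Set.ncard_coe_finset] at this
    have h3 := this.trans Finset.card_image_le
    rw [Finset.card_erase_of_mem (Finset.mem_univ i), Finset.card_univ, Fintype.card_fin] at h3
    have := i.2
    omega
  rw [show Ideal.span (Set.range fun i => φ (x i)) = (maximalIdeal R).map φ by
    rw [← hx, Ideal.map_span, ← Set.range_comp]; rfl]
  exact Ideal.mem_map_of_mem φ hcm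

/-- Kunz: flat Frobenius implies regular. -/
theorem isRegularLocalRing_of_flat_frobenius [IsLocalRing R] [IsNoetherianRing R] (p : ℕ) [Fact p.Prime]
    [CharP R p] (h : (frobenius R p).Flat) : IsRegularLocalRing R := by
  classical
  have hit : ∀ e, (iterateFrobenius R p e).Flat := by
    intro e
    induction e with
    | zero =>
      rw [show iterateFrobenius R p 0 = RingHom.id R from RingHom.ext fun x => by simp [iterateFrobenius_def]]
      exact RingHom.Flat.id R
    | succ e ih =>
      rw [show iterateFrobenius R p (e + 1) = (frobenius R p).comp (iterateFrobenius R p e) from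
        RingHom.ext fun x => by simp [iterateFrobenius_def, frobenius_def, pow_succ, pow_mul]]
      exact RingHom.Flat.comp ih h
  let n := (maximalIdeal R).spanFinrank
  obtain ⟨x, hx⟩ : ∃ x : Fin n → R, Ideal.span (Set.range x) = maximalIdeal R := by
    obtain ⟨s, hs, hs'⟩ := Submodule.FG.exists_span_finset_card_eq_spanFinrank
      (IsNoetherian.noetherian (maximalIdeal R))
    refine ⟨fun i => (s.equivFin.symm (Fin.cast hs.symm i)).1, ?_⟩
    refine Eq.trans ?_ hs'
    congr 1
    ext z
    exact ⟨fun ⟨i, hi⟩ => hi ▸ (s.equivFin.symm _).2, fun hz => ⟨Fin.cast hs (s.equivFin ⟨z, hz⟩), by simp⟩⟩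
  obtain ⟨s, hs, hcard⟩ := (maximalIdeal R).exists_finset_card_eq_height_of_isNoetherianRing
  let y : Fin s.card → R := fun i => (s.equivFin.symm i).1
  have hy : Ideal.span (Set.range y) = Ideal.span (s : Set R) := by
    congr 1
    ext z
    exact ⟨fun ⟨i, hi⟩ => hi ▸ (s.equivFin.symm i).2, fun hz => ⟨s.equivFin ⟨z, hz⟩, by simp [y]⟩⟩
  obtain ⟨C, hC⟩ : ∃ C : ℕ, L y = C := by
    have hle : Ideal.span (s : Set R) ≤ maximalIdeal R := hs.le
    haveI : IsLocalRing (R ⧸ Ideal.span (s : Set R)) := Groth.L01.isLocalRing_quotient
      (ne_top_of_le_ne_top (maximalIdeal.isMaximal R).ne_top hle)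
    haveI : Ring.KrullDimLE 0 (R ⧸ Ideal.span (s : Set R)) := Ring.krullDimLE_zero_iff.mpr fun P hP => by
      have h1 : (P.comap (Ideal.Quotient.mk _)) = maximalIdeal R := by
        have hle' : P.comap (Ideal.Quotient.mk _) ≤ maximalIdeal R := le_maximalIdeal (hP.comap _).ne_top
        exact le_antisymm hle' (hs.2 ⟨hP.comap _, (Ideal.mk_ker).ge.trans (Ideal.comap_mono bot_le)⟩ hle')
      have h2 := congrArg (Ideal.map (Ideal.Quotient.mk (Ideal.span (s : Set R)))) h1
      rw [Ideal.map_comap_of_surjective _ Ideal.Quotient.mk_surjective] at h2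
      rw [h2]
      refine (Ideal.map_eq_top_or_isMaximal_of_surjective _ Ideal.Quotient.mk_surjective
        (maximalIdeal.isMaximal R)).resolve_left fun htop => hP.ne_top (h2.trans htop)
    haveI : IsArtinianRing (R ⧸ Ideal.span (s : Set R)) := isArtinianRing_iff_krullDimLE_zero.mpr inferInstance
    refine ⟨(L y).toNat, (ENat.natCast_toNat ?_).symm⟩
    rw [L, hy, Module.length_eq_of_surjective (R := R ⧸ Ideal.span (s : Set R)) (S := R)
      (M := R ⧸ Ideal.span (s : Set R)) Ideal.Quotient.mk_surjective]
    exact Module.length_ne_top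
  have hdim : ringKrullDim R = (s.card : WithBot ℕ∞) := by
    rw [← maximalIdeal_height_eq_ringKrullDim, ← hcard]; rfl
  refine IsRegularLocalRing.of_spanFinrank_maximalIdeal_le R (?_ : ((n : ℕ) : WithBot ℕ∞) ≤ _)
  rw [hdim, Nat.cast_le]
  by_contra hlt
  obtain ⟨e, he⟩ := pow_unbounded_of_one_lt C (Fact.out : p.Prime).one_lt
  let q := p ^ e
  have hq : 0 < q := pow_pos (Fact.out : p.Prime).pos e
  have hI : Indep fun i => x i ^ q := indep_map (iterateFrobenius R p e) (hit e) x hx rfl
  have h1 : (q : ℕ∞) ^ n ≤ L (fun i => x i ^ q) := by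
    rw [L_powers q hq x hI]
    refine le_mul_of_one_le_right' ?_
    rw [Order.one_le_iff_pos, L, Module.length_pos_iff, Ideal.Quotient.nontrivial_iff, hx]
    exact (maximalIdeal.isMaximal R).ne_top
  have h2 : L (fun i => x i ^ q) ≤ L (fun i => y i ^ q) := by
    refine Module.length_le_of_surjective (Submodule.factor ?_) (Submodule.factor_surjective _)
    rw [Ideal.span_le]
    rintro _ ⟨i, rfl⟩
    have hyi : y i ∈ Ideal.span (Set.range x) := by
      rw [hx]; exact hs.le (Ideal.subset_span (s.equivFin.symm i).2)
    have := Ideal.mem_map_of_mem (iterateFrobenius R p e) hyi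
    rw [Ideal.map_span, ← Set.range_comp] at this
    exact this
  have h3 := (h1.trans h2).trans (L_powers_le q y)
  rw [hC] at h3
  norm_cast at h3
  have h4 : q ^ (s.card + 1) ≤ q ^ n := Nat.pow_le_pow_right hq (by omega)
  have h5 : q ≤ C := by
    have h6 := h4.trans h3
    rw [pow_succ] at h6
    exact Nat.le_of_mul_le_mul_left h6 (pow_pos hq _)
  exact absurd he (not_lt.mpr h5)

end Groth.L01.Kunz
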