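import Groth.Agent.L13.SigmaFitting
import Mathlib.FieldTheory.IsAlgClosed.Basic
import Mathlib.RingTheory.WittVector.Complete
import Mathlib.RingTheory.Nakayama
import Mathlib.RingTheory.WittVector.DiscreteValuationRing

/-!
Lang's theorem for Frobenius^ν-semilinear bijections: over an algebraically closed field, and over
its ring of Witt vectors.
-/

set_option autoImplicit false
universe u v

open Polynomial

namespace Groth.L01.LangNu

section Field

variable (k : Type u) [Field k] [IsAlgClosed k] (p : ℕ) [Fact p.Prime] [CharP k p] (ν : ℕ)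

theorem iterate_frob (i : ℕ) (x : k) :
    (⇑(iterateFrobenius k p ν))^[i] x = x ^ (p ^ ν) ^ i := by
  induction i with
  | zero => simp
  | succ i ih => rw [Function.iterate_succ_apply', ih, iterateFrobenius_def, ← pow_mul, ← pow_succ]

theorem exists_fixed_basis (hν : 1 ≤ ν) {V : Type v} [AddCommGroup V] [Module k V]
    [FiniteDimensional k V] (φ : V →+ V) (hφ : ∀ (a : k) (v : V), φ (a • v) = a ^ (p ^ ν) • φ v)
    (hsurj : Function.Surjective φ) :
    (∃ b : Module.Basis (Fin (Module.finrank k V)) k V, ∀ i, φ (b i) = b i) ∧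
      ∀ w, ∃ v, φ v - v = w := by
  have hq : 2 ≤ p ^ ν := (Fact.out : p.Prime).two_le.trans (Nat.le_self_pow (by omega) p)
  let T : V →ₛₗ[iterateFrobenius k p ν] V :=
    { φ with map_smul' := fun a v => by simp [iterateFrobenius_def, hφ] }
  have h1 : Submodule.span k (Set.range ⇑T) = ⊤ := by
    rw [show Set.range ⇑T = Set.univ from hsurj.range_eq, Submodule.span_univ]
  have h2 : ∀ (n : ℕ) (b : Fin (n + 1) → k), b ≠ 0 → ∃ x : k, x ≠ 0 ∧
      x = ∑ i : Fin (n + 1), (⇑(iterateFrobenius k p ν))^[i.val + 1] x *
        (⇑(iterateFrobenius k p ν))^[i.val] (b (Fin.rev i)) := by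
    intro n b hb
    let c : Fin (n + 1) → k := fun i => (b (Fin.rev i)) ^ (p ^ ν) ^ i.val
    let e : Fin (n + 1) → ℕ := fun i => (p ^ ν) ^ (i.val + 1) - 1
    have he : ∀ i, 0 < e i := fun i => by
      have : 2 ≤ (p ^ ν) ^ (i.val + 1) := hq.trans (Nat.le_self_pow (Nat.succ_ne_zero _) _)
      simp only [e]; omega
    let P : k[X] := (∑ i, C (c i) * X ^ e i) - 1
    obtain ⟨i₀, hi₀⟩ : ∃ i, c i ≠ 0 := by
      by_contra! h
      apply hb
      funext j
      have := eq_zero_of_pow_eq_zero (h (Fin.rev j))
      rwa [Fin.rev_rev] at this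
    have hinj : Function.Injective e := fun i j hij => by
      have h1 := he i
      have h2 := he j
      simp only [e] at hij h1 h2
      have h3 := Nat.pow_right_injective hq (show (p ^ ν) ^ (i.val + 1) = (p ^ ν) ^ (j.val + 1) by omega)
      exact Fin.ext (by omega)
    have hcoeff : P.coeff (e i₀) = c i₀ := by
      simp only [P, coeff_sub, finset_sum_coeff, coeff_C_mul_X_pow]
      rw [Finset.sum_eq_single i₀ (fun j _ hj => if_neg (fun h => hj (hinj h.symm)))
        (fun h => absurd (Finset.mem_univ _) h), if_pos rfl, coeff_one, if_neg (he i₀).ne', sub_zero]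
    have hdeg : P.degree ≠ 0 := by
      refine (lt_of_lt_of_le ?_ (le_degree_of_ne_zero (hcoeff ▸ hi₀))).ne'
      exact_mod_cast he i₀
    obtain ⟨x, hx⟩ := IsAlgClosed.exists_root P hdeg
    have hroot : ∑ i, c i * x ^ e i = 1 := by
      simpa [P, IsRoot.def, eval_finset_sum, sub_eq_zero] using hx
    refine ⟨x, fun h0 => zero_ne_one (α := k) ?_, ?_⟩
    · rw [← hroot]
      exact (Finset.sum_eq_zero fun i _ => by rw [h0, zero_pow (he i).ne', mul_zero]).symm
    · conv_lhs => rw [← mul_one x, ← hroot, Finset.mul_sum]
      refine Finset.sum_congr rfl fun i _ => ?_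
      rw [iterate_frob, iterate_frob, show (p ^ ν) ^ (i.val + 1) = e i + 1 from
        (Nat.sub_add_cancel (Nat.one_le_pow _ _ (by omega))).symm, pow_succ]
      ring
  have h3 : ∀ c : k, ∃ y : k, (iterateFrobenius k p ν) y - y + c = 0 := by
    intro c
    let P : k[X] := X ^ (p ^ ν) - X + C c
    have hdeg : P.degree ≠ 0 := by
      have : P.coeff (p ^ ν) = 1 := by
        rw [show P = X ^ (p ^ ν) - X + C c from rfl, coeff_add, coeff_sub, coeff_X_pow_self, coeff_X,
          if_neg (by omega), coeff_C, if_neg (by omega), sub_zero, add_zero]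
      refine (lt_of_lt_of_le ?_ (le_degree_of_ne_zero (by rw [this]; exact one_ne_zero))).ne'
      exact_mod_cast (by omega : 0 < p ^ ν)
    obtain ⟨y, hy⟩ := IsAlgClosed.exists_root P hdeg
    exact ⟨y, by simpa [P, IsRoot.def, iterateFrobenius_def] using hy⟩
  obtain ⟨hb, hs⟩ := Groth.L13.SigmaFitting.exists_fixed_basis_and_surjective h2 h3 T h1
  refine ⟨hb, fun w => ?_⟩
  obtain ⟨v, hv⟩ := hs (-w)
  exact ⟨v, by rw [← neg_sub, show v - φ v = -w from hv, neg_neg]⟩

end Field

section Witt

variable (k : Type u) [Field k] [IsAlgClosed k] (p : ℕ) [Fact p.Prime] [CharP k p] (ν : ℕ)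

theorem coeff_zero_iterate_frobenius (a : WittVector p k) :
    ((⇑(WittVector.frobenius : WittVector p k →+* WittVector p k))^[ν] a).coeff 0 =
      a.coeff 0 ^ (p ^ ν) := by
  induction ν with
  | zero => simp
  | succ n ih =>
    rw [Function.iterate_succ_apply', WittVector.coeff_frobenius_charP, ih, ← pow_mul, ← pow_succ]

theorem exists_fixed_basis_witt (hν : 1 ≤ ν) {M : Type v} [AddCommGroup M]
    [Module (WittVector p k) M] [Module.Finite (WittVector p k) M] [Module.Free (WittVector p k) M]
    (F : M →+ M)
    (hF : ∀ (a : WittVector p k) (m : M), F (a • m) =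
      ((⇑(WittVector.frobenius : WittVector p k →+* WittVector p k))^[ν] a) • F m)
    (hsurj : Function.Surjective F) :
    ∃ (ι : Type v) (b : Module.Basis ι (WittVector p k) M), ∀ i, F (b i) = b i := by
  classical
  let e := Module.Free.chooseBasis (WittVector p k) M
  let ι := Module.Free.ChooseBasisIndex (WittVector p k) M
  let red : M →+ (ι → k) :=
    { toFun := fun m i => WittVector.constantCoeff (e.repr m i)
      map_zero' := by ext; simp
      map_add' := fun x y => funext fun i =>
        (congrArg WittVector.constantCoeff (by simp)).trans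
          (map_add WittVector.constantCoeff (e.repr x i) (e.repr y i)) }
  have red_smul : ∀ (a : WittVector p k) m, red (a • m) = a.coeff 0 • red m := fun a m => funext fun i =>
    (congrArg WittVector.constantCoeff (by simp)).trans
      (map_mul WittVector.constantCoeff a (e.repr m i))
  have red_surj : Function.Surjective red := fun c => ⟨e.equivFun.symm fun i =>
    WittVector.teichmuller p (c i), by
      funext i
      change (e.repr (e.equivFun.symm fun i => WittVector.teichmuller p (c i)) i).coeff 0 = c i
      rw [← e.equivFun_apply, LinearEquiv.apply_symm_apply, WittVector.teichmuller_coeff_zero]⟩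
  have red_ker : ∀ m, red m = 0 → ∃ z, m = (p : WittVector p k) • z := by
    intro m hm
    have h : ∀ i, ∃ c, e.repr m i = (p : WittVector p k) * c := fun i => by
      have h1 : e.repr m i ∈ Ideal.span {(p : WittVector p k)} := by
        rw [← WittVector.ker_constantCoeff, RingHom.mem_ker]
        exact congrFun hm i
      exact Ideal.mem_span_singleton.1 h1
    choose c hc using h
    refine ⟨e.equivFun.symm c, e.equivFun.injective ?_⟩
    ext i
    simp [hc i, -Module.Basis.equivFun_symm_apply]
  have Fp : ∀ (N : ℕ) (m : M), F ((p : WittVector p k) ^ N • m) = (p : WittVector p k) ^ N • F m := by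
    intro N m
    rw [hF, ← Nat.cast_pow, ← RingHom.coe_pow, map_natCast]
  have red_p : ∀ z : M, red ((p : WittVector p k) • z) = 0 := fun z => by
    rw [red_smul, show ((p : WittVector p k)).coeff 0 = 0 from
      (map_natCast WittVector.constantCoeff p).trans (CharP.cast_eq_zero k p), zero_smul]
  have red_well : ∀ m m', red m = red m' → red (F m) = red (F m') := by
    intro m m' h
    obtain ⟨z, hz⟩ := red_ker (m - m') (by rw [map_sub, h, sub_self])
    rw [← sub_eq_zero, ← map_sub, ← map_sub, hz, ← pow_one (p : WittVector p k), Fp, pow_one, red_p]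
  let φ : (ι → k) →+ (ι → k) :=
    { toFun := fun c => red (F (Function.surjInv red_surj c))
      map_zero' := by
        rw [red_well _ 0 (by rw [Function.surjInv_eq red_surj, map_zero]), map_zero, map_zero]
      map_add' := fun x y => by
        rw [← map_add, ← map_add]
        exact red_well _ _ (by rw [map_add, Function.surjInv_eq red_surj, Function.surjInv_eq red_surj,
          Function.surjInv_eq red_surj]) }
  have hφred : ∀ m, φ (red m) = red (F m) := fun m => red_well _ _ (Function.surjInv_eq red_surj _)
  have hφ : ∀ (a : k) (v : ι → k), φ (a • v) = a ^ (p ^ ν) • φ v := by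
    intro a v
    obtain ⟨m, rfl⟩ := red_surj v
    rw [show a • red m = red (WittVector.teichmuller p a • m) by rw [red_smul, WittVector.teichmuller_coeff_zero],
      hφred, hF, red_smul, coeff_zero_iterate_frobenius, WittVector.teichmuller_coeff_zero, hφred]
  have hφsurj : Function.Surjective φ := fun c => by
    obtain ⟨m, rfl⟩ := red_surj c
    obtain ⟨m', rfl⟩ := hsurj m
    exact ⟨red m', hφred m'⟩
  obtain ⟨⟨b, hb⟩, hs⟩ := exists_fixed_basis k p ν hν φ hφ hφsurj
  -- `F - 1` is surjective on `M`
  have hstep : ∀ w : M, ∃ u z, F u - u = w + (p : WittVector p k) • z := fun w => by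
    obtain ⟨c, hc⟩ := hs (red w)
    obtain ⟨u, rfl⟩ := red_surj c
    obtain ⟨z, hz⟩ := red_ker (F u - u - w) (by rw [map_sub, map_sub, ← hφred, hc, sub_self])
    exact ⟨u, z, by rw [← hz]; abel⟩
  choose u z huz using hstep
  have hFsub : ∀ w : M, ∃ x, F x - x = w := by
    intro w
    let r : ℕ → M := fun n => (fun y => -z y)^[n] w
    let s : ℕ → M := fun n => ∑ j ∈ Finset.range n, (p : WittVector p k) ^ j • u (r j)
    have hs' : ∀ n, F (s n) - s n = w - (p : WittVector p k) ^ n • r n := by
      intro n
      induction n with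
      | zero => simp [s, r]
      | succ n ih =>
        have hr : r (n + 1) = -z (r n) := Function.iterate_succ_apply' (fun y => -z y) n w
        simp only [s, Finset.sum_range_succ, map_add, Fp] at ih ⊢
        rw [add_sub_add_comm, ih, ← smul_sub, huz, hr, smul_neg, pow_succ, mul_smul, smul_add]
        abel
    have hlim : ∀ i, ∃ L : WittVector p k, ∀ n, e.repr (s n) i ≡ L [SMOD
        ((Ideal.span {(p : WittVector p k)}) ^ n • ⊤ : Submodule (WittVector p k) (WittVector p k))] := by
      intro i
      refine IsPrecomplete.prec inferInstance fun {m n} hmn => ?_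
      rw [SModEq.sub_mem, smul_eq_mul, Ideal.mul_top, Ideal.span_singleton_pow,
        Ideal.mem_span_singleton, ← neg_sub, dvd_neg, ← Finsupp.sub_apply, ← map_sub]
      simp only [s, ← Finset.sum_Ico_eq_sub _ hmn, map_sum, Finsupp.coe_finset_sum, Finset.sum_apply]
      refine Finset.dvd_sum fun j hj => ?_
      rw [map_smul, Finsupp.smul_apply, smul_eq_mul]
      exact Dvd.dvd.mul_right (pow_dvd_pow _ (Finset.mem_Ico.1 hj).1) _
    choose L hL using hlim
    let x := e.equivFun.symm L
    refine ⟨x, e.ext_elem fun i => ?_⟩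
    apply sub_eq_zero.1
    refine IsHausdorff.haus (inferInstance : IsHausdorff (Ideal.span {(p : WittVector p k)}) _) _
      fun n => ?_
    have hx : ∀ j, (p : WittVector p k) ^ n ∣ e.repr (x - s n) j := fun j => by
      have := hL j n
      rw [SModEq.sub_mem, smul_eq_mul, Ideal.mul_top, Ideal.span_singleton_pow,
        Ideal.mem_span_singleton, ← neg_sub, dvd_neg] at this
      rw [map_sub, Finsupp.sub_apply, ← e.equivFun_apply, LinearEquiv.apply_symm_apply]
      exact this
    choose c hc using hx
    have hxs : x = s n + (p : WittVector p k) ^ n • e.equivFun.symm c := by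
      rw [eq_comm, ← eq_sub_iff_add_eq']
      refine e.equivFun.injective ?_
      funext j
      simp only [map_smul, LinearEquiv.apply_symm_apply, Pi.smul_apply, smul_eq_mul]
      exact (hc j).symm
    have : F x - x = w + (p : WittVector p k) ^ n •
        (F (e.equivFun.symm c) - e.equivFun.symm c - r n) := by
      rw [hxs, map_add, Fp, add_sub_add_comm, hs' n, ← smul_sub]
      simp only [smul_sub]; abel
    rw [SModEq.sub_mem, sub_zero, smul_eq_mul, Ideal.mul_top, Ideal.span_singleton_pow,
      Ideal.mem_span_singleton, this, map_add, Finsupp.add_apply, add_sub_cancel_left, map_smul,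
      Finsupp.smul_apply, smul_eq_mul]
    exact dvd_mul_right _ _
  have hfix : ∀ i, ∃ m : M, F m = m ∧ red m = b i := by
    intro i
    obtain ⟨v, hv⟩ := red_surj (b i)
    obtain ⟨w, hw⟩ := red_ker (F v - v) (by rw [map_sub, ← hφred, hv, hb, sub_self])
    obtain ⟨x, hx⟩ := hFsub w
    refine ⟨v - (p : WittVector p k) • x, ?_, by rw [map_sub, red_p, sub_zero, hv]⟩
    have hp1 := Fp 1 x
    rw [pow_one] at hp1
    rw [map_sub, hp1, sub_eq_sub_iff_sub_eq_sub, hw, ← smul_sub, hx]
  choose m hm hred using hfix
  have hspan : ⊤ ≤ Submodule.span (WittVector p k) (Set.range m) := by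
    refine Submodule.le_of_le_smul_of_le_jacobson_bot (I := Ideal.span {(p : WittVector p k)})
      Module.Finite.fg_top ?_ ?_
    · rw [IsLocalRing.jacobson_eq_maximalIdeal ⊥ bot_ne_top]
      refine IsLocalRing.le_maximalIdeal (fun h => ?_)
      have h1 : (1 : WittVector p k) ∈ Ideal.span {(p : WittVector p k)} := h ▸ Submodule.mem_top
      rw [← WittVector.ker_constantCoeff, RingHom.mem_ker, map_one] at h1
      exact one_ne_zero h1
    · intro y _
      have hc := b.sum_repr (red y)
      let y' := ∑ i, WittVector.teichmuller p (b.repr (red y) i) • m i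
      have : red (y - y') = 0 := by
        simp only [y', map_sub, map_sum, red_smul, WittVector.teichmuller_coeff_zero, hred, hc, sub_self]
      obtain ⟨t, ht⟩ := red_ker _ this
      rw [show y = y' + (p : WittVector p k) • t by rw [← ht]; abel]
      exact Submodule.add_mem_sup
        (Submodule.sum_mem _ fun i _ => Submodule.smul_mem _ _ (Submodule.subset_span ⟨i, rfl⟩))
        (Submodule.smul_mem_smul (Ideal.mem_span_singleton_self _) Submodule.mem_top)
  have hcard : Fintype.card (Fin (Module.finrank k (ι → k))) = Module.finrank (WittVector p k) M := by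
    rw [Fintype.card_fin, Module.finrank_fintype_fun_eq_card, Module.finrank_eq_card_basis e]
  let B := basisOfTopLeSpanOfCardEqFinrank m hspan hcard
  refine ⟨ULift.{v} (Fin (Module.finrank k (ι → k))), B.reindex Equiv.ulift.symm, fun i => ?_⟩
  simp [B, hm]

end Witt

end Groth.L01.LangNu
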