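import Groth.Agent.L01.LaurentIso
import Mathlib.RingTheory.Flat.Rank

/-!
Finite projective `R[s]`-modules which become free over `R((t))`, `s = 1/t`, are extended from `R`.
-/

set_option autoImplicit false

open Matrix L02.CAlg.Horrocks
open scoped LaurentPolynomial

namespace L01.LaurentExtend

universe u

variable {R : Type*} [CommRing R]

local notation "S" => PowerSeries R
local notation "LS" => LaurentSeries R

/-- `t ^ k` in the Laurent series. -/
noncomputable def s (k : ℤ) : LS := HahnSeries.single k 1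

/-- The inclusion of Laurent polynomials in Laurent series. -/
noncomputable def ι : LaurentPolynomial R →+* LS :=
  LaurentPolynomial.eval₂ ((HahnSeries.ofPowerSeries ℤ R).comp (PowerSeries.C (R := R)))
    { val := s 1
      inv := s (-1)
      val_inv := by simp [s, HahnSeries.single_mul_single]
      inv_val := by simp [s, HahnSeries.single_mul_single] }

theorem s_mul (k l : ℤ) : s (R := R) k * s l = s (k + l) := by simp [s, HahnSeries.single_mul_single]

theorem s_zero : s (R := R) 0 = 1 := HahnSeries.single_zero_one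

theorem ι_toT (p : Polynomial R) : ι (toT p) = HahnSeries.ofPowerSeries ℤ R (p : S) := by
  suffices h : (ι.comp (toT : Polynomial R →ₐ[R] _).toRingHom) =
      (HahnSeries.ofPowerSeries ℤ R).comp Polynomial.coeToPowerSeries.ringHom from RingHom.congr_fun h p
  refine Polynomial.ringHom_ext (fun r => ?_) ?_
  · show ι (toT (Polynomial.C r)) = HahnSeries.ofPowerSeries ℤ R ((Polynomial.C r : Polynomial R) : S)
    rw [show (toT (Polynomial.C r) : LaurentPolynomial R) = LaurentPolynomial.C r from toT.commutes r,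
      Polynomial.coe_C, ι, LaurentPolynomial.eval₂_C]
    rfl
  · show ι (toT Polynomial.X) = HahnSeries.ofPowerSeries ℤ R ((Polynomial.X : Polynomial R) : S)
    rw [show (toT (Polynomial.X : Polynomial R)) = LaurentPolynomial.T 1 by simpa using toT_X_pow (A := R) 1,
      ι, LaurentPolynomial.eval₂_T, zpow_one, Polynomial.coe_X, HahnSeries.ofPowerSeries_X]
    rfl

theorem ι_T (k : ℤ) : ι (LaurentPolynomial.T k : LaurentPolynomial R) = s k := by
  have key : ∀ n : ℕ, ι (LaurentPolynomial.T (n : ℤ) : LaurentPolynomial R) = s (n : ℤ) := fun n => by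
    rw [← toT_X_pow, ι_toT, Polynomial.coe_pow, Polynomial.coe_X, HahnSeries.ofPowerSeries_X_pow]
    rfl
  rcases k.eq_nat_or_neg with ⟨n, rfl | rfl⟩
  · exact key n
  · have h1 : ι (LaurentPolynomial.T (-(n : ℤ)) : LaurentPolynomial R) * s (n : ℤ) = 1 := by
      rw [← key, ← map_mul, ← LaurentPolynomial.T_add, neg_add_cancel, LaurentPolynomial.T_zero, map_one]
    calc ι (LaurentPolynomial.T (-(n : ℤ)) : LaurentPolynomial R)
        = ι (LaurentPolynomial.T (-(n : ℤ)) : LaurentPolynomial R) * s (n : ℤ) * s (-(n : ℤ)) := by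
          rw [mul_assoc, s_mul, add_neg_cancel, s_zero, mul_one]
      _ = s (-(n : ℤ)) := by rw [h1, one_mul]

variable {κ μ ν : Type*}

/-- All entries have order at least `k`. -/
def Ord (k : ℤ) (M : Matrix κ μ LS) : Prop :=
  ∃ p : Matrix κ μ S, M = s (R := R) k • p.map (HahnSeries.ofPowerSeries ℤ R)

theorem Ord.mono {k l : ℤ} (h : l ≤ k) {M : Matrix κ μ LS} (hM : Ord k M) : Ord l M := by
  obtain ⟨p, rfl⟩ := hM
  refine ⟨(PowerSeries.X : S) ^ (k - l).toNat • p, Matrix.ext fun i j => ?_⟩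
  rw [Matrix.smul_apply, Matrix.smul_apply, Matrix.map_apply, Matrix.map_apply, Matrix.smul_apply,
    smul_eq_mul, smul_eq_mul, smul_eq_mul, map_mul, HahnSeries.ofPowerSeries_X_pow, ← mul_assoc]
  congr 1
  show s k = s l * s ((k - l).toNat : ℤ)
  rw [s_mul, show l + ((k - l).toNat : ℤ) = k by omega]

theorem Ord.add {k : ℤ} {M N : Matrix κ μ LS} (hM : Ord k M) (hN : Ord k N) : Ord k (M + N) := by
  obtain ⟨p, rfl⟩ := hM
  obtain ⟨q, rfl⟩ := hN
  exact ⟨p + q, by rw [Matrix.map_add _ (map_add _), smul_add]⟩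

theorem Ord.neg {k : ℤ} {M : Matrix κ μ LS} (hM : Ord k M) : Ord k (-M) := by
  obtain ⟨p, rfl⟩ := hM
  exact ⟨-p, Matrix.ext fun i j => by simp [Matrix.smul_apply]⟩

theorem Ord.sub {k : ℤ} {M N : Matrix κ μ LS} (hM : Ord k M) (hN : Ord k N) : Ord k (M - N) := by
  rw [sub_eq_add_neg]; exact hM.add hN.neg

theorem Ord.smul {k l : ℤ} {M : Matrix κ μ LS} (hM : Ord k M) : Ord (l + k) (s (R := R) l • M) := by
  obtain ⟨p, rfl⟩ := hM
  exact ⟨p, by rw [smul_smul, s_mul]⟩

theorem Ord.mul [Fintype μ] {k l : ℤ} {M : Matrix κ μ LS} {N : Matrix μ ν LS} (hM : Ord k M) (hN : Ord l N) :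
    Ord (k + l) (M * N) := by
  obtain ⟨p, rfl⟩ := hM
  obtain ⟨q, rfl⟩ := hN
  exact ⟨p * q, by rw [Matrix.smul_mul, Matrix.mul_smul, smul_smul, s_mul, Matrix.map_mul]⟩

theorem exists_ord [Fintype κ] [Fintype μ] (M : Matrix κ μ LS) : ∃ r : ℕ, Ord (-(r : ℤ)) M := by
  classical
  refine ⟨Finset.univ.sup fun ij : κ × μ => (-(M ij.1 ij.2).order).toNat,
    Matrix.of fun i j => (PowerSeries.X : S) ^ ((M i j).order +
      (Finset.univ.sup fun ij : κ × μ => (-(M ij.1 ij.2).order).toNat : ℕ)).toNat * (M i j).powerSeriesPart,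
    Matrix.ext fun i j => ?_⟩
  have hb := Finset.le_sup (f := fun ij : κ × μ => (-(M ij.1 ij.2).order).toNat) (Finset.mem_univ (i, j))
  simp only at hb
  set b := Finset.univ.sup fun ij : κ × μ => (-(M ij.1 ij.2).order).toNat
  rw [Matrix.smul_apply, Matrix.map_apply, Matrix.of_apply, smul_eq_mul, map_mul,
    HahnSeries.ofPowerSeries_X_pow, ← mul_assoc]
  show M i j = s (-(b : ℤ)) * s (((M i j).order + b).toNat : ℤ) * _
  rw [s_mul, show -(b : ℤ) + (((M i j).order + b).toNat : ℤ) = (M i j).order by omega]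
  exact (LaurentSeries.single_order_mul_powerSeriesPart (M i j)).symm

theorem exists_approx {r k : ℕ} {M : Matrix κ μ LS} (hM : Ord (-(r : ℤ)) M) :
    ∃ M' : Matrix κ μ (LaurentPolynomial R), Ord (k : ℤ) (M - M'.map ι) := by
  obtain ⟨u, rfl⟩ := hM
  obtain ⟨v, u₁, hu⟩ := LaurentIso.exists_trunc (r + k) u
  refine ⟨(LaurentPolynomial.T (-(r : ℤ)) : LaurentPolynomial R) • v.map toT, u₁, Matrix.ext fun i j => ?_⟩
  simp only [Matrix.sub_apply, Matrix.smul_apply, Matrix.map_apply, smul_eq_mul, map_mul, ι_T, ι_toT]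
  rw [hu, Matrix.add_apply, Matrix.map_apply, Matrix.smul_apply, smul_eq_mul, map_add, map_mul, mul_add,
    HahnSeries.ofPowerSeries_X_pow]
  show s (-(r : ℤ)) * _ + s (-(r : ℤ)) * (s ((r + k : ℕ) : ℤ) * _) - _ = _
  rw [← mul_assoc, s_mul, show -(r : ℤ) + ((r + k : ℕ) : ℤ) = (k : ℤ) by omega]
  exact add_sub_cancel_left _ _

theorem exists_poly (x : LaurentPolynomial R) (w : S) (hx : ι x = HahnSeries.ofPowerSeries ℤ R w) :
    ∃ p : Polynomial R, toT p = x ∧ (p : S) = w := by
  obtain ⟨D, hD⟩ := exists_toT_eq x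
  obtain ⟨p, hp⟩ := hD D le_rfl
  have h1 : (p : S) = PowerSeries.X ^ D * w := by
    apply HahnSeries.ofPowerSeries_injective (Γ := ℤ)
    rw [← ι_toT, hp, map_mul, map_mul, hx, ι_T, HahnSeries.ofPowerSeries_X_pow]
    rfl
  have hdvd : (Polynomial.X : Polynomial R) ^ D ∣ p := Polynomial.X_pow_dvd_iff.2 fun d hd => by
    rw [← Polynomial.coeff_coe, h1, PowerSeries.coeff_X_pow_mul', if_neg (by omega)]
  obtain ⟨p', rfl⟩ := hdvd
  refine ⟨p', ?_, ?_⟩
  · refine (LaurentPolynomial.isUnit_T (R := R) (D : ℤ)).mul_left_cancel ?_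
    rw [← hp, map_mul, toT_X_pow]
  · ext k
    have h2 := congrArg (PowerSeries.coeff (k + D)) h1
    rwa [Polynomial.coe_mul, Polynomial.coe_pow, Polynomial.coe_X, PowerSeries.coeff_X_pow_mul,
      PowerSeries.coeff_X_pow_mul] at h2

theorem ι_injective : Function.Injective (ι : LaurentPolynomial R →+* LS) := by
  refine (injective_iff_map_eq_zero _).2 fun x hx => ?_
  obtain ⟨p, rfl, hp⟩ := exists_poly x 0 (by rw [hx, map_zero])
  rw [Polynomial.coe_eq_zero_iff.1 hp, map_zero]

/-- An idempotent over `R[t,1/t]` equivalent over `R((t))` to a constant one extends over `t = 0`. -/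
theorem exists_extension {n m : ℕ} (e : Matrix (Fin n) (Fin n) (LaurentPolynomial R))
    (f : Matrix (Fin m) (Fin m) R) (he : e * e = e) (hf : f * f = f) (U : Matrix (Fin m) (Fin n) LS)
    (V : Matrix (Fin n) (Fin m) LS) (hUV : U * V = (f.map (algebraMap R (LaurentPolynomial R))).map ι)
    (hVU : V * U = e.map ι) :
    ∃ (E : Matrix (Fin (m + n)) (Fin (m + n)) (Polynomial R)) (G : Matrix (Fin n) (Fin (m + n)) (LaurentPolynomial R))
      (H : Matrix (Fin (m + n)) (Fin n) (LaurentPolynomial R)), E * E = E ∧ G * H = e ∧ H * G = E.map toT := by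
  classical
  set fL := f.map (algebraMap R (LaurentPolynomial R)) with hfL
  have ff : fL * fL = fL := by rw [hfL, ← Matrix.map_mul, hf]
  have hffι : fL.map ι * fL.map ι = fL.map ι := by rw [← Matrix.map_mul, ff]
  have heeι : e.map ι * e.map ι = e.map ι := by rw [← Matrix.map_mul, he]
  obtain ⟨r₁, hU⟩ := exists_ord U
  obtain ⟨r₂, hV⟩ := exists_ord V
  obtain ⟨r₃, hE⟩ := exists_ord (e.map ι)
  set r := r₁ + r₂ + r₃
  replace hU := hU.mono (show -(r : ℤ) ≤ -r₁ by omega)
  replace hV := hV.mono (show -(r : ℤ) ≤ -r₂ by omega)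
  replace hE := hE.mono (show -(r : ℤ) ≤ -r₃ by omega)
  have hf0 : Ord 0 (fL.map ι) := ⟨f.map (PowerSeries.C (R := R)), by
    rw [s_zero, one_smul]
    exact Matrix.ext fun i j => by
      show ι (algebraMap R _ (f i j)) = HahnSeries.ofPowerSeries ℤ R (PowerSeries.C (f i j))
      rw [← Polynomial.coe_C, ← ι_toT]
      exact congrArg ι (toT.commutes (f i j)).symm⟩
  obtain ⟨U', hU'⟩ := exists_approx (k := 16 * r) hU
  obtain ⟨V', hV'⟩ := exists_approx (k := 16 * r) hV
  have hU₁ : Ord (-(r : ℤ)) (U'.map ι) := by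
    rw [← sub_sub_cancel U (U'.map ι)]; exact hU.sub (hU'.mono (by omega))
  have hV₁ : Ord (-(r : ℤ)) (V'.map ι) := by
    rw [← sub_sub_cancel V (V'.map ι)]; exact hV.sub (hV'.mono (by omega))
  set X := fL * U' * e with hX
  set Y := e * V' * fL with hY
  set D := e - Y * X with hD
  set b := (LaurentPolynomial.T ((2 * r : ℕ) : ℤ) : LaurentPolynomial R) • e with hb
  set c := (LaurentPolynomial.T (-((2 * r : ℕ) : ℤ)) : LaurentPolynomial R) • D with hc
  have heY : e * Y = Y := by rw [hY, ← Matrix.mul_assoc, ← Matrix.mul_assoc, he]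
  have hXe : X * e = X := by rw [hX, Matrix.mul_assoc, he]
  have heD : e * D = D := by rw [hD, Matrix.mul_sub, he, ← Matrix.mul_assoc, heY]
  have hDe : D * e = D := by rw [hD, Matrix.sub_mul, he, Matrix.mul_assoc, hXe]
  -- orders
  have hXo : Ord (-(2 * r : ℤ)) (X.map ι) := by
    rw [hX, Matrix.map_mul, Matrix.map_mul]
    exact ((hf0.mul hU₁).mul hE).mono (by omega)
  have hYo : Ord (-(2 * r : ℤ)) (Y.map ι) := by
    rw [hY, Matrix.map_mul, Matrix.map_mul]
    exact ((hE.mul hV₁).mul hf0).mono (by omega)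
  have hfUVf : fL.map ι * U * e.map ι * V * fL.map ι = fL.map ι := by
    rw [← hVU]
    simp only [Matrix.mul_assoc]
    rw [← Matrix.mul_assoc U V, hUV, ← Matrix.mul_assoc U V, hUV, hffι, hffι, hffι]
  have heVUe : e.map ι * V * fL.map ι * U * e.map ι = e.map ι := by
    rw [← hUV]
    simp only [Matrix.mul_assoc]
    rw [← Matrix.mul_assoc V U, hVU, ← Matrix.mul_assoc V U, hVU, heeι, heeι, heeι]
  have hDo : Ord (10 * r : ℤ) (D.map ι) := by
    have : D.map ι = e.map ι * (V - V'.map ι) * fL.map ι * U'.map ι * e.map ι +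
        e.map ι * V * fL.map ι * (U - U'.map ι) * e.map ι := by
      rw [hD, Matrix.map_sub _ (map_sub ι), hX, hY, Matrix.mul_assoc (e * V') fL,
        ← Matrix.mul_assoc fL (fL * U'), ← Matrix.mul_assoc fL fL, ff]
      conv_lhs => rw [← heVUe]
      simp only [Matrix.map_mul, Matrix.mul_sub, Matrix.sub_mul, Matrix.mul_assoc]
      abel
    rw [this]
    exact (((((hE.mul hV').mul hf0).mul hU₁).mul hE).mono (by omega)).add
      (((((hE.mul hV).mul hf0).mul hU').mul hE).mono (by omega))
  have hXYo : Ord 0 ((X * Y).map ι) := by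
    have : (X * Y).map ι = fL.map ι - (fL.map ι * (U - U'.map ι) * e.map ι * V'.map ι * fL.map ι +
        fL.map ι * U * e.map ι * (V - V'.map ι) * fL.map ι) := by
      rw [hX, hY, Matrix.mul_assoc (fL * U') e, ← Matrix.mul_assoc e (e * V'), ← Matrix.mul_assoc e e, he]
      conv_rhs => arg 1; rw [← hfUVf]
      simp only [Matrix.map_mul, Matrix.mul_sub, Matrix.sub_mul, Matrix.mul_assoc]
      abel
    rw [this]
    exact hf0.sub ((((((hf0.mul hU').mul hE).mul hV₁).mul hf0).mono (by omega)).add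
      (((((hf0.mul hU).mul hE).mul hV').mul hf0).mono (by omega)))
  have hco : Ord (8 * r : ℤ) (c.map ι) := by
    have : c.map ι = s (R := R) (-((2 * r : ℕ) : ℤ)) • D.map ι := Matrix.ext fun i j => by
      simp only [hc, Matrix.smul_apply, Matrix.map_apply, smul_eq_mul, map_mul, ι_T]
    rw [this]
    exact hDo.smul.mono (by omega)
  have hbo : Ord (r : ℤ) (b.map ι) := by
    have : b.map ι = s (R := R) ((2 * r : ℕ) : ℤ) • e.map ι := Matrix.ext fun i j => by
      simp only [hb, Matrix.smul_apply, Matrix.map_apply, smul_eq_mul, map_mul, ι_T]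
    rw [this]
    exact hE.smul.mono (by omega)
  -- the glued idempotent
  set G := Matrix.fromCols Y c with hG
  set H := Matrix.fromRows X b with hH
  have hGH : G * H = e := by
    rw [hG, hH, Matrix.fromCols_mul_fromRows, hc, hb, Matrix.smul_mul, Matrix.mul_smul, smul_smul,
      ← LaurentPolynomial.T_add, neg_add_cancel, LaurentPolynomial.T_zero, one_smul, hDe, hD,
      add_sub_cancel]
  have heG : e * G = G := by
    rw [hG, Matrix.mul_fromCols, heY, hc, Matrix.mul_smul, heD]
  have hblocks : ∀ i j, ∃ p : Polynomial R, toT p = (H * G) i j := by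
    have key : ∀ {a d : ℕ} (M : Matrix (Fin a) (Fin d) (LaurentPolynomial R)), Ord 0 (M.map ι) →
        ∀ i j, ∃ p : Polynomial R, toT p = M i j := by
      intro a d M ⟨w, hw⟩ i j
      have h1 := congrFun (congrFun hw i) j
      rw [s_zero, one_smul] at h1
      obtain ⟨p, hp, -⟩ := exists_poly (M i j) (w i j) h1
      exact ⟨p, hp⟩
    rw [hG, hH, Matrix.fromRows_mul_fromCols]
    rintro (i | i) (j | j)
    · exact key _ hXYo i j
    · refine key (X * c) ?_ i j
      rw [Matrix.map_mul]; exact (hXo.mul hco).mono (by omega)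
    · refine key (b * Y) ?_ i j
      rw [Matrix.map_mul, hb]
      have : (((LaurentPolynomial.T ((2 * r : ℕ) : ℤ) : LaurentPolynomial R) • e) * Y).map ι =
          s (R := R) ((2 * r : ℕ) : ℤ) • Y.map ι := Matrix.ext fun i j => by
        rw [Matrix.smul_mul, heY]; simp only [Matrix.smul_apply, Matrix.map_apply, smul_eq_mul, map_mul, ι_T]
      rw [← Matrix.map_mul, this]
      exact hYo.smul.mono (by omega)
    · refine key (b * c) ?_ i j
      rw [Matrix.map_mul]; exact (hbo.mul hco).mono (by omega)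
  choose E₀ hE₀ using hblocks
  have hE₀' : (Matrix.of E₀).map toT = H * G := Matrix.ext hE₀
  let σ : Fin (m + n) ≃ Fin m ⊕ Fin n := finSumFinEquiv.symm
  have h1 : G.submatrix id σ * H.submatrix σ id = e := by
    rw [Matrix.submatrix_mul_equiv, hGH, Matrix.submatrix_id_id]
  have h2 : H.submatrix σ id * G.submatrix id σ = ((Matrix.of E₀).submatrix σ σ).map toT := by
    rw [← Matrix.submatrix_mul _ _ σ id σ Function.bijective_id, ← hE₀']
    rfl
  refine ⟨_, _, _, ?_, h1, h2⟩
  apply Matrix.map_injective (toT_injective (A := R))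
  show (_ * _ : Matrix (Fin (m + n)) (Fin (m + n)) (Polynomial R)).map toT = _
  rw [Matrix.map_mul, ← h2, Matrix.mul_assoc, ← Matrix.mul_assoc (G.submatrix id σ), h1]
  rw [show e * G.submatrix id σ = (e * G).submatrix id σ from rfl, heG]
  exact h2

/-- An idempotent over `R[s]` equivalent over `R((t))`, `s = 1/t`, to a constant one is extended. -/
theorem eqv_eval_zero {n m : ℕ} (E : Matrix (Fin n) (Fin n) (Polynomial R))
    (f : Matrix (Fin m) (Fin m) R) (hE : E * E = E) (hf : f * f = f) (U : Matrix (Fin m) (Fin n) LS)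
    (V : Matrix (Fin n) (Fin m) LS) (hUV : U * V = (f.map (algebraMap R (LaurentPolynomial R))).map ι)
    (hVU : V * U = (E.map toS).map ι) :
    Eqv E (E.map (Polynomial.C.comp (Polynomial.evalRingHom 0))) := by
  obtain ⟨P, G, H, hP, hGH, hHG⟩ := exists_extension (E.map toS) f (by rw [← Matrix.map_mul, hE]) hf U V hUV hVU
  refine horrocks_matrix E P (H.map LaurentPolynomial.invert) (G.map LaurentPolynomial.invert) hE hP ?_ ?_
  · rw [← Matrix.map_mul, hHG]
    rfl
  · rw [← Matrix.map_mul, hGH]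
    exact Matrix.ext fun i j => LaurentPolynomial.involutive_invert (toT (E i j))

/-- Over a local ring, a finite projective `R[s]`-module free over `R((t))` is free. -/
theorem free_of_free {R M L : Type u} [CommRing R] [IsLocalRing R] [AddCommGroup M] [Module (Polynomial R) M]
    [Module.Finite (Polynomial R) M] [Module.Projective (Polynomial R) M]
    [CommRing L] [Algebra (Polynomial R) L] (φ : L →+* LaurentSeries R)
    (hφ : ∀ p : Polynomial R, φ (algebraMap (Polynomial R) L p) = ι (toS p))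
    {m : ℕ} (e : TensorProduct (Polynomial R) L M ≃ₗ[L] (Fin m → L)) : Module.Free (Polynomial R) M := by
  classical
  obtain ⟨n, iM, pM, hM⟩ := exists_retract (Polynomial R) M
  set E := LinearMap.toMatrix' (iM ∘ₗ pM)
  let U : Matrix (Fin m) (Fin n) L := LinearMap.toMatrix' (e.toLinearMap ∘ₗ projS L pM)
  let V : Matrix (Fin n) (Fin m) L := LinearMap.toMatrix' (inclS L iM ∘ₗ e.symm.toLinearMap)
  have hUV : U * V = 1 := by
    rw [← LinearMap.toMatrix'_comp, ← LinearMap.toMatrix'_id]
    congr 1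
    exact LinearMap.ext fun v => by simp [projS_inclS iM pM hM]
  have hVU : V * U = E.map (algebraMap (Polynomial R) L) := by
    rw [← LinearMap.toMatrix'_comp]
    refine Matrix.toLin'.injective (LinearMap.ext fun v => ?_)
    rw [Matrix.toLin'_toMatrix', Matrix.toLin'_apply, ← inclS_projS]
    simp
  have hq := eqv_eval_zero E (1 : Matrix (Fin m) (Fin m) R) (toMatrix'_idem iM pM hM) (by simp) (U.map φ) (V.map φ)
    (by rw [← Matrix.map_mul, hUV]; simp [Matrix.map_one])
    (by rw [← Matrix.map_mul, hVU]; exact Matrix.ext fun i j => hφ _)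
  set E₀ := E.map (Polynomial.evalRingHom 0)
  have hE₀ : E₀ * E₀ = E₀ := by rw [← Matrix.map_mul, toMatrix'_idem iM pM hM]
  let P := LinearMap.range E₀.mulVecLin
  let p₀ : (Fin n → R) →ₗ[R] P := E₀.mulVecLin.rangeRestrict
  have hp₀ : p₀ ∘ₗ P.subtype = LinearMap.id := by
    refine LinearMap.ext fun x => Subtype.ext ?_
    obtain ⟨v, hv⟩ := x.2
    show E₀ *ᵥ (x : Fin n → R) = x
    rw [← hv, Matrix.mulVecLin_apply, Matrix.mulVec_mulVec, hE₀]
  haveI : Module.Projective R P := Module.Projective.of_split P.subtype p₀ hp₀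
  haveI : Module.Finite R P := Module.Finite.range _
  haveI : Module.Free R P := Module.free_of_flat_of_isLocalRing
  obtain ⟨l⟩ := nonempty_linearEquiv_of_eqv iM pM (inclS (Polynomial R) P.subtype) (projS (Polynomial R) p₀)
    (fun x => LinearMap.congr_fun hM x) (projS_inclS _ _ hp₀) (E := E)
    (F := E₀.map (algebraMap R (Polynomial R)))
    (fun v => by rw [← Matrix.toLin'_apply, Matrix.toLin'_toMatrix', LinearMap.comp_apply])
    (fun v => by
      rw [inclS_projS, show P.subtype ∘ₗ p₀ = Matrix.toLin' E₀ from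
        LinearMap.ext fun w => (Matrix.toLin'_apply E₀ w).symm, LinearMap.toMatrix'_toLin']) hq
  exact Module.Free.of_equiv l.symm

end L01.LaurentExtend
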