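import Mathlib.RingTheory.LaurentSeries
import Mathlib.RingTheory.PowerSeries.Trunc
import Mathlib.Tactic.Module
import Groth.Agent.L02.CAlg.Horrocks.MonicLocal

/-!
Idempotent matrices over `R` which become equivalent over `R((t))` are equivalent.

The lattice `{x ∈ e R[t,t⁻¹]ⁿ | U x ∈ R[[t]]ᵐ}` is cut out by an idempotent matrix over `R[t]` which is
equivalent to `e` over `R[t,t⁻¹]` and to `f` over `R[[t]]`; Horrocks' theorem makes it extended from `R`.
-/

set_option autoImplicit false

open Matrix L02.CAlg.Horrocks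

namespace L01.LaurentIso

variable {R : Type*} [CommRing R] {ι κ : Type*} [Fintype ι] [Fintype κ]

local notation "S" => PowerSeries R
local notation "P" => Polynomial R
local notation "𝕏" => (PowerSeries.X : PowerSeries R)
local notation "cS" => (Polynomial.coeToPowerSeries.ringHom : Polynomial R →+* PowerSeries R)

omit [Fintype ι] [Fintype κ] in
theorem cancel_pow {A B : Matrix ι κ S} (n : ℕ) (h : 𝕏 ^ n • A = 𝕏 ^ n • B) : A = B := by
  ext i j k
  have h1 := congrArg (fun M : Matrix ι κ S => PowerSeries.coeff (k + n) (M i j)) h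
  simpa [Matrix.smul_apply, PowerSeries.coeff_X_pow_mul] using h1

omit [Fintype ι] [Fintype κ] in
theorem exists_eq_smul (n : ℕ) (M : Matrix ι κ P) (W : Matrix ι κ S) (h : M.map cS = 𝕏 ^ n • W) :
    ∃ M₀ : Matrix ι κ P, M = (Polynomial.X : P) ^ n • M₀ := by
  have : ∀ i j, ∃ p : P, M i j = (Polynomial.X : P) ^ n * p := fun i j => by
    refine Polynomial.X_pow_dvd_iff.2 fun d hd => ?_
    have h1 := congrArg (fun M : Matrix ι κ S => PowerSeries.coeff d (M i j)) h
    simpa [Matrix.smul_apply, PowerSeries.coeff_X_pow_mul', Nat.not_le.2 hd] using h1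
  choose p hp using this
  exact ⟨Matrix.of p, Matrix.ext fun i j => by rw [hp]; rfl⟩

omit [Fintype ι] [Fintype κ] in
theorem exists_trunc (n : ℕ) (M : Matrix ι κ S) :
    ∃ (M' : Matrix ι κ P) (M₁ : Matrix ι κ S), M = M'.map cS + 𝕏 ^ n • M₁ :=
  ⟨M.map (PowerSeries.trunc n), Matrix.of fun i j => PowerSeries.mk fun k => PowerSeries.coeff (k + n) (M i j),
    Matrix.ext fun i j => by
      rw [Matrix.add_apply, add_comm]
      exact PowerSeries.eq_X_pow_mul_shift_add_trunc n (M i j)⟩

/-- The equivalence of idempotents in power series form. -/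
theorem eqv_of_powerSeries {n m : ℕ} (e : Matrix (Fin n) (Fin n) R) (f : Matrix (Fin m) (Fin m) R)
    (he : e * e = e) (hf : f * f = f) (a : ℕ) (u : Matrix (Fin m) (Fin n) S)
    (v : Matrix (Fin n) (Fin m) S) (huv : u * v = 𝕏 ^ (2 * a) • f.map (PowerSeries.C (R := R)))
    (hvu : v * u = 𝕏 ^ (2 * a) • e.map (PowerSeries.C (R := R))) : Eqv e f := by
  classical
  set eS := e.map (PowerSeries.C (R := R)) with heS
  set fS := f.map (PowerSeries.C (R := R)) with hfS
  set eP := e.map (Polynomial.C (R := R)) with heP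
  set fP := f.map (Polynomial.C (R := R)) with hfP
  have ee : eS * eS = eS := by rw [heS, ← Matrix.map_mul, he]
  have ff : fS * fS = fS := by rw [hfS, ← Matrix.map_mul, hf]
  have eeP : eP * eP = eP := by rw [heP, ← Matrix.map_mul, he]
  have ec : eP.map cS = eS := Matrix.ext fun i j => Polynomial.coe_C (e i j)
  have fc : fP.map cS = fS := Matrix.ext fun i j => Polynomial.coe_C (f i j)
  have huev : u * (eS * v) = 𝕏 ^ (2 * a) • fS := by
    refine cancel_pow (2 * a) ?_
    rw [← Matrix.mul_smul, ← Matrix.smul_mul, ← hvu, Matrix.mul_assoc, huv, ← Matrix.mul_assoc, huv,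
      Matrix.smul_mul, Matrix.mul_smul, ff]
  obtain ⟨u', u₁, hu'⟩ := exists_trunc (4 * a) u
  obtain ⟨v', v₁, hv'⟩ := exists_trunc (4 * a) v
  have hu'' : u'.map cS = u - 𝕏 ^ (4 * a) • u₁ := by rw [hu', add_sub_cancel_right]
  have hv'' : v'.map cS = v - 𝕏 ^ (4 * a) • v₁ := by rw [hv', add_sub_cancel_right]
  set p₁ := eP * v' with hp₁
  set p₂ := u' * eP with hp₂
  have hp₁c : p₁.map cS = eS * v'.map cS := by rw [hp₁, Matrix.map_mul, ec]
  have hp₂c : p₂.map cS = u'.map cS * eS := by rw [hp₂, Matrix.map_mul, ec]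
  have hep₁ : eP * p₁ = p₁ := by rw [hp₁, ← Matrix.mul_assoc, eeP]
  have hp₂e : p₂ * eP = p₂ := by rw [hp₂, Matrix.mul_assoc, eeP]
  -- the two congruences modulo `X ^ (4 a)`
  obtain ⟨q, hq⟩ := exists_eq_smul (4 * a) (p₂ * p₁ - (Polynomial.X : P) ^ (2 * a) • fP)
    (𝕏 ^ (4 * a) • (u₁ * (eS * v₁)) - u₁ * (eS * v) - u * (eS * v₁)) (by
      rw [Matrix.map_sub _ (map_sub cS), Matrix.map_mul, hp₁c, hp₂c,
        show ((Polynomial.X : P) ^ (2 * a) • fP).map cS = 𝕏 ^ (2 * a) • fS by
          rw [← fc]; ext i j; simp [Matrix.smul_apply],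
        ← huev, Matrix.mul_assoc, ← Matrix.mul_assoc eS eS, ee, hu'', hv'']
      simp only [Matrix.sub_mul, Matrix.mul_sub, Matrix.smul_mul, Matrix.mul_smul]
      simp only [smul_sub, smul_add, smul_smul]
      abel)
  obtain ⟨d₀, hd₀⟩ := exists_eq_smul (4 * a) ((Polynomial.X : P) ^ (2 * a) • eP - p₁ * p₂)
    (eS * (v * (u₁ * eS)) + eS * (v₁ * (u * eS)) - 𝕏 ^ (4 * a) • (eS * (v₁ * (u₁ * eS)))) (by
      rw [Matrix.map_sub _ (map_sub cS), Matrix.map_mul, hp₁c, hp₂c,
        show ((Polynomial.X : P) ^ (2 * a) • eP).map cS = 𝕏 ^ (2 * a) • eS by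
          rw [← ec]; ext i j; simp [Matrix.smul_apply],
        show 𝕏 ^ (2 * a) • eS = eS * (v * (u * eS)) by
          rw [← Matrix.mul_assoc v, hvu, Matrix.smul_mul, Matrix.mul_smul, ee, ee],
        Matrix.mul_assoc, hu'', hv'']
      simp only [Matrix.sub_mul, Matrix.mul_sub, Matrix.smul_mul, Matrix.mul_smul]
      simp only [smul_sub, smul_add, smul_smul]
      abel)
  set d := eP * d₀ * eP with hd
  have hed : eP * d = d := by rw [hd, ← Matrix.mul_assoc, ← Matrix.mul_assoc, eeP]
  have hde : d * eP = d := by rw [hd, Matrix.mul_assoc, eeP]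
  have hpp : p₁ * p₂ + (Polynomial.X : P) ^ (4 * a) • d = (Polynomial.X : P) ^ (2 * a) • eP := by
    rw [hd, ← Matrix.smul_mul, ← Matrix.mul_smul, ← hd₀, Matrix.mul_sub, Matrix.sub_mul,
      Matrix.mul_smul, Matrix.smul_mul, eeP, eeP, ← Matrix.mul_assoc eP p₁, hep₁, Matrix.mul_assoc p₁,
      hp₂e, add_sub_cancel]
  have hqq : p₂ * p₁ = (Polynomial.X : P) ^ (2 * a) • (fP + (Polynomial.X : P) ^ (2 * a) • q) := by
    rw [smul_add, smul_smul, ← pow_add, show 2 * a + 2 * a = 4 * a by omega, ← hq, add_sub_cancel]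
  set E := Matrix.fromBlocks (fP + (Polynomial.X : P) ^ (2 * a) • q) (p₂ * d) p₁
    ((Polynomial.X : P) ^ (2 * a) • d) with hE
  -- over the Laurent polynomials
  let τ : P →+* LaurentPolynomial R := (toT : P →ₐ[R] LaurentPolynomial R).toRingHom
  let tt : ℤ → LaurentPolynomial R := fun k => LaurentPolynomial.T k
  have hτsmul : ∀ {μ ν : Type} (k : ℕ) (M : Matrix μ ν P),
      ((Polynomial.X : P) ^ k • M).map τ = tt k • M.map τ := fun k M => Matrix.ext fun i j => by
    simp only [Matrix.map_apply, Matrix.smul_apply, smul_eq_mul, map_mul, τ]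
    congr 1
    exact toT_X_pow k
  have htt : ∀ k l : ℤ, tt k * tt l = tt (k + l) := fun k l => (LaurentPolynomial.T_add k l).symm
  have htt0 : tt 0 = 1 := LaurentPolynomial.T_zero
  have hadd : ∀ {μ ν : Type} (A B : Matrix μ ν P), (A + B).map τ = A.map τ + B.map τ :=
    fun A B => Matrix.map_add _ (map_add τ) A B
  set G := Matrix.fromCols (tt (-a) • p₁.map τ) (tt a • d.map τ) with hG
  set H := Matrix.fromRows (tt (-a) • p₂.map τ) (tt a • eP.map τ) with hH
  have hGH : G * H = eP.map τ := by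
    have h1 : tt (-(2 * a : ℕ)) • (p₁ * p₂ + (Polynomial.X : P) ^ (4 * a) • d).map τ = eP.map τ := by
      rw [hpp, hτsmul, smul_smul, htt, neg_add_cancel, htt0, one_smul]
    rw [hG, hH, Matrix.fromCols_mul_fromRows, Matrix.smul_mul, Matrix.smul_mul, Matrix.mul_smul,
      Matrix.mul_smul, smul_smul, smul_smul, htt, htt, ← Matrix.map_mul, ← Matrix.map_mul, hde, ← h1,
      hadd, hτsmul, smul_add, smul_smul, htt]
    congr 3 <;> push_cast <;> ring
  have hHG : H * G = E.map τ := by
    rw [hG, hH, Matrix.fromRows_mul_fromCols, hE, Matrix.fromBlocks_map]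
    simp only [Matrix.smul_mul, Matrix.mul_smul, smul_smul, htt, ← Matrix.map_mul, hed, hep₁, hqq, hτsmul,
      add_neg_cancel, neg_add_cancel, htt0, one_smul]
    congr 1
    · rw [show -(a : ℤ) + (-(a : ℤ) + ((2 * a : ℕ) : ℤ)) = 0 by push_cast; ring, htt0, one_smul]
    · congr 2; push_cast; ring
  have heG : eP.map τ * G = G := by
    rw [hG, Matrix.mul_fromCols]
    simp only [Matrix.mul_smul, ← Matrix.map_mul, hed, hep₁]
  -- over the power series
  set α := fS - 𝕏 ^ (2 * a) • (u * (eS * v₁)) with hα'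
  set β := fS - 𝕏 ^ (2 * a) • (u₁ * (eS * v)) with hβ'
  have hα : u * p₁.map cS = 𝕏 ^ (2 * a) • α := by
    rw [hp₁c, hv'', hα', smul_sub, smul_smul, ← pow_add, show 2 * a + 2 * a = 4 * a by omega, ← huev]
    simp only [Matrix.mul_sub, Matrix.mul_smul]
  have hβ : p₂.map cS * v = 𝕏 ^ (2 * a) • β := by
    rw [hp₂c, hu'', hβ', smul_sub, smul_smul, ← pow_add, show 2 * a + 2 * a = 4 * a by omega, ← huev]
    simp only [Matrix.sub_mul, Matrix.smul_mul, Matrix.mul_assoc]
  have hXc : ∀ {μ ν : Type} (k : ℕ) (M : Matrix μ ν P),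
      ((Polynomial.X : P) ^ k • M).map cS = 𝕏 ^ k • M.map cS := fun k M => Matrix.ext fun i j => by
    simp [Matrix.smul_apply]
  have hppc : p₁.map cS * p₂.map cS + 𝕏 ^ (4 * a) • d.map cS = 𝕏 ^ (2 * a) • eS := by
    rw [← Matrix.map_mul, ← ec, ← hXc, ← hXc, ← Matrix.map_add _ (map_add cS), hpp]
  have hedc : eS * d.map cS = d.map cS := by rw [← ec, ← Matrix.map_mul, hed]
  have hdec : d.map cS * eS = d.map cS := by rw [← ec, ← Matrix.map_mul, hde]
  have hep₁c : eS * p₁.map cS = p₁.map cS := by rw [← ec, ← Matrix.map_mul, hep₁]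
  set A := Matrix.fromCols α (u * d.map cS) with hA
  set B := Matrix.fromRows β (eS * v) with hB
  have hAB : A * B = fS := by
    rw [hA, hB, Matrix.fromCols_mul_fromRows, Matrix.mul_assoc u, ← Matrix.mul_assoc _ eS, hdec]
    refine cancel_pow (4 * a) ?_
    rw [smul_add, show 𝕏 ^ (4 * a) • (α * β) = u * p₁.map cS * (p₂.map cS * v) by
        rw [hα, hβ, Matrix.smul_mul, Matrix.mul_smul, smul_smul, ← pow_add,
          show 2 * a + 2 * a = 4 * a by omega],
      ← Matrix.mul_smul, ← Matrix.smul_mul, Matrix.mul_assoc u, ← Matrix.mul_assoc (p₁.map cS),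
      ← Matrix.mul_add, ← Matrix.add_mul, hppc, Matrix.smul_mul, Matrix.mul_smul, huev, smul_smul,
      ← pow_add, show 2 * a + 2 * a = 4 * a by omega]
  have hBA : B * A = E.map cS := by
    rw [hA, hB, Matrix.fromRows_mul_fromCols, hE, Matrix.fromBlocks_map]
    congr 1
    · refine cancel_pow (4 * a) ?_
      rw [show 𝕏 ^ (4 * a) • (β * α) = p₂.map cS * v * (u * p₁.map cS) by
        rw [hα, hβ, Matrix.smul_mul, Matrix.mul_smul, smul_smul, ← pow_add,
          show 2 * a + 2 * a = 4 * a by omega],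
        Matrix.mul_assoc, ← Matrix.mul_assoc v u, hvu, Matrix.smul_mul, hep₁c, Matrix.mul_smul,
        ← Matrix.map_mul, hqq, hXc, smul_smul, ← pow_add, show 2 * a + 2 * a = 4 * a by omega]
    · refine cancel_pow (2 * a) ?_
      rw [← Matrix.smul_mul, ← hβ, Matrix.mul_assoc, ← Matrix.mul_assoc v u, hvu,
        Matrix.smul_mul, hedc, Matrix.mul_smul, ← Matrix.map_mul]
    · refine cancel_pow (2 * a) ?_
      rw [← Matrix.mul_smul, ← hα, Matrix.mul_assoc eS, ← Matrix.mul_assoc v u, hvu, Matrix.smul_mul,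
        hep₁c, Matrix.mul_smul, hep₁c]
    · rw [Matrix.mul_assoc eS, ← Matrix.mul_assoc v u, hvu, Matrix.smul_mul, hedc, Matrix.mul_smul, hedc, hXc]
  -- reindex and apply Horrocks' theorem
  let σ : Fin (m + n) ≃ Fin m ⊕ Fin n := finSumFinEquiv.symm
  set E' := E.submatrix σ σ with hE'
  set G' := G.submatrix id σ
  set H' := H.submatrix σ id
  have hGH' : G' * H' = eP.map τ := by
    rw [Matrix.submatrix_mul_equiv, hGH, Matrix.submatrix_id_id]
  have hHG' : H' * G' = E'.map τ := by
    rw [← Matrix.submatrix_mul _ _ σ id σ Function.bijective_id, hHG]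
    rfl
  have heG' : eP.map τ * G' = G' := by
    conv_rhs => rw [show G' = (eP.map τ * G).submatrix id σ by rw [heG]]
    rfl
  have hE'idem : E' * E' = E' := by
    apply Matrix.map_injective (show Function.Injective τ from toT_injective)
    show (E' * E').map τ = E'.map τ
    rw [Matrix.map_mul, ← hHG', Matrix.mul_assoc, ← Matrix.mul_assoc G', hGH', heG']
  have hq := horrocks_matrix E' eP G' H' hE'idem eeP (hGH'.trans (Matrix.ext fun i j => by
    show toT (Polynomial.C (e i j)) = toS (Polynomial.C (e i j))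
    exact (toT.commutes (e i j)).trans (toS.commutes (e i j)).symm)) hHG'
  -- the three specialisations
  let ev₀ : P →+* R := Polynomial.evalRingHom 0
  let ev₁ : P →+* R := Polynomial.evalRingHom 1
  let evT : LaurentPolynomial R →+* R := LaurentPolynomial.eval₂ (RingHom.id R) 1
  have hevT : evT.comp τ = ev₁ := by
    refine Polynomial.ringHom_ext (fun r => ?_) ?_
    · show evT (toT (Polynomial.C r)) = _
      rw [show toT (Polynomial.C r) = LaurentPolynomial.C r from toT.commutes r]
      simp [evT, ev₁]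
    · show evT (toT Polynomial.X) = _
      rw [show (toT (Polynomial.X : P)) = LaurentPolynomial.T 1 by simpa using toT_X_pow (A := R) 1]
      simp [evT, ev₁]
  have he₁ : eP.map ev₁ = e := Matrix.ext fun i j => Polynomial.eval_C
  have step1 : Eqv (E'.map ev₁) e := by
    refine ⟨G'.map evT, H'.map evT, ?_, ?_⟩
    · rw [← Matrix.map_mul, hGH', Matrix.map_map, ← RingHom.coe_comp, hevT, he₁]
    · rw [← Matrix.map_mul, hHG', Matrix.map_map, ← RingHom.coe_comp, hevT]
  have step2 : Eqv (E'.map ev₁) (E'.map ev₀) := by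
    have h1 := hq.map ev₁
    rwa [show (E'.map (Polynomial.C.comp ev₀)).map ev₁ = E'.map ev₀ from
      Matrix.ext fun i j => Polynomial.eval_C] at h1
  have step3 : Eqv (E'.map ev₀) f := by
    let π : S →+* R := PowerSeries.constantCoeff
    refine ⟨(A.submatrix id σ).map π, (B.submatrix σ id).map π, ?_, ?_⟩
    · rw [← Matrix.map_mul, Matrix.submatrix_mul_equiv, hAB, Matrix.submatrix_id_id]
      exact Matrix.ext fun i j => PowerSeries.constantCoeff_C (f i j)
    · rw [← Matrix.map_mul, ← Matrix.submatrix_mul _ _ σ id σ Function.bijective_id, hBA]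
      refine Matrix.ext fun i j => ?_
      show PowerSeries.constantCoeff ((E (σ i) (σ j) : P) : S) = (E (σ i) (σ j)).eval 0
      rw [← PowerSeries.coeff_zero_eq_constantCoeff_apply, Polynomial.coeff_coe,
        Polynomial.coeff_zero_eq_eval_zero]
  have i₁ : E'.map ev₁ * E'.map ev₁ = E'.map ev₁ := by rw [← Matrix.map_mul, hE'idem]
  exact (step1.symm).trans (step2.trans step3 i₁ hf) he hf

/-- Idempotent matrices over `R` which are equivalent over `R((t))` are equivalent. -/
theorem eqv_of_laurentSeries {n m : ℕ} (e : Matrix (Fin n) (Fin n) R) (f : Matrix (Fin m) (Fin m) R)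
    (he : e * e = e) (hf : f * f = f) (U : Matrix (Fin m) (Fin n) (LaurentSeries R))
    (V : Matrix (Fin n) (Fin m) (LaurentSeries R))
    (hUV : U * V = f.map fun r => HahnSeries.ofPowerSeries ℤ R (PowerSeries.C r))
    (hVU : V * U = e.map fun r => HahnSeries.ofPowerSeries ℤ R (PowerSeries.C r)) : Eqv e f := by
  classical
  let ψ : S →+* LaurentSeries R := HahnSeries.ofPowerSeries ℤ R
  let s : ℤ → LaurentSeries R := fun k => HahnSeries.single k 1
  have hs : ∀ k l, s k * s l = s (k + l) := fun k l => by simp [s, HahnSeries.single_mul_single]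
  have hs0 : s 0 = 1 := HahnSeries.single_zero_one
  have key : ∀ (x : LaurentSeries R) (b : ℕ), (-x.order).toNat ≤ b → ∃ p : S, x = s (-(b : ℤ)) * ψ p := by
    intro x b hb
    refine ⟨𝕏 ^ (x.order + b).toNat * x.powerSeriesPart, ?_⟩
    rw [map_mul, show ψ (𝕏 ^ (x.order + b).toNat) = s ((x.order + b).toNat : ℤ) from
      HahnSeries.ofPowerSeries_X_pow _, ← mul_assoc, hs,
      show -(b : ℤ) + ((x.order + b).toNat : ℤ) = x.order by omega]
    exact (LaurentSeries.single_order_mul_powerSeriesPart x).symm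
  set a := (Finset.univ.sup fun ij : Fin m × Fin n => (-(U ij.1 ij.2).order).toNat) ⊔
    Finset.univ.sup fun ij : Fin n × Fin m => (-(V ij.1 ij.2).order).toNat
  choose u hu using fun i j => key (U i j) a
    ((Finset.le_sup (f := fun ij : Fin m × Fin n => (-(U ij.1 ij.2).order).toNat)
      (Finset.mem_univ (i, j))).trans le_sup_left)
  choose v hv using fun i j => key (V i j) a
    ((Finset.le_sup (f := fun ij : Fin n × Fin m => (-(V ij.1 ij.2).order).toNat)
      (Finset.mem_univ (i, j))).trans le_sup_right)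
  have hU : U = s (-(a : ℤ)) • (Matrix.of u).map ψ := Matrix.ext hu
  have hV : V = s (-(a : ℤ)) • (Matrix.of v).map ψ := Matrix.ext hv
  have hsX : s ((2 * a : ℕ) : ℤ) = ψ (𝕏 ^ (2 * a)) := (HahnSeries.ofPowerSeries_X_pow _).symm
  have hinj : Function.Injective ψ := HahnSeries.ofPowerSeries_injective
  refine eqv_of_powerSeries e f he hf a (Matrix.of u) (Matrix.of v) ?_ ?_
  · apply Matrix.map_injective hinj
    show (Matrix.of u * Matrix.of v).map ψ = _
    calc (Matrix.of u * Matrix.of v).map ψ = s ((2 * a : ℕ) : ℤ) • (U * V) := by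
          rw [hU, hV, Matrix.smul_mul, Matrix.mul_smul, ← Matrix.map_mul, smul_smul, smul_smul, hs, hs,
            show ((2 * a : ℕ) : ℤ) + -(a : ℤ) + -(a : ℤ) = 0 by push_cast; ring, hs0, one_smul]
      _ = _ := by
          rw [hUV, hsX]
          exact Matrix.ext fun i j => (map_mul ψ _ _).symm
  · apply Matrix.map_injective hinj
    show (Matrix.of v * Matrix.of u).map ψ = _
    calc (Matrix.of v * Matrix.of u).map ψ = s ((2 * a : ℕ) : ℤ) • (V * U) := by
          rw [hU, hV, Matrix.smul_mul, Matrix.mul_smul, ← Matrix.map_mul, smul_smul, smul_smul, hs, hs,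
            show ((2 * a : ℕ) : ℤ) + -(a : ℤ) + -(a : ℤ) = 0 by push_cast; ring, hs0, one_smul]
      _ = _ := by
          rw [hVU, hsX]
          exact Matrix.ext fun i j => (map_mul ψ _ _).symm

end L01.LaurentIso
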