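import Groth.Agent.L10.RegularUFD
import Mathlib.RingTheory.Length
import Mathlib.RingTheory.Coprime.Lemmas

/-!
Lengths of quotients of a two-dimensional regular ring by pairs of elements.
-/

universe u

namespace Groth.L01.LengthAdd

variable {A : Type u} [CommRing A] [IsDomain A] [UniqueFactorizationMonoid A]

theorem length_mul_add {f g h : A} (hfg : IsRelPrime f g) :
    Module.length A (A ⧸ Ideal.span ({f * h, g} : Set A)) =
      Module.length A (A ⧸ Ideal.span ({h, g} : Set A)) + Module.length A (A ⧸ Ideal.span ({f, g} : Set A)) := by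
  let I := Ideal.span ({h, g} : Set A)
  let J := Ideal.span ({f * h, g} : Set A)
  let K := Ideal.span ({f, g} : Set A)
  have hIJ : I ≤ Submodule.comap (LinearMap.mulLeft A f) J := by
    rw [Ideal.span_le]
    rintro x (rfl | rfl)
    · exact Ideal.subset_span (Or.inl rfl)
    · exact Ideal.mul_mem_left _ f (Ideal.subset_span (Or.inr rfl))
  have hJK : J ≤ Submodule.comap (LinearMap.id : A →ₗ[A] A) K := by
    rw [Ideal.span_le]
    rintro x (rfl | rfl)
    · exact Ideal.mul_mem_right _ _ (Ideal.subset_span (Or.inl rfl))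
    · exact Ideal.subset_span (Or.inr rfl)
  refine Module.length_eq_add_of_exact (Submodule.mapQ I J (LinearMap.mulLeft A f) hIJ)
    (Submodule.mapQ J K LinearMap.id hJK) ?_ ?_ ?_
  · rw [injective_iff_map_eq_zero]
    intro x hx
    obtain ⟨a, rfl⟩ := Submodule.Quotient.mk_surjective _ x
    rw [Submodule.mapQ_apply, Submodule.Quotient.mk_eq_zero, LinearMap.mulLeft_apply] at hx
    obtain ⟨r, s, hrs⟩ := Ideal.mem_span_pair.mp hx
    rw [Submodule.Quotient.mk_eq_zero]
    have hdvd : g ∣ a - r * h := hfg.symm.dvd_of_dvd_mul_left ⟨s, by linear_combination -hrs⟩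
    obtain ⟨t, ht⟩ := hdvd
    exact Ideal.mem_span_pair.mpr ⟨r, t, by linear_combination -ht⟩
  · intro x
    obtain ⟨a, rfl⟩ := Submodule.Quotient.mk_surjective _ x
    exact ⟨Submodule.Quotient.mk a, rfl⟩
  · intro x
    obtain ⟨a, rfl⟩ := Submodule.Quotient.mk_surjective _ x
    rw [Submodule.mapQ_apply, LinearMap.id_apply, Submodule.Quotient.mk_eq_zero]
    constructor
    · intro ha
      obtain ⟨r, s, hrs⟩ := Ideal.mem_span_pair.mp ha
      refine ⟨Submodule.Quotient.mk r, ?_⟩
      rw [Submodule.mapQ_apply, Submodule.Quotient.eq, LinearMap.mulLeft_apply]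
      exact Ideal.mem_span_pair.mpr ⟨0, -s, by linear_combination -hrs⟩
    · rintro ⟨y, hy⟩
      obtain ⟨r, rfl⟩ := Submodule.Quotient.mk_surjective _ y
      rw [Submodule.mapQ_apply, Submodule.Quotient.eq, LinearMap.mulLeft_apply] at hy
      have h1 : f * r - a ∈ K := hJK hy
      have h2 : f * r ∈ K := Ideal.mul_mem_right _ _ (Ideal.subset_span (Or.inl rfl))
      simpa using K.sub_mem h2 h1

theorem length_span_one_left (g : A) : Module.length A (A ⧸ Ideal.span ({1, g} : Set A)) = 0 := by
  haveI : Subsingleton (A ⧸ Ideal.span ({1, g} : Set A)) :=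
    Ideal.Quotient.subsingleton_iff.mpr ((Ideal.eq_top_iff_one _).mpr (Ideal.subset_span (Or.inl rfl)))
  exact Module.length_eq_zero

theorem length_prod_left {ι : Type*} (s : Finset ι) (f : ι → A) (g : A) (h : ∀ i ∈ s, IsRelPrime (f i) g) :
    Module.length A (A ⧸ Ideal.span ({∏ i ∈ s, f i, g} : Set A)) =
      ∑ i ∈ s, Module.length A (A ⧸ Ideal.span ({f i, g} : Set A)) := by
  classical
  induction s using Finset.induction_on with
  | empty => rw [Finset.prod_empty, Finset.sum_empty, length_span_one_left]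
  | insert i s hi ih =>
    rw [Finset.prod_insert hi, Finset.sum_insert hi, length_mul_add (h i (Finset.mem_insert_self _ _)),
      ih fun j hj => h j (Finset.mem_insert_of_mem hj), add_comm]

/-- The map to the product of `A/(f_i)`. -/
def toPi {n : ℕ} (f : Fin n → A) : (A ⧸ Ideal.span {∏ i, f i}) →ₗ[A] ((i : Fin n) → A ⧸ Ideal.span {f i}) :=
  LinearMap.pi (fun i => Submodule.mapQ (Ideal.span {∏ i, f i}) (Ideal.span {f i}) LinearMap.id
    (Ideal.span_singleton_le_span_singleton.mpr (Finset.dvd_prod_of_mem f (Finset.mem_univ i))))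

theorem toPi_injective {n : ℕ} (f : Fin n → A) (hcop : ∀ i j, i ≠ j → IsRelPrime (f i) (f j)) :
    Function.Injective (toPi f) := by
  rw [injective_iff_map_eq_zero]
  intro x hx
  obtain ⟨a, rfl⟩ := Submodule.Quotient.mk_surjective _ x
  rw [Submodule.Quotient.mk_eq_zero, Ideal.mem_span_singleton]
  refine Fintype.prod_dvd_of_isRelPrime (fun i j hij => hcop i j hij) fun i => ?_
  have := congrFun hx i
  rw [toPi, LinearMap.pi_apply, Submodule.mapQ_apply, LinearMap.id_apply] at this
  exact Ideal.mem_span_singleton.mp ((Submodule.Quotient.mk_eq_zero _).mp this)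

theorem sum_pairs_succ {M : Type*} [AddCommMonoid M] {n : ℕ} (F : Fin (n + 1) → Fin (n + 1) → M) :
    ∑ p ∈ (Finset.univ : Finset (Fin (n + 1) × Fin (n + 1))) with p.1 < p.2, F p.1 p.2 =
      ∑ j : Fin n, F 0 j.succ +
        ∑ p ∈ (Finset.univ : Finset (Fin n × Fin n)) with p.1 < p.2, F p.1.succ p.2.succ := by
  simp only [Finset.sum_filter, Fintype.sum_prod_type, Fin.sum_univ_succ, Fin.succ_lt_succ_iff,
    Fin.succ_pos, lt_irrefl, if_false, if_true, Fin.not_lt_zero, zero_add]

theorem length_coker_toPi {n : ℕ} (f : Fin n → A) (hcop : ∀ i j, i ≠ j → IsRelPrime (f i) (f j)) :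
    Module.length A (((i : Fin n) → A ⧸ Ideal.span {f i}) ⧸ LinearMap.range (toPi f)) =
      ∑ p ∈ (Finset.univ : Finset (Fin n × Fin n)) with p.1 < p.2,
        Module.length A (A ⧸ Ideal.span ({f p.1, f p.2} : Set A)) := by
  induction n with
  | zero =>
    haveI : Subsingleton ((i : Fin 0) → A ⧸ Ideal.span {f i}) := inferInstance
    haveI : Subsingleton (((i : Fin 0) → A ⧸ Ideal.span {f i}) ⧸ LinearMap.range (toPi f)) :=
      (Submodule.mkQ_surjective _).subsingleton
    rw [Module.length_eq_zero]
    simp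
  | succ n ih =>
    rw [sum_pairs_succ (fun i j => Module.length A (A ⧸ Ideal.span ({f i, f j} : Set A))),
      ← ih (fun i => f i.succ) fun i j hij => hcop _ _ fun h => hij (Fin.succ_injective _ h)]
    let g : Fin n → A := fun i => f i.succ
    let F' := ∏ i, g i
    have hF : ∏ i, f i = f 0 * F' := Fin.prod_univ_succ f
    have hsum : Module.length A (A ⧸ Ideal.span ({f 0, F'} : Set A)) =
        ∑ j : Fin n, Module.length A (A ⧸ Ideal.span ({f 0, f j.succ} : Set A)) := by
      rw [Set.pair_comm, length_prod_left Finset.univ g (f 0) fun i _ => (hcop _ _ (Fin.succ_ne_zero i))]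
      exact Finset.sum_congr rfl fun i _ => by rw [Set.pair_comm]
    rw [← hsum]
    let Q := ((i : Fin (n + 1)) → A ⧸ Ideal.span {f i}) ⧸ LinearMap.range (toPi f)
    let Q' := ((i : Fin n) → A ⧸ Ideal.span {g i}) ⧸ LinearMap.range (toPi g)
    -- `A/(f₀, F') → Q → Q'`
    let q : ((i : Fin (n + 1)) → A ⧸ Ideal.span {f i}) →ₗ[A] ((i : Fin n) → A ⧸ Ideal.span {g i}) :=
      LinearMap.pi fun i => LinearMap.proj i.succ
    let β : Q →ₗ[A] Q' := Submodule.mapQ _ _ q (by
      rintro _ ⟨y, rfl⟩
      obtain ⟨a, rfl⟩ := Submodule.Quotient.mk_surjective _ y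
      exact ⟨Submodule.Quotient.mk a, funext fun i => rfl⟩)
    let e₀ : A →ₗ[A] Q := (LinearMap.range (toPi f)).mkQ ∘ₗ
      (LinearMap.single A (fun i => A ⧸ Ideal.span {f i}) 0) ∘ₗ (Ideal.span {f 0}).mkQ
    have hz : ∀ a, e₀ a = 0 ↔ a ∈ Ideal.span ({f 0, F'} : Set A) := by
      intro a
      rw [LinearMap.comp_apply, LinearMap.comp_apply, Submodule.mkQ_apply, Submodule.Quotient.mk_eq_zero]
      constructor
      · rintro ⟨y, hy⟩
        obtain ⟨b, rfl⟩ := Submodule.Quotient.mk_surjective _ y
        have h0 := congrFun hy 0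
        rw [toPi, LinearMap.pi_apply, Submodule.mapQ_apply, LinearMap.id_apply, LinearMap.single_apply,
          Pi.single_eq_same, Submodule.mkQ_apply, Submodule.Quotient.eq] at h0
        have hd : F' ∣ b := Fintype.prod_dvd_of_isRelPrime
          (fun i j hij => hcop _ _ fun h => hij (Fin.succ_injective _ h)) fun i => by
            have hi := congrFun hy i.succ
            rw [toPi, LinearMap.pi_apply, Submodule.mapQ_apply, LinearMap.id_apply, LinearMap.single_apply,
              Pi.single_eq_of_ne (Fin.succ_ne_zero i)] at hi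
            exact Ideal.mem_span_singleton.mp ((Submodule.Quotient.mk_eq_zero _).mp hi)
        have : a = b - (b - a) := (sub_sub_cancel b a).symm
        rw [this]
        refine Ideal.sub_mem _ ?_ ?_
        · exact Ideal.mem_of_dvd _ hd (Ideal.subset_span (Or.inr rfl))
        · refine Ideal.mem_of_dvd _ (Ideal.mem_span_singleton.mp h0) (Ideal.subset_span ?_)
          exact Or.inl rfl
      · intro ha
        obtain ⟨r, s, hrs⟩ := Ideal.mem_span_pair.mp ha
        refine ⟨Submodule.Quotient.mk (s * F'), funext fun i => ?_⟩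
        refine Fin.cases ?_ (fun i => ?_) i
        · rw [toPi, LinearMap.pi_apply, Submodule.mapQ_apply, LinearMap.id_apply, LinearMap.single_apply,
            Pi.single_eq_same, Submodule.mkQ_apply, Submodule.Quotient.eq, Ideal.mem_span_singleton]
          exact ⟨-r, by linear_combination hrs⟩
        · rw [toPi, LinearMap.pi_apply, Submodule.mapQ_apply, LinearMap.id_apply, LinearMap.single_apply,
            Pi.single_eq_of_ne (Fin.succ_ne_zero i), Submodule.Quotient.mk_eq_zero, Ideal.mem_span_singleton]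
          exact Dvd.dvd.mul_left (Finset.dvd_prod_of_mem g (Finset.mem_univ i)) s
    let α : (A ⧸ Ideal.span ({f 0, F'} : Set A)) →ₗ[A] Q :=
      Submodule.liftQ _ e₀ fun a ha => (hz a).mpr ha
    refine Module.length_eq_add_of_exact α β ?_ ?_ ?_
    · rw [← LinearMap.ker_eq_bot]
      exact Submodule.ker_liftQ_eq_bot _ _ _ fun a ha => (hz a).mp (LinearMap.mem_ker.mp ha)
    · intro y
      obtain ⟨y, rfl⟩ := Submodule.Quotient.mk_surjective _ y
      exact ⟨Submodule.Quotient.mk (Fin.cons 0 y), congrArg Submodule.Quotient.mk (funext fun i => rfl)⟩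
    · intro y
      obtain ⟨y, rfl⟩ := Submodule.Quotient.mk_surjective _ y
      constructor
      · intro hy
        rw [Submodule.mapQ_apply, Submodule.Quotient.mk_eq_zero] at hy
        obtain ⟨w, hw⟩ := hy
        obtain ⟨b, rfl⟩ := Submodule.Quotient.mk_surjective _ w
        obtain ⟨c, hc⟩ := Submodule.Quotient.mk_surjective _ (y 0)
        refine ⟨Submodule.Quotient.mk (c - b), ?_⟩
        rw [Submodule.liftQ_apply, LinearMap.comp_apply, LinearMap.comp_apply, Submodule.mkQ_apply,
          Submodule.Quotient.eq]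
        refine ⟨Submodule.Quotient.mk (-b), funext fun i => ?_⟩
        refine Fin.cases ?_ (fun i => ?_) i
        · rw [toPi, LinearMap.pi_apply, Submodule.mapQ_apply, LinearMap.id_apply, Pi.sub_apply,
            LinearMap.single_apply, Pi.single_eq_same, ← hc, Submodule.mkQ_apply, ← Submodule.Quotient.mk_sub]
          congr 1
          ring
        · rw [toPi, LinearMap.pi_apply, Submodule.mapQ_apply, LinearMap.id_apply, Pi.sub_apply,
            LinearMap.single_apply, Pi.single_eq_of_ne (Fin.succ_ne_zero i), zero_sub, Submodule.Quotient.mk_neg]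
          have hi := congrFun hw i
          rw [toPi, LinearMap.pi_apply, Submodule.mapQ_apply, LinearMap.id_apply] at hi
          rw [hi]
          rfl
      · rintro ⟨x, hx⟩
        obtain ⟨a, rfl⟩ := Submodule.Quotient.mk_surjective _ x
        rw [← hx, Submodule.liftQ_apply]
        refine (Submodule.mapQ_apply _ _ _ _).trans ?_
        rw [LinearMap.comp_apply, show q (LinearMap.single A (fun i => A ⧸ Ideal.span {f i}) 0 ((Ideal.span {f 0}).mkQ a)) = 0 from
          funext fun i => by simp [q, Pi.single_eq_of_ne (Fin.succ_ne_zero i)]]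
        rfl

end Groth.L01.LengthAdd
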