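import Mathlib.LinearAlgebra.Charpoly.Basic
import Mathlib.RingTheory.Polynomial.Basic
import Mathlib.RingTheory.Localization.Away.Basic
import Mathlib.Algebra.Polynomial.Derivative
import Mathlib.RingTheory.Coprime.Lemmas

universe u
open Polynomial

namespace Groth.L01.LogConn

theorem bijective_sub_natCast {R M : Type*} [CommRing R] [AddCommGroup M] [Module R M]
    [Module.Free R M] [Module.Finite R M] (f : M →ₗ[R] M) (N : ℕ)
    (h : IsUnit (f.charpoly.eval (N : R))) :
    Function.Bijective (f - (N : R) • (LinearMap.id : M →ₗ[R] M) : M →ₗ[R] M) := by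
  obtain ⟨q, hq⟩ := Polynomial.X_sub_C_dvd_sub_C_eval (a := (N : R)) (p := f.charpoly)
  have h1 := congrArg (Polynomial.aeval f) hq
  rw [map_sub, LinearMap.aeval_self_charpoly, Polynomial.aeval_C, zero_sub, map_mul, map_sub,
    Polynomial.aeval_X, Polynomial.aeval_C] at h1
  have h2 : IsUnit ((f - algebraMap R (Module.End R M) (N : R)) * Polynomial.aeval f q) := by
    rw [← h1]; exact (h.map _).neg
  have hc : Commute (f - algebraMap R (Module.End R M) (N : R)) (Polynomial.aeval f q) := by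
    have := (Commute.all (X - C (N : R)) q).map (Polynomial.aeval f)
    simpa using this
  have h3 := (hc.isUnit_mul_iff.mp h2).1
  have h4 := (Module.End.isUnit_iff _).mp h3
  rwa [show ((f - (N : R) • (LinearMap.id : M →ₗ[R] M) : M →ₗ[R] M) : M → M) =
    ⇑(f - algebraMap R (Module.End R M) (N : R)) from by
      ext x; simp [Nat.cast_smul_eq_nsmul]]

variable {R : Type u} [CommRing R] {d r : ℕ} {θ : Fin r → R}
  (hθ : ∀ i k, i ≠ k → IsUnit (θ i - θ k)) {Θ : R[X]} (hΘ : Θ = ∏ i, (X - Polynomial.C (θ i)))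
  {D₀ : (Fin d → R[X]) →+ (Fin d → R[X])}
  (hD₀ : ∀ (p : R[X]) (v : Fin d → R[X]),
      D₀ (p • v) = (Θ * Polynomial.derivative p) • v + p • D₀ v)
  {Res : Fin r → ((Fin d → R) →ₗ[R] (Fin d → R))}
  (hRes : ∀ (i : Fin r) (m : Fin d → R) (j : Fin d),
      (D₀ (fun j => Polynomial.C (m j)) j).eval (θ i) =
        (∏ k ∈ Finset.univ.erase i, (θ i - θ k)) * Res i m j)

/-- `D₀ v - N Θ' v`, the numerator of `D (v / Θ ^ N)`. -/
noncomputable def T (Θ : R[X]) (D₀ : (Fin d → R[X]) →+ (Fin d → R[X])) (N : ℕ) (v : Fin d → R[X]) : Fin d → R[X] :=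
  D₀ v - ((N : R[X]) * derivative Θ) • v

include hΘ in
theorem eval_theta (i : Fin r) : Θ.eval (θ i) = 0 := by
  rw [hΘ, eval_prod]
  exact Finset.prod_eq_zero (Finset.mem_univ i) (by simp)

include hΘ in
theorem eval_derivative_theta (i : Fin r) :
    (derivative Θ).eval (θ i) = ∏ k ∈ Finset.univ.erase i, (θ i - θ k) := by
  rw [hΘ, ← Finset.mul_prod_erase _ _ (Finset.mem_univ i), derivative_mul]
  simp [eval_prod]

include hΘ hD₀ hRes in
theorem eval_T (N : ℕ) (v : Fin d → R[X]) (i : Fin r) :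
    (fun j => (T Θ D₀ N v j).eval (θ i)) = (∏ k ∈ Finset.univ.erase i, (θ i - θ k)) •
      (Res i - (N : R) • (LinearMap.id : (Fin d → R) →ₗ[R] Fin d → R)) (fun j => (v j).eval (θ i)) := by
  have h : ∀ j, ∃ w, v j = C ((v j).eval (θ i)) + (X - C (θ i)) * w := fun j => by
    obtain ⟨w, hw⟩ := X_sub_C_dvd_sub_C_eval (a := θ i) (p := v j)
    exact ⟨w, by rw [← hw]; abel⟩
  choose w hw using h
  have hv : v = (fun j => C ((v j).eval (θ i))) + (X - C (θ i)) • w := funext fun j => by
    simpa using hw j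
  have hD : ∀ j, (D₀ v j).eval (θ i) =
      (∏ k ∈ Finset.univ.erase i, (θ i - θ k)) * Res i (fun j => (v j).eval (θ i)) j := fun j => by
    conv_lhs => rw [hv]
    rw [map_add, hD₀]
    simp [eval_theta hΘ, hRes]
  funext j
  simp [T, hD, eval_derivative_theta hΘ]
  ring

include hθ hΘ in
theorem theta_dvd (v : Fin d → R[X]) (h : ∀ i j, (v j).eval (θ i) = 0) :
    ∃ w, v = Θ • w := by
  have : ∀ j, Θ ∣ v j := fun j => by
    rw [hΘ]
    refine Finset.prod_dvd_of_coprime (fun a _ b _ hab => ?_) fun i _ => dvd_iff_isRoot.mpr (h i j)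
    exact Polynomial.isCoprime_X_sub_C_of_isUnit_sub (hθ a b hab)
  choose w hw using this
  exact ⟨w, funext fun j => by simpa using hw j⟩

include hθ in
theorem isUnit_prod (i : Fin r) : IsUnit (∏ k ∈ Finset.univ.erase i, (θ i - θ k)) :=
  IsUnit.prod_iff.mpr fun k hk => hθ i k (Finset.ne_of_mem_erase hk).symm

include hθ in
theorem interpolate (a : Fin r → Fin d → R) :
    ∃ u : Fin d → R[X], ∀ i j, (u j).eval (θ i) = a i j := by
  refine ⟨fun j => ∑ i, C (a i j * ↑((isUnit_prod hθ i).unit⁻¹)) *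
    ∏ k ∈ Finset.univ.erase i, (X - C (θ k)), fun i j => ?_⟩
  rw [eval_finsetSum, Finset.sum_eq_single i]
  · simp [eval_prod, mul_assoc]
  · intro b _ hb
    rw [eval_mul, eval_prod]
    exact mul_eq_zero_of_right _ (Finset.prod_eq_zero (Finset.mem_erase.mpr ⟨Ne.symm hb, Finset.mem_univ i⟩) (by simp))
  · simp

include hθ hΘ hD₀ hRes in
theorem surjective_mod (N : ℕ) (hN : ∀ i, IsUnit ((Res i).charpoly.eval (N : R))) (v : Fin d → R[X]) :
    ∃ u v', v = T Θ D₀ N u + Θ • v' := by
  have h : ∀ i, ∃ m, (Res i - (N : R) • (LinearMap.id : (Fin d → R) →ₗ[R] Fin d → R)) m =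
      (↑((isUnit_prod hθ i).unit⁻¹) : R) • (fun j => (v j).eval (θ i)) := fun i =>
    (bijective_sub_natCast _ _ (hN i)).2 _
  choose m hm using h
  obtain ⟨u, hu⟩ := interpolate hθ m
  obtain ⟨v', hv'⟩ := theta_dvd hθ hΘ (v - T Θ D₀ N u) fun i j => by
    have := congrFun (eval_T hΘ hD₀ hRes N u i) j
    rw [show (fun j => (u j).eval (θ i)) = m i from funext (hu i), hm i, smul_smul,
      IsUnit.mul_val_inv, one_smul] at this
    simp [this]
  exact ⟨u, v', by rw [← hv']; abel⟩

include hθ hΘ hD₀ hRes in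
theorem injective_mod (N : ℕ) (hN : ∀ i, IsUnit ((Res i).charpoly.eval (N : R))) (v p : Fin d → R[X])
    (h : T Θ D₀ N v = Θ • p) : ∃ v', v = Θ • v' := by
  refine theta_dvd hθ hΘ v fun i j => ?_
  have h1 := eval_T hΘ hD₀ hRes N v i
  rw [h] at h1
  have h2 : (Res i - (N : R) • (LinearMap.id : (Fin d → R) →ₗ[R] Fin d → R))
      (fun j => (v j).eval (θ i)) = 0 := by
    apply (isUnit_prod hθ i).smul_left_cancel.mp
    rw [← h1, smul_zero]
    funext j
    simp [eval_theta hΘ]
  exact congrFun ((bijective_sub_natCast _ _ (hN i)).1 (h2.trans (map_zero _).symm)) j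

/-- The canonical map to the localization, componentwise. -/
noncomputable def ι (Θ : R[X]) (d : ℕ) : (Fin d → R[X]) →ₗ[R[X]] (Fin d → Localization.Away Θ) :=
  (Algebra.linearMap R[X] (Localization.Away Θ)).compLeft (Fin d)

theorem ι_apply (v : Fin d → R[X]) :
    ι Θ d v = fun j => algebraMap R[X] (Localization.Away Θ) (v j) := rfl

theorem pow_smul_cancel (n : ℕ) {x y : Fin d → Localization.Away Θ} (h : Θ ^ n • x = Θ ^ n • y) :
    x = y := by
  funext j
  have := congrFun h j
  simp only [Pi.smul_apply, Algebra.smul_def] at this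
  refine (IsUnit.mul_right_inj ?_).mp this
  rw [map_pow]
  exact (IsLocalization.Away.algebraMap_isUnit Θ).pow n

theorem exists_pow_smul (w : Fin d → Localization.Away Θ) : ∃ N v, Θ ^ N • w = ι Θ d v := by
  have h : ∀ j, ∃ (n : ℕ) (a : R[X]), w j * algebraMap R[X] (Localization.Away Θ) Θ ^ n = algebraMap R[X] (Localization.Away Θ) a :=
    fun j => IsLocalization.Away.surj Θ (w j)
  choose n a ha using h
  refine ⟨∑ j, n j, fun j => a j * Θ ^ ((∑ j, n j) - n j), funext fun j => ?_⟩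
  simp only [ι_apply]
  rw [map_mul, ← ha j, map_pow, Pi.smul_apply, Algebra.smul_def, map_pow, mul_assoc, ← pow_add,
    Nat.add_sub_cancel' (Finset.single_le_sum (fun i _ => Nat.zero_le (n i)) (Finset.mem_univ j)), mul_comm]

theorem exists_div (N : ℕ) (u : Fin d → R[X]) :
    ∃ w : Fin d → Localization.Away Θ, Θ ^ N • w = ι Θ d u := by
  refine ⟨fun j => algebraMap R[X] (Localization.Away Θ) (u j) *
    ↑(((IsLocalization.Away.algebraMap_isUnit (S := Localization.Away Θ) Θ).pow N).unit⁻¹), funext fun j => ?_⟩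
  rw [ι_apply, Pi.smul_apply, Algebra.smul_def, map_pow, mul_left_comm, IsUnit.mul_val_inv, mul_one]

variable {D : (Fin d → Localization.Away Θ) →+ (Fin d → Localization.Away Θ)}
  (hD : ∀ (p : R[X]) (w : Fin d → Localization.Away Θ),
      D (p • w) = (Θ * Polynomial.derivative p) • w + p • D w)
  (hDD₀ : ∀ v : Fin d → R[X],
      D (fun j => algebraMap R[X] (Localization.Away Θ) (v j)) =
        fun j => algebraMap R[X] (Localization.Away Θ) (D₀ v j))

include hD hDD₀ in
theorem pow_smul_D (N : ℕ) (v : Fin d → R[X]) (w : Fin d → Localization.Away Θ)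
    (h : Θ ^ N • w = ι Θ d v) : Θ ^ N • D w = ι Θ d (T Θ D₀ N v) := by
  have h1 : D (ι Θ d v) = ι Θ d (D₀ v) := hDD₀ v
  have h2 : Θ * derivative (Θ ^ N) = ((N : R[X]) * derivative Θ) * Θ ^ N := by
    cases N with
    | zero => simp
    | succ n => rw [derivative_pow, map_natCast]; simp [pow_succ]; ring
  have h3 := hD (Θ ^ N) w
  rw [h, h1, h2, mul_smul, h] at h3
  rw [T, map_sub, map_smul]
  exact eq_sub_of_add_eq' h3.symm

end Groth.L01.LogConn
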