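import Groth.Agent.L04.RegularPd
import Groth.Agent.L01.DepthBasic
import Groth.Agent.L01.Regular
import Mathlib.RingTheory.LocalRing.Module
import Mathlib.LinearAlgebra.Matrix.ToLin
import Mathlib.LinearAlgebra.FreeModule.StrongRankCondition
import Mathlib.LinearAlgebra.Dimension.Free

/-!
Matrix factorisations: a maximal Cohen–Macaulay module over a plane-curve ring has a two-periodic
presentation.
-/

set_option autoImplicit false
universe u

open CategoryTheory IsLocalRing

namespace Groth.L01.MatFact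

/-- The reduction of a linear map of free modules along a ring map. -/
noncomputable def red {S R : Type u} [CommRing S] [CommRing R] (π : S →+* R) {n m : ℕ}
    (u : (Fin n → S) →ₗ[S] (Fin m → S)) : (Fin n → R) →ₗ[R] (Fin m → R) :=
  Matrix.toLin' ((LinearMap.toMatrix' u).map π)

theorem red_comp {S R : Type u} [CommRing S] [CommRing R] (π : S →+* R) {n m : ℕ}
    (u : (Fin n → S) →ₗ[S] (Fin m → S)) (v : Fin n → S) : red π u (π ∘ v) = π ∘ u v := by
  funext i
  rw [red, Matrix.toLin'_apply, ← RingHom.map_mulVec, LinearMap.toMatrix'_mulVec]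
  rfl

theorem exists_periodic {S : Type u} [CommRing S] [IsRegularLocalRing S] (hS : ringKrullDim S = 2)
    (f : S) (hf : f ≠ 0) {R : Type u} [CommRing R] [IsLocalRing R] (π : S →+* R)
    (hπ : Function.Surjective π) (hker : RingHom.ker π = Ideal.span {f})
    (M : Type u) [AddCommGroup M] [Module R M] [Module.Finite R M]
    (x : R) (hx : x ∈ maximalIdeal R) (hxM : IsSMulRegular M x) :
    ∃ (n₀ n₁ : ℕ) (a : (Fin n₁ → R) →ₗ[R] (Fin n₀ → R)) (b : (Fin n₀ → R) →ₗ[R] (Fin n₁ → R))
      (p : (Fin n₀ → R) →ₗ[R] M), Function.Surjective p ∧ Function.Exact a p ∧ Function.Exact b a ∧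
      Function.Exact a b ∧ ∀ i ∈ Module.annihilator R M, ∃ h : (Fin n₀ → R) →ₗ[R] (Fin n₁ → R),
        ∀ w, h (a w) = i • w := by
  classical
  haveI := Groth.L01.isDomain_of_regular S
  letI : Algebra S R := π.toAlgebra
  letI : Module S M := Module.compHom M π
  haveI : IsScalarTower S R M := ⟨fun s r m => show (π s * r) • m = π s • (r • m) from mul_smul _ _ _⟩
  haveI : Module.Finite S R := Module.Finite.of_surjective (Algebra.linearMap S R) hπ
  haveI : Module.Finite S M := Module.Finite.trans R M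
  obtain ⟨xs, hxs⟩ := hπ x
  have hxs' : xs ∈ maximalIdeal S := fun hu => hx (hxs ▸ hu.map π)
  have hdep : (1 : ℕ∞) ≤ LocCoh.depth S M := Groth.L01.one_le_depth (M := M) hxs'
    (fun m₁ m₂ h => hxM (by
      have h' : π xs • m₁ = π xs • m₂ := h
      rwa [hxs] at h'))
  have hpd : HasProjectiveDimensionLE (ModuleCat.of S M) 1 :=
    Groth.L04.hasProjectiveDimensionLE_of_dim_le_add_depth M (d := 2) (t := 1) (by exact_mod_cast hS)
      (le_trans (by norm_num) (add_le_add_right hdep 1))
  obtain ⟨n₀, q, hq⟩ := Module.Finite.exists_fin' S M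
  have hK : Module.Projective S (LinearMap.ker q) := by
    rw [IsProjective.iff_projective, projective_iff_hasProjectiveDimensionLT_one]
    haveI : Projective (ModuleCat.of S (Fin n₀ → S)) :=
      (IsProjective.iff_projective (Fin n₀ → S)).mp inferInstance
    exact (LinearMap.shortExact_shortComplexKer hq).hasProjectiveDimensionLT_X₁ 1
      (hasProjectiveDimensionLT_of_ge _ 1 1 le_rfl) hpd
  haveI := hK
  haveI : Module.Finite S (LinearMap.ker q) := Module.IsNoetherian.finite S _
  haveI : Module.Free S (LinearMap.ker q) := Module.free_of_flat_of_isLocalRing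
  let e := (Module.finBasis S (LinearMap.ker q)).equivFun
  let φ : (Fin (Module.finrank S (LinearMap.ker q)) → S) →ₗ[S] (Fin n₀ → S) :=
    (LinearMap.ker q).subtype ∘ₗ e.symm.toLinearMap
  have hφ : Function.Injective φ := Subtype.val_injective.comp e.symm.injective
  have hrange : LinearMap.range φ = LinearMap.ker q := by
    rw [LinearMap.range_comp, LinearEquiv.range, Submodule.map_top, Submodule.range_subtype]
  have hlift : ∀ c : S, (∀ m : M, π c • m = 0) →
      ∃ h : (Fin n₀ → S) →ₗ[S] _, (∀ z, φ (h z) = c • z) ∧ ∀ w, h (φ w) = c • w := by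
    intro c hc
    have hmem : ∀ z, c • z ∈ LinearMap.ker q := fun z => by
      rw [LinearMap.mem_ker, map_smul]
      exact hc _
    let h : (Fin n₀ → S) →ₗ[S] _ :=
      e.toLinearMap ∘ₗ (c • (LinearMap.id : (Fin n₀ → S) →ₗ[S] _)).codRestrict (LinearMap.ker q) hmem
    have h1 : ∀ z, φ (h z) = c • z := fun z => by simp [φ, h]
    exact ⟨h, h1, fun w => hφ (by rw [h1, map_smul])⟩
  obtain ⟨ψ, hψ₁, hψ₂⟩ := hlift f fun m => by
    rw [(RingHom.mem_ker (f := π)).mp (hker ▸ Ideal.mem_span_singleton_self f), zero_smul]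
  have hψinj : Function.Injective ψ := fun z₁ z₂ h => by
    have := congrArg φ h
    rw [hψ₁, hψ₁] at this
    exact smul_right_injective _ hf this
  have hvs : ∀ {k : ℕ} (v : Fin k → R), ∃ w : Fin k → S, π ∘ w = v := fun v =>
    ⟨fun i => (hπ (v i)).choose, funext fun i => (hπ (v i)).choose_spec⟩
  have hzero : ∀ {k : ℕ} (w : Fin k → S), π ∘ w = 0 ↔ ∃ z, w = f • z := by
    intro k w
    constructor
    · intro h
      have : ∀ i, ∃ z, f * z = w i := fun i => by
        have hi : w i ∈ RingHom.ker π := congrFun h i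
        rw [hker, Ideal.mem_span_singleton'] at hi
        obtain ⟨z, hz⟩ := hi
        exact ⟨z, by rw [mul_comm, hz]⟩
      choose z hz using this
      exact ⟨z, funext fun i => (hz i).symm⟩
    · rintro ⟨z, rfl⟩
      funext i
      show π (f * z i) = 0
      rw [map_mul, (RingHom.mem_ker (f := π)).mp (hker ▸ Ideal.mem_span_singleton_self f), zero_mul]
  let m : Fin n₀ → M := fun j => q (Pi.single j 1)
  let p : (Fin n₀ → R) →ₗ[R] M := Fintype.linearCombination R m
  have hp : ∀ w : Fin n₀ → S, p (π ∘ w) = q w := fun w => by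
    conv_rhs => rw [pi_eq_sum_univ' w, map_sum]
    simp only [map_smul]
    rfl
  refine ⟨n₀, _, red π φ, red π ψ, p, fun y => ?_, fun v => ?_, fun v => ?_, fun v => ?_, fun i hi => ?_⟩
  · obtain ⟨w, rfl⟩ := hq y
    exact ⟨π ∘ w, hp w⟩
  · obtain ⟨w, rfl⟩ := hvs v
    rw [hp, Set.mem_range]
    constructor
    · intro h
      obtain ⟨t, ht⟩ := hrange.ge (LinearMap.mem_ker.mpr h)
      exact ⟨π ∘ t, by rw [red_comp, ht]⟩
    · rintro ⟨t, ht⟩
      obtain ⟨t, rfl⟩ := hvs t
      rw [← hp, ← ht, red_comp, hp]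
      exact LinearMap.mem_ker.mp (hrange.le ⟨t, rfl⟩)
  · obtain ⟨w, rfl⟩ := hvs v
    rw [red_comp, hzero, Set.mem_range]
    constructor
    · rintro ⟨z, hz⟩
      refine ⟨π ∘ z, ?_⟩
      rw [red_comp, show w = ψ z from hφ (by rw [hψ₁, hz])]
    · rintro ⟨z, hz⟩
      obtain ⟨z, rfl⟩ := hvs z
      rw [red_comp] at hz
      rw [← hzero, ← red_comp, ← hz, red_comp, hψ₁]
      exact (hzero _).mpr ⟨z, rfl⟩
  · obtain ⟨w, rfl⟩ := hvs v
    rw [red_comp, hzero, Set.mem_range]
    constructor
    · rintro ⟨z, hz⟩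
      refine ⟨π ∘ z, ?_⟩
      rw [red_comp, show w = φ z from hψinj (by rw [hψ₂, hz])]
    · rintro ⟨z, hz⟩
      obtain ⟨z, rfl⟩ := hvs z
      rw [red_comp] at hz
      rw [← hzero, ← red_comp, ← hz, red_comp, hψ₂]
      exact (hzero _).mpr ⟨z, rfl⟩
  · obtain ⟨c, rfl⟩ := hπ i
    obtain ⟨h, -, h₂⟩ := hlift c (Module.mem_annihilator.mp hi)
    refine ⟨red π h, fun w => ?_⟩
    obtain ⟨w, rfl⟩ := hvs w
    rw [red_comp, red_comp, h₂]
    funext j
    exact map_mul π _ _

/-- A vector killed by `I` and `J`, where `I + J` contains a power of the maximal ideal, vanishes in a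
module with a regular element of the maximal ideal. -/
theorem eq_zero_of_killed {R : Type u} [CommRing R] [IsLocalRing R] {N : Type u} [AddCommGroup N] [Module R N]
    {I J : Ideal R} {n : ℕ} (hIJ : maximalIdeal R ^ n ≤ I ⊔ J) {y : R} (hy : y ∈ maximalIdeal R)
    (hyN : IsSMulRegular N y) {v : N} (hI : ∀ i ∈ I, i • v = 0) (hJ : ∀ j ∈ J, j • v = 0) : v = 0 := by
  obtain ⟨i, hi, j, hj, hij⟩ := Submodule.mem_sup.mp (hIJ (Ideal.pow_mem_pow hy n))
  exact (hyN.pow n).right_eq_zero_of_smul (by rw [← hij, add_smul, hI i hi, hJ j hj, add_zero])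

end Groth.L01.MatFact
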