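import Groth.Agent.L01.NormalDomain
import Groth.Agent.L02.KrullAkizuki
import Mathlib.RingTheory.Valuation.ValuationSubring
import Mathlib.RingTheory.Valuation.Discrete.IsDiscreteValuationRing
import Mathlib.FieldTheory.IsAlgClosed.Basic
import Mathlib.RingTheory.Ideal.GoingUp
import Mathlib.RingTheory.Ideal.AssociatedPrime.Basic
import Mathlib.RingTheory.Algebraic.Integral
import Mathlib.RingTheory.KrullDimension.Field
import Mathlib.RingTheory.KrullDimension.Zero

/-!
Auxiliary facts for the Mori–Nagata theorem.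
-/

set_option linter.style.haveILetI false

universe u

namespace Groth.L01.MoriAux

open IsLocalRing
open scoped WithZero

/-- Extend a point of the base to a prime of an integral extension. -/
theorem exists_extension {C B L : Type u} [CommRing C] [CommRing B] [Algebra C B]
    [Algebra.IsIntegral C B] [Field L] [IsAlgClosed L] (g : C →+* L) (Q : Ideal B) [Q.IsPrime]
    (hQ : Q.comap (algebraMap C B) = RingHom.ker g) :
    ∃ f : B →+* L, f.comp (algebraMap C B) = g ∧ RingHom.ker f = Q := by
  let p : Ideal C := RingHom.ker g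
  haveI : p.IsPrime := RingHom.ker_isPrime g
  haveI : Q.LiesOver p := ⟨hQ.symm⟩
  letI : Algebra (C ⧸ p) L := (Ideal.Quotient.lift p g fun c hc => hc).toAlgebra
  haveI : FaithfulSMul (C ⧸ p) L := (faithfulSMul_iff_algebraMap_injective _ _).mpr
    (RingHom.lift_injective_of_ker_le_ideal p _ le_rfl)
  haveI : FaithfulSMul (C ⧸ p) (B ⧸ Q) := (faithfulSMul_iff_algebraMap_injective _ _).mpr
    ((injective_iff_map_eq_zero _).mpr fun c hc => by
      obtain ⟨c, rfl⟩ := Ideal.Quotient.mk_surjective c
      rw [Ideal.Quotient.algebraMap_mk_of_liesOver, Ideal.Quotient.eq_zero_iff_mem] at hc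
      rw [Ideal.Quotient.eq_zero_iff_mem]
      exact (SetLike.ext_iff.mp hQ c).mp hc)
  haveI : Algebra.IsIntegral (C ⧸ p) (B ⧸ Q) := inferInstance
  haveI : Algebra.IsAlgebraic (C ⧸ p) (B ⧸ Q) := Algebra.IsIntegral.isAlgebraic
  haveI : Module.IsTorsionFree (C ⧸ p) L := inferInstance
  haveI : Module.IsTorsionFree (C ⧸ p) (B ⧸ Q) := inferInstance
  let f : (B ⧸ Q) →ₐ[C ⧸ p] L := IsAlgClosed.lift
  refine ⟨f.toRingHom.comp (Ideal.Quotient.mk Q), RingHom.ext fun c => f.commutes (Ideal.Quotient.mk p c), ?_⟩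
  have hker : RingHom.ker f.toRingHom = ⊥ := by
    apply Ideal.eq_bot_of_comap_eq_bot (R := C ⧸ p)
    rw [RingHom.comap_ker]
    have : f.toRingHom.comp (algebraMap (C ⧸ p) (B ⧸ Q)) = algebraMap (C ⧸ p) L :=
      RingHom.ext f.commutes
    rw [this]
    exact (RingHom.injective_iff_ker_eq_bot _).mp (FaithfulSMul.algebraMap_injective _ _)
  rw [← RingHom.comap_ker, hker, ← RingHom.ker_eq_comap_bot, Ideal.mk_ker]

theorem minimalPrimes_of_height_one {D : Type u} [CommRing D] [IsDomain D] {b : D} (hb : b ≠ 0)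
    {P : Ideal D} [P.IsPrime] (hP : P.height = 1) (hbP : b ∈ P) :
    P ∈ (Ideal.span {b}).minimalPrimes := by
  refine ⟨⟨inferInstance, (Ideal.span_singleton_le_iff_mem _).mpr hbP⟩, fun Q hQ hQP => ?_⟩
  haveI := hQ.1
  rcases eq_or_lt_of_le hQP with h | h
  · exact h.ge
  · exfalso
    have h1 : Q.height < 1 := by
      rw [show (1 : ℕ∞) = ((1 : ℕ) : ℕ∞) from rfl]
      exact Ideal.height_le_iff.mp (by rw [hP]; exact le_rfl) Q inferInstance h
    have h4 : Q ∈ minimalPrimes D := Ideal.height_eq_zero_iff.mp (Order.lt_one_iff.mp h1)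
    rw [IsDomain.minimalPrimes_eq_singleton_bot] at h4
    have h5 := hQ.2 (Ideal.mem_span_singleton_self b)
    rw [show Q = ⊥ from h4, Ideal.mem_bot] at h5
    exact hb h5

section Factor

variable {D F : Type u} [CommRing D] [IsDomain D] [IsNoetherianRing D] [IsIntegrallyClosed D]
  [Field F] [Algebra D F] [IsFractionRing D F]

/-- The candidates for the poles. -/
def poles (b : D) : Set (Ideal D) :=
  {P | P ∈ (Ideal.span {b}).minimalPrimes ∧ ∃ _ : P.IsPrime, IsDiscreteValuationRing (Localization.AtPrime P)}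

omit [IsIntegrallyClosed D] in
theorem finite_poles (b : D) : (poles b).Finite :=
  (Ideal.finite_minimalPrimes_of_isNoetherianRing D _).subset fun _ h => h.1

omit [IsNoetherianRing D] [IsIntegrallyClosed D] in
theorem exists_valuation (b : D) {P : Ideal D} (hP : P ∈ poles b) :
    ∃ w : Valuation F ℤᵐ⁰, ∀ z, w z ≤ 1 ↔
      ∃ s : D, s ∉ P ∧ algebraMap D F s * z ∈ (algebraMap D F).range := by
  obtain ⟨-, hPp, hdvr⟩ := hP
  let DP := Localization.AtPrime P
  let ψ : DP →ₐ[D] F := IsLocalization.liftAlgHom (M := P.primeCompl) (f := Algebra.ofId D F) fun s =>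
    isUnit_iff_ne_zero.mpr fun h => s.2 (by
      rw [show (s : D) = 0 from IsFractionRing.injective D F (by rw [map_zero]; exact h)]
      exact zero_mem _)
  letI : Algebra DP F := ψ.toRingHom.toAlgebra
  haveI : IsScalarTower D DP F := IsScalarTower.of_algebraMap_eq fun c => (ψ.commutes c).symm
  haveI : IsFractionRing DP F :=
    IsFractionRing.isFractionRing_of_isDomain_of_isLocalization P.primeCompl DP F
  haveI : IsDomain DP := IsLocalization.isDomain_localization P.primeCompl_le_nonZeroDivisors
  refine ⟨(IsDiscreteValuationRing.maximalIdeal DP).valuation F, fun z => ?_⟩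
  constructor
  · intro hz
    obtain ⟨q, rfl⟩ := IsDiscreteValuationRing.exists_lift_of_le_one hz
    obtain ⟨c, s, rfl⟩ := IsLocalization.exists_mk'_eq P.primeCompl q
    refine ⟨s, s.2, c, ?_⟩
    rw [IsScalarTower.algebraMap_apply D DP F s, ← map_mul, IsLocalization.mk'_spec',
      ← IsScalarTower.algebraMap_apply]
  · rintro ⟨s, hs, c, hc⟩
    have h1 : z = algebraMap DP F (IsLocalization.mk' DP c (⟨s, hs⟩ : P.primeCompl)) := by
      apply mul_left_cancel₀ (a := algebraMap D F s)
        ((map_ne_zero_iff _ (IsFractionRing.injective D F)).mpr fun h => hs (by rw [h]; exact zero_mem _))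
      rw [← hc, IsScalarTower.algebraMap_apply D DP F s, ← map_mul,
        IsLocalization.mk'_spec' DP c (⟨s, hs⟩ : P.primeCompl), ← IsScalarTower.algebraMap_apply]
    rw [h1]
    exact IsDedekindDomain.HeightOneSpectrum.valuation_le_one _ _

/-- An element with denominator a power of `b` lies in the ring if it does so at the poles of `b`. -/
theorem mem_of_poles {b : D} (hb : b ≠ 0) (m : ℕ) (c : D) (τ : F)
    (hc : algebraMap D F c = algebraMap D F (b ^ m) * τ)
    (hτ : ∀ P ∈ poles b, ∃ s : D, s ∉ P ∧ algebraMap D F s * τ ∈ (algebraMap D F).range) :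
    τ ∈ (algebraMap D F).range := by
  by_contra hn
  have hnot : c ∉ Ideal.span {b ^ m} := fun h => by
    obtain ⟨d, rfl⟩ := Ideal.mem_span_singleton'.mp h
    refine hn ⟨d, ?_⟩
    rw [map_mul, mul_comm] at hc
    exact mul_left_cancel₀ ((map_ne_zero_iff _ (IsFractionRing.injective D F)).mpr (pow_ne_zero m hb)) hc
  have hz0 : Ideal.Quotient.mk (Ideal.span {b ^ m}) c ≠ 0 := by
    rwa [Ne, Ideal.Quotient.eq_zero_iff_mem]
  obtain ⟨P, hPass, hPle⟩ := exists_le_isAssociatedPrime_of_isNoetherianRing D
    (Ideal.Quotient.mk (Ideal.span {b ^ m}) c) hz0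
  haveI := hPass.isPrime
  have hb' := pow_ne_zero m hb
  have hh : P.height = 1 := Groth.L01.height_eq_one_of_mem_associatedPrimes hb' hPass
  have hbm : b ^ m ∈ P := hPle (by
    rw [Submodule.mem_colon_singleton, Submodule.mem_bot, Algebra.smul_def,
      Ideal.Quotient.algebraMap_eq, Ideal.Quotient.eq_zero_iff_mem.mpr (Ideal.mem_span_singleton_self _),
      zero_mul])
  obtain ⟨s, hs, d, hd⟩ := hτ P ⟨minimalPrimes_of_height_one hb hh (hPass.isPrime.mem_of_pow_mem m hbm),
    inferInstance, Groth.L01.isDVR_localization_of_mem_associatedPrimes hb' hPass⟩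
  apply hs
  apply hPle
  rw [Submodule.mem_colon_singleton, Submodule.mem_bot, Algebra.smul_def, Ideal.Quotient.algebraMap_eq,
    ← map_mul, Ideal.Quotient.eq_zero_iff_mem, Ideal.mem_span_singleton']
  refine ⟨d, IsFractionRing.injective D F ?_⟩
  rw [map_mul, map_mul (algebraMap D F) s, hc, hd]
  ring

/-- Finitely many valuations test integrality of elements with denominators powers of `b`. -/
theorem exists_valuations {b : D} (hb : b ≠ 0) :
    ∃ (ι : Type u) (_ : Finite ι) (w : ι → Valuation F ℤᵐ⁰), (∀ i d, w i (algebraMap D F d) ≤ 1) ∧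
      ∀ (m : ℕ) (c : D) (τ : F), algebraMap D F c = algebraMap D F (b ^ m) * τ →
        (∀ i, w i τ ≤ 1) → τ ∈ (algebraMap D F).range := by
  choose w hw using fun P : poles b => exists_valuation (F := F) b P.2
  refine ⟨poles b, (finite_poles b).to_subtype, w, fun i d => (hw i _).mpr ⟨1, ?_, d, ?_⟩,
    fun m c τ hc hτ => mem_of_poles hb m c τ hc fun P hP => (hw ⟨P, hP⟩ τ).mp (hτ ⟨P, hP⟩)⟩
  · obtain ⟨-, hp, -⟩ := i.2
    exact fun h => i.1.ne_top_iff_one.mp hp.ne_top h
  · rw [map_one, one_mul]

end Factor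

/-- A height one prime with a unique prime of the integral closure above it. -/
theorem exists_dvr {C A' K : Type u} [CommRing C] [IsDomain C] [IsNoetherianRing C] [Field K]
    [Algebra C K] [IsFractionRing C K] [CommRing A'] [Algebra C A'] [Algebra A' K] [IsScalarTower C A' K]
    [IsIntegralClosure A' C K] (p : Ideal C) [p.IsPrime] (hp : p.height = 1)
    (huniq : ∀ (Q₁ Q₂ : Ideal A'), Q₁.IsPrime → Q₂.IsPrime → Q₁.comap (algebraMap C A') = p →
      Q₂.comap (algebraMap C A') = p → Q₁ = Q₂) :
    ∃ V : ValuationSubring K, IsDiscreteValuationRing V ∧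
      ∀ x : K, x ∈ V ↔ ∃ s : C, s ∉ p ∧ IsIntegral C (algebraMap C K s * x) := by
  classical
  let Cp := Localization.AtPrime p
  let ψ : Cp →ₐ[C] K := IsLocalization.liftAlgHom (M := p.primeCompl) (f := Algebra.ofId C K) fun s =>
    isUnit_iff_ne_zero.mpr fun h => s.2 (by
      rw [show (s : C) = 0 from IsFractionRing.injective C K (by rw [map_zero]; exact h)]
      exact zero_mem _)
  letI : Algebra Cp K := ψ.toRingHom.toAlgebra
  haveI : IsScalarTower C Cp K := IsScalarTower.of_algebraMap_eq fun c => (ψ.commutes c).symm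
  haveI : IsFractionRing Cp K := IsFractionRing.isFractionRing_of_isDomain_of_isLocalization p.primeCompl Cp K
  haveI : IsDomain Cp := IsLocalization.isDomain_localization p.primeCompl_le_nonZeroDivisors
  haveI : IsNoetherianRing Cp := IsLocalization.isNoetherianRing p.primeCompl Cp inferInstance
  have hdim : ringKrullDim Cp = 1 := by
    rw [IsLocalization.AtPrime.ringKrullDim_eq_height p Cp, hp]; rfl
  haveI : Ring.KrullDimLE 1 Cp := Ring.krullDimLE_iff.mpr hdim.le
  haveI : Ring.DimensionLEOne Cp := ⟨fun {q} hq0 hq => (@Ring.krullDimLE_one_iff_of_isPrime_bot Cp _ Ideal.isPrime_bot).mp inferInstance q hq0 hq⟩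
  let B := integralClosure Cp K
  haveI : IsDedekindDomain B := (Groth.L02.KrullAkizuki.main (A := Cp) (B := B) K K).1
  haveI : IsFractionRing B K := IsIntegralClosure.isFractionRing_of_finite_extension Cp K K B
  have hmem : ∀ x : K, x ∈ B ↔ ∃ s : C, s ∉ p ∧ IsIntegral C (algebraMap C K s * x) := fun x => by
    constructor
    · intro hx
      obtain ⟨⟨s, hs⟩, h⟩ := IsIntegral.exists_multiple_integral_of_isLocalization p.primeCompl x hx
      exact ⟨s, hs, by simpa [Submonoid.smul_def, Algebra.smul_def] using h⟩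
    · rintro ⟨s, hs, h⟩
      obtain ⟨u, hu⟩ := IsLocalization.map_units Cp (⟨s, hs⟩ : p.primeCompl)
      have h1 : x = algebraMap Cp K (↑u⁻¹ : Cp) * (algebraMap C K s * x) := by
        have h2 : algebraMap Cp K (↑u⁻¹ : Cp) * algebraMap Cp K (algebraMap C Cp s) = 1 := by
          rw [← map_mul, ← show (u : Cp) = algebraMap C Cp s from hu, Units.inv_mul, map_one]
        rw [← IsScalarTower.algebraMap_apply] at h2
        rw [← mul_assoc, h2, one_mul]
      rw [h1]
      exact IsIntegral.mul isIntegral_algebraMap h.tower_top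
  haveI : Algebra.IsIntegral Cp B := IsIntegralClosure.isIntegral_algebra Cp K
  have hinjB : Function.Injective (algebraMap Cp B) := fun a b h =>
    IsFractionRing.injective Cp K (congrArg Subtype.val h)
  have hnf : ¬ IsField B := fun hf => by
    have h1 : IsField Cp := isField_of_isIntegral_of_isField hinjB hf
    rw [ringKrullDim_eq_zero_of_isField h1] at hdim
    exact zero_ne_one hdim
  haveI : IsLocalRing B := by
    obtain ⟨M₀, hM₀⟩ := Ideal.exists_maximal B
    refine IsLocalRing.of_unique_max_ideal ⟨M₀, hM₀, fun M hM => ?_⟩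
    have hA' : ∀ a : A', algebraMap A' K a ∈ B := fun a =>
      (hmem _).mpr ⟨1, fun h => p.ne_top_iff_one.mp (inferInstance : p.IsPrime).ne_top h, by
        rw [map_one, one_mul]; exact (IsIntegralClosure.isIntegral C K a).map (IsScalarTower.toAlgHom C A' K)⟩
    let κ : A' →+* B := (algebraMap A' K).codRestrict B.toSubring hA'
    have hover : ∀ (M : Ideal B), M.IsMaximal → (M.comap κ).comap (algebraMap C A') = p := by
      intro M hM
      have h1 : M.comap (algebraMap Cp B) = maximalIdeal Cp :=
        eq_maximalIdeal (Ideal.isMaximal_comap_of_isIntegral_of_isMaximal M)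
      ext c
      have h3 : c ∈ p ↔ algebraMap Cp B (algebraMap C Cp c) ∈ M := by
        rw [← Ideal.mem_comap, h1, IsLocalization.AtPrime.to_map_mem_maximal_iff Cp p]
      rw [h3]
      have h4 : κ (algebraMap C A' c) = algebraMap Cp B (algebraMap C Cp c) :=
        Subtype.ext ((IsScalarTower.algebraMap_apply C A' K c).symm.trans
          (IsScalarTower.algebraMap_apply C Cp K c))
      rw [← h4]
      rfl
    have hPQ : M.comap κ = M₀.comap κ :=
      huniq _ _ (Ideal.IsPrime.comap _) (Ideal.IsPrime.comap _) (hover M hM) (hover M₀ hM₀)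
    refine hM.eq_of_le hM₀.ne_top fun b hb => ?_
    obtain ⟨s, hs, h⟩ := (hmem b).mp b.2
    let a : A' := IsIntegralClosure.mk' A' _ h
    let sB : B := algebraMap Cp B (algebraMap C Cp s)
    have hsb : κ a = sB * b := Subtype.ext (by
      show algebraMap A' K a = algebraMap Cp K (algebraMap C Cp s) * (b : K)
      rw [← IsScalarTower.algebraMap_apply C Cp K]
      exact IsIntegralClosure.algebraMap_mk' A' _ h)
    have ha : a ∈ M₀.comap κ := hPQ ▸ (show κ a ∈ M by rw [hsb]; exact M.mul_mem_left _ hb)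
    have hu : IsUnit sB := (IsLocalization.map_units Cp (⟨s, hs⟩ : p.primeCompl)).map _
    rw [Ideal.mem_comap, hsb] at ha
    exact (Ideal.unit_mul_mem_iff_mem _ hu).mp ha
  haveI : IsDiscreteValuationRing B :=
    ((IsDiscreteValuationRing.TFAE B hnf).out 0 2 (a := IsDiscreteValuationRing B) (b := IsDedekindDomain B)).mpr inferInstance
  let V : ValuationSubring K :=
    { B.toSubring with
      mem_or_inv_mem' := fun x => by
        obtain ⟨c, hc⟩ | ⟨c, hc⟩ := ValuationRing.isInteger_or_isInteger B (K := K) x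
        · exact Or.inl (hc ▸ c.2)
        · exact Or.inr (hc ▸ c.2) }
  exact ⟨V, (inferInstance : IsDiscreteValuationRing B), hmem⟩

end Groth.L01.MoriAux
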