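import Groth.Agent.L01.AnalUnram
import Mathlib.RingTheory.TensorProduct.Maps
import Mathlib.RingTheory.IntegralClosure.IsIntegralClosure.Basic

/-!
A Noetherian local domain inside the product of the residue fields of the minimal primes of its completion.
-/

set_option linter.style.haveILetI false

universe u

namespace Groth.L01.MoriCompletion

open IsLocalRing TensorProduct

variable (A : Type u) [CommRing A] [IsDomain A] [IsLocalRing A] [IsNoetherianRing A]

local notation "Ah" => AdicCompletion (maximalIdeal A) A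
local notation "K" => FractionRing A

theorem isNoetherianRing_Ah : IsNoetherianRing Ah := Groth.L01.AnalUnram.isNoetherianRing_completion A

theorem faithfullyFlat_Ah : Module.FaithfullyFlat A Ah := by
  haveI : IsLocalHom (algebraMap A Ah) := ⟨fun r hr => by
    by_contra h
    have h1 : algebraMap A Ah r ∈ maximalIdeal Ah := by
      rw [← Groth.L01.AnalUnram.completion_map_maximalIdeal]
      exact Ideal.mem_map_of_mem _ h
    exact h1 hr⟩
  exact Module.FaithfullyFlat.of_flat_of_isLocalHom

/-- The index set: minimal primes of the completion. -/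
abbrev Idx := {P : Ideal Ah // P ∈ minimalPrimes Ah}

instance (i : Idx A) : i.1.IsPrime := Ideal.minimalPrimes_isPrime i.2

theorem finite_Idx : Finite (Idx A) :=
  haveI := isNoetherianRing_Ah A
  (minimalPrimes.finite_of_isNoetherianRing Ah).to_subtype

/-- The fields. -/
abbrev F (i : Idx A) : Type u := FractionRing (Ah ⧸ i.1)

theorem base_ne_zero (i : Idx A) (r : A) (hr : algebraMap A (F A i) r = 0) : r = 0 := by
  by_contra hr0
  haveI := faithfullyFlat_Ah A
  rw [IsScalarTower.algebraMap_apply A (Ah ⧸ i.1) (F A i), map_eq_zero_iff _ (IsFractionRing.injective _ _),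
    IsScalarTower.algebraMap_apply A Ah (Ah ⧸ i.1), Ideal.Quotient.algebraMap_eq,
    Ideal.Quotient.eq_zero_iff_mem] at hr
  refine (Ideal.disjoint_nonZeroDivisors_of_mem_minimalPrimes i.2).le_bot ⟨hr, ?_⟩
  rw [SetLike.mem_coe, mem_nonZeroDivisors_iff_right]
  intro z hz
  have h1 : IsSMulRegular A r := isSMulRegular_iff_right_eq_zero_of_smul.mpr fun a ha =>
    (mul_eq_zero.mp ha).resolve_left hr0
  refine (IsSMulRegular.of_flat (S := Ah) h1).right_eq_zero_of_smul ?_
  simpa [Algebra.smul_def, mul_comm] using hz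

/-- The map of the fraction field into a factor. -/
noncomputable def φ (i : Idx A) : K →ₐ[A] F A i :=
  IsFractionRing.liftAlgHom
    (show Function.Injective (Algebra.ofId A (F A i)) from
      (injective_iff_map_eq_zero _).mpr (base_ne_zero A i))

/-- The comparison map. -/
noncomputable def θ (S : Subalgebra A K) (i : Idx A) : S ⊗[A] Ah →ₐ[A] F A i :=
  Algebra.TensorProduct.productMap ((φ A i).comp S.val) (IsScalarTower.toAlgHom A Ah (F A i))

theorem θ_tmul (S : Subalgebra A K) (i : Idx A) (a : S) (α : Ah) :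
    θ A S i (a ⊗ₜ α) = φ A i a * algebraMap Ah (F A i) α := by
  simp [θ]

/-- Elements of the tensor product vanishing in all factors are nilpotent. -/
theorem isNilpotent_of_θ_eq_zero (S : Subalgebra A K) {z : S ⊗[A] Ah}
    (hz : ∀ i, θ A S i z = 0) : IsNilpotent z := by
  haveI := faithfullyFlat_Ah A
  haveI := isNoetherianRing_Ah A
  obtain ⟨d, hd0, a, ha⟩ : ∃ d : A, d ≠ 0 ∧ ∃ a : Ah, d • z = (1 : S) ⊗ₜ[A] a := by
    clear hz
    induction z using TensorProduct.induction_on with
    | zero => exact ⟨1, one_ne_zero, 0, by simp⟩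
    | tmul r a =>
      obtain ⟨c, d, hd, hcd⟩ := IsFractionRing.div_surjective (A := A) (r : K)
      refine ⟨d, nonZeroDivisors.ne_zero hd, c • a, ?_⟩
      rw [← TensorProduct.smul_tmul, ← TensorProduct.smul_tmul']
      rw [TensorProduct.smul_tmul']
      congr 1
      apply Subtype.ext
      rw [SetLike.val_smul, SetLike.val_smul, OneMemClass.coe_one, Algebra.smul_def, Algebra.smul_def, ← hcd,
        mul_one, mul_div_cancel₀]
      exact (map_ne_zero_iff _ (IsFractionRing.injective A K)).mpr (nonZeroDivisors.ne_zero hd)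
    | add v w hv hw =>
      obtain ⟨d, hd, a, ha⟩ := hv
      obtain ⟨e, he, b, hb⟩ := hw
      refine ⟨d * e, mul_ne_zero hd he, e • a + d • b, ?_⟩
      rw [TensorProduct.tmul_add, TensorProduct.tmul_smul, TensorProduct.tmul_smul, ← ha, ← hb,
        smul_add, smul_smul, smul_smul, mul_comm e d]
  have ha0 : IsNilpotent a := by
    have hmem : a ∈ sInf (minimalPrimes Ah) := by
      rw [Submodule.mem_sInf]
      intro Q hQ
      have h2 : θ A S ⟨Q, hQ⟩ (d • z) = 0 := by rw [map_smul, hz, smul_zero]
      rw [ha, θ_tmul, OneMemClass.coe_one, map_one, one_mul,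
        IsScalarTower.algebraMap_apply Ah (Ah ⧸ Q) (F A ⟨Q, hQ⟩),
        map_eq_zero_iff _ (IsFractionRing.injective _ _), Ideal.Quotient.algebraMap_eq,
        Ideal.Quotient.eq_zero_iff_mem] at h2
      exact h2
    rw [minimalPrimes, Ideal.sInf_minimalPrimes] at hmem
    exact hmem
  obtain ⟨m, hm⟩ := ha0
  refine ⟨m, ?_⟩
  have h3 : d ^ m • z ^ m = 0 := by
    rw [← smul_pow, ha, Algebra.TensorProduct.tmul_pow, hm, TensorProduct.tmul_zero]
  have hreg : IsSMulRegular (S ⊗[A] Ah) (d ^ m) := by
    intro v w hvw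
    refine Module.Flat.rTensor_preserves_injective_linearMap (M := Ah) (LinearMap.lsmul A S (d ^ m))
      (fun a b h => Subtype.ext (mul_left_cancel₀
        ((map_ne_zero_iff _ (IsFractionRing.injective A K)).mpr (pow_ne_zero m hd0))
        (by simpa [Algebra.smul_def] using congrArg Subtype.val h))) ?_
    have : LinearMap.rTensor Ah (LinearMap.lsmul A S (d ^ m)) = LinearMap.lsmul A _ (d ^ m) := by
      ext a' b'; simp [TensorProduct.smul_tmul']
    rw [this]
    exact hvw
  exact hreg.right_eq_zero_of_smul h3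

/-- An element of the fraction field is integral once its images are. -/
theorem isIntegral_of_forall {t : K} (ht : ∀ i, IsIntegral (Ah ⧸ i.1) (φ A i t)) : IsIntegral A t := by
  classical
  haveI := faithfullyFlat_Ah A
  haveI := isNoetherianRing_Ah A
  haveI := finite_Idx A
  haveI := Fintype.ofFinite (Idx A)
  let S : Subalgebra A K := Algebra.adjoin A {t}
  let τ : S := ⟨t, Algebra.subset_adjoin rfl⟩
  have hint : ∀ i, ∃ P : Polynomial Ah, P.Monic ∧ Polynomial.aeval (φ A i t) P = 0 := fun i => by
    obtain ⟨q, hq, hq0⟩ := ht i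
    obtain ⟨P, hP, -, hPm⟩ := Polynomial.lifts_and_degree_eq_and_monic
      (Polynomial.map_surjective (Ideal.Quotient.mk i.1) Ideal.Quotient.mk_surjective q) hq
    refine ⟨P, hPm, ?_⟩
    rw [Polynomial.aeval_def, IsScalarTower.algebraMap_eq Ah (Ah ⧸ i.1) (F A i), ← Polynomial.eval₂_map,
      Ideal.Quotient.algebraMap_eq, hP]
    exact hq0
  choose P hPm hP0 using hint
  let e := Algebra.TensorProduct.comm A Ah S
  let T : Ah ⊗[A] S := (1 : Ah) ⊗ₜ τ
  have h0 : ∀ i, θ A S i (e (Polynomial.aeval T (∏ j, P j))) = 0 := fun i => by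
    let g : Ah ⊗[A] S →ₐ[Ah] F A i := Algebra.TensorProduct.lift (Algebra.ofId Ah (F A i))
      ((φ A i).comp S.val) fun _ _ => Commute.all _ _
    have hg : ∀ w, θ A S i (e w) = g w := fun w => by
      induction w using TensorProduct.induction_on with
      | zero => simp
      | tmul α s => simp [e, g, θ_tmul, mul_comm]
      | add v w hv hw => simp [hv, hw]
    rw [hg, ← Polynomial.aeval_algHom_apply, map_prod]
    apply Finset.prod_eq_zero (Finset.mem_univ i)
    have : g T = φ A i t := by simp [g, T, τ]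
    rw [this, hP0]
  obtain ⟨m, hm⟩ := isNilpotent_of_θ_eq_zero A S h0
  have hTint : IsIntegral Ah T := by
    refine ⟨(∏ j, P j) ^ m, (Polynomial.monic_prod_of_monic _ _ fun j _ => hPm j).pow m, ?_⟩
    rw [← Polynomial.aeval_def, map_pow]
    apply e.injective
    rw [map_pow, hm, map_zero]
  have htop : Algebra.adjoin Ah {T} = ⊤ := by
    rw [eq_top_iff]
    rintro w -
    induction w using TensorProduct.induction_on with
    | zero => exact zero_mem _
    | add v w hv hw => exact add_mem hv hw
    | tmul α s =>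
      rw [show α ⊗ₜ[A] s = α • ((1 : Ah) ⊗ₜ[A] s) by rw [TensorProduct.smul_tmul', smul_eq_mul, mul_one]]
      refine Subalgebra.smul_mem _ ?_ α
      obtain ⟨s, hs⟩ := s
      induction hs using Algebra.adjoin_induction with
      | mem x hx =>
        obtain rfl : x = t := hx
        exact Algebra.subset_adjoin rfl
      | algebraMap r =>
        have h9 : (1 : Ah) ⊗ₜ[A] (algebraMap A S r) ∈ Algebra.adjoin Ah {T} := by
          rw [Algebra.algebraMap_eq_smul_one, TensorProduct.tmul_smul,
            ← IsScalarTower.algebraMap_smul Ah]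
          exact Subalgebra.smul_mem _ (one_mem _) _
        exact h9
      | add x y hx hy ihx ihy =>
        have h9 := add_mem ihx ihy
        rw [← TensorProduct.tmul_add] at h9
        exact h9
      | mul x y hx hy ihx ihy =>
        have h9 := mul_mem ihx ihy
        rw [Algebra.TensorProduct.tmul_mul_tmul, one_mul] at h9
        exact h9
  haveI : Module.Finite Ah (Ah ⊗[A] S) := by
    refine ⟨?_⟩
    rw [← Algebra.top_toSubmodule, ← htop]
    exact hTint.fg_adjoin_singleton
  haveI : Module.Finite A S := Module.Finite.of_finite_tensorProduct_of_faithfullyFlat Ah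
  exact (IsIntegral.of_finite A τ).map S.val

/-- Each factor has finite normalisation. -/
theorem finite_integralClosure (i : Idx A) : Module.Finite Ah (integralClosure (Ah ⧸ i.1) (F A i)) := by
  haveI := isNoetherianRing_Ah A
  haveI : IsLocalRing (Ah ⧸ i.1) := IsLocalRing.of_surjective' _ Ideal.Quotient.mk_surjective
  haveI := Groth.L01.NagataComplete.isAdicComplete_quotient i.1
  obtain ⟨Λ, _, n, f, hΛ, hinj, hf, -⟩ := Groth.Agent.S0581.result (Ah ⧸ i.1)
  have : Module.Finite (Ah ⧸ i.1) (integralClosure (Ah ⧸ i.1) (F A i)) := Groth.L01.N2.isN1_of_isN2 _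
    (Groth.L01.NagataComplete.isN2_complete_local_domain (Ah ⧸ i.1) f hΛ hinj hf)
  exact Module.Finite.trans (Ah ⧸ i.1) _

theorem isIntegral_φ {t : K} (ht : IsIntegral A t) (i : Idx A) : IsIntegral (Ah ⧸ i.1) (φ A i t) :=
  (ht.map (φ A i)).tower_top

/-- A finite subalgebra generating, over the completion, the same algebra as the integral closure. -/
theorem exists_finite_subalgebra : ∃ C : Subalgebra A K, Module.Finite A C ∧
    (∀ c ∈ C, IsIntegral A c) ∧
    ∀ a : K, IsIntegral A a → ∃ w : C ⊗[A] Ah, ∀ i, θ A C i w = φ A i a := by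
  classical
  haveI := isNoetherianRing_Ah A
  haveI := finite_Idx A
  haveI := Fintype.ofFinite (Idx A)
  haveI := fun i => finite_integralClosure A i
  let W := ∀ i, integralClosure (Ah ⧸ i.1) (F A i)
  let ψ : integralClosure A K → W := fun a i => ⟨φ A i a, isIntegral_φ A a.2 i⟩
  haveI : IsNoetherian Ah W := inferInstance
  obtain ⟨s, hs, hspan⟩ := (Submodule.fg_span_iff_fg_span_finset_subset (Set.range ψ)).mp
    (IsNoetherian.noetherian (Submodule.span Ah (Set.range ψ)))
  choose g hg using fun w : (s : Set W) => hs w.2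
  let C : Subalgebra A K := Algebra.adjoin A (Set.range fun w : (s : Set W) => ((g w : integralClosure A K) : K))
  have hint : ∀ x ∈ Set.range fun w : (s : Set W) => ((g w : integralClosure A K) : K), IsIntegral A x := by
    rintro _ ⟨w, rfl⟩; exact (g w).2
  have hfin : Module.Finite A C := Algebra.finite_adjoin_of_finite_of_isIntegral (Set.finite_range _) hint
  refine ⟨C, hfin, fun c hc => (IsIntegral.of_finite A (⟨c, hc⟩ : C)).map C.val, fun a ha => ?_⟩
  have hmem : ψ ⟨a, ha⟩ ∈ Submodule.span Ah (s : Set W) := hspan ▸ Submodule.subset_span ⟨_, rfl⟩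
  have h2 : ∀ v ∈ Submodule.span Ah (s : Set W), ∃ w : C ⊗[A] Ah, ∀ i, θ A C i w = (v i : F A i) := by
    intro v hv
    induction hv using Submodule.span_induction with
    | mem v hv =>
      refine ⟨(⟨_, Algebra.subset_adjoin ⟨⟨v, hv⟩, rfl⟩⟩ : C) ⊗ₜ 1, fun i => ?_⟩
      rw [θ_tmul, map_one, mul_one]
      exact congrArg Subtype.val (congrFun (hg ⟨v, hv⟩) i)
    | zero => exact ⟨0, fun i => by rw [map_zero]; rfl⟩
    | add x y _ _ hx hy =>
      obtain ⟨w, hw⟩ := hx
      obtain ⟨w', hw'⟩ := hy
      exact ⟨w + w', fun i => by rw [map_add, hw, hw']; rfl⟩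
    | smul α x _ hx =>
      obtain ⟨w, hw⟩ := hx
      refine ⟨((1 : C) ⊗ₜ α) * w, fun i => ?_⟩
      rw [map_mul, hw, θ_tmul, OneMemClass.coe_one, map_one, one_mul, ← Algebra.smul_def]
      rfl
  exact h2 _ hmem

end Groth.L01.MoriCompletion
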