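import Groth.Agent.L01.MoriValuation
import Groth.Agent.L01.MoriCompletion
import Groth.Agent.L01.MoriAux
import Mathlib.RingTheory.Valuation.ValuationSubring
import Mathlib.RingTheory.Valuation.Discrete.IsDiscreteValuationRing
import Mathlib.FieldTheory.IsAlgClosed.AlgebraicClosure
import Mathlib.RingTheory.LocalRing.ResidueField.Ideal
import Mathlib.RingTheory.Ideal.GoingUp

/-!
Mori–Nagata: the integral closure of a Noetherian local domain is a Krull domain, with essential
valuations coming from a finite subalgebra.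
-/

set_option linter.style.haveILetI false

universe u

namespace Groth.L01.MoriNagata

open IsLocalRing TensorProduct Groth.L01.MoriCompletion
open scoped WithZero

variable (A : Type u) [CommRing A] [IsDomain A] [IsLocalRing A] [IsNoetherianRing A]

local notation "Ah" => AdicCompletion (maximalIdeal A) A
local notation "K" => FractionRing A
local notation "A'" => integralClosure A (FractionRing A)

/-- The property of the subalgebra. -/
def Generates (C : Subalgebra A K) : Prop :=
  ∀ a : K, IsIntegral A a → ∃ w : C ⊗[A] Ah, ∀ i, θ A C i w = φ A i a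

variable {A}

theorem comap_injective {C : Subalgebra A K} (hC : C ≤ A') (hgen : Generates A C)
    {Q₁ Q₂ : Ideal A'} [Q₁.IsPrime] [Q₂.IsPrime]
    (h : Q₁.comap (Subalgebra.inclusion hC) = Q₂.comap (Subalgebra.inclusion hC)) : Q₁ = Q₂ := by
  classical
  haveI := faithfullyFlat_Ah A
  let ι : C →ₐ[A] A' := Subalgebra.inclusion hC
  let p : Ideal C := Q₁.comap ι
  haveI : p.IsPrime := Ideal.IsPrime.comap _
  obtain ⟨r, hr⟩ := PrimeSpectrum.comap_surjective_of_faithfullyFlat (A := C) (B := C ⊗[A] Ah)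
    ⟨p, inferInstance⟩
  obtain ⟨I, hI⟩ := r
  haveI := hI
  let Fr := FractionRing ((C ⊗[A] Ah) ⧸ I)
  let L := AlgebraicClosure Fr
  let π : C ⊗[A] Ah →+* L := (algebraMap Fr L).comp
    ((algebraMap ((C ⊗[A] Ah) ⧸ I) Fr).comp (Ideal.Quotient.mk I))
  have hπ : ∀ v, π v = 0 ↔ v ∈ I := fun v => by
    simp only [π, RingHom.comp_apply, map_eq_zero]
    rw [map_eq_zero_iff _ (IsFractionRing.injective ((C ⊗[A] Ah) ⧸ I) Fr), Ideal.Quotient.eq_zero_iff_mem]
  let g : C →+* L := π.comp (algebraMap C (C ⊗[A] Ah))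
  have hgker : RingHom.ker g = p := by
    ext c
    rw [RingHom.mem_ker, show g c = π (algebraMap C (C ⊗[A] Ah) c) from rfl, hπ, ← Ideal.mem_comap,
      show I.comap (algebraMap C (C ⊗[A] Ah)) = p from congrArg PrimeSpectrum.asIdeal hr]
  letI : Algebra A L := (g.comp (algebraMap A C)).toAlgebra
  have hπA : ∀ a : A, π (algebraMap A (C ⊗[A] Ah) a) = algebraMap A L a := fun a => rfl
  let πA : C ⊗[A] Ah →ₐ[A] L := ⟨π, hπA⟩
  let h₀ : Ah →ₐ[A] L := πA.comp Algebra.TensorProduct.includeRight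
  -- extensions to the integral closure
  have hext : ∀ (Q : Ideal A') [Q.IsPrime], Q.comap ι = p →
      ∃ gQ : A' →ₐ[A] L, (∀ c : C, gQ (ι c) = g c) ∧ RingHom.ker gQ = Q := by
    intro Q _ hQ
    letI : Algebra C A' := ι.toRingHom.toAlgebra
    haveI : IsScalarTower A C A' := IsScalarTower.of_algebraMap_eq fun a => (ι.commutes a).symm
    haveI : Algebra.IsIntegral C A' := Algebra.IsIntegral.tower_top (R := A)
    obtain ⟨f, hf, hker⟩ := MoriAux.exists_extension (C := C) (B := A') g Q (hQ.trans hgker.symm)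
    refine ⟨⟨f, fun a => ?_⟩, fun c => RingHom.congr_fun hf c, hker⟩
    rw [show algebraMap A A' a = algebraMap C A' (algebraMap A C a) from
      IsScalarTower.algebraMap_apply A C A' a]
    exact RingHom.congr_fun hf (algebraMap A C a)
  obtain ⟨g₁, hg₁, hk₁⟩ := hext Q₁ rfl
  obtain ⟨g₂, hg₂, hk₂⟩ := hext Q₂ h.symm
  suffices heq : ∀ a, g₁ a = g₂ a by
    rw [← hk₁, ← hk₂]; ext x; simp only [RingHom.mem_ker]; rw [heq]
  intro a
  obtain ⟨w, hw⟩ := hgen a a.2
  let j : C ⊗[A] Ah →ₐ[A] A' ⊗[A] Ah := Algebra.TensorProduct.map ι (AlgHom.id A Ah)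
  have hj : ∀ i v, θ A A' i (j v) = θ A C i v := fun i v => by
    induction v using TensorProduct.induction_on with
    | zero => simp
    | tmul c α => simp [j, θ_tmul, ι]
    | add x y hx hy => simp [hx, hy]
  have hnil : IsNilpotent (j w - (a ⊗ₜ 1)) := by
    refine isNilpotent_of_θ_eq_zero A _ fun i => ?_
    rw [map_sub, hj, hw, θ_tmul, map_one, mul_one, sub_self]
  have hΦ : ∀ gQ : A' →ₐ[A] L, (∀ c : C, gQ (ι c) = g c) → gQ a = πA w := fun gQ hgQ => by
    let Φ : A' ⊗[A] Ah →ₐ[A] L := Algebra.TensorProduct.productMap gQ h₀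
    have h1 : Φ (j w - (a ⊗ₜ 1)) = 0 := (hnil.map Φ).eq_zero
    have h2 : ∀ v, Φ (j v) = πA v := fun v => by
      induction v using TensorProduct.induction_on with
      | zero => simp
      | tmul c α =>
        have h3 : πA (c ⊗ₜ α) = πA (c ⊗ₜ 1) * h₀ α := by
          simp only [h₀, AlgHom.comp_apply, Algebra.TensorProduct.includeRight_apply]
          rw [← map_mul, Algebra.TensorProduct.tmul_mul_tmul, mul_one, one_mul]
        rw [h3]
        simp only [j, Φ, Algebra.TensorProduct.map_tmul, AlgHom.id_apply,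
          Algebra.TensorProduct.productMap_apply_tmul, hgQ]
        rfl
      | add x y hx hy => simp [hx, hy]
    rw [map_sub, h2, sub_eq_zero] at h1
    simpa [Φ] using h1.symm
  rw [hΦ g₁ hg₁, hΦ g₂ hg₂]

/-- The order isomorphism of spectra. -/
theorem height_comap {C : Subalgebra A K} (hC : C ≤ A') (hgen : Generates A C)
    (Q : Ideal A') [Q.IsPrime] : (Q.comap (Subalgebra.inclusion hC)).height = Q.height := by
  classical
  letI : Algebra C A' := (Subalgebra.inclusion hC).toRingHom.toAlgebra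
  haveI : IsScalarTower A C A' :=
    IsScalarTower.of_algebraMap_eq fun a => ((Subalgebra.inclusion hC).commutes a).symm
  haveI : Algebra.IsIntegral C A' := Algebra.IsIntegral.tower_top (R := A)
  haveI : FaithfulSMul C A' := (faithfulSMul_iff_algebraMap_injective _ _).mpr
    (Subalgebra.inclusion_injective hC)
  let f : PrimeSpectrum A' → PrimeSpectrum C := PrimeSpectrum.comap (algebraMap C A')
  have hinj : Function.Injective f := fun x y hxy =>
    PrimeSpectrum.ext (comap_injective hC hgen (congrArg PrimeSpectrum.asIdeal hxy))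
  have hsurj : Function.Surjective f := fun p => by
    obtain ⟨Q, -, hQ, hQp⟩ := Ideal.exists_ideal_over_prime_of_isIntegral (S := A') p.asIdeal ⊥
      (by rw [Ideal.comap_bot_of_injective _ (FaithfulSMul.algebraMap_injective C A')]; exact bot_le)
    exact ⟨⟨Q, hQ⟩, PrimeSpectrum.ext hQp⟩
  have hle : ∀ x y, f x ≤ f y ↔ x ≤ y := fun x y => by
    refine ⟨fun h => ?_, fun h => Ideal.comap_mono h⟩
    obtain ⟨Q', hQ', hQ'p, hQ''⟩ := Ideal.exists_ideal_over_prime_of_isIntegral (S := A') (f y).asIdeal x.asIdeal h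
    exact (show (⟨Q', hQ'p⟩ : PrimeSpectrum A') = y from hinj (PrimeSpectrum.ext hQ'')) ▸ hQ'
  let e : PrimeSpectrum A' ≃o PrimeSpectrum C :=
    { Equiv.ofBijective f ⟨hinj, hsurj⟩ with map_rel_iff' := fun {x y} => hle x y }
  have h := Order.height_orderIso e ⟨Q, inferInstance⟩
  rw [← PrimeSpectrum.height_eq_orderHeight, ← PrimeSpectrum.height_eq_orderHeight] at h
  exact h

theorem mem_localization_iff (C : Subalgebra A K) (hC : C ≤ A') (p : Ideal C) (x : K) :
    (∃ s : C, s ∉ p ∧ IsIntegral C ((s : K) * x)) ↔ ∃ s : C, s ∉ p ∧ IsIntegral A ((s : K) * x) := by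
  haveI : Algebra.IsIntegral A C := ⟨fun c => (isIntegral_algebraMap_iff
    (show Function.Injective (algebraMap C K) from Subtype.val_injective)).mp (hC c.2)⟩
  exact ⟨fun ⟨s, h1, h2⟩ => ⟨s, h1, isIntegral_trans (R := A) _ h2⟩,
    fun ⟨s, h1, h2⟩ => ⟨s, h1, h2.tower_top⟩⟩

/-- At a height one prime the integral closure is a discrete valuation ring. -/
theorem exists_dvr {C : Subalgebra A K} [Module.Finite A C] (hC : C ≤ A') (hgen : Generates A C)
    (p : Ideal C) [p.IsPrime] (hp : p.height = 1) :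
    ∃ V : ValuationSubring K, IsDiscreteValuationRing V ∧
      ∀ x : K, x ∈ V ↔ ∃ s : C, s ∉ p ∧ IsIntegral C ((s : K) * x) := by
  classical
  haveI : IsNoetherianRing C := IsNoetherianRing.of_finite A C
  haveI : IsFractionRing C K := by
    refine IsFractionRing.of_field C K fun z => ?_
    obtain ⟨a, b, -, rfl⟩ := IsFractionRing.div_surjective (A := A) z
    exact ⟨algebraMap A C a, algebraMap A C b, rfl⟩
  letI : Algebra C A' := (Subalgebra.inclusion hC).toRingHom.toAlgebra
  haveI : IsScalarTower C A' K := IsScalarTower.of_algebraMap_eq fun c => rfl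
  haveI : Algebra.IsIntegral A C := Algebra.IsIntegral.of_finite A C
  haveI : IsIntegralClosure A' C K :=
    { algebraMap_injective := Subtype.val_injective
      isIntegral_iff := fun {x} => ⟨fun hx => ⟨⟨x, isIntegral_trans (R := A) x hx⟩, rfl⟩,
        by rintro ⟨y, rfl⟩; exact IsIntegral.tower_top (R := A) y.2⟩ }
  have hu : ∀ (Q₁ Q₂ : Ideal A'), Q₁.IsPrime → Q₂.IsPrime → Q₁.comap (algebraMap C A') = p →
      Q₂.comap (algebraMap C A') = p → Q₁ = Q₂ := fun Q₁ Q₂ h₁ h₂ e₁ e₂ => by
    haveI := h₁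
    haveI := h₂
    exact comap_injective hC hgen (e₁.trans e₂.symm)
  exact MoriAux.exists_dvr p hp hu

/-- Integrality is detected at the height one primes. -/
theorem mem_of_forall {C : Subalgebra A K} (hC : C ≤ A') (hgen : Generates A C) (x : K)
    (hx : ∀ (p : Ideal C) [p.IsPrime], p.height = 1 → ∃ s : C, s ∉ p ∧ IsIntegral A ((s : K) * x)) :
    IsIntegral A x := by
  classical
  haveI := finite_Idx A
  haveI := isNoetherianRing_Ah A
  haveI := finite_integralClosure A
  by_contra hxA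
  obtain ⟨a, b, hb, hab⟩ := IsFractionRing.div_surjective (A := A) x
  have hb0 : b ≠ 0 := nonZeroDivisors.ne_zero hb
  -- the normalised factors
  haveI : ∀ i, IsNoetherianRing (integralClosure (Ah ⧸ i.1) (F A i)) := fun i =>
    IsNoetherianRing.of_finite Ah _
  haveI : ∀ i, IsFractionRing (integralClosure (Ah ⧸ i.1) (F A i)) (F A i) := fun i =>
    IsIntegralClosure.isFractionRing_of_finite_extension (Ah ⧸ i.1) (F A i) (F A i) _
  haveI : ∀ i, IsIntegrallyClosed (integralClosure (Ah ⧸ i.1) (F A i)) := fun i =>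
    (isIntegrallyClosed_iff (F A i)).mpr fun {z} hz =>
      ⟨⟨z, isIntegral_trans (R := Ah ⧸ i.1) z hz⟩, rfl⟩
  have hbK : algebraMap A K b ≠ 0 := (map_ne_zero_iff _ (IsFractionRing.injective A K)).mpr hb0
  have hbx : algebraMap A K b * x = algebraMap A K a := by rw [← hab, mul_div_cancel₀ _ hbK]
  have hval : ∀ i : Idx A, ∃ (ι : Type u) (_ : Finite ι) (w : ι → Valuation (F A i) ℤᵐ⁰),
      (∀ (k : ι) (t : K), IsIntegral A t → w k (φ A i t) ≤ 1) ∧
      ∀ (m : ℕ) (t : K), IsIntegral A (algebraMap A K b ^ m * t) →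
        (∀ k, w k (φ A i t) ≤ 1) → IsIntegral (Ah ⧸ i.1) (φ A i t) := fun i => by
    let β : integralClosure (Ah ⧸ i.1) (F A i) :=
      ⟨φ A i (algebraMap A K b), isIntegral_φ A isIntegral_algebraMap i⟩
    have hβ0 : β ≠ 0 := fun h => hbK ((map_eq_zero _).mp (congrArg Subtype.val h))
    obtain ⟨ι, hι, w, hw1, hw2⟩ := MoriAux.exists_valuations (F := F A i) hβ0
    refine ⟨ι, hι, w, fun k t ht => hw1 k ⟨φ A i t, isIntegral_φ A ht i⟩, fun m t ht hk => ?_⟩
    obtain ⟨d, hd⟩ := hw2 m ⟨_, isIntegral_φ A ht i⟩ (φ A i t) (by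
      rw [map_pow]
      change φ A i (algebraMap A K b ^ m * t) = φ A i (algebraMap A K b) ^ m * φ A i t
      rw [map_mul, map_pow]) hk
    rw [← hd]
    exact d.2
  choose ι hι w hw1 hw2 using hval
  let J := Σ i, ι i
  haveI := hι
  let v : J → Valuation K ℤᵐ⁰ := fun j => (w j.1 j.2).comap (φ A j.1).toRingHom
  have hB : ∀ j (c : A'), v j (algebraMap A' K c) ≤ 1 := fun j c => hw1 j.1 j.2 c.1 c.2
  -- Hartogs in each factor
  have hmem : ∀ (m : ℕ) (c : A'), (∀ j, v j (x ^ m * algebraMap A' K c) ≤ 1) →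
      x ^ m * algebraMap A' K c ∈ (algebraMap A' K).range := by
    intro m c hc
    refine ⟨⟨_, isIntegral_of_forall A fun i => hw2 i m _ ?_ fun k => hc ⟨i, k⟩⟩, rfl⟩
    rw [← mul_assoc, ← mul_pow, hbx]
    exact IsIntegral.mul (IsIntegral.pow isIntegral_algebraMap m) c.2
  -- the conductor
  let Dx : Ideal A' := Submodule.comap (LinearMap.toSpanSingleton A' K x)
    (LinearMap.range (Algebra.linearMap A' K))
  have hDx : ∀ c, c ∈ Dx ↔ algebraMap A' K c * x ∈ (algebraMap A' K).range := fun c => Iff.rfl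
  have hne : Dx ≠ ⊤ := fun h => by
    obtain ⟨d, hd⟩ := (hDx 1).mp (h ▸ Submodule.mem_top)
    rw [map_one, one_mul] at hd
    exact hxA (hd ▸ d.2)
  obtain ⟨Q, hQ⟩ := Ideal.nonempty_minimalPrimes hne
  haveI := hQ.1.1
  haveI : IsFractionRing A' K := IsIntegralClosure.isFractionRing_of_finite_extension A K K _
  have hQ1 : Q.height ≤ 1 := MoriValuation.height_le_one v hB x hmem hDx hQ
  have hQ0 : Q.height ≠ 0 := fun h => by
    have h4 : Q ∈ minimalPrimes A' := Ideal.height_eq_zero_iff.mp h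
    rw [IsDomain.minimalPrimes_eq_singleton_bot] at h4
    have hbD : algebraMap A A' b ∈ Dx := (hDx _).mpr ⟨algebraMap A A' a, by
      show algebraMap A K a = algebraMap A K b * x
      rw [← hab, mul_div_cancel₀ _ ((map_ne_zero_iff _ (IsFractionRing.injective A K)).mpr hb0)]⟩
    have h5 := hQ.1.2 hbD
    rw [show Q = ⊥ from h4, Ideal.mem_bot] at h5
    exact hb0 (IsFractionRing.injective A K (by rw [map_zero]; exact congrArg Subtype.val h5))
  haveI : (Q.comap (Subalgebra.inclusion hC)).IsPrime := Ideal.IsPrime.comap _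
  obtain ⟨s, hs, hsx⟩ := hx (Q.comap (Subalgebra.inclusion hC)) (by
    rw [height_comap hC hgen Q]
    exact le_antisymm hQ1 (Order.one_le_iff_pos.mpr (pos_iff_ne_zero.mpr hQ0)))
  exact hs (hQ.1.2 ((hDx _).mpr ⟨⟨_, hsx⟩, rfl⟩))

theorem main : ∃ C : Subalgebra A K, Module.Finite A C ∧
    (∀ (p : Ideal C) [p.IsPrime], p.height = 1 →
      ∃ V : ValuationSubring K, IsDiscreteValuationRing V ∧
        ∀ x : K, x ∈ V ↔ ∃ s : C, s ∉ p ∧ IsIntegral C ((s : K) * x)) ∧
    (∀ x : K, x ∈ A' ↔
      ∀ (p : Ideal C) [p.IsPrime], p.height = 1 → ∃ s : C, s ∉ p ∧ IsIntegral C ((s : K) * x)) ∧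
    (∀ x : K, {p : Ideal C | p.IsPrime ∧ p.height = 1 ∧
      ¬ ∃ s : C, s ∉ p ∧ IsIntegral C ((s : K) * x)}.Finite) := by
  classical
  obtain ⟨C, hfin, hC, hgen⟩ := exists_finite_subalgebra A
  haveI := hfin
  have hC' : C ≤ A' := hC
  refine ⟨C, hfin, fun p _ hp => exists_dvr hC' hgen p hp, fun x => ⟨fun hx p _ _ => ?_, fun h => ?_⟩,
    fun x => ?_⟩
  · exact ⟨1, fun h => p.ne_top_iff_one.mp (inferInstance : p.IsPrime).ne_top h, by
      rw [OneMemClass.coe_one, one_mul]; exact IsIntegral.tower_top (R := A) hx⟩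
  · exact mem_of_forall hC' hgen x fun p _ hp => (mem_localization_iff C hC' p x).mp (h p hp)
  · haveI : IsNoetherianRing C := IsNoetherianRing.of_finite A C
    obtain ⟨a, b, hb, hab⟩ := IsFractionRing.div_surjective (A := A) x
    refine (Ideal.finite_minimalPrimes_of_isNoetherianRing C (Ideal.span {algebraMap A C b})).subset ?_
    rintro p ⟨hp, hp1, hpn⟩
    have hb0 : algebraMap A K b ≠ 0 :=
      (map_ne_zero_iff _ (IsFractionRing.injective A K)).mpr (nonZeroDivisors.ne_zero hb)
    have hbp : algebraMap A C b ∈ p := by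
      by_contra hbp
      refine hpn ⟨_, hbp, ?_⟩
      show IsIntegral C (algebraMap A K b * x)
      rw [← hab, mul_div_cancel₀ _ hb0]
      exact IsIntegral.tower_top (R := A) isIntegral_algebraMap
    refine ⟨⟨hp, (Ideal.span_singleton_le_iff_mem _).mpr hbp⟩, fun Q hQ hQp => ?_⟩
    haveI := hQ.1
    rcases eq_or_lt_of_le hQp with h | h
    · exact h.ge
    · exfalso
      have h1 : Q.height < 1 := by
        rw [show (1 : ℕ∞) = ((1 : ℕ) : ℕ∞) from rfl]
        exact Ideal.height_le_iff.mp (by rw [hp1]; exact le_rfl) Q inferInstance h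
      have h4 : Q ∈ minimalPrimes C := Ideal.height_eq_zero_iff.mp (Order.lt_one_iff.mp h1)
      rw [IsDomain.minimalPrimes_eq_singleton_bot] at h4
      have h5 := hQ.2 (Ideal.mem_span_singleton_self (algebraMap A C b))
      rw [show Q = ⊥ from h4, Ideal.mem_bot] at h5
      exact hb0 (congrArg Subtype.val h5)

end Groth.L01.MoriNagata
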