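import Groth.Agent.L01.MoriNagata
import Mathlib.RingTheory.QuasiFinite.Basic

/-!
The integral closure of a Noetherian local domain is semilocal with finite residue extensions.
-/

set_option linter.style.haveILetI false

universe u

namespace Groth.L01.MoriSemilocal

open IsLocalRing TensorProduct Groth.L01.MoriCompletion Groth.L01.MoriNagata

variable {A : Type u} [CommRing A] [IsDomain A] [IsLocalRing A] [IsNoetherianRing A]

local notation "Ah" => AdicCompletion (maximalIdeal A) A
local notation "K" => FractionRing A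
local notation "A'" => integralClosure A (FractionRing A)

theorem apply_eq {S T B : Type u} [CommRing S] [Algebra A S] [CommRing T] [IsReduced T] [Algebra A T]
    [CommRing B] [Algebra A B] (f : S →ₐ[A] T) (ψ : B →ₐ[A] T) {v : S ⊗[A] B} {a : S}
    (hn : IsNilpotent (v - a ⊗ₜ[A] 1)) : Algebra.TensorProduct.productMap f ψ v = f a := by
  have h := (hn.map (Algebra.TensorProduct.productMap f ψ)).eq_zero
  rw [map_sub, Algebra.TensorProduct.productMap_apply_tmul, map_one, mul_one, sub_eq_zero] at h
  exact h

/-- Generic form: modulo every maximal ideal an element comes from the subalgebra. -/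
theorem exists_congr_aux {C S : Type u} [CommRing C] [Algebra A C] [CommRing S] [Algebra A S]
    [Algebra.IsIntegral A S] (ι : C →ₐ[A] S) (w : C ⊗[A] Ah) (a : S)
    (hn : IsNilpotent (Algebra.TensorProduct.map ι (AlgHom.id A Ah) w - a ⊗ₜ[A] 1)) :
    ∃ c : C, ∀ Q : Ideal S, Q.IsMaximal → a - ι c ∈ Q := by
  classical
  have hres : ∀ α : Ah, ∃ r : A, Ideal.Quotient.mk (maximalIdeal A) r = AdicCompletion.evalOneₐ (maximalIdeal A) α :=
    fun α => Ideal.Quotient.mk_surjective _
  choose r hr using hres
  have hc : ∃ c : C, ∀ (T : Type u) [CommRing T] [Algebra A T] (f : S →ₐ[A] T) (ψ : Ah →ₐ[A] T),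
      (∀ α, ψ α = algebraMap A T (r α)) →
        Algebra.TensorProduct.productMap f ψ (Algebra.TensorProduct.map ι (AlgHom.id A Ah) w) = f (ι c) := by
    clear hn
    induction w using TensorProduct.induction_on with
    | zero => exact ⟨0, fun T _ _ f ψ _ => by simp⟩
    | tmul c α =>
      refine ⟨r α • c, fun T _ _ f ψ hψ => ?_⟩
      rw [Algebra.TensorProduct.map_tmul, AlgHom.id_apply, Algebra.TensorProduct.productMap_apply_tmul,
        hψ, map_smul, map_smul, Algebra.smul_def, mul_comm]
    | add x y hx hy =>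
      obtain ⟨c, hc⟩ := hx
      obtain ⟨d, hd⟩ := hy
      exact ⟨c + d, fun T _ _ f ψ hψ => by
        rw [map_add, map_add, hc T f ψ hψ, hd T f ψ hψ, map_add, map_add]⟩
  obtain ⟨c, hc⟩ := hc
  refine ⟨c, fun Q hQmax => ?_⟩
  haveI := hQmax
  have hQ : ∀ x ∈ maximalIdeal A, Algebra.ofId A (S ⧸ Q) x = 0 := fun x hx => by
    rw [← eq_maximalIdeal (Ideal.isMaximal_comap_of_isIntegral_of_isMaximal (R := A) Q)] at hx
    exact Ideal.Quotient.eq_zero_iff_mem.mpr hx
  let ψ : Ah →ₐ[A] S ⧸ Q := (Ideal.Quotient.liftₐ (maximalIdeal A) (Algebra.ofId A (S ⧸ Q)) hQ).comp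
    (AdicCompletion.evalOneₐ (maximalIdeal A))
  have hψ : ∀ α, ψ α = algebraMap A (S ⧸ Q) (r α) := fun α => by
    show Ideal.Quotient.liftₐ (maximalIdeal A) (Algebra.ofId A (S ⧸ Q)) hQ
      (AdicCompletion.evalOneₐ (maximalIdeal A) α) = _
    rw [← hr α]
    rfl
  haveI : IsDomain (S ⧸ Q) := Ideal.Quotient.isDomain Q
  exact Ideal.Quotient.eq.mp
    ((apply_eq (T := S ⧸ Q) (Ideal.Quotient.mkₐ A Q) ψ hn).symm.trans
      (hc (S ⧸ Q) (Ideal.Quotient.mkₐ A Q) ψ hψ))

/-- Modulo a maximal ideal, every element comes from the finite subalgebra. -/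
theorem exists_congr {C : Subalgebra A K} (hC : C ≤ A') (hgen : Generates A C) (a : A') :
    ∃ c : C, ∀ (Q : Ideal A'), Q.IsMaximal → a - Subalgebra.inclusion hC c ∈ Q := by
  obtain ⟨w, hw⟩ := hgen a a.2
  let j : C ⊗[A] Ah →ₐ[A] A' ⊗[A] Ah := Algebra.TensorProduct.map (Subalgebra.inclusion hC) (AlgHom.id A Ah)
  have hj : ∀ i v, θ A A' i (j v) = θ A C i v := fun i v => by
    induction v using TensorProduct.induction_on with
    | zero => simp
    | tmul c α => simp [j, θ_tmul]
    | add x y hx hy => simp [hx, hy]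
  refine exists_congr_aux _ w a (isNilpotent_of_θ_eq_zero A _ fun i => ?_)
  rw [map_sub, hj, hw, θ_tmul, map_one, mul_one, sub_self]

theorem local_case : {M : Ideal A' | M.IsMaximal}.Finite ∧
    ∀ M : Ideal A', M.IsMaximal → Module.Finite A (A' ⧸ M) := by
  classical
  obtain ⟨C, hfin, hC₀, hgen⟩ := exists_finite_subalgebra A
  haveI := hfin
  have hC : C ≤ A' := hC₀
  letI : Algebra C A' := (Subalgebra.inclusion hC).toRingHom.toAlgebra
  haveI : IsScalarTower A C A' :=
    IsScalarTower.of_algebraMap_eq fun a => ((Subalgebra.inclusion hC).commutes a).symm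
  haveI : Algebra.IsIntegral C A' := Algebra.IsIntegral.tower_top (R := A)
  refine ⟨?_, fun M hM => ?_⟩
  · refine Set.Finite.of_finite_image (f := fun M : Ideal A' => M.comap (algebraMap C A')) ?_ ?_
    · refine ((Algebra.QuasiFinite.finite_primesOver (S := C) (maximalIdeal A))).subset ?_
      rintro _ ⟨M, hM, rfl⟩
      haveI : M.IsMaximal := hM
      refine ⟨Ideal.IsPrime.comap _, ⟨?_⟩⟩
      rw [Ideal.under_def, Ideal.comap_comap, ← IsScalarTower.algebraMap_eq]
      exact (eq_maximalIdeal (Ideal.isMaximal_comap_of_isIntegral_of_isMaximal (R := A) M)).symm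
    · intro M hM N hN h
      haveI : M.IsMaximal := hM
      haveI : N.IsMaximal := hN
      exact comap_injective hC hgen h
  · have hs : Function.Surjective
        ((Ideal.Quotient.mkₐ A M).comp (Subalgebra.inclusion hC)).toLinearMap := fun z => by
      obtain ⟨a, rfl⟩ := Ideal.Quotient.mk_surjective z
      obtain ⟨c, hc⟩ := exists_congr hC hgen a
      exact ⟨c, (Ideal.Quotient.eq.mpr (hc M hM)).symm⟩
    exact Module.Finite.of_surjective _ hs

end Groth.L01.MoriSemilocal

namespace Groth.L01.MoriSemilocal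

open IsLocalRing

/-- The local case, in any fraction field. -/
theorem local_case' (R L : Type u) [CommRing R] [IsDomain R] [IsLocalRing R] [IsNoetherianRing R]
    [Field L] [Algebra R L] [IsFractionRing R L] :
    {M : Ideal (integralClosure R L) | M.IsMaximal}.Finite ∧
      ∀ M : Ideal (integralClosure R L), M.IsMaximal → Module.Finite R (integralClosure R L ⧸ M) := by
  obtain ⟨hfin, hres⟩ := local_case (A := R)
  let e : FractionRing R ≃ₐ[R] L := IsLocalization.algEquiv (nonZeroDivisors R) _ _
  let g : integralClosure R (FractionRing R) ≃ₐ[R] integralClosure R L := e.mapIntegralClosure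
  constructor
  · refine (hfin.image fun N => N.comap g.symm.toRingEquiv).subset fun M hM => ?_
    haveI : M.IsMaximal := hM
    refine ⟨M.comap g.toRingEquiv, Ideal.comap_isMaximal_of_surjective _ g.surjective, ?_⟩
    ext z
    simp
  · intro M hM
    haveI := hM
    have h := hres (M.comap g.toAlgHom) (Ideal.comap_isMaximal_of_surjective _ g.surjective)
    refine Module.Finite.of_surjective
      (Ideal.Quotient.liftₐ (M.comap g.toAlgHom) ((Ideal.Quotient.mkₐ R M).comp g.toAlgHom)
        fun x hx => Ideal.Quotient.eq_zero_iff_mem.mpr hx).toLinearMap fun z => ?_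
    obtain ⟨y, rfl⟩ := Ideal.Quotient.mk_surjective z
    obtain ⟨x, rfl⟩ := g.surjective y
    exact ⟨Ideal.Quotient.mk _ x, rfl⟩

/-- Maximal ideals over a maximal ideal of the base. -/
theorem over_maximal (R L : Type u) [CommRing R] [IsDomain R] [IsNoetherianRing R]
    [Field L] [Algebra R L] [IsFractionRing R L] (m : Ideal R) [m.IsMaximal] :
    {Q : Ideal (integralClosure R L) | Q.IsMaximal ∧ Q.comap (algebraMap R (integralClosure R L)) = m}.Finite ∧
    ∀ Q : Ideal (integralClosure R L), Q.IsMaximal → Q.comap (algebraMap R (integralClosure R L)) = m →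
      Module.Finite R (integralClosure R L ⧸ Q) := by
  classical
  let Rm := Localization.AtPrime m
  let ψ : Rm →ₐ[R] L := IsLocalization.liftAlgHom (M := m.primeCompl) (f := Algebra.ofId R L) fun s =>
    isUnit_iff_ne_zero.mpr fun h => s.2 (by
      rw [show (s : R) = 0 from IsFractionRing.injective R L (by rw [map_zero]; exact h)]
      exact zero_mem _)
  letI : Algebra Rm L := ψ.toRingHom.toAlgebra
  haveI : IsScalarTower R Rm L := IsScalarTower.of_algebraMap_eq fun c => (ψ.commutes c).symm
  haveI : IsFractionRing Rm L := IsFractionRing.isFractionRing_of_isDomain_of_isLocalization m.primeCompl Rm L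
  haveI : IsDomain Rm := IsLocalization.isDomain_localization m.primeCompl_le_nonZeroDivisors
  haveI : IsNoetherianRing Rm := IsLocalization.isNoetherianRing m.primeCompl Rm inferInstance
  obtain ⟨hfin, hres⟩ := local_case' Rm L
  let S := integralClosure R L
  let B := integralClosure Rm L
  let κ : S →ₐ[R] B :=
    { toFun := fun a => ⟨a, IsIntegral.tower_top (A := Rm) a.2⟩
      map_one' := rfl
      map_zero' := rfl
      map_mul' := fun _ _ => rfl
      map_add' := fun _ _ => rfl
      commutes' := fun r => Subtype.ext rfl }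
  letI : Algebra S B := κ.toRingHom.toAlgebra
  haveI : IsLocalization (Algebra.algebraMapSubmonoid S m.primeCompl) B := by
    rw [isLocalization_iff]
    refine ⟨?_, fun b => ?_, fun {x y} h => ⟨1, by
      have hxy : x = y := Subtype.ext (congrArg (fun z : B => (z : L)) h)
      rw [hxy]⟩⟩
    · rintro ⟨_, s, hs, rfl⟩
      change IsUnit (κ (algebraMap R S s))
      rw [κ.commutes, IsScalarTower.algebraMap_apply R Rm B]
      exact (IsLocalization.map_units Rm (⟨s, hs⟩ : m.primeCompl)).map _
    · obtain ⟨⟨s, hs⟩, h⟩ := IsIntegral.exists_multiple_integral_of_isLocalization m.primeCompl (b : L) b.2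
      refine ⟨⟨⟨(s • (b : L)), h⟩, ⟨algebraMap R S s, s, hs, rfl⟩⟩, Subtype.ext ?_⟩
      show (b : L) * algebraMap R L s = s • (b : L)
      rw [Algebra.smul_def, mul_comm]
  have hdisj : ∀ Q : Ideal S, Q.comap (algebraMap R S) = m →
      Disjoint (Algebra.algebraMapSubmonoid S m.primeCompl : Set S) Q := by
    intro Q hQ
    rw [Set.disjoint_left]
    rintro _ ⟨s, hs, rfl⟩ hmem
    exact hs (hQ ▸ hmem)
  have hover : ∀ Q : Ideal S, Q.IsMaximal → Q.comap (algebraMap R S) = m →
      ∃ M : Ideal B, M.IsMaximal ∧ M.comap κ = Q := by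
    intro Q hQm hQ
    haveI := hQm
    have hp := IsLocalization.isPrime_of_isPrime_disjoint (Algebra.algebraMapSubmonoid S m.primeCompl) B Q
      inferInstance (hdisj Q hQ)
    obtain ⟨M, hM, hle⟩ := Ideal.exists_le_maximal _ hp.ne_top
    refine ⟨M, hM, (hQm.eq_of_le ?_ ?_).symm⟩
    · exact Ideal.comap_ne_top _ hM.ne_top
    · exact Ideal.le_comap_of_map_le hle
  constructor
  · refine (hfin.image fun M => M.comap κ).subset ?_
    rintro Q ⟨hQm, hQ⟩
    obtain ⟨M, hM, rfl⟩ := hover Q hQm hQ
    exact ⟨M, hM, rfl⟩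
  · intro Q hQm hQ
    obtain ⟨M, hM, rfl⟩ := hover Q hQm hQ
    haveI := hM
    haveI : Module.Finite Rm (B ⧸ M) := hres M hM
    haveI : Algebra.IsIntegral Rm B := IsIntegralClosure.isIntegral_algebra Rm L
    have hM0 : ∀ x ∈ maximalIdeal Rm, algebraMap Rm (B ⧸ M) x = 0 := fun x hx => by
      rw [← eq_maximalIdeal (Ideal.isMaximal_comap_of_isIntegral_of_isMaximal (R := Rm) M)] at hx
      exact Ideal.Quotient.eq_zero_iff_mem.mpr hx
    haveI : Module.Finite R (B ⧸ M) := by
      obtain ⟨t, ht⟩ := (inferInstance : Module.Finite Rm (B ⧸ M)).fg_top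
      refine ⟨⟨t, eq_top_iff.mpr fun z _ => ?_⟩⟩
      have hz : z ∈ Submodule.span Rm (t : Set (B ⧸ M)) := ht ▸ Submodule.mem_top
      induction hz using Submodule.span_induction with
      | mem y hy => exact Submodule.subset_span hy
      | zero => exact zero_mem _
      | add y w _ _ hy hw => exact add_mem (hy trivial) (hw trivial)
      | smul q y _ hy =>
        obtain ⟨r, hr⟩ : ∃ r : R, q - algebraMap R Rm r ∈ maximalIdeal Rm := by
          obtain ⟨c, s, rfl⟩ := IsLocalization.exists_mk'_eq m.primeCompl q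
          obtain ⟨u, i, hi, hus⟩ := (inferInstance : m.IsMaximal).exists_inv s.2
          refine ⟨c * u, ?_⟩
          have h1 : (IsLocalization.mk' Rm c s - algebraMap R Rm (c * u)) * algebraMap R Rm s =
              algebraMap R Rm (c * i) := by
            rw [sub_mul, IsLocalization.mk'_spec, ← map_mul, ← map_sub]
            congr 1
            linear_combination -c * hus
          have h2 : algebraMap R Rm (c * i) ∈ maximalIdeal Rm :=
            (IsLocalization.AtPrime.to_map_mem_maximal_iff Rm m _).mpr (m.mul_mem_left c hi)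
          rw [← h1] at h2
          exact (Ideal.mul_unit_mem_iff_mem _ (IsLocalization.map_units Rm s)).mp h2
        have h3 : q • y = r • y := by
          rw [← IsScalarTower.algebraMap_smul Rm r y, ← sub_eq_zero, ← sub_smul]
          obtain ⟨b, rfl⟩ := Ideal.Quotient.mk_surjective y
          rw [← Ideal.Quotient.mkₐ_eq_mk Rm, ← map_smul, Algebra.smul_def, map_mul, AlgHom.commutes,
            hM0 _ hr, zero_mul]
        rw [h3]
        exact Submodule.smul_mem _ _ (hy trivial)
    let f : (S ⧸ M.comap κ) →ₐ[R] B ⧸ M := Ideal.quotientMapₐ M κ le_rfl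
    haveI : IsNoetherian R (B ⧸ M) := inferInstance
    exact Module.Finite.of_injective f.toLinearMap (Ideal.quotientMap_injective' (f := κ.toRingHom) (H := le_rfl) le_rfl)

end Groth.L01.MoriSemilocal
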