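import Mathlib.RingTheory.Valuation.Basic
import Mathlib.RingTheory.Ideal.Height
import Mathlib.RingTheory.Localization.FractionRing
import Mathlib.Algebra.GroupWithZero.WithZero
import Mathlib.Data.Int.Cast.Lemmas
import Mathlib.Algebra.Order.Field.Basic
import Mathlib.Data.Rat.Cast.Order
import Mathlib.Tactic.Linarith
import Mathlib.Tactic.Positivity

/-!
The conductor of an element in an intersection of finitely many discrete valuation rings is only
contained in minimal primes of height one.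
-/

universe u

namespace Groth.L01.MoriValuation

open scoped WithZero

theorem exists_pow_mul_le_one {γ : ℤᵐ⁰} (hγ : γ < 1) (c : ℤᵐ⁰) :
    ∃ N : ℕ, ∀ n, N ≤ n → γ ^ n * c ≤ 1 := by
  by_cases hc : c = 0
  · exact ⟨0, fun n _ => by simp [hc]⟩
  by_cases h0 : γ = 0
  · exact ⟨1, fun n hn => by rw [h0, zero_pow (by omega)]; simp⟩
  refine ⟨(WithZero.log c).toNat, fun n hn => ?_⟩
  have hne : γ ^ n * c ≠ 0 := mul_ne_zero (pow_ne_zero n h0) hc
  rw [← WithZero.log_le_log hne one_ne_zero, WithZero.log_mul (pow_ne_zero n h0) hc,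
    WithZero.log_pow, WithZero.log_one, nsmul_eq_mul]
  have h1 : WithZero.log γ < 0 := by
    rw [← WithZero.log_one (M := ℤ)]; exact (WithZero.log_lt_log h0 one_ne_zero).mpr hγ
  have h2 : ((WithZero.log c).toNat : ℤ) ≤ (n : ℤ) := by exact_mod_cast hn
  have h3 := Int.self_le_toNat (WithZero.log c)
  have h4 : (n : ℤ) * WithZero.log γ ≤ (n : ℤ) * (-1) :=
    mul_le_mul_of_nonneg_left (by omega) (by positivity)
  linarith

variable {B K : Type u} [CommRing B] [IsDomain B] [Field K] [Algebra B K] [IsFractionRing B K]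

/-- A minimal prime of the conductor ideal has height at most one. -/
theorem height_le_one {ι : Type*} [Finite ι] (v : ι → Valuation K ℤᵐ⁰)
    (hB : ∀ i (b : B), v i (algebraMap B K b) ≤ 1) (x : K)
    (hmem : ∀ (m : ℕ) (b : B), (∀ i, v i (x ^ m * algebraMap B K b) ≤ 1) →
      x ^ m * algebraMap B K b ∈ (algebraMap B K).range)
    {D : Ideal B} (hD : ∀ c, c ∈ D ↔ algebraMap B K c * x ∈ (algebraMap B K).range)
    {Q : Ideal B} (hQ : Q ∈ D.minimalPrimes) : Q.height ≤ 1 := by
  classical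
  haveI := Fintype.ofFinite ι
  haveI hQp : Q.IsPrime := hQ.1.1
  -- centres
  let cen : ι → Ideal B := fun i =>
    { carrier := {b | v i (algebraMap B K b) < 1}
      add_mem' := fun {a b} ha hb => by
        show v i (algebraMap B K (a + b)) < 1
        rw [map_add]; exact Valuation.map_add_lt _ ha hb
      zero_mem' := by simp
      smul_mem' := fun c a ha => by
        show v i (algebraMap B K (c • a)) < 1
        rw [smul_eq_mul, map_mul, map_mul]
        exact (mul_le_mul_left (hB i c) _).trans_lt (by rw [one_mul]; exact ha) }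
  have hcen : ∀ i b, b ∉ cen i → v i (algebraMap B K b) = 1 := fun i b hb =>
    le_antisymm (hB i b) (not_lt.mp hb)
  have hcenp : ∀ i, (cen i).IsPrime := fun i => by
    refine ⟨fun h => ?_, fun {a b} hab => ?_⟩
    · have h1 : (1 : B) ∈ cen i := h ▸ Submodule.mem_top
      have h2 : v i (algebraMap B K 1) < 1 := h1
      simp at h2
    · by_contra h
      push Not at h
      have h2 : v i (algebraMap B K (a * b)) < 1 := hab
      rw [map_mul, map_mul, hcen i a h.1, hcen i b h.2, one_mul] at h2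
      exact lt_irrefl _ h2
  let S : Finset ι := Finset.univ.filter fun i => 1 < v i x
  have hDcen : ∀ i ∈ S, D ≤ cen i := fun i hi c hc => by
    obtain ⟨b, hb⟩ := (hD c).mp hc
    have h1 : v i (algebraMap B K c) * v i x ≤ 1 := by rw [← map_mul, ← hb]; exact hB i b
    show v i (algebraMap B K c) < 1
    refine lt_of_le_of_ne (hB i c) fun h => ?_
    rw [h, one_mul] at h1
    exact absurd h1 (not_le.mpr (Finset.mem_filter.mp hi).2)
  let T : Finset ι := S.filter fun i => cen i ≤ Q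
  have hT : ∀ i ∈ T, cen i = Q := fun i hi => by
    obtain ⟨hiS, hiQ⟩ := Finset.mem_filter.mp hi
    exact le_antisymm hiQ (hQ.2 ⟨hcenp i, hDcen i hiS⟩ hiQ)
  -- an element outside `Q` in all other centres
  obtain ⟨s, hsQ, hs⟩ : ∃ s : B, s ∉ Q ∧ ∀ i ∈ S, i ∉ T → v i (algebraMap B K s) < 1 := by
    have h : ∀ i ∈ S \ T, ∃ s, s ∈ cen i ∧ s ∉ Q := fun i hi => by
      obtain ⟨h1, h2⟩ := Finset.mem_sdiff.mp hi
      exact SetLike.not_le_iff_exists.mp fun h3 => h2 (Finset.mem_filter.mpr ⟨h1, h3⟩)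
    choose g hg using h
    refine ⟨∏ i : {i // i ∈ S \ T}, g i.1 i.2, fun hh => ?_, fun i hiS hiT => ?_⟩
    · obtain ⟨i, -, hi⟩ := hQp.prod_mem_iff.mp hh
      exact (hg i.1 i.2).2 hi
    · exact (cen i).prod_mem (Finset.mem_univ (⟨i, Finset.mem_sdiff.mpr ⟨hiS, hiT⟩⟩ : {i // i ∈ S \ T}))
        (hg i _).1
  -- multiplying by large powers of `s` makes elements integral away from `T`
  have hpow : ∀ (m : ℕ) (b : B), ∃ M, ∀ i, i ∉ T →
      v i (x ^ m * algebraMap B K (s ^ M * b)) ≤ 1 := fun m b => by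
    have h : ∀ i, ∃ N, i ∈ S \ T → ∀ n, N ≤ n → v i (algebraMap B K s) ^ n * v i x ^ m ≤ 1 := fun i => by
      by_cases hi : i ∈ S \ T
      · obtain ⟨N, hN⟩ := exists_pow_mul_le_one (hs i (Finset.mem_sdiff.mp hi).1 (Finset.mem_sdiff.mp hi).2)
          (v i x ^ m)
        exact ⟨N, fun _ => hN⟩
      · exact ⟨0, fun h => absurd h hi⟩
    choose N hN using h
    refine ⟨Finset.univ.sup N, fun i hiT => ?_⟩
    rw [map_mul (algebraMap B K), map_pow (algebraMap B K), map_mul, map_mul, map_pow, map_pow,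
      ← mul_assoc, mul_comm (v i x ^ m)]
    refine mul_le_one' ?_ (hB i b)
    by_cases hiS : i ∈ S
    · exact hN i (Finset.mem_sdiff.mpr ⟨hiS, hiT⟩) _ (Finset.le_sup (Finset.mem_univ i))
    · exact mul_le_one' (pow_le_one' (hB i s) _)
        (pow_le_one' (not_lt.mp fun h => hiS (Finset.mem_filter.mpr ⟨Finset.mem_univ i, h⟩)) _)
  have hsT : ∀ i ∈ T, v i (algebraMap B K s) = 1 := fun i hi => hcen i s (by rw [hT i hi]; exact hsQ)
  have hTne : T.Nonempty := by
    rw [Finset.nonempty_iff_ne_empty]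
    intro hTe
    obtain ⟨M, hM⟩ := hpow 1 1
    obtain ⟨b, hb⟩ := hmem 1 (s ^ M * 1) fun i => hM i (by rw [hTe]; exact Finset.notMem_empty i)
    rw [pow_one, mul_one, mul_comm] at hb
    exact hsQ (hQp.mem_of_pow_mem M (hQ.1.2 ((hD _).mpr ⟨b, hb⟩)))
  rw [show (1 : ℕ∞) = ((1 : ℕ) : ℕ∞) from rfl, Ideal.height_le_iff]
  intro q hq hqQ
  suffices hq0 : q = ⊥ by rw [hq0, Ideal.height_bot]; exact_mod_cast Nat.one_pos
  by_contra hq0
  obtain ⟨z, hzq, hz0⟩ := Submodule.exists_mem_ne_zero_of_ne_bot hq0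
  have hzK : algebraMap B K z ≠ 0 := (map_ne_zero_iff _ (IsFractionRing.injective B K)).mpr hz0
  obtain ⟨y, hyQ, hyq⟩ := SetLike.exists_of_lt hqQ
  let e : ι → ℤ := fun i => WithZero.log (v i x)
  let a : ι → ℤ := fun i => -WithZero.log (v i (algebraMap B K z))
  have hpos : ∀ i ∈ T, 0 < e i ∧ 0 < a i := fun i hi => by
    have hx1 : 1 < v i x := (Finset.mem_filter.mp (Finset.mem_filter.mp hi).1).2
    have hz1 : v i (algebraMap B K z) < 1 :=
      show z ∈ cen i from by rw [hT i hi]; exact hqQ.le hzq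
    constructor
    · show 0 < WithZero.log (v i x)
      rw [← WithZero.log_one (M := ℤ)]
      exact (WithZero.log_lt_log one_ne_zero (zero_lt_one.trans hx1).ne').mpr hx1
    · show 0 < -WithZero.log (v i (algebraMap B K z))
      rw [neg_pos, ← WithZero.log_one (M := ℤ)]
      exact (WithZero.log_lt_log ((v i).ne_zero_iff.mpr hzK) one_ne_zero).mpr hz1
  obtain ⟨i₀, hi₀, hmax⟩ := T.exists_max_image (fun i => (e i : ℚ) / (a i : ℚ)) hTne
  obtain ⟨he0, ha0⟩ := hpos i₀ hi₀
  obtain ⟨k, hk⟩ := Int.eq_ofNat_of_zero_le ha0.le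
  obtain ⟨l, hl⟩ := Int.eq_ofNat_of_zero_le he0.le
  have hx0 : x ≠ 0 := by
    intro h
    have := (hpos i₀ hi₀).1
    simp [e, h] at this
  have hval : ∀ i ∈ T, v i (x ^ k * algebraMap B K (z ^ l)) ≤ 1 ∧
      (i = i₀ → v i (x ^ k * algebraMap B K (z ^ l)) = 1) := fun i hi => by
    have hxne : x ^ k * algebraMap B K (z ^ l) ≠ 0 := by
      rw [map_pow]; exact mul_ne_zero (pow_ne_zero _ hx0) (pow_ne_zero _ hzK)
    have hlog : WithZero.log (v i (x ^ k * algebraMap B K (z ^ l))) = a i₀ * e i - e i₀ * a i := by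
      rw [map_mul, map_pow (algebraMap B K), map_pow, map_pow,
        WithZero.log_mul (pow_ne_zero _ ((v i).ne_zero_iff.mpr hx0))
          (pow_ne_zero _ ((v i).ne_zero_iff.mpr hzK)),
        WithZero.log_pow, WithZero.log_pow, nsmul_eq_mul, nsmul_eq_mul, hk, hl]
      simp only [e, a]
      ring
    constructor
    · rw [← WithZero.log_le_log ((v i).ne_zero_iff.mpr hxne) one_ne_zero, WithZero.log_one, hlog, sub_nonpos]
      have h1 := hmax i hi
      rw [div_le_div_iff₀ (by exact_mod_cast (hpos i hi).2) (by exact_mod_cast ha0)] at h1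
      have h2 : e i * a i₀ ≤ e i₀ * a i := by exact_mod_cast h1
      linarith
    · rintro rfl
      rw [← WithZero.exp_log ((v i).ne_zero_iff.mpr hxne), hlog,
        show a i * e i - e i * a i = 0 by ring, WithZero.exp_zero]
  obtain ⟨M₁, hM₁⟩ := hpow 1 1
  obtain ⟨M₂, hM₂⟩ := hpow k (z ^ l)
  obtain ⟨t, ht⟩ := hmem k (s ^ M₂ * z ^ l) fun i => by
    by_cases hi : i ∈ T
    · rw [map_mul (algebraMap B K), ← mul_assoc, mul_comm (x ^ k), mul_assoc, map_mul,
        map_pow (algebraMap B K) s, map_pow (v i), hsT i hi, one_pow, one_mul]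
      exact (hval i hi).1
    · exact hM₂ i hi
  have htQ : t ∉ Q := by
    intro h
    rw [← hT i₀ hi₀] at h
    change v i₀ (algebraMap B K t) < 1 at h
    rw [ht, map_mul (algebraMap B K), ← mul_assoc, mul_comm (x ^ k), mul_assoc, map_mul,
        map_pow (algebraMap B K) s, map_pow (v i₀), hsT i₀ hi₀, one_pow, one_mul,
        (hval i₀ hi₀).2 rfl] at h
    exact lt_irrefl _ h
  -- a power of `y` times a power of `s` conducts `x`
  obtain ⟨N, hN⟩ : ∃ N, ∀ i ∈ T, v i (algebraMap B K y) ^ N * v i x ≤ 1 := by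
    have h : ∀ i, ∃ N, i ∈ T → ∀ n, N ≤ n → v i (algebraMap B K y) ^ n * v i x ≤ 1 := fun i => by
      by_cases hi : i ∈ T
      · obtain ⟨N, hN⟩ := exists_pow_mul_le_one
          (show y ∈ cen i by rw [hT i hi]; exact hyQ) (v i x)
        exact ⟨N, fun _ => hN⟩
      · exact ⟨0, fun h => absurd h hi⟩
    choose N hN using h
    exact ⟨Finset.univ.sup N, fun i hi => hN i hi _ (Finset.le_sup (Finset.mem_univ i))⟩
  obtain ⟨w, hw⟩ := hmem 1 (y ^ N * s ^ M₁) fun i => by
    by_cases hi : i ∈ T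
    · rw [pow_one, map_mul (algebraMap B K), map_pow (algebraMap B K), map_pow (algebraMap B K),
        map_mul, map_mul, map_pow, map_pow, hsT i hi, one_pow, mul_one, mul_comm]
      exact hN i hi
    · have h1 := hM₁ i hi
      rw [mul_one] at h1
      rw [map_mul (algebraMap B K) (y ^ N), mul_left_comm, map_mul]
      exact mul_le_one' (hB i _) h1
  have key : w ^ k * (s ^ M₂ * z ^ l) = (y ^ N * s ^ M₁) ^ k * t := by
    apply IsFractionRing.injective B K
    simp only [map_mul, map_pow, hw, ht, pow_one]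
    ring
  have hl0 : l ≠ 0 := by rintro rfl; simp at hl; omega
  have h1 : (y ^ N * s ^ M₁) ^ k * t ∈ q := by
    rw [← key]
    exact q.mul_mem_left _ (q.mul_mem_left _ (q.pow_mem_of_mem hzq _ (Nat.pos_of_ne_zero hl0)))
  rcases hq.mem_or_mem h1 with h2 | h2
  · rcases hq.mem_or_mem (hq.mem_of_pow_mem k h2) with h3 | h3
    · exact hyq (hq.mem_of_pow_mem _ h3)
    · exact hsQ (hqQ.le (hq.mem_of_pow_mem _ h3))
  · exact htQ (hqQ.le h2)

end Groth.L01.MoriValuation
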