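import Groth.Agent.S3278
import Groth.Agent.L25.UnipExt
import Groth.Agent.L08.Points

/-!
# Normal Hopf ideals and their Hopf subalgebras of invariants
-/

set_option autoImplicit false
set_option backward.isDefEq.respectTransparency.types false

universe u

open CategoryTheory MonoidalCategory CartesianMonoidalCategory MonObj AlgebraicGeometry
open TensorProduct WithConv Groth.L08

noncomputable section

namespace Groth.L01.NormalHopf

variable {k : Type u} [Field k] {A : Type u} [CommRing A] [HopfAlgebra k A]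

theorem post_mul {R S : Type u} [CommRing R] [CommRing S] [Algebra k R] [Algebra k S] (f : R →ₐ[k] S)
    (g h : WithConv (A →ₐ[k] R)) :
    toConv (f.comp (g * h).ofConv) = toConv (f.comp g.ofConv) * toConv (f.comp h.ofConv) :=
  WithConv.ofConv_injective (AlgHom.comp_convMul_distrib f g h)

theorem pre_mul {A' R : Type u} [CommRing A'] [HopfAlgebra k A'] [CommRing R] [Algebra k R]
    (incl : A' →ₐc[k] A) (g h : WithConv (A →ₐ[k] R)) :
    toConv ((g * h).ofConv.comp (incl : A' →ₐ[k] A)) =
      toConv (g.ofConv.comp (incl : A' →ₐ[k] A)) * toConv (h.ofConv.comp (incl : A' →ₐ[k] A)) :=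
  WithConv.ofConv_injective (AlgHom.convMul_comp_bialgHom_distrib g h incl)

theorem pre_pinv {A' R : Type u} [CommRing A'] [HopfAlgebra k A'] [CommRing R] [Algebra k R]
    (incl : A' →ₐc[k] A) (g : WithConv (A →ₐ[k] R)) :
    toConv ((pinv g).ofConv.comp (incl : A' →ₐ[k] A)) = pinv (toConv (g.ofConv.comp (incl : A' →ₐ[k] A))) :=
  WithConv.ofConv_injective (AlgHom.ext fun a =>
    congrArg g.ofConv (Groth.L25.Char.bialgHom_antipode incl a).symm)

variable {I : Ideal A}

/-- conjugates of points of a normal subgroup -/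
theorem conj_kills (hI : SGA3.IsNormalHopfIdeal k A I) {R : Type u} [CommRing R] [Algebra k R]
    (g h : WithConv (A →ₐ[k] R)) (hh : ∀ a ∈ I, h.ofConv a = 0) :
    ∀ a ∈ I, (g * h * pinv g).ofConv a = 0 := by
  intro a ha
  have h1 := hI R g.ofConv h.ofConv hh a ha
  have e : WithConv.toConv (Dyn.conv3 k A g.ofConv h.ofConv
      (g.ofConv.comp (HopfAlgebra.antipodeAlgHom k A))) = g * h * pinv g := by
    rw [toConv_conv3]
    rfl
  rw [← e]
  exact h1

variable (k I) in
/-- the right invariants of a closed subgroup -/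
def coinv : Subalgebra k A :=
  AlgHom.equalizer ((Algebra.TensorProduct.map (AlgHom.id k A) (Ideal.Quotient.mkₐ k I)).comp
    (Bialgebra.comulAlgHom k A)) Algebra.TensorProduct.includeLeft

theorem mem_coinv {x : A} : x ∈ coinv k I ↔
    TensorProduct.map LinearMap.id (Ideal.Quotient.mkₐ k I).toLinearMap (Coalgebra.comul (R := k) x) =
      x ⊗ₜ[k] (1 : A ⧸ I) := Iff.rfl

theorem convMul_incl_left {B C : Type u} [CommRing B] [CommRing C] [Algebra k B] [Algebra k C]
    (f : A →ₐ[k] B) (g : A →ₐ[k] C) (x : A) :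
    (toConv ((Algebra.TensorProduct.includeLeft : B →ₐ[k] B ⊗[k] C).comp f) *
      toConv ((Algebra.TensorProduct.includeRight : C →ₐ[k] B ⊗[k] C).comp g)).ofConv x =
      TensorProduct.map f.toLinearMap g.toLinearMap (Coalgebra.comul (R := k) x) := by
  rw [AlgHom.convMul_apply]
  induction Coalgebra.comul (R := k) x with
  | zero => simp
  | add p q hp hq => simp only [map_add, hp, hq]
  | tmul p q => simp

theorem convMul_factor {B C R : Type u} [CommRing B] [CommRing C] [CommRing R] [Algebra k B] [Algebra k C]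
    [Algebra k R] (f : A →ₐ[k] B) (g : A →ₐ[k] C) (p : B →ₐ[k] R) (q : C →ₐ[k] R) (x : A) :
    (toConv (p.comp f) * toConv (q.comp g)).ofConv x =
      Algebra.TensorProduct.lift p q (fun _ _ => Commute.all _ _)
        (TensorProduct.map f.toLinearMap g.toLinearMap (Coalgebra.comul (R := k) x)) := by
  rw [AlgHom.convMul_apply]
  induction Coalgebra.comul (R := k) x with
  | zero => simp
  | add p q hp hq => simp only [map_add, hp, hq]
  | tmul p q => simp

theorem mem_coinv_iff {x : A} : x ∈ coinv k I ↔ ∀ (R : Type u) [CommRing R] [Algebra k R]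
    (g n : WithConv (A →ₐ[k] R)), (∀ a ∈ I, n.ofConv a = 0) → (g * n).ofConv x = g.ofConv x := by
  rw [mem_coinv]
  constructor
  · intro hx R _ _ g n hn
    have e : (Ideal.Quotient.liftₐ I n.ofConv hn).comp (Ideal.Quotient.mkₐ k I) = n.ofConv :=
      AlgHom.ext fun a => rfl
    have h := convMul_factor (AlgHom.id k A) (Ideal.Quotient.mkₐ k I) g.ofConv
      (Ideal.Quotient.liftₐ I n.ofConv hn) x
    rw [e, AlgHom.comp_id] at h
    refine h.trans ?_
    rw [AlgHom.toLinearMap_id, hx]
    simp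
  · intro h
    have h1 := h _ (toConv ((Algebra.TensorProduct.includeLeft : A →ₐ[k] A ⊗[k] (A ⧸ I)).comp (AlgHom.id k A)))
      (toConv ((Algebra.TensorProduct.includeRight : A ⧸ I →ₐ[k] A ⊗[k] (A ⧸ I)).comp (Ideal.Quotient.mkₐ k I)))
      fun a ha => by
        change (1 : A) ⊗ₜ[k] Ideal.Quotient.mkₐ k I a = 0
        rw [show Ideal.Quotient.mkₐ k I a = 0 from Ideal.Quotient.eq_zero_iff_mem.2 ha, TensorProduct.tmul_zero]
    rw [convMul_incl_left] at h1
    rw [AlgHom.toLinearMap_id] at h1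
    exact h1

/-- invariants of a normal subgroup are invariant on the other side -/
theorem left_of_mem_coinv (hI : SGA3.IsNormalHopfIdeal k A I) {x : A} (hx : x ∈ coinv k I)
    {R : Type u} [CommRing R] [Algebra k R] (g n : WithConv (A →ₐ[k] R))
    (hn : ∀ a ∈ I, n.ofConv a = 0) : (n * g).ofConv x = g.ofConv x := by
  have hg2 : pinv (pinv g) = g := left_inv_eq_right_inv (pinv_mul _) (pinv_mul g)
  have h' := conj_kills hI (pinv g) n hn
  rw [hg2] at h'
  have := mem_coinv_iff.1 hx R g (pinv g * n * g) h'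
  rwa [mul_conj] at this

theorem pinv_mul_rev {R : Type u} [CommRing R] [Algebra k R] (g h : WithConv (A →ₐ[k] R)) :
    pinv (g * h) = pinv h * pinv g :=
  left_inv_eq_right_inv (pinv_mul (g * h)) (by
    rw [_root_.mul_assoc, ← _root_.mul_assoc h, mul_pinv h, _root_.one_mul, mul_pinv g])

theorem antipode_mem_coinv [I.IsHopfIdeal k] (hI : SGA3.IsNormalHopfIdeal k A I) {x : A}
    (hx : x ∈ coinv k I) : HopfAlgebraStruct.antipode (R := k) x ∈ coinv k I := by
  refine mem_coinv_iff.2 fun R _ _ g n hn => ?_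
  change (pinv (g * n)).ofConv x = (pinv g).ofConv x
  rw [pinv_mul_rev]
  exact left_of_mem_coinv hI hx _ _ fun a ha =>
    hn _ (Ideal.IsHopfIdeal.antipode_mem (R := k) ha)

theorem left_tensor (hI : SGA3.IsNormalHopfIdeal k A I) {x : A} (hx : x ∈ coinv k I) :
    TensorProduct.map (Ideal.Quotient.mkₐ k I).toLinearMap LinearMap.id (Coalgebra.comul (R := k) x) =
      (1 : A ⧸ I) ⊗ₜ[k] x := by
  have h1 := left_of_mem_coinv hI hx
    (toConv ((Algebra.TensorProduct.includeRight : A →ₐ[k] (A ⧸ I) ⊗[k] A).comp (AlgHom.id k A)))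
    (toConv ((Algebra.TensorProduct.includeLeft : A ⧸ I →ₐ[k] (A ⧸ I) ⊗[k] A).comp (Ideal.Quotient.mkₐ k I)))
    fun a ha => by
      change Ideal.Quotient.mkₐ k I a ⊗ₜ[k] (1 : A) = 0
      rw [show Ideal.Quotient.mkₐ k I a = 0 from Ideal.Quotient.eq_zero_iff_mem.2 ha, TensorProduct.zero_tmul]
  rw [convMul_incl_left, AlgHom.toLinearMap_id] at h1
  exact h1

theorem fAct_mem_coinv (hI : SGA3.IsNormalHopfIdeal k A I) (φ : A →ₗ[k] k) {x : A} (hx : x ∈ coinv k I) :
    fAct A φ x ∈ coinv k I := by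
  classical
  let π := (Ideal.Quotient.mkₐ k I).toLinearMap
  -- the left invariants are stable
  have hl : ∀ θ : (A ⧸ I) →ₗ[k] k, cf (A := A) (θ ∘ₗ π) (fAct A φ x) = θ 1 • fAct A φ x := by
    intro θ
    have h0 : cf (A := A) (θ ∘ₗ π) x = θ 1 • x := by
      have h1 : ∀ z : A ⊗[k] A, TensorProduct.lid k A ((θ ∘ₗ π).rTensor A z) =
          TensorProduct.lid k A (θ.rTensor A (TensorProduct.map π LinearMap.id z)) := by
        intro z
        induction z with
        | zero => simp
        | add p q hp hq => simp only [map_add, hp, hq]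
        | tmul p q => simp
      rw [cf_apply]
      refine (h1 (Coalgebra.comul (R := k) x)).trans ?_
      rw [left_tensor hI hx, LinearMap.rTensor_tmul, TensorProduct.lid_tmul]
    rw [fAct_comm_of_isComodHom (isComodHom_cf _), h0, map_smul]
  have hleft : TensorProduct.map π LinearMap.id (Coalgebra.comul (R := k) (fAct A φ x)) =
      (1 : A ⧸ I) ⊗ₜ[k] fAct A φ x := by
    let b := Module.Basis.ofVectorSpace k (A ⧸ I)
    refine (TensorProduct.equivFinsuppOfBasisLeft b).injective (Finsupp.ext fun i => ?_)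
    rw [TensorProduct.equivFinsuppOfBasisLeft_apply, TensorProduct.equivFinsuppOfBasisLeft_apply,
      LinearMap.rTensor_tmul, TensorProduct.lid_tmul, ← hl (b.coord i), cf_apply,
      ← LinearMap.rTensor_def, ← LinearMap.rTensor_comp_apply]
    rfl
  generalize fAct A φ x = y at hleft ⊢
  refine mem_coinv_iff.2 fun R _ _ g n hn => ?_
  have h' := conj_kills hI g n hn
  have hgn : g * n = (g * n * pinv g) * g := by
    rw [_root_.mul_assoc (g * n), pinv_mul, _root_.mul_one]
  rw [hgn]
  generalize g * n * pinv g = m at h'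
  have e : (Ideal.Quotient.liftₐ I m.ofConv h').comp (Ideal.Quotient.mkₐ k I) = m.ofConv :=
    AlgHom.ext fun a => rfl
  have h := convMul_factor (Ideal.Quotient.mkₐ k I) (AlgHom.id k A)
    (Ideal.Quotient.liftₐ I m.ofConv h') g.ofConv y
  rw [e, AlgHom.comp_id] at h
  refine h.trans ?_
  rw [AlgHom.toLinearMap_id, hleft]
  simp

theorem cf_mem_coinv (f : Module.Dual k A) {x : A} (hx : x ∈ coinv k I) :
    cf (A := A) f x ∈ coinv k I := by
  classical
  let π := (Ideal.Quotient.mkₐ k I).toLinearMap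
  have h0 : ∀ θ : (A ⧸ I) →ₗ[k] k, fAct A (θ ∘ₗ π) x = θ 1 • x := by
    intro θ
    have h1 : ∀ z : A ⊗[k] A, TensorProduct.rid k A ((θ ∘ₗ π).lTensor A z) =
        TensorProduct.rid k A (θ.lTensor A (TensorProduct.map LinearMap.id π z)) := by
      intro z
      induction z with
      | zero => simp
      | add p q hp hq => simp only [map_add, hp, hq]
      | tmul p q => simp
    rw [fAct_apply]
    refine (h1 (Coalgebra.comul (R := k) x)).trans ?_
    rw [mem_coinv.1 hx, LinearMap.lTensor_tmul, TensorProduct.rid_tmul]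
  rw [mem_coinv]
  let b := Module.Basis.ofVectorSpace k (A ⧸ I)
  refine (TensorProduct.equivFinsuppOfBasisRight b).injective (Finsupp.ext fun i => ?_)
  rw [TensorProduct.equivFinsuppOfBasisRight_apply, TensorProduct.equivFinsuppOfBasisRight_apply,
    LinearMap.lTensor_tmul, TensorProduct.rid_tmul, ← LinearMap.lTensor_def,
    ← LinearMap.lTensor_comp_apply]
  refine ((fAct_comm_of_isComodHom (isComodHom_cf f) (b.coord i ∘ₗ π) x).symm).trans ?_
  rw [h0, map_smul]

theorem isHopfSubalgebra_coinv [I.IsHopfIdeal k] (hI : SGA3.IsNormalHopfIdeal k A I) :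
    SGA3.IsHopfSubalgebra k A (coinv k I) := by
  classical
  refine ⟨fun x hx => ?_, fun x hx => antipode_mem_coinv hI hx⟩
  let W : Submodule k A := Subalgebra.toSubmodule (coinv k I)
  obtain ⟨p, hp⟩ := W.subtype.exists_leftInverse_of_injective W.ker_subtype
  let q : A →ₗ[k] A := W.subtype ∘ₗ p
  have hq : ∀ a ∈ coinv k I, q a = a := fun a ha =>
    congrArg Subtype.val (LinearMap.congr_fun hp ⟨a, ha⟩)
  let z := Coalgebra.comul (R := k) x
  have h1 : q.rTensor A z = z := by
    let b := Module.Basis.ofVectorSpace k A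
    refine (TensorProduct.equivFinsuppOfBasisRight b).injective (Finsupp.ext fun i => ?_)
    rw [TensorProduct.equivFinsuppOfBasisRight_apply, TensorProduct.equivFinsuppOfBasisRight_apply,
      ← LinearMap.comp_apply, LinearMap.lTensor_comp_rTensor, ← LinearMap.rTensor_comp_lTensor,
      LinearMap.comp_apply]
    have : ∀ y : A ⊗[k] k, TensorProduct.rid k A (q.rTensor k y) = q (TensorProduct.rid k A y) := by
      intro y
      induction y with
      | zero => simp
      | add u v hu hv => simp only [map_add, hu, hv]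
      | tmul u v => simp
    rw [this]
    exact hq _ (fAct_mem_coinv hI (b.coord i) hx)
  have h2 : q.lTensor A z = z := by
    let b := Module.Basis.ofVectorSpace k A
    refine (TensorProduct.equivFinsuppOfBasisLeft b).injective (Finsupp.ext fun i => ?_)
    rw [TensorProduct.equivFinsuppOfBasisLeft_apply, TensorProduct.equivFinsuppOfBasisLeft_apply,
      ← LinearMap.comp_apply, LinearMap.rTensor_comp_lTensor, ← LinearMap.lTensor_comp_rTensor,
      LinearMap.comp_apply]
    have : ∀ y : k ⊗[k] A, TensorProduct.lid k A (q.lTensor k y) = q (TensorProduct.lid k A y) := by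
      intro y
      induction y with
      | zero => simp
      | add u v hu hv => simp only [map_add, hu, hv]
      | tmul u v => simp
    rw [this]
    exact hq _ (cf_mem_coinv (b.coord i) hx)
  refine ⟨TensorProduct.map p p z, ?_⟩
  change TensorProduct.map W.subtype W.subtype (TensorProduct.map p p z) = z
  rw [← LinearMap.comp_apply, ← TensorProduct.map_comp]
  change TensorProduct.map q q z = z
  rw [show TensorProduct.map q q = q.lTensor A ∘ₗ q.rTensor A from TensorProduct.ext' fun a b => rfl,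
    LinearMap.comp_apply, h1, h2]

theorem augIdealSpan_coinv_le [I.IsHopfIdeal k] : SGA3.augIdealSpan k A (coinv k I) ≤ I := by
  rw [SGA3.augIdealSpan, Ideal.span_le]
  rintro x ⟨hx, hx0⟩
  have h := mem_coinv_iff.1 hx (A ⧸ I) 1 (toConv (Ideal.Quotient.mkₐ k I))
    fun a ha => Ideal.Quotient.eq_zero_iff_mem.2 ha
  rw [_root_.one_mul, AlgHom.convOne_apply, hx0, map_zero] at h
  exact Ideal.Quotient.eq_zero_iff_mem.1 h

open Groth.L08.HomSpace in
theorem mapMulEquiv_comp {B C R : Type u} [CommRing B] [HopfAlgebra k B] [CommRing C] [HopfAlgebra k C]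
    [CommRing R] [Algebra k R] (f : WithConv (C →ₐ[k] B)) (g : WithConv (B →ₐ[k] R)) :
    Spec.mapMulEquiv g ≫ Spec.mapMulEquiv f = Spec.mapMulEquiv (toConv (g.ofConv.comp f.ofConv)) :=
  Over.OverMorphism.ext (Spec.map_comp (CommRingCat.ofHom f.ofConv.toRingHom)
    (CommRingCat.ofHom g.ofConv.toRingHom)).symm

open Groth.L08.HomSpace in
theorem isMonHom_mapMulEquiv {B C : Type u} [CommRing B] [HopfAlgebra k B] [CommRing C] [HopfAlgebra k C]
    (incl : C →ₐc[k] B) : IsMonHom (Spec.mapMulEquiv (toConv (incl : C →ₐ[k] B))) := by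
  have hmul : ∀ (T : Over (Spec (CommRingCat.of k))) (a b : T ⟶ specOf k B),
      (a * b) ≫ Spec.mapMulEquiv (toConv (incl : C →ₐ[k] B)) =
        (a ≫ Spec.mapMulEquiv (toConv (incl : C →ₐ[k] B))) * (b ≫ Spec.mapMulEquiv (toConv (incl : C →ₐ[k] B))) := by
    intro T a b
    refine hom_ext_affine _ _ fun R _ _ t => ?_
    obtain ⟨g, hg⟩ := (Spec.mapMulEquiv (R := k) (S := B) (T := R)).surjective (t ≫ a)
    obtain ⟨h, hh⟩ := (Spec.mapMulEquiv (R := k) (S := B) (T := R)).surjective (t ≫ b)
    rw [MonObj.comp_mul, ← Category.assoc, MonObj.comp_mul, ← Category.assoc, ← Category.assoc, ← hg, ← hh,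
      ← map_mul, mapMulEquiv_comp, mapMulEquiv_comp, mapMulEquiv_comp, ← map_mul, pre_mul]
  have hid : ∀ (T : Over (Spec (CommRingCat.of k))),
      (1 : T ⟶ specOf k B) ≫ Spec.mapMulEquiv (toConv (incl : C →ₐ[k] B)) = 1 := by
    intro T
    have h := hmul T 1 1
    rw [_root_.one_mul] at h
    exact left_eq_mul.1 h
  refine { one_hom := ?_, mul_hom := ?_ }
  · rw [MonObj.one_eq_one, MonObj.one_eq_one]
    exact hid _
  · rw [MonObj.mul_eq_mul, hmul, MonObj.mul_eq_mul, MonObj.comp_mul]
    simp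

set_option maxHeartbeats 1600000 in
open Groth.L08.HomSpace in
/-- For finite type: a normal Hopf ideal is generated by invariants. -/
theorem le_augIdealSpan_of_finiteType [Algebra.FiniteType k A] [I.IsHopfIdeal k]
    (hI : SGA3.IsNormalHopfIdeal k A I) : I ≤ SGA3.augIdealSpan k A (coinv k I) := by
  let i : specOf k (A ⧸ I) ⟶ specOf k A := Spec.mapMulEquiv (toConv (Ideal.Quotient.mkₐ k I))
  haveI : IsMonHom i := by
    have h := isMonHom_mapMulEquiv (k := k) (Bialgebra.Quotient.mkBialgHom (R := k) I)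
    have e : ((Bialgebra.Quotient.mkBialgHom (R := k) I : A →ₐc[k] A ⧸ I) : A →ₐ[k] A ⧸ I) = Ideal.Quotient.mkₐ k I :=
      AlgHom.ext fun _ => rfl
    rw [e] at h
    exact h
  haveI : IsClosedImmersion i.left :=
    IsClosedImmersion.spec_of_surjective _ (by exact Ideal.Quotient.mk_surjective)
  haveI : Mono i := Over.mono_of_mono_left i
  have hfac : ∀ (R : Type u) [CommRing R] [Algebra k R] (g : WithConv (A →ₐ[k] R)),
      (∃ z : specOf k R ⟶ specOf k (A ⧸ I), z ≫ i = Spec.mapMulEquiv g) ↔ ∀ a ∈ I, g.ofConv a = 0 := by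
    intro R _ _ g
    constructor
    · rintro ⟨z, hz⟩ a ha
      obtain ⟨l, rfl⟩ := (Spec.mapMulEquiv (R := k) (S := A ⧸ I) (T := R)).surjective z
      rw [mapMulEquiv_comp] at hz
      rw [← Spec.mapMulEquiv.injective hz]
      exact (congrArg l.ofConv (Ideal.Quotient.eq_zero_iff_mem.2 ha : Ideal.Quotient.mkₐ k I a = 0)).trans
        (map_zero _)
    · intro hg
      exact ⟨Spec.mapMulEquiv (toConv (Ideal.Quotient.liftₐ I g.ofConv hg)),
        (mapMulEquiv_comp _ _).trans (congrArg Spec.mapMulEquiv (WithConv.ofConv_injective (AlgHom.ext fun a => rfl)))⟩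
  have hN : AlgGrp.IsNormalHom i := by
    intro T g n
    haveI : Mono i.left := inferInstance
    obtain ⟨z, hz⟩ := exists_lift_of_cover_mono i (g * (n ≫ i) * g⁻¹) fun R _ _ t => by
      obtain ⟨g', hg'⟩ := (Spec.mapMulEquiv (R := k) (S := A) (T := R)).surjective (t ≫ g)
      obtain ⟨n', hn'⟩ := (Spec.mapMulEquiv (R := k) (S := A) (T := R)).surjective (t ≫ n ≫ i)
      have hkill : ∀ a ∈ I, n'.ofConv a = 0 := (hfac R n').1 ⟨t ≫ n, by rw [hn', Category.assoc]⟩
      have hinv : Spec.mapMulEquiv (pinv g') = (Spec.mapMulEquiv g')⁻¹ :=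
        (inv_eq_of_mul_eq_one_left (((map_mul _ _ _).symm.trans (congrArg _ (pinv_mul g'))).trans (map_one _))).symm
      obtain ⟨w, hw⟩ := (hfac R _).2 (conj_kills hI g' n' hkill)
      exact ⟨w, by rw [hw, map_mul, map_mul, hinv, hg', hn', MonObj.comp_mul, MonObj.comp_mul, GrpObj.comp_inv]⟩
    exact ⟨z, hz.symm⟩
  haveI : IsAffine (specOf k A).left := inferInstanceAs (IsAffine (Spec (CommRingCat.of A)))
  haveI : LocallyOfFiniteType (specOf k A).hom :=
    inferInstanceAs (LocallyOfFiniteType (Spec (CommRingCat.of A) ↘ Spec (CommRingCat.of k)))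
  obtain ⟨Q, _, q, _, _, _, _, _, hker⟩ := Groth.Agent.S3278.result k (specOf k A) (specOf k (A ⧸ I)) i hN
  obtain ⟨H₀, ⟨eG⟩⟩ := (essImage_hopfSpec (G := Grp.mk Q)).mpr ‹IsAffine Q.left›
  let C := H₀.unop
  let φ : specOf k C ⟶ Q := eG.hom.hom.hom
  let ψ : Q ⟶ specOf k C := eG.inv.hom.hom
  have h1 : φ ≫ ψ = 𝟙 _ := congrArg (fun f => f.hom.hom) eG.hom_inv_id
  have h2 : ψ ≫ φ = 𝟙 Q := congrArg (fun f => f.hom.hom) eG.inv_hom_id
  haveI : IsMonHom ψ := eG.inv.hom.isMonHom_hom
  haveI : IsMonHom φ := eG.hom.hom.isMonHom_hom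
  obtain ⟨f, hf⟩ := (Spec.mapMulEquiv (R := k) (S := C) (T := A)).surjective (q ≫ ψ)
  have hone : ∀ (R : Type u) [CommRing R] [Algebra k R] (g : WithConv (A →ₐ[k] R)),
      toConv (g.ofConv.comp f.ofConv) = 1 → ∀ a ∈ I, g.ofConv a = 0 := by
    intro R _ _ g h
    have h3 := congrArg Spec.mapMulEquiv h
    rw [← mapMulEquiv_comp, hf, map_one, ← Category.assoc] at h3
    have h4 := congrArg (· ≫ φ) h3
    simp only [Category.assoc, h2, Category.comp_id, MonObj.one_comp] at h4
    exact (hfac R g).1 ⟨hker.lift _ (toUnit _) (h4.trans Hom.one_def), hker.lift_fst _ _ _⟩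
  have hmulf : ∀ (R : Type u) [CommRing R] [Algebra k R] (g h : WithConv (A →ₐ[k] R)),
      toConv ((g * h).ofConv.comp f.ofConv) =
        toConv (g.ofConv.comp f.ofConv) * toConv (h.ofConv.comp f.ofConv) := by
    intro R _ _ g h
    apply Spec.mapMulEquiv.injective
    rw [map_mul, ← mapMulEquiv_comp, ← mapMulEquiv_comp, ← mapMulEquiv_comp, map_mul, hf,
      MonObj.mul_comp]
  have hkill : ∀ (R : Type u) [CommRing R] [Algebra k R] (n : WithConv (A →ₐ[k] R)),
      (∀ a ∈ I, n.ofConv a = 0) → toConv (n.ofConv.comp f.ofConv) = 1 := by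
    intro R _ _ n hn
    obtain ⟨z, hz⟩ := (hfac R n).2 hn
    apply Spec.mapMulEquiv.injective
    rw [← mapMulEquiv_comp, hf, map_one, ← hz, Category.assoc, ← Category.assoc i, hker.w, ← Hom.one_def,
      MonObj.one_comp, MonObj.comp_one]
  have hmem : ∀ c, f.ofConv c ∈ coinv k I := fun c => mem_coinv_iff.2 fun R _ _ g n hn => by
    have := congrArg (fun z : WithConv (C →ₐ[k] R) => z.ofConv c) (hmulf R g n)
    rw [hkill R n hn, _root_.mul_one] at this
    exact this
  have hε : ∀ c, Coalgebra.counit (R := k) (f.ofConv c) = Coalgebra.counit (R := k) c := fun c => by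
    have := congrArg (fun z : WithConv (C →ₐ[k] k) => z.ofConv c)
      (hkill k 1 fun a ha => by
        rw [AlgHom.convOne_apply]
        exact (congrArg _ ((‹I.IsHopfIdeal k›).toIsCoideal.counit_eq_zero ha)).trans (map_zero _))
    simpa [AlgHom.convOne_apply] using this
  intro a ha
  rw [← Ideal.Quotient.eq_zero_iff_mem]
  refine hone (A ⧸ SGA3.augIdealSpan k A (coinv k I)) (toConv (Ideal.Quotient.mkₐ k _))
    (WithConv.ofConv_injective (AlgHom.ext fun c => ?_)) a ha
  change Ideal.Quotient.mkₐ k _ (f.ofConv c) = _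
  rw [AlgHom.convOne_apply, ← AlgHom.commutes (Ideal.Quotient.mkₐ k (SGA3.augIdealSpan k A (coinv k I))),
    Ideal.Quotient.mkₐ_eq_mk, Ideal.Quotient.eq]
  refine Ideal.subset_span ⟨sub_mem (hmem c) (Subalgebra.algebraMap_mem _ _), ?_⟩
  rw [map_sub, Bialgebra.counit_algebraMap, hε, sub_self]

section Transfer

variable {A₀ : Type u} [CommRing A₀] [HopfAlgebra k A₀] (incl : A₀ →ₐc[k] A) (hinc : Function.Injective incl)

include hinc in
theorem quotientMap_injective :
    Function.Injective (Ideal.quotientMapₐ I (incl : A₀ →ₐ[k] A) (le_refl (I.comap (incl : A₀ →ₐ[k] A)))) :=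
  Ideal.quotientMap_injective

include hinc in
theorem isHopfIdeal_comap [I.IsHopfIdeal k] : (I.comap (incl : A₀ →ₐ[k] A)).IsHopfIdeal k := by
  refine { toIsCoideal := ⟨fun x hx => ?_, fun x hx => ?_⟩, antipode_mem := fun x hx => ?_ }
  · rw [← CoalgHomClass.counit_comp_apply incl x]
    exact (‹I.IsHopfIdeal k›).toIsCoideal.counit_eq_zero hx
  · let J := I.comap (incl : A₀ →ₐ[k] A)
    let e := (Ideal.quotientMapₐ I (incl : A₀ →ₐ[k] A) (le_refl J)).toLinearMap
    have he : Function.Injective e := quotientMap_injective incl hinc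
    let π₀ := (Ideal.Quotient.mkₐ k J).toLinearMap
    let π := (Ideal.Quotient.mkₐ k I).toLinearMap
    have h : TensorProduct.map π₀ π₀ (Coalgebra.comul (R := k) x) = 0 := by
      apply TensorProduct.map_injective_of_flat_flat e e he he
      rw [map_zero, ← LinearMap.comp_apply, ← TensorProduct.map_comp,
        show e ∘ₗ π₀ = π ∘ₗ (incl : A₀ →ₗ[k] A) from rfl, TensorProduct.map_comp, LinearMap.comp_apply,
        show TensorProduct.map (incl : A₀ →ₗ[k] A) (incl : A₀ →ₗ[k] A) (Coalgebra.comul (R := k) x) =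
          Coalgebra.comul (R := k) (incl x) from CoalgHomClass.map_comp_comul_apply incl x]
      exact (‹I.IsHopfIdeal k›).toIsCoideal.map_mkQ_comul_eq_zero hx
    exact h
  · change incl (HopfAlgebraStruct.antipode k x) ∈ I
    rw [show incl (HopfAlgebraStruct.antipode k x) = _ from Groth.L25.Char.bialgHom_antipode incl x]
    exact Ideal.IsHopfIdeal.antipode_mem (R := k) hx

include hinc in
theorem isNormal_comap (hI : SGA3.IsNormalHopfIdeal k A I) :
    SGA3.IsNormalHopfIdeal k A₀ (I.comap (incl : A₀ →ₐ[k] A)) := by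
  intro R _ _ g h hh a ha
  let J := I.comap (incl : A₀ →ₐ[k] A)
  let eq' := Ideal.quotientMapₐ I (incl : A₀ →ₐ[k] A) (le_refl J)
  let L : WithConv (A₀ →ₐ[k] A₀ ⊗[k] (A₀ ⧸ J)) := toConv Algebra.TensorProduct.includeLeft
  let N : WithConv (A₀ →ₐ[k] A₀ ⊗[k] (A₀ ⧸ J)) :=
    toConv (Algebra.TensorProduct.includeRight.comp (Ideal.Quotient.mkₐ k J))
  have huniv : (L * N * pinv L).ofConv a = 0 := by
    let e : A₀ ⊗[k] (A₀ ⧸ J) →ₐ[k] A ⊗[k] (A ⧸ I) := Algebra.TensorProduct.map (incl : A₀ →ₐ[k] A) eq'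
    have he : Function.Injective e :=
      TensorProduct.map_injective_of_flat_flat (incl : A₀ →ₗ[k] A) eq'.toLinearMap hinc (quotientMap_injective incl hinc)
    let L' : WithConv (A →ₐ[k] A ⊗[k] (A ⧸ I)) := toConv Algebra.TensorProduct.includeLeft
    let N' : WithConv (A →ₐ[k] A ⊗[k] (A ⧸ I)) :=
      toConv (Algebra.TensorProduct.includeRight.comp (Ideal.Quotient.mkₐ k I))
    have hL : toConv (e.comp L.ofConv) = toConv (L'.ofConv.comp (incl : A₀ →ₐ[k] A)) :=
      WithConv.ofConv_injective (AlgHom.ext fun b => by simp [e, L, L'])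
    have hN : toConv (e.comp N.ofConv) = toConv (N'.ofConv.comp (incl : A₀ →ₐ[k] A)) :=
      WithConv.ofConv_injective (AlgHom.ext fun b => by simp [e, N, N', eq'])
    have hL' : toConv (e.comp (pinv L).ofConv) = toConv ((pinv L').ofConv.comp (incl : A₀ →ₐ[k] A)) := by
      rw [pre_pinv, ← hL]
      rfl
    have h1 : toConv (e.comp (L * N * pinv L).ofConv) =
        toConv ((L' * N' * pinv L').ofConv.comp (incl : A₀ →ₐ[k] A)) := by
      rw [post_mul, post_mul, pre_mul, pre_mul, hL, hN, hL']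
    apply he
    rw [map_zero]
    refine (congrArg (fun z : WithConv (A₀ →ₐ[k] A ⊗[k] (A ⧸ I)) => z.ofConv a) h1).trans ?_
    refine conj_kills hI L' N' (fun b hb => ?_) (incl a) ha
    change (1 : A) ⊗ₜ[k] Ideal.Quotient.mkₐ k I b = 0
    rw [show Ideal.Quotient.mkₐ k I b = 0 from Ideal.Quotient.eq_zero_iff_mem.2 hb, TensorProduct.tmul_zero]
  let p : A₀ ⊗[k] (A₀ ⧸ J) →ₐ[k] R :=
    Algebra.TensorProduct.lift g (Ideal.Quotient.liftₐ J h hh) fun _ _ => Commute.all _ _
  have h1 : toConv (p.comp (L * N * pinv L).ofConv) = toConv g * toConv h * pinv (toConv g) := by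
    rw [post_mul, post_mul]
    congr 1
    · congr 1
      · exact WithConv.ofConv_injective (AlgHom.ext fun b => by simp [p, L])
      · exact WithConv.ofConv_injective (AlgHom.ext fun b => by simp [p, N])
    · exact WithConv.ofConv_injective (AlgHom.ext fun b => by simp [p, L, pinv])
  have h2 := congrArg (fun z : WithConv (A₀ →ₐ[k] R) => z.ofConv a) h1
  change p ((L * N * pinv L).ofConv a) = _ at h2
  rw [huniv, map_zero, show toConv g * toConv h * pinv (toConv g) =
    toConv (Dyn.conv3 k A₀ g h (g.comp (HopfAlgebra.antipodeAlgHom k A₀))) by rw [toConv_conv3]; rfl] at h2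
  exact h2.symm

theorem map_mem_coinv {x : A₀} (hx : x ∈ coinv k (I.comap (incl : A₀ →ₐ[k] A))) : incl x ∈ coinv k I := by
  refine mem_coinv_iff.2 fun R _ _ g n hn => ?_
  have := mem_coinv_iff.1 hx R (toConv (g.ofConv.comp (incl : A₀ →ₐ[k] A)))
    (toConv (n.ofConv.comp (incl : A₀ →ₐ[k] A))) fun a ha => hn _ ha
  rw [← pre_mul] at this
  exact this

end Transfer

/-- A normal Hopf ideal is generated by the augmentation ideal of its invariants. -/
theorem eq_augIdealSpan [I.IsHopfIdeal k] (hI : SGA3.IsNormalHopfIdeal k A I) :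
    I = SGA3.augIdealSpan k A (coinv k I) := by
  classical
  refine le_antisymm (fun x hx => ?_) augIdealSpan_coinv_le
  obtain ⟨A₀, hxA, hfg, hA₀⟩ := Groth.L25.HopfSub.exists_fg k A {x}
  letI := Groth.L25.HopfSub.hopfAlgebra hA₀
  haveI : Algebra.FiniteType k A₀ := A₀.fg_iff_finiteType.1 hfg
  let incl := Groth.L25.HopfSub.inclBialg hA₀
  have hinc : Function.Injective incl := fun a b h => Subtype.ext h
  haveI := isHopfIdeal_comap (I := I) incl hinc
  have h1 : (⟨x, hxA (Finset.mem_singleton_self x)⟩ : A₀) ∈ I.comap (incl : A₀ →ₐ[k] A) := hx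
  have h2 := le_augIdealSpan_of_finiteType (isNormal_comap incl hinc hI) h1
  have h3 : SGA3.augIdealSpan k A₀ (coinv k (I.comap (incl : A₀ →ₐ[k] A))) ≤
      (SGA3.augIdealSpan k A (coinv k I)).comap (incl : A₀ →ₐ[k] A) := by
    rw [SGA3.augIdealSpan, Ideal.span_le]
    rintro y ⟨hy, hy0⟩
    refine Ideal.subset_span ⟨map_mem_coinv incl hy, ?_⟩
    exact (CoalgHomClass.counit_comp_apply incl y).trans hy0
  exact h3 h2

/-- The invariants of the kernel of a quotient give back the quotient. -/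
theorem coinv_augIdealSpan {B : Subalgebra k A} (hB : SGA3.IsHopfSubalgebra k A B) :
    coinv k (SGA3.augIdealSpan k A B) = B := by
  letI := Groth.L25.HopfSub.hopfAlgebra hB
  let incl := Groth.L25.HopfSub.inclBialg hB
  refine le_antisymm (fun x hx => ?_) fun x hx => mem_coinv_iff.2 fun R _ _ g n hn => ?_
  · obtain ⟨c, hc⟩ := Groth.L25.UnipExt.mem_range_of_fixed incl (J := SGA3.augIdealSpan k A B) (by
      refine le_antisymm (Ideal.span_le.2 ?_) (Ideal.map_le_iff_le_comap.2 ?_)
      · rintro a ⟨ha, ha0⟩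
        refine Ideal.mem_map_of_mem (incl : B →+* A) (x := (⟨a, ha⟩ : B)) ?_
        exact (CoalgHomClass.counit_comp_apply incl _).symm.trans ha0
      · intro c hc
        exact Ideal.subset_span ⟨c.2, (CoalgHomClass.counit_comp_apply incl c).trans hc⟩) (mem_coinv.1 hx)
    rw [← hc]
    exact c.2
  · obtain ⟨z, hz⟩ := hB.1 x hx
    have hnb : ∀ b : B, n.ofConv (b : A) = algebraMap k R (Coalgebra.counit (R := k) (b : A)) := by
      intro b
      rw [← sub_eq_zero, ← AlgHom.commutes n.ofConv, ← map_sub]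
      refine hn _ (Ideal.subset_span ⟨sub_mem b.2 (Subalgebra.algebraMap_mem _ _), ?_⟩)
      rw [map_sub, Bialgebra.counit_algebraMap, sub_self]
    have h1 : ∀ z : B ⊗[k] B, LinearMap.mul' k R (TensorProduct.map g.ofConv.toLinearMap n.ofConv.toLinearMap
        (TensorProduct.map B.val.toLinearMap B.val.toLinearMap z)) =
          g.ofConv (TensorProduct.rid k A ((Coalgebra.counit (R := k) (A := A)).lTensor A
            (TensorProduct.map B.val.toLinearMap B.val.toLinearMap z))) := by
      intro z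
      induction z with
      | zero => simp
      | add p q hp hq => simp only [map_add, hp, hq]
      | tmul p q => simp [hnb, Algebra.smul_def, mul_comm]
    rw [AlgHom.convMul_apply, ← hz]
    refine ((?_ : _ = _).trans (h1 z)).trans ?_
    · induction TensorProduct.map B.val.toLinearMap B.val.toLinearMap z with
      | zero => simp
      | add p q hp hq => simp only [map_add, hp, hq]
      | tmul p q => simp
    · rw [hz, Coalgebra.lTensor_counit_comul]
      simp

theorem coe_coinv : (coinv k I : Set A) = {x : A | Coalgebra.comul (R := k) x - x ⊗ₜ[k] (1 : A) ∈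
    LinearMap.range (LinearMap.lTensor A (I.restrictScalars k).subtype)} := by
  ext x
  have hex : Function.Exact (LinearMap.lTensor A (I.restrictScalars k).subtype)
      (LinearMap.lTensor A (Ideal.Quotient.mkₐ k I).toLinearMap) := by
    refine lTensor_exact A (fun y => ?_) Ideal.Quotient.mk_surjective
    exact ⟨fun h => ⟨⟨y, Ideal.Quotient.eq_zero_iff_mem.1 h⟩, rfl⟩,
      by rintro ⟨⟨w, hw⟩, rfl⟩; exact Ideal.Quotient.eq_zero_iff_mem.2 hw⟩
  rw [SetLike.mem_coe, mem_coinv, Set.mem_setOf_eq, LinearMap.mem_range, ← Set.mem_range, ← hex, map_sub,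
    sub_eq_zero, LinearMap.lTensor_tmul]
  simp [LinearMap.lTensor_def]

end Groth.L01.NormalHopf
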