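import Groth.Prelude.Def_Found
import Groth.Agent.L03.Japanese
import Mathlib.FieldTheory.PurelyInseparable.Basic
import Mathlib.FieldTheory.Galois.Basic
import Mathlib.FieldTheory.Normal.Closure
import Mathlib.RingTheory.DedekindDomain.IntegralClosure
import Mathlib.RingTheory.IntegralClosure.IntegralRestrict

/-!
Reductions for N-1 and N-2 domains: purely inseparable extensions suffice; N-2 passes to finite
extensions.
-/

universe u

namespace Groth.L01.N2

open IntermediateField

theorem finite_integralClosure_of_algHom {R : Type u} [CommRing R] [IsNoetherianRing R] {L M : Type u}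
    [CommRing L] [CommRing M] [Algebra R L] [Algebra R M] (f : L →ₐ[R] M) (hf : Function.Injective f)
    (h : Module.Finite R (integralClosure R M)) : Module.Finite R (integralClosure R L) := by
  let g : integralClosure R L →ₗ[R] integralClosure R M :=
    { toFun := fun x => ⟨f x, x.2.map f⟩
      map_add' := fun a b => Subtype.ext (map_add f _ _)
      map_smul' := fun r a => Subtype.ext (map_smul f r (a : L)) }
  exact Module.Finite.of_injective g fun a b h => Subtype.ext (hf (congrArg Subtype.val h))

/-- finiteness of integral closure passes through a separable extension -/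
theorem finite_integralClosure_of_separable (R : Type u) [CommRing R] [IsDomain R] [IsNoetherianRing R]
    (K K' M : Type u) [Field K] [Field K'] [Field M] [Algebra R K] [IsFractionRing R K] [Algebra R K']
    [Algebra K K'] [IsScalarTower R K K'] [FiniteDimensional K K'] [Algebra K' M] [Algebra R M]
    [IsScalarTower R K' M] [FiniteDimensional K' M] [Algebra.IsSeparable K' M]
    (h : Module.Finite R (integralClosure R K')) : Module.Finite R (integralClosure R M) := by
  let S := integralClosure R K'
  haveI : IsFractionRing S K' := integralClosure.isFractionRing_of_finite_extension K K'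
  haveI : IsIntegrallyClosed S := integralClosure.isIntegrallyClosedOfFiniteExtension K
  haveI : IsNoetherianRing S := by
    haveI := h
    exact IsNoetherianRing.of_finite R S
  haveI : IsScalarTower S K' M := IsScalarTower.of_algebraMap_eq fun _ => rfl
  haveI : IsScalarTower R S M := IsScalarTower.of_algebraMap_eq fun r =>
    (IsScalarTower.algebraMap_apply R K' M r)
  haveI : Module.Finite S (integralClosure S M) := IsIntegralClosure.finite S K' M (integralClosure S M)
  haveI := h
  haveI : Module.Finite R (integralClosure S M) := Module.Finite.trans S _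
  let e : integralClosure S M →ₗ[R] integralClosure R M :=
    { toFun := fun x => ⟨x, isIntegral_trans (R := R) (A := S) x.1 x.2⟩
      map_add' := fun _ _ => rfl
      map_smul' := fun _ _ => rfl }
  exact Module.Finite.of_surjective e fun x => ⟨⟨x, x.2.tower_top⟩, rfl⟩

/-- the fixed field of all automorphisms of a normal extension is purely inseparable -/
theorem isPurelyInseparable_fixedField {K M : Type u} [Field K] [Field M] [Algebra K M]
    [FiniteDimensional K M] [Normal K M] :
    IsPurelyInseparable K (fixedField (⊤ : Subgroup Gal(M/K))) := by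
  classical
  rw [isPurelyInseparable_iff_natSepDegree_eq_one]
  intro a
  rw [show minpoly K a = minpoly K (a : M) from
    (minpoly.algebraMap_eq (fixedField (⊤ : Subgroup Gal(M/K))).val.injective a).symm,
    Polynomial.natSepDegree_eq_of_splits (E := M) _ (Normal.splits inferInstance (a : M)),
    Finset.card_eq_one]
  refine ⟨(a : M), Finset.ext fun y => ?_⟩
  rw [Multiset.mem_toFinset, Finset.mem_singleton, Polynomial.mem_aroots]
  refine ⟨fun h => ?_, fun h => h ▸ ⟨minpoly.ne_zero (Algebra.IsIntegral.isIntegral _), minpoly.aeval K _⟩⟩
  obtain ⟨σ, hσ⟩ := minpoly.exists_algEquiv_of_root' (Algebra.IsAlgebraic.isAlgebraic (a : M)) h.2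
  rw [← hσ]
  exact (IntermediateField.mem_fixedField_iff _ _).mp a.2 σ (Subgroup.mem_top σ)

theorem isN2_of_purelyInseparable (R : Type u) [CommRing R] [IsDomain R] [IsNoetherianRing R]
    (h : ∀ (K' : Type u) [Field K'] [Algebra R K'] [Algebra (FractionRing R) K']
      [IsScalarTower R (FractionRing R) K'], FiniteDimensional (FractionRing R) K' →
      IsPurelyInseparable (FractionRing R) K' → Module.Finite R (integralClosure R K')) :
    CAlg.IsN2 R := by
  intro L _ _ _ _ hfd
  haveI := hfd
  let K := FractionRing R
  let C := AlgebraicClosure L
  let M := IntermediateField.normalClosure K L C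
  let g : L →ₐ[K] M := (IsScalarTower.toAlgHom K L C).codRestrict M.toSubalgebra
    fun x => AlgHom.fieldRange_le_normalClosure (IsScalarTower.toAlgHom K L C) ⟨x, rfl⟩
  refine finite_integralClosure_of_algHom (g.restrictScalars R) g.injective ?_
  let P := fixedField (⊤ : Subgroup Gal(M/K))
  haveI : IsGalois P M := IsGalois.of_fixed_field M (⊤ : Subgroup Gal(M/K))
  haveI : IsScalarTower R P M := IsScalarTower.of_algebraMap_eq fun _ => rfl
  exact finite_integralClosure_of_separable R K P M (h P inferInstance isPurelyInseparable_fixedField)

theorem isN2_of_isN1_of_charZero (R : Type u) [CommRing R] [IsDomain R] [IsNoetherianRing R]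
    [CharZero R] (h : CAlg.IsN1 R) : CAlg.IsN2 R := by
  intro L _ _ _ _ hfd
  haveI := hfd
  haveI : CharZero (FractionRing R) := charZero_of_injective_algebraMap (IsFractionRing.injective R (FractionRing R))
  exact finite_integralClosure_of_separable R (FractionRing R) (FractionRing R) L h

theorem isN1_of_isN2 (R : Type u) [CommRing R] [IsDomain R] (h : CAlg.IsN2 R) : CAlg.IsN1 R :=
  h (FractionRing R) inferInstance

theorem isN1_of_isIntegrallyClosed (R : Type u) [CommRing R] [IsDomain R] [IsIntegrallyClosed R] :
    CAlg.IsN1 R := by
  refine Module.Finite.of_surjective (Algebra.linearMap R (integralClosure R (FractionRing R))) fun x => ?_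
  obtain ⟨r, hr⟩ := IsIntegrallyClosed.isIntegral_iff.mp x.2
  exact ⟨r, Subtype.ext hr⟩

/-- N-2 passes to finite extensions -/
theorem isN2_of_finite {R S : Type u} [CommRing R] [IsDomain R] [CommRing S] [IsDomain S] [Algebra R S]
    [Module.Finite R S] (hinj : Function.Injective (algebraMap R S)) (h : CAlg.IsN2 R) : CAlg.IsN2 S := by
  intro L _ _ _ _ hfd
  haveI := hfd
  haveI : FaithfulSMul R S := (faithfulSMul_iff_algebraMap_injective R S).mpr hinj
  letI : Algebra R L := Algebra.compHom L (algebraMap R S)
  haveI : IsScalarTower R S L := IsScalarTower.of_algebraMap_eq fun _ => rfl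
  letI := FractionRing.liftAlgebra R (FractionRing S)
  haveI := FractionRing.isScalarTower_liftAlgebra R (FractionRing S)
  haveI : Algebra.IsAlgebraic R S := inferInstance
  haveI : IsLocalization (Algebra.algebraMapSubmonoid S (nonZeroDivisors R)) (FractionRing S) :=
    inferInstance
  haveI : FiniteDimensional (FractionRing R) (FractionRing S) := .of_isLocalization R S (nonZeroDivisors R)
  letI : Algebra (FractionRing R) L :=
    Algebra.compHom L (algebraMap (FractionRing R) (FractionRing S))
  haveI : IsScalarTower (FractionRing R) (FractionRing S) L := IsScalarTower.of_algebraMap_eq fun _ => rfl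
  haveI : IsScalarTower R (FractionRing R) L := IsScalarTower.of_algebraMap_eq fun r => by
    change algebraMap S L (algebraMap R S r) =
      algebraMap (FractionRing S) L (algebraMap (FractionRing R) (FractionRing S) (algebraMap R _ r))
    rw [← IsScalarTower.algebraMap_apply R (FractionRing R) (FractionRing S),
      IsScalarTower.algebraMap_apply R S (FractionRing S), ← IsScalarTower.algebraMap_apply S (FractionRing S) L]
  haveI : FiniteDimensional (FractionRing R) L := Module.Finite.trans (FractionRing S) L
  haveI := h L inferInstance
  let e : integralClosure R L →ₗ[R] integralClosure S L :=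
    { toFun := fun x => ⟨x, x.2.tower_top⟩
      map_add' := fun _ _ => rfl
      map_smul' := fun _ _ => rfl }
  haveI : Module.Finite R (integralClosure S L) :=
    Module.Finite.of_surjective e fun x => ⟨⟨x, isIntegral_trans (R := R) (A := S) x.1 x.2⟩, rfl⟩
  exact Module.Finite.of_restrictScalars_finite R S _

theorem isN2_quotient_congr {R : Type u} [CommRing R] {I J : Ideal R} [I.IsPrime] [J.IsPrime] (h : I = J)
    (hI : CAlg.IsN2 (R ⧸ I)) : CAlg.IsN2 (R ⧸ J) := by
  letI : Algebra (R ⧸ I) (R ⧸ J) := (Ideal.quotEquivOfEq h).toRingHom.toAlgebra
  exact Groth.L03.Japanese.isN2_of_bijective (Ideal.quotEquivOfEq h).bijective hI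

end Groth.L01.N2
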