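import Groth.Agent.L01.NormalLocus
import Mathlib.RingTheory.Finiteness.Basic
import Mathlib.RingTheory.Localization.FractionRing
import Mathlib.RingTheory.IntegralClosure.IsIntegralClosure.Basic

/-!
Finiteness of the normalization is local at maximal ideals once some basic open is normal.
-/

universe u

namespace Groth.L01.NormalLocus

variable {R : Type u} [CommRing R] [IsDomain R]

/-- `N` contains all integral elements at `p`. -/
def GoodAt (N : Submodule R (FractionRing R)) (p : Ideal R) : Prop :=
  ∀ x : FractionRing R, IsIntegral R x → ∃ s, s ∉ p ∧ s • x ∈ N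

theorem smul_left_cancel_frac {a : R} (ha : a ≠ 0) {x y : FractionRing R} (h : a • x = a • y) : x = y := by
  rw [Algebra.smul_def, Algebra.smul_def] at h
  exact mul_left_cancel₀ (IsFractionRing.to_map_ne_zero_of_mem_nonZeroDivisors (mem_nonZeroDivisors_of_ne_zero ha)) h

variable (N : Submodule R (FractionRing R)) [IsNoetherianRing R] [Module.Finite R N]

/-- `fⁿ N` as a submodule of `N`. -/
noncomputable abbrev powSub (f : R) (n : ℕ) : Submodule R N :=
  LinearMap.range (LinearMap.lsmul R N (f ^ n))

theorem associatedPrimes_powSub_subset {f : R} (hf : f ≠ 0) :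
    ∀ n, associatedPrimes R (N ⧸ powSub N f (n + 1)) ⊆ associatedPrimes R (N ⧸ powSub N f 1)
  | 0 => le_rfl
  | n + 1 => by
    let i : (N ⧸ powSub N f (n + 1)) →ₗ[R] (N ⧸ powSub N f (n + 2)) :=
      Submodule.mapQ _ _ (LinearMap.lsmul R N f) (by
        rintro _ ⟨c, rfl⟩
        exact ⟨c, by simp only [LinearMap.lsmul_apply, smul_smul]; ring_nf⟩)
    let q : (N ⧸ powSub N f (n + 2)) →ₗ[R] (N ⧸ powSub N f 1) :=
      Submodule.factor (by
        rintro _ ⟨c, rfl⟩
        exact ⟨f ^ (n + 1) • c, by simp only [LinearMap.lsmul_apply, smul_smul]; ring_nf⟩)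
    refine (associatedPrimes.subset_union_of_exact (f := i) (g := q) ?_ ?_).trans
      (Set.union_subset (associatedPrimes_powSub_subset hf n) le_rfl)
    · rw [← LinearMap.ker_eq_bot, LinearMap.ker_eq_bot']
      intro a ha
      obtain ⟨a, rfl⟩ := Submodule.Quotient.mk_surjective _ a
      rw [Submodule.mapQ_apply, Submodule.Quotient.mk_eq_zero] at ha
      obtain ⟨c, hc⟩ := ha
      rw [Submodule.Quotient.mk_eq_zero]
      refine ⟨c, Subtype.ext (smul_left_cancel_frac hf ?_)⟩
      have := congrArg Subtype.val hc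
      simp only [LinearMap.lsmul_apply, Submodule.coe_smul] at this ⊢
      rw [← this, smul_smul, ← pow_succ']
    · intro a
      obtain ⟨a, rfl⟩ := Submodule.Quotient.mk_surjective _ a
      refine ⟨fun ha => ?_, ?_⟩
      · change Submodule.Quotient.mk a = 0 at ha
        rw [Submodule.Quotient.mk_eq_zero] at ha
        obtain ⟨c, rfl⟩ := ha
        exact ⟨Submodule.Quotient.mk c, by simp [i]⟩
      · rintro ⟨b, hb⟩
        obtain ⟨b, rfl⟩ := Submodule.Quotient.mk_surjective _ b
        rw [← hb]
        change Submodule.Quotient.mk (f • b) = 0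
        rw [Submodule.Quotient.mk_eq_zero]
        exact ⟨b, by simp⟩

/-- The obstructions for `N`. -/
def badN (f : R) : Set (Ideal R) := {P ∈ associatedPrimes R (N ⧸ powSub N f 1) | ¬ GoodAt N P}

theorem goodAt_of_forall_badN {f : R} (hf : f ≠ 0) (hn : IsIntegrallyClosed (Localization.Away f))
    (h1 : (1 : FractionRing R) ∈ N) (p : Ideal R) [p.IsPrime] (h : ∀ P ∈ badN N f, ¬ P ≤ p) :
    GoodAt N p := by
  intro x hx
  obtain ⟨n, a, ha⟩ := exists_pow_of_normal_away hf hn x hx
  by_contra hcon
  push Not at hcon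
  have hmem : f ^ (n + 1) • x ∈ N := by
    rw [Algebra.smul_def, pow_succ', map_mul, mul_assoc, ha, ← map_mul]
    simpa [Algebra.smul_def] using N.smul_mem (f * a) h1
  let v : R →ₗ[R] N := LinearMap.toSpanSingleton R N ⟨_, hmem⟩
  let J : Ideal R := Submodule.comap v (powSub N f (n + 1))
  have hJ : ∀ s, s ∈ J ↔ s • x ∈ N := by
    intro s
    constructor
    · rintro ⟨c, hc⟩
      have := congrArg Subtype.val hc
      simp only [v, LinearMap.lsmul_apply, LinearMap.toSpanSingleton_apply, Submodule.coe_smul] at this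
      rw [smul_comm] at this
      rw [← smul_left_cancel_frac (pow_ne_zero _ hf) this]
      exact c.2
    · intro hs
      refine ⟨⟨_, hs⟩, Subtype.ext ?_⟩
      simp only [v, LinearMap.lsmul_apply, LinearMap.toSpanSingleton_apply, Submodule.coe_smul]
      exact smul_comm _ _ _
  have hJp : J ≤ p := fun s hs => by
    by_contra hsp
    exact hcon s hsp ((hJ s).mp hs)
  obtain ⟨P, hP, hPp⟩ := Ideal.exists_minimalPrimes_le hJp
  have hPJ : P ∈ associatedPrimes R (R ⧸ J) :=
    Module.associatedPrimes.minimalPrimes_annihilator_subset_associatedPrimes R (R ⧸ J) (by rwa [Ideal.annihilator_quotient])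
  have hass : P ∈ associatedPrimes R (N ⧸ powSub N f (n + 1)) := by
    refine associatedPrimes.subset_of_injective (f := Submodule.mapQ J _ v le_rfl) ?_ hPJ
    rw [← LinearMap.ker_eq_bot]
    exact Submodule.ker_liftQ_eq_bot _ _ _ (by rw [LinearMap.ker_comp, Submodule.ker_mkQ])
  have hgood : GoodAt N P := by
    by_contra hb
    exact h P ⟨associatedPrimes_powSub_subset N hf n hass, hb⟩ hPp
  obtain ⟨s, hs, hsx⟩ := hgood x hx
  exact hs (hP.1.2 ((hJ s).mpr hsx))

theorem isOpen_goodAt {f : R} (hf : f ≠ 0) (hn : IsIntegrallyClosed (Localization.Away f))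
    (h1 : (1 : FractionRing R) ∈ N) : IsOpen {p : PrimeSpectrum R | GoodAt N p.asIdeal} := by
  have hset : {p : PrimeSpectrum R | GoodAt N p.asIdeal} =
      (⋃ P ∈ badN N f, PrimeSpectrum.zeroLocus (P : Set R))ᶜ := by
    ext p
    simp only [Set.mem_ofPred_eq, Set.mem_compl_iff, Set.mem_iUnion, PrimeSpectrum.mem_zeroLocus,
      SetLike.coe_subset_coe, not_exists]
    refine ⟨fun h P hP hle => hP.2 fun x hx => ?_, fun h => goodAt_of_forall_badN N hf hn h1 p.asIdeal h⟩
    obtain ⟨s, hs, hsx⟩ := h x hx
    exact ⟨s, fun h' => hs (hle h'), hsx⟩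
  rw [hset, isOpen_compl_iff]
  exact ((associatedPrimes.finite R _).subset (fun _ h => h.1) : (badN N f).Finite).isClosed_biUnion
    fun P _ => PrimeSpectrum.isClosed_zeroLocus _

omit N in
/-- If some basic open is normal and near each maximal ideal some finite submodule carries the integral
closure, then the integral closure is finite. -/
theorem finite_integralClosure {f : R} (hf : f ≠ 0) (hn : IsIntegrallyClosed (Localization.Away f))
    (h : ∀ (m : Ideal R), m.IsMaximal → ∃ T : Finset (FractionRing R), (∀ t ∈ T, IsIntegral R t) ∧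
      GoodAt (Submodule.span R (T : Set (FractionRing R))) m) :
    Module.Finite R (integralClosure R (FractionRing R)) := by
  classical
  choose T hT hgood using h
  let T' : ∀ m : Ideal R, m.IsMaximal → Finset (FractionRing R) := fun m hm => insert 1 (T m hm)
  let U : {m : Ideal R // m.IsMaximal} → Set (PrimeSpectrum R) := fun m =>
    {p | GoodAt (Submodule.span R (T' m.1 m.2 : Set (FractionRing R))) p.asIdeal}
  have hU : ∀ m, IsOpen (U m) := fun m => by
    haveI : Module.Finite R (Submodule.span R (T' m.1 m.2 : Set (FractionRing R))) :=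
      Module.Finite.span_of_finite R (Finset.finite_toSet _)
    exact isOpen_goodAt _ hf hn (Submodule.subset_span (Finset.mem_insert_self _ _))
  have hcov : (Set.univ : Set (PrimeSpectrum R)) ⊆ ⋃ m, U m := fun p _ => by
    obtain ⟨m, hm, hpm⟩ := p.asIdeal.exists_le_maximal p.isPrime.ne_top
    refine Set.mem_iUnion.mpr ⟨⟨m, hm⟩, fun x hx => ?_⟩
    obtain ⟨s, hs, hsx⟩ := hgood m hm x hx
    exact ⟨s, fun h' => hs (hpm h'), Submodule.span_mono (Finset.coe_subset.mpr (Finset.subset_insert _ _)) hsx⟩
  obtain ⟨S, hS⟩ := isCompact_univ.elim_finite_subcover U hU hcov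
  let N : Submodule R (FractionRing R) := Submodule.span R ((S.biUnion fun m => T' m.1 m.2 : Finset _) : Set (FractionRing R))
  have heq : Subalgebra.toSubmodule (integralClosure R (FractionRing R)) = N := by
    refine le_antisymm (fun x (hx : IsIntegral R x) => ?_) (Submodule.span_le.mpr fun t ht => ?_)
    · let J : Ideal R := N.comap (LinearMap.toSpanSingleton R _ x)
      have hJ : J = ⊤ := by
        by_contra hne
        obtain ⟨m, hm, hJm⟩ := J.exists_le_maximal hne
        obtain ⟨m', hm'S, hm'⟩ := Set.mem_iUnion₂.mp (hS (Set.mem_univ (⟨m, hm.isPrime⟩ : PrimeSpectrum R)))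
        obtain ⟨s, hs, hsx⟩ := hm' x hx
        refine hs (hJm (?_ : s ∈ J))
        exact Submodule.span_mono (Finset.coe_subset.mpr (Finset.subset_biUnion_of_mem (fun m : {m : Ideal R // m.IsMaximal} => T' m.1 m.2) hm'S)) hsx
      have : (1 : R) ∈ J := hJ ▸ Submodule.mem_top
      simpa [J] using this
    · obtain ⟨m, -, hmt⟩ := Finset.mem_biUnion.mp ht
      rcases Finset.mem_insert.mp hmt with rfl | h'
      · exact isIntegral_one
      · exact hT m.1 m.2 t h'
  exact (Module.Finite.iff_fg (N := Subalgebra.toSubmodule (integralClosure R (FractionRing R)))).mpr (heq ▸ ⟨_, rfl⟩)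

end Groth.L01.NormalLocus
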