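import Groth.Agent.L01.CompletionExt
import Groth.Agent.L01.NormalLocusN
import Groth.Agent.L03.Japanese2
import Mathlib.RingTheory.FiniteType
import Mathlib.Algebra.Polynomial.Lifts
import Mathlib.RingTheory.Polynomial.ScaleRoots

/-!
`R[x]` is N-1 for a normal Nagata domain `R` and `x` in its fraction field.
-/

universe u

namespace Groth.L01.NagataAdjoin

open IsLocalRing

theorem isNagata_localization {A : Type u} [CommRing A] (hA : CAlg.IsNagata A) (M : Submonoid A)
    (S : Type u) [CommRing S] [Algebra A S] [IsLocalization M S] : CAlg.IsNagata S := by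
  haveI := hA.1
  haveI : IsNoetherianRing S := IsLocalization.isNoetherianRing M S inferInstance
  refine ⟨inferInstance, fun P _ => ?_⟩
  let p := P.comap (algebraMap A S)
  have hmap : p.map (algebraMap A S) = P := IsLocalization.map_comap M S P
  letI : Algebra (A ⧸ p) (S ⧸ P) := (Ideal.quotientMap P (algebraMap A S) le_rfl).toAlgebra
  haveI : IsLocalization (M.map (Ideal.Quotient.mk p)) (S ⧸ P) := by
    rw [isLocalization_iff]
    refine ⟨?_, ?_, ?_⟩
    · rintro ⟨_, m, hm, rfl⟩
      exact (IsLocalization.map_units S (⟨m, hm⟩ : M)).map (Ideal.Quotient.mk P)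
    · intro z
      obtain ⟨z, rfl⟩ := Ideal.Quotient.mk_surjective z
      obtain ⟨⟨a, m⟩, h⟩ := IsLocalization.surj M z
      exact ⟨⟨Ideal.Quotient.mk p a, ⟨_, m, m.2, rfl⟩⟩, congrArg (Ideal.Quotient.mk P) h⟩
    · intro a b h
      obtain ⟨a, rfl⟩ := Ideal.Quotient.mk_surjective a
      obtain ⟨b, rfl⟩ := Ideal.Quotient.mk_surjective b
      refine ⟨1, ?_⟩
      rw [Submonoid.coe_one, one_mul, one_mul]
      exact Ideal.quotientMap_injective (f := algebraMap A S) (I := P) h
  exact Groth.L03.Japanese.isN2_localization (M.map (Ideal.Quotient.mk p)) (S ⧸ P) (hA.2 p)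

open Groth.L01.NormalLocus in
theorem goodAt_of_overring {S : Type u} [CommRing S] [IsDomain S] (m : Ideal S) [m.IsPrime] (A : Type u)
    [CommRing A] [Algebra A (FractionRing S)] (hfin : Module.Finite A (integralClosure A (FractionRing S)))
    (hS : ∀ s : S, IsIntegral A (algebraMap S (FractionRing S) s))
    (hA : ∀ a : A, ∃ s t : S, s ∉ m ∧ algebraMap A (FractionRing S) a * algebraMap S _ s = algebraMap S _ t) :
    ∃ T : Finset (FractionRing S), (∀ t ∈ T, IsIntegral S t) ∧
      GoodAt (Submodule.span S (T : Set (FractionRing S))) m := by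
  classical
  let K := FractionRing S
  let Sm := Localization.AtPrime m
  have hu : ∀ s : m.primeCompl, IsUnit (algebraMap S K s) := fun s =>
    IsUnit.mk0 _ ((map_ne_zero_iff _ (IsFractionRing.injective S K)).mpr fun h => s.2 (h ▸ zero_mem m))
  let ι : Sm →+* K := IsLocalization.lift (M := m.primeCompl) hu
  letI : Algebra Sm K := ι.toAlgebra
  haveI : IsScalarTower S Sm K := IsScalarTower.of_algebraMap_eq fun s => (IsLocalization.lift_eq hu s).symm
  have hle : ∀ a : A, algebraMap A K a ∈ ι.range := by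
    intro a
    obtain ⟨s, t, hs, h⟩ := hA a
    refine ⟨IsLocalization.mk' Sm t (⟨s, hs⟩ : m.primeCompl), ?_⟩
    rw [IsLocalization.lift_mk'_spec, mul_comm]
    exact h.symm
  have hinj : Function.Injective ι := by
    rw [IsLocalization.lift_injective_iff]
    intro a b
    constructor
    · intro h
      rw [IsLocalization.injective Sm (Ideal.primeCompl_le_nonZeroDivisors m) h]
    · intro h
      rw [IsFractionRing.injective S K h]
  let eι : Sm ≃+* ι.range := RingEquiv.ofBijective ι.rangeRestrict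
    ⟨fun a b h => hinj (congrArg Subtype.val h), ι.rangeRestrict_surjective⟩
  let ψ : A →+* Sm := eι.symm.toRingHom.comp ((algebraMap A K).codRestrict ι.range hle)
  letI : Algebra A Sm := ψ.toAlgebra
  haveI : IsScalarTower A Sm K := IsScalarTower.of_algebraMap_eq fun a => by
    change algebraMap A K a = ι (eι.symm ⟨algebraMap A K a, hle a⟩)
    exact (congrArg Subtype.val (eι.apply_symm_apply ⟨algebraMap A K a, hle a⟩)).symm
  obtain ⟨G, hG⟩ := hfin.fg_top
  have hsc : ∀ g : integralClosure A K, ∃ s : m.primeCompl, IsIntegral S (s • (g : K)) := fun g =>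
    IsIntegral.exists_multiple_integral_of_isLocalization (Rₘ := Sm) m.primeCompl (g : K) (g.2.tower_top (A := Sm))
  choose sc hsc using hsc
  let T : Finset K := G.image fun g => sc g • (g : K)
  refine ⟨T, fun t ht => ?_, fun x hx => ?_⟩
  · obtain ⟨g, -, rfl⟩ := Finset.mem_image.mp ht
    exact hsc g
  have hxA : IsIntegral A x := by
    obtain ⟨P, hP, hP0⟩ := hx
    have h1 : P.map (algebraMap S K) ∈ Polynomial.lifts (algebraMap (integralClosure A K) K) :=
      (Polynomial.lifts_iff_coeff_lifts _).mpr fun n => ⟨⟨_, hS (P.coeff n)⟩, by rw [Polynomial.coeff_map]; rfl⟩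
    obtain ⟨Q, hQ, -, hQm⟩ := Polynomial.lifts_and_degree_eq_and_monic h1 (hP.map _)
    exact isIntegral_trans (A := integralClosure A K) x ⟨Q, hQm, by
      rw [← Polynomial.eval_map, hQ, Polynomial.eval_map]; exact hP0⟩
  have key : ∀ y ∈ Submodule.span A (G : Set (integralClosure A K)),
      ∃ s : S, s ∉ m ∧ s • (y : K) ∈ Submodule.span S (T : Set K) := by
    intro y hy
    induction hy using Submodule.span_induction with
    | mem g hg => exact ⟨sc g, (sc g).2, Submodule.subset_span (Finset.mem_image_of_mem _ hg)⟩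
    | zero => exact ⟨1, fun h => (inferInstance : m.IsPrime).ne_top ((Ideal.eq_top_iff_one _).mpr h), by simp⟩
    | add a b _ _ ha hb =>
      obtain ⟨s, hs, hs'⟩ := ha
      obtain ⟨t, ht, ht'⟩ := hb
      refine ⟨s * t, Ideal.IsPrime.mul_notMem inferInstance hs ht, ?_⟩
      rw [Subalgebra.coe_add, smul_add, mul_comm s t, mul_smul, mul_comm t s, mul_smul]
      exact add_mem (Submodule.smul_mem _ _ hs') (Submodule.smul_mem _ _ ht')
    | smul c a _ ha =>
      obtain ⟨s, hs, hs'⟩ := ha
      obtain ⟨u, v, hu', huv⟩ := hA c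
      refine ⟨u * s, Ideal.IsPrime.mul_notMem inferInstance hu' hs, ?_⟩
      have h1 : (u * s) • ((c • a : integralClosure A K) : K) = v • (s • (a : K)) := by
        have h2 : ((c • a : integralClosure A K) : K) = algebraMap A K c * (a : K) := by
          rw [SetLike.val_smul, Algebra.smul_def]
        rw [h2, Algebra.smul_def, Algebra.smul_def, Algebra.smul_def, map_mul, ← huv]
        ring
      rw [h1]
      exact Submodule.smul_mem _ _ hs'
  exact key ⟨x, hxA⟩ (hG ▸ Submodule.mem_top)

section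
variable {R : Type u} [CommRing R] {K : Type u} [Field K] [Algebra R K]

/-- every element of `R[z]` is congruent to an element of `R` modulo `z` -/
theorem exists_dvd_sub (z : K) (v : Algebra.adjoin R {z}) : ∃ r : R,
    (⟨z, Algebra.self_mem_adjoin_singleton R z⟩ : Algebra.adjoin R {z}) ∣ v - algebraMap R _ r := by
  let S0 := Algebra.adjoin R {z}
  let zS : S0 := ⟨z, Algebra.self_mem_adjoin_singleton R z⟩
  change ∃ r : R, zS ∣ v - algebraMap R S0 r
  revert v
  rintro ⟨v, hv⟩
  induction hv using Algebra.adjoin_induction with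
  | mem w hw =>
    refine ⟨0, 1, Subtype.ext ?_⟩
    simp [zS, Set.mem_singleton_iff.mp hw]
  | algebraMap r => exact ⟨r, 0, Subtype.ext (by simp)⟩
  | add v w hv' hw' hv hw =>
    obtain ⟨r, c, hc⟩ := hv
    obtain ⟨r', c', hc'⟩ := hw
    refine ⟨r + r', c + c', ?_⟩
    rw [mul_add, ← hc, ← hc', map_add]
    apply Subtype.ext
    push_cast
    ring
  | mul v w hv' hw' hv hw =>
    obtain ⟨r, c, hc⟩ := hv
    obtain ⟨r', c', hc'⟩ := hw
    refine ⟨r * r', c * ⟨w, hw'⟩ + algebraMap R S0 r * c', ?_⟩
    rw [mul_add, ← mul_assoc, ← hc, mul_left_comm zS, ← hc', map_mul]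
    apply Subtype.ext
    push_cast
    ring

variable [IsDomain R] [IsIntegrallyClosed R] [IsFractionRing R K]

/-- `R ∩ zR[z] = R ∩ zR` for a normal domain -/
theorem exists_eq_mul_of_dvd (z : K) (r0 : R)
    (h : (⟨z, Algebra.self_mem_adjoin_singleton R z⟩ : Algebra.adjoin R {z}) ∣ algebraMap R _ r0) :
    ∃ w : R, algebraMap R K r0 = z * algebraMap R K w := by
  let S0 := Algebra.adjoin R {z}
  let zS : S0 := ⟨z, Algebra.self_mem_adjoin_singleton R z⟩
  change zS ∣ algebraMap R S0 r0 at h
  revert r0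
  rintro r ⟨w, hw⟩
  have hwK : algebraMap R K r = z * (w : K) := congrArg Subtype.val hw
  suffices hint : IsIntegral R (w : K) by
    obtain ⟨w', hw'⟩ := IsIntegrallyClosed.isIntegral_iff.mp hint
    exact ⟨w', by rw [hw', hwK]⟩
  obtain ⟨n, hn⟩ : ∃ n : ℕ, (w : K) ∈ Submodule.span R (Set.range fun i : Fin (n + 1) => z ^ (i : ℕ)) := by
    have hmono : ∀ {a b : ℕ}, a ≤ b → Submodule.span R (Set.range fun i : Fin (a + 1) => z ^ (i : ℕ)) ≤
        Submodule.span R (Set.range fun i : Fin (b + 1) => z ^ (i : ℕ)) := fun {a b} hab =>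
      Submodule.span_mono (by rintro _ ⟨i, rfl⟩; exact ⟨⟨i, by omega⟩, rfl⟩)
    have hw2 : (w : K) ∈ Submodule.span R (Submonoid.closure ({z} : Set K) : Set K) := by
      rw [← Algebra.adjoin_eq_span]; exact w.2
    generalize (w : K) = wK at hw2
    induction hw2 using Submodule.span_induction with
    | mem a ha =>
      obtain ⟨i, rfl⟩ := Submonoid.mem_closure_singleton.mp ha
      exact ⟨i, Submodule.subset_span ⟨⟨i, by omega⟩, rfl⟩⟩
    | zero => exact ⟨0, zero_mem _⟩
    | add a b _ _ ha hb =>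
      obtain ⟨n, hn⟩ := ha
      obtain ⟨m, hm⟩ := hb
      exact ⟨max n m, add_mem (hmono (le_max_left _ _) hn) (hmono (le_max_right _ _) hm)⟩
    | smul c a _ ha =>
      obtain ⟨n, hn⟩ := ha
      exact ⟨n, Submodule.smul_mem _ _ hn⟩
  let N : Submodule R K := Submodule.span R (Set.range fun i : Fin (n + 1) => z ^ (i : ℕ))
  refine isIntegral_of_smul_mem_submodule (A := K) N ?_ (Submodule.fg_span (Set.finite_range _)) (w : K) ?_
  · exact (Submodule.ne_bot_iff _).mpr ⟨1, Submodule.subset_span ⟨0, by simp⟩, one_ne_zero⟩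
  · intro y hy
    induction hy using Submodule.span_induction with
    | mem a ha =>
      obtain ⟨⟨i, hi⟩, rfl⟩ := ha
      rcases i with _ | i
      · simpa using hn
      · simp only [smul_eq_mul]
        rw [pow_succ', ← mul_assoc, mul_comm (w : K), ← hwK, ← Algebra.smul_def]
        exact Submodule.smul_mem _ _ (Submodule.subset_span ⟨⟨i, by omega⟩, rfl⟩)
    | zero => simp
    | add a b _ _ ha hb => rw [smul_add]; exact add_mem ha hb
    | smul c a _ ha => rw [smul_comm]; exact Submodule.smul_mem _ _ ha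

end

/-- uniformizers at associated primes of `z` -/
theorem exists_uniformizer {R : Type u} [CommRing R] [IsDomain R] [IsIntegrallyClosed R] [IsNoetherianRing R]
    (hR : CAlg.IsNagata R) (K : Type u) [Field K] [Algebra R K] [IsFractionRing R K] (z : K) (hz : z ≠ 0)
    (P : Ideal (Algebra.adjoin R {z})) [P.IsPrime] (c : Algebra.adjoin R {z})
    (hP : ∀ v, v ∈ P ↔ (⟨z, Algebra.self_mem_adjoin_singleton R z⟩ : Algebra.adjoin R {z}) ∣ v * c) :
    ∃ π : Algebra.adjoin R {z}, π ≠ 0 ∧ ∃ t, t ∉ P ∧ (∀ a ∈ P, π ∣ t * a) ∧ ∃ (e : ℕ) (u : Algebra.adjoin R {z}),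
      u ∉ P ∧ (⟨z, Algebra.self_mem_adjoin_singleton R z⟩ : Algebra.adjoin R {z}) ∣ u * π ^ e := by
  classical
  let S0 := Algebra.adjoin R {z}
  let zS : S0 := ⟨z, Algebra.self_mem_adjoin_singleton R z⟩
  haveI : Algebra.FiniteType R S0 := Algebra.FiniteType.adjoin_of_finite (Set.finite_singleton z)
  haveI : IsNoetherianRing S0 := Algebra.FiniteType.isNoetherianRing R S0
  have hinjR : Function.Injective (algebraMap R K) := IsFractionRing.injective R K
  have hmod : ∀ v : S0, ∃ r : R, zS ∣ v - algebraMap R S0 r := exists_dvd_sub z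
  have hcont : ∀ r : R, zS ∣ algebraMap R S0 r → ∃ w : R, algebraMap R K r = z * algebraMap R K w :=
    exists_eq_mul_of_dvd z
  let q := P.comap (algebraMap R S0)
  obtain ⟨⟨a, b⟩, hab⟩ := IsLocalization.surj (nonZeroDivisors R) z
  have hb0 : algebraMap R K b ≠ 0 := IsFractionRing.to_map_ne_zero_of_mem_nonZeroDivisors b.2
  have ha0 : a ≠ 0 := fun h => hz ((mul_eq_zero.mp (by rw [hab, h, map_zero])).resolve_right hb0)
  have hJ : ∀ r : R, zS ∣ algebraMap R S0 r ↔ a ∣ (b : R) * r := by
    intro r
    constructor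
    · intro h
      obtain ⟨w, hw⟩ := hcont r h
      exact ⟨w, hinjR (by rw [map_mul, map_mul, hw, ← hab]; ring)⟩
    · rintro ⟨w, hw⟩
      refine ⟨algebraMap R S0 w, Subtype.ext (mul_left_cancel₀ hb0 ?_)⟩
      change algebraMap R K b * algebraMap R K r = algebraMap R K b * (z * algebraMap R K w)
      rw [← map_mul, hw, map_mul, ← hab]
      ring
  obtain ⟨r0, hr0⟩ := hmod c
  have hq : ∀ v : R, v ∈ q ↔ a ∣ (b : R) * r0 * v := by
    intro v
    rw [Ideal.mem_comap, hP, mul_assoc (b : R), ← hJ, map_mul, mul_comm (algebraMap R S0 r0)]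
    obtain ⟨d, hd⟩ := hr0
    rw [show c = algebraMap R S0 r0 + zS * d by rw [← hd]; ring, mul_add, mul_left_comm _ zS]
    exact dvd_add_left (dvd_mul_right _ _)
  haveI : q.IsPrime := Ideal.IsPrime.comap _
  have hqass : q ∈ associatedPrimes R (R ⧸ Ideal.span {a}) := by
    refine isAssociatedPrime_iff.mpr ⟨inferInstance, Ideal.Quotient.mk _ ((b : R) * r0), ?_⟩
    ext v
    rw [hq v, Submodule.mem_colon_singleton, Submodule.mem_bot,
      show v • Ideal.Quotient.mk (Ideal.span {a}) ((b : R) * r0) = Ideal.Quotient.mk _ (v * ((b : R) * r0)) from rfl,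
      Ideal.Quotient.eq_zero_iff_mem, Ideal.mem_span_singleton, mul_comm v]
  let Rq := Localization.AtPrime q
  haveI := Groth.L01.isDVR_localization_of_mem_associatedPrimes ha0 hqass
  -- `z` lies in the valuation ring at `q`
  obtain ⟨s, hs, w, hsz⟩ : ∃ s, s ∉ q ∧ ∃ w : R, algebraMap R K s * z = algebraMap R K w := by
    rcases ValuationRing.dvd_total (algebraMap R Rq b) (algebraMap R Rq a) with h | h
    · rw [← Ideal.mem_span_singleton, ← Set.image_singleton, ← Ideal.map_span,
        IsLocalization.algebraMap_mem_map_algebraMap_iff q.primeCompl] at h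
      obtain ⟨s, hs, hsb⟩ := h
      obtain ⟨w, hw⟩ := Ideal.mem_span_singleton'.mp hsb
      refine ⟨s, hs, w, mul_right_cancel₀ hb0 ?_⟩
      rw [← map_mul, hw, map_mul, mul_assoc, hab]
    · rw [← Ideal.mem_span_singleton, ← Set.image_singleton, ← Ideal.map_span,
        IsLocalization.algebraMap_mem_map_algebraMap_iff q.primeCompl] at h
      obtain ⟨s, hs, hsb⟩ := h
      refine absurd ((hq s).mpr ?_) hs
      rw [Ideal.mem_span_singleton] at hsb
      exact hsb.trans ⟨r0, by ring⟩
  have hsP : algebraMap R S0 s ∉ P := hs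
  have hvk : ∀ v : S0, ∃ k : ℕ, ∃ r : R, algebraMap R S0 (s ^ k) * v = algebraMap R S0 r := by
    rintro ⟨v, hv⟩
    induction hv using Algebra.adjoin_induction with
    | mem y hy => exact ⟨1, w, Subtype.ext (by simp [Set.mem_singleton_iff.mp hy, hsz])⟩
    | algebraMap r => exact ⟨0, r, Subtype.ext (by simp)⟩
    | add v y hv' hy' hv hy =>
      obtain ⟨k, r, hk⟩ := hv
      obtain ⟨l, r', hl⟩ := hy
      refine ⟨k + l, s ^ l * r + s ^ k * r', ?_⟩
      rw [map_add, map_mul, map_mul, ← hk, ← hl, pow_add, map_mul]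
      apply Subtype.ext
      push_cast
      ring
    | mul v y hv' hy' hv hy =>
      obtain ⟨k, r, hk⟩ := hv
      obtain ⟨l, r', hl⟩ := hy
      refine ⟨k + l, r * r', ?_⟩
      rw [map_mul, ← hk, ← hl, pow_add, map_mul]
      apply Subtype.ext
      push_cast
      ring
  obtain ⟨ϖ, hϖ⟩ := IsDiscreteValuationRing.exists_irreducible Rq
  obtain ⟨⟨π, s1⟩, hπ⟩ := IsLocalization.surj q.primeCompl ϖ
  have hs1 : IsUnit (algebraMap R Rq s1) := IsLocalization.map_units Rq s1
  have hmax : maximalIdeal Rq = (Ideal.span {π}).map (algebraMap R Rq) := by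
    rw [Ideal.map_span, Set.image_singleton, ← show ϖ * algebraMap R Rq s1 = algebraMap R Rq π from hπ,
      Ideal.span_singleton_mul_right_unit hs1, hϖ.maximalIdeal_eq]
  have hqt : ∀ r ∈ q, ∃ t, t ∉ q ∧ π ∣ t * r := by
    intro r hr
    have h1 : algebraMap R Rq r ∈ maximalIdeal Rq := by
      rw [← Localization.AtPrime.map_eq_maximalIdeal]; exact Ideal.mem_map_of_mem _ hr
    rw [hmax, IsLocalization.algebraMap_mem_map_algebraMap_iff q.primeCompl] at h1
    obtain ⟨t, ht, hta⟩ := h1
    exact ⟨t, ht, Ideal.mem_span_singleton.mp hta⟩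
  have hπ0 : π ≠ 0 := by
    intro h
    have h' : ϖ * algebraMap R Rq s1 = 0 := by
      rw [show ϖ * algebraMap R Rq s1 = algebraMap R Rq π from hπ, h, map_zero]
    exact hϖ.ne_zero (hs1.mul_left_eq_zero.mp h')
  refine ⟨algebraMap R S0 π, fun h => hπ0 (hinjR (by simpa using congrArg Subtype.val h)), ?_⟩
  have hsing : ∀ v ∈ P, ∃ t : S0, t ∉ P ∧ algebraMap R S0 π ∣ t * v := by
    intro v hv
    obtain ⟨k, r, hk⟩ := hvk v
    have hr : r ∈ q := by
      rw [Ideal.mem_comap, ← hk]
      exact Ideal.mul_mem_left _ _ hv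
    obtain ⟨t, ht, htr⟩ := hqt r hr
    refine ⟨algebraMap R S0 t * algebraMap R S0 (s ^ k), Ideal.IsPrime.mul_notMem inferInstance ht ?_, ?_⟩
    · exact fun h => hs ((inferInstance : q.IsPrime).mem_of_pow_mem k h)
    · rw [mul_assoc, hk, ← map_mul]
      exact map_dvd _ htr
  obtain ⟨G, hG⟩ := IsNoetherian.noetherian P
  choose t ht htd using fun v : G => hsing v (hG ▸ Ideal.subset_span v.2)
  refine ⟨∏ v : G, t v, fun h => ?_, fun v hv => ?_, ?_⟩
  · obtain ⟨v, -, hv⟩ := (Ideal.IsPrime.prod_mem_iff).mp h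
    exact ht v hv
  · rw [← hG] at hv
    induction hv using Submodule.span_induction with
    | mem y hy => exact (htd ⟨y, hy⟩).trans (mul_dvd_mul_right (Finset.dvd_prod_of_mem _ (Finset.mem_univ _)) _)
    | zero => simp
    | add y y' _ _ hy hy' => rw [mul_add]; exact dvd_add hy hy'
    | smul d y _ hy => rw [smul_eq_mul, mul_left_comm]; exact hy.mul_left d
  · have hw0 : w ≠ 0 := fun h => by
      rw [h, map_zero, mul_eq_zero, map_eq_zero_iff _ hinjR] at hsz
      rcases hsz with h' | h'
      · exact hs (h' ▸ zero_mem q)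
      · exact hz h'
    have hw1 : algebraMap R Rq w ≠ 0 :=
      (map_ne_zero_iff _ (IsLocalization.injective Rq (Ideal.primeCompl_le_nonZeroDivisors q))).mpr hw0
    obtain ⟨e, he⟩ := IsDiscreteValuationRing.associated_pow_irreducible hw1 hϖ
    have h1 : algebraMap R Rq (π ^ e) ∈ (Ideal.span {w}).map (algebraMap R Rq) := by
      rw [Ideal.map_span, Set.image_singleton, Ideal.mem_span_singleton, map_pow,
        ← show ϖ * algebraMap R Rq s1 = algebraMap R Rq π from hπ, mul_pow]
      exact he.dvd.mul_right _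
    rw [IsLocalization.algebraMap_mem_map_algebraMap_iff q.primeCompl] at h1
    obtain ⟨u, hu, hux⟩ := h1
    refine ⟨e, algebraMap R S0 u, hu, ?_⟩
    rw [← map_pow, ← map_mul]
    have hzw : zS ∣ algebraMap R S0 w := ⟨algebraMap R S0 s, Subtype.ext (by simp [zS, ← hsz, mul_comm])⟩
    exact hzw.trans (map_dvd _ (Ideal.mem_span_singleton.mp hux))

/-- completions along a prime with `R → S0/P` surjective -/
theorem isReduced_completion_quotient {R : Type u} [CommRing R] [IsLocalRing R] (hR : CAlg.IsNagata R)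
    {S0 : Type u} [CommRing S0] [IsNoetherianRing S0] [Algebra R S0] (m0 : Ideal S0) [m0.IsPrime]
    (hmR : (maximalIdeal R).map (algebraMap R S0) ≤ m0) (P : Ideal S0) [P.IsPrime] (hPm : P ≤ m0)
    (hsurj : ∀ v : S0, ∃ r : R, v - algebraMap R S0 r ∈ P) :
    IsReduced (AdicCompletion (maximalIdeal (Localization.AtPrime m0)) (Localization.AtPrime m0) ⧸
      P.map (algebraMap S0 (AdicCompletion (maximalIdeal (Localization.AtPrime m0)) (Localization.AtPrime m0)))) := by
  haveI := hR.1
  let A := Localization.AtPrime m0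
  let Ah := AdicCompletion (maximalIdeal A) A
  let Rh := AdicCompletion (maximalIdeal R) R
  let q := P.comap (algebraMap R S0)
  haveI : q.IsPrime := Ideal.IsPrime.comap _
  haveI := Groth.L01.AnalUnram.isReduced_tensor R hR q (R ⧸ q) Ideal.mk_ker
  haveI : IsReduced (Rh ⧸ q.map (algebraMap R Rh)) :=
    isReduced_of_injective (Algebra.TensorProduct.quotIdealMapEquivTensorQuot Rh q) (AlgEquiv.injective _)
  let PA := P.map (algebraMap S0 A)
  have hdisj : Disjoint (m0.primeCompl : Set S0) (P : Set S0) :=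
    Set.disjoint_left.mpr fun v hv hvP => hv (hPm hvP)
  have hPA : PA.comap (algebraMap S0 A) = P :=
    IsLocalization.comap_map_of_isPrime_disjoint m0.primeCompl A inferInstance hdisj
  have hq : PA.comap (algebraMap R A) = q := by
    rw [IsScalarTower.algebraMap_eq R S0 A, ← Ideal.comap_comap, hPA]
  haveI : IsReduced (Rh ⧸ (PA.comap (algebraMap R A)).map (algebraMap R Rh)) := by
    rw [hq]; infer_instance
  have hsA : Function.Surjective ((Ideal.Quotient.mk PA).comp (algebraMap R A)) := by
    intro y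
    obtain ⟨y, rfl⟩ := Ideal.Quotient.mk_surjective y
    obtain ⟨v, σ, rfl⟩ := IsLocalization.exists_mk'_eq m0.primeCompl y
    obtain ⟨r, hr⟩ := hsurj v
    obtain ⟨r', hr'⟩ := hsurj σ
    have hu : IsUnit r' := by
      by_contra h
      have h1 : algebraMap R S0 r' ∈ m0 := hmR (Ideal.mem_map_of_mem _ h)
      exact σ.2 (by simpa using add_mem (hPm hr') h1)
    obtain ⟨r'', rfl⟩ := hu
    refine ⟨↑r''⁻¹ * r, ?_⟩
    have e1 : ∀ v r, v - algebraMap R S0 r ∈ P → Ideal.Quotient.mk PA (algebraMap S0 A v) =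
        Ideal.Quotient.mk PA (algebraMap R A r) := fun v r h => by
      rw [Ideal.Quotient.eq, IsScalarTower.algebraMap_apply R S0 A, ← map_sub]
      exact Ideal.mem_map_of_mem _ h
    have h1 := congrArg (Ideal.Quotient.mk PA) (IsLocalization.mk'_spec A v σ)
    rw [map_mul, e1 v r hr, e1 σ r'' hr'] at h1
    rw [RingHom.comp_apply, map_mul, map_mul, ← h1, mul_comm (Ideal.Quotient.mk PA (IsLocalization.mk' A v σ)),
      ← mul_assoc, ← map_mul, ← map_mul (algebraMap R A), Units.inv_mul, map_one, map_one, one_mul]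
  have := Groth.L01.CompletionExt.isReduced_quotient_map (algebraMap R A) (by
      rw [IsScalarTower.algebraMap_eq R S0 A, ← Ideal.map_map, ← Localization.AtPrime.map_eq_maximalIdeal]
      exact Ideal.map_mono hmR) PA (by
      rw [← Localization.AtPrime.map_eq_maximalIdeal]
      exact Ideal.map_mono hPm) hsA
  rwa [Ideal.map_map, ← IsScalarTower.algebraMap_eq] at this

/-- the local core -/
theorem isN1_atPrime_adjoin {R : Type u} [CommRing R] [IsDomain R] [IsLocalRing R] [IsIntegrallyClosed R]
    (hR : CAlg.IsNagata R) (K : Type u) [Field K] [Algebra R K] [IsFractionRing R K] (z : K) (hz : z ≠ 0)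
    (m0 : Ideal (Algebra.adjoin R {z})) [m0.IsPrime]
    (hzm : (⟨z, Algebra.self_mem_adjoin_singleton R z⟩ : Algebra.adjoin R {z}) ∈ m0)
    (hmR : (maximalIdeal R).map (algebraMap R (Algebra.adjoin R {z})) ≤ m0) :
    CAlg.IsN1 (Localization.AtPrime m0) := by
  classical
  haveI := hR.1
  let S0 := Algebra.adjoin R {z}
  let zS : S0 := ⟨z, Algebra.self_mem_adjoin_singleton R z⟩
  haveI : Algebra.FiniteType R S0 := Algebra.FiniteType.adjoin_of_finite (Set.finite_singleton z)
  haveI : IsNoetherianRing S0 := Algebra.FiniteType.isNoetherianRing R S0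
  have hzS : zS ≠ 0 := fun h => hz (congrArg Subtype.val h)
  have hinjR : Function.Injective (algebraMap R K) := IsFractionRing.injective R K
  have hmod : ∀ v : S0, ∃ r : R, zS ∣ v - algebraMap R S0 r := exists_dvd_sub z
  have hcont : ∀ r : R, zS ∣ algebraMap R S0 r → ∃ w : R, algebraMap R K r = z * algebraMap R K w :=
    exists_eq_mul_of_dvd z
  have hmR' : ∀ r : R, algebraMap R S0 r ∈ m0 ↔ r ∈ maximalIdeal R := fun r => by
    refine ⟨fun h hu => ?_, fun h => hmR (Ideal.mem_map_of_mem _ h)⟩
    exact (inferInstance : m0.IsPrime).ne_top (Ideal.eq_top_of_isUnit_mem _ h (hu.map _))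
  let A := Localization.AtPrime m0
  let Ah := AdicCompletion (maximalIdeal A) A
  haveI := Groth.L01.AnalUnram.isNoetherianRing_completion A
  haveI : Module.Flat S0 A := IsLocalization.flat A m0.primeCompl
  haveI : IsScalarTower S0 A Ah := inferInstance
  haveI : Module.Flat S0 Ah := Module.Flat.trans S0 A Ah
  suffices h : IsReduced Ah by exact Groth.L01.AnalUnram.isN1 A
  refine Groth.L01.AnalUnram.isReduced_of_flat hzS ?_ fun P hPa => ?_
  · rw [jacobson_eq_maximalIdeal (⊥ : Ideal Ah) bot_ne_top, IsScalarTower.algebraMap_apply S0 A Ah,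
      ← Groth.L01.AnalUnram.completion_map_maximalIdeal]
    refine Ideal.mem_map_of_mem _ ?_
    rw [← Localization.AtPrime.map_eq_maximalIdeal]
    exact Ideal.mem_map_of_mem _ hzm
  haveI := hPa.isPrime
  obtain ⟨-, c, hc⟩ := isAssociatedPrime_iff.mp hPa
  obtain ⟨c, rfl⟩ := Ideal.Quotient.mk_surjective c
  have hP : ∀ v, v ∈ P ↔ zS ∣ v * c := fun v => by
    rw [hc, Submodule.mem_colon_singleton, Submodule.mem_bot, ← Ideal.mem_span_singleton,
      ← Ideal.Quotient.eq_zero_iff_mem]
    rfl
  have hzP : zS ∈ P := (hP zS).mpr (dvd_mul_right _ _)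
  let q := P.comap (algebraMap R S0)
  have hdvdP : ∀ v r, zS ∣ v - algebraMap R S0 r → (v ∈ P ↔ r ∈ q) := by
    intro v r ⟨d, hd⟩
    have hdP : v - algebraMap R S0 r ∈ P := hd ▸ Ideal.mul_mem_right _ _ hzP
    exact ⟨fun h => by simpa [q] using sub_mem h hdP, fun h => by simpa using add_mem (show algebraMap R S0 r ∈ P from h) hdP⟩
  have hdvdm : ∀ v r, zS ∣ v - algebraMap R S0 r → (v ∈ m0 ↔ r ∈ maximalIdeal R) := by
    intro v r ⟨d, hd⟩
    have hdP : v - algebraMap R S0 r ∈ m0 := hd ▸ Ideal.mul_mem_right _ _ hzm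
    rw [← hmR']
    exact ⟨fun h => by simpa using sub_mem h hdP, fun h => by simpa using add_mem h hdP⟩
  have hqm : q ≤ maximalIdeal R := le_maximalIdeal (Ideal.comap_ne_top _ hPa.isPrime.ne_top)
  have hPm : P ≤ m0 := fun v hv => by
    obtain ⟨r, hr⟩ := hmod v
    exact (hdvdm v r hr).mpr (hqm ((hdvdP v r hr).mp hv))
  refine ⟨?_, ?_⟩
  · exact isReduced_completion_quotient hR m0 hmR P hPm fun v => by
      obtain ⟨r, d, hd⟩ := hmod v
      exact ⟨r, hd ▸ Ideal.mul_mem_right _ _ hzP⟩
  · exact exists_uniformizer hR K z hz P c hP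

open Polynomial in
/-- a polynomial with unit leading coefficient at `p` sending the generator into `m` -/
theorem exists_poly_mem {R S : Type u} [CommRing R] [CommRing S] [Algebra R S] (x : S)
    (hgen : Algebra.adjoin R {x} = ⊤) (m : Ideal S) [m.IsMaximal] :
    ∃ P : R[X], P.leadingCoeff ∉ m.comap (algebraMap R S) ∧ 1 ≤ P.natDegree ∧ aeval x P ∈ m := by
  classical
  let p := m.comap (algebraMap R S)
  let g : (R ⧸ p)[X] →+* S ⧸ m :=
    eval₂RingHom (Ideal.quotientMap m (algebraMap R S) le_rfl) (Ideal.Quotient.mk m x)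
  have hg : ∀ P : R[X], g (P.map (Ideal.Quotient.mk p)) = Ideal.Quotient.mk m (aeval x P) := by
    intro P
    simp only [g, coe_eval₂RingHom, eval₂_map, aeval_def]
    rw [hom_eval₂]
    rfl
  obtain ⟨Pb, hPb0, hPb⟩ : ∃ Pb, Pb ≠ 0 ∧ g Pb = 0 := by
    by_contra! h
    have hinj : Function.Injective g := (injective_iff_map_eq_zero g).mpr fun a ha => by
      by_contra h0
      exact h a h0 ha
    have hsurj : Function.Surjective g := fun y => by
      obtain ⟨y, rfl⟩ := Ideal.Quotient.mk_surjective y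
      have hy : y ∈ Algebra.adjoin R {x} := hgen ▸ Algebra.mem_top
      rw [Algebra.adjoin_singleton_eq_range_aeval] at hy
      obtain ⟨P, rfl⟩ := hy
      exact ⟨_, hg P⟩
    exact Polynomial.not_isField (R ⧸ p)
      ((RingEquiv.ofBijective g ⟨hinj, hsurj⟩).toMulEquiv.isField
        ((Ideal.Quotient.maximal_ideal_iff_isField_quotient m).mp inferInstance))
  haveI : p.IsPrime := Ideal.IsPrime.comap _
  obtain ⟨P, hP, hdeg⟩ : ∃ P : R[X], P.map (Ideal.Quotient.mk p) = Pb ∧ P.degree = Pb.degree :=
    exists_degree_eq_of_mem_lifts ((lifts_iff_coeff_lifts _).mpr fun n => Ideal.Quotient.mk_surjective _)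
  have hnd : P.natDegree = Pb.natDegree := natDegree_eq_of_degree_eq hdeg
  have hlc : P.leadingCoeff ∉ p := by
    intro h
    apply leadingCoeff_ne_zero.mpr hPb0
    rw [leadingCoeff, ← hnd, ← hP, coeff_map, Ideal.Quotient.eq_zero_iff_mem]
    exact h
  have hmem : aeval x P ∈ m := by rw [← Ideal.Quotient.eq_zero_iff_mem, ← hg, hP, hPb]
  refine ⟨P, hlc, Nat.one_le_iff_ne_zero.mpr fun h0 => hlc ?_, hmem⟩
  have hC := eq_C_of_natDegree_eq_zero h0
  rw [leadingCoeff, h0, Ideal.mem_comap, ← aeval_C x (P.coeff 0), ← hC]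
  exact hmem

theorem isIntegral_of_aeval_eq {R A K : Type u} [CommRing R] [CommRing A] [Nontrivial A] [CommRing K]
    [Algebra R K] [Algebra A K] (f : R →+* A) (hf : (algebraMap A K).comp f = algebraMap R K) (P : Polynomial R)
    (hdeg : 1 ≤ P.natDegree) (hu : IsUnit (f P.leadingCoeff)) (x : K) (c : A)
    (hx : Polynomial.aeval x P = algebraMap A K c) : IsIntegral A x := by
  let Q : Polynomial A := P.map f - Polynomial.C c
  have hdegf : (P.map f).natDegree = P.natDegree :=
    Polynomial.natDegree_map_of_leadingCoeff_ne_zero f hu.ne_zero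
  have hQ : Q.leadingCoeff = f P.leadingCoeff := by
    rw [Polynomial.leadingCoeff_sub_of_degree_lt, Polynomial.leadingCoeff_map_of_leadingCoeff_ne_zero f hu.ne_zero]
    exact lt_of_le_of_lt Polynomial.degree_C_le (Polynomial.natDegree_pos_iff_degree_pos.mp (hdegf ▸ hdeg))
  have hev : Polynomial.aeval x Q = 0 := by
    rw [map_sub, Polynomial.aeval_C, Polynomial.aeval_def, Polynomial.eval₂_map, hf, ← Polynomial.aeval_def, hx,
      sub_self]
  have h1 := isIntegral_leadingCoeff_smul Q x hev
  obtain ⟨u, hu⟩ := hu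
  rw [hQ, ← hu] at h1
  simpa [smul_smul] using h1.smul (↑u⁻¹ : A)

open Groth.L01.NormalLocus in
theorem goodAt_of_local {R : Type u} [CommRing R] {S : Type u} [CommRing S] [IsDomain S] [Algebra R S] (x : S)
    (hgen : Algebra.adjoin R {x} = ⊤) (m : Ideal S) [m.IsPrime] (P : Polynomial R) (hdeg : 1 ≤ P.natDegree)
    {S0 : Type u} [CommRing S0] [IsDomain S0] [Algebra S0 (FractionRing S)] [IsFractionRing S0 (FractionRing S)]
    (f : R →+* S0) (hf : (algebraMap S0 (FractionRing S)).comp f = algebraMap R (FractionRing S))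
    (hlc : IsUnit (f P.leadingCoeff)) (c : S0)
    (hc : algebraMap S0 (FractionRing S) c = algebraMap S (FractionRing S) (Polynomial.aeval x P))
    (ι : Localization.AtPrime m →+* FractionRing S) (hιS : ∀ s, ι (algebraMap S _ s) = algebraMap S _ s)
    (ψ : S0 →+* Localization.AtPrime m) (hψ : ∀ v, ι (ψ v) = algebraMap S0 _ v)
    (hN1 : CAlg.IsN1 (Localization.AtPrime ((maximalIdeal (Localization.AtPrime m)).comap ψ))) :
    ∃ T : Finset (FractionRing S), (∀ t ∈ T, IsIntegral S t) ∧
      GoodAt (Submodule.span S (T : Set (FractionRing S))) m := by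
  classical
  let K := FractionRing S
  let m0 := (maximalIdeal (Localization.AtPrime m)).comap ψ
  haveI : m0.IsPrime := Ideal.IsPrime.comap _
  let A := Localization.AtPrime m0
  have huA : ∀ s : m0.primeCompl, IsUnit (algebraMap S0 K s) := fun s =>
    IsUnit.mk0 _ fun h => s.2 (by
      rw [(map_eq_zero_iff _ (IsFractionRing.injective S0 K)).mp h]; exact zero_mem m0)
  letI : Algebra A K := (IsLocalization.lift (M := m0.primeCompl) huA).toAlgebra
  haveI : IsScalarTower S0 A K := IsScalarTower.of_algebraMap_eq fun r => (IsLocalization.lift_eq huA r).symm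
  haveI : IsFractionRing A K := IsFractionRing.isFractionRing_of_isDomain_of_isLocalization m0.primeCompl A K
  have hfA : (algebraMap A K).comp ((algebraMap S0 A).comp f) = algebraMap R K := by
    rw [← RingHom.comp_assoc, ← IsScalarTower.algebraMap_eq, hf]
  refine goodAt_of_overring m A ((Groth.L03.Japanese.isN1_iff K).mp hN1) ?_ ?_
  · have hx : IsIntegral A (algebraMap S K x) :=
      isIntegral_of_aeval_eq ((algebraMap S0 A).comp f) hfA P hdeg (hlc.map (algebraMap S0 A)) _
        (algebraMap S0 A c) (by rw [Polynomial.aeval_algebraMap_apply, ← IsScalarTower.algebraMap_apply, hc])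
    intro s
    have hs : s ∈ Algebra.adjoin R {x} := hgen ▸ Algebra.mem_top
    induction hs using Algebra.adjoin_induction with
    | mem w hw => rw [Set.mem_singleton_iff.mp hw]; exact hx
    | algebraMap r =>
      rw [← IsScalarTower.algebraMap_apply R S K, ← hfA]
      exact isIntegral_algebraMap
    | add a b _ _ ha hb => rw [map_add]; exact ha.add hb
    | mul a b _ _ ha hb => rw [map_mul]; exact ha.mul hb
  · intro a
    have huψ : ∀ s : m0.primeCompl, IsUnit (ψ s) := fun s => by
      by_contra h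
      exact s.2 h
    have hcomm : ι.comp (IsLocalization.lift (M := m0.primeCompl) huψ) = algebraMap A K := by
      refine IsLocalization.ringHom_ext m0.primeCompl (RingHom.ext fun v => ?_)
      change ι (IsLocalization.lift huψ (algebraMap S0 A v)) = algebraMap A K (algebraMap S0 A v)
      rw [IsLocalization.lift_eq, hψ, ← IsScalarTower.algebraMap_apply S0 A K]
    obtain ⟨t, s, hts⟩ := IsLocalization.exists_mk'_eq m.primeCompl (IsLocalization.lift (M := m0.primeCompl) huψ a)
    refine ⟨s, t, s.2, ?_⟩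
    rw [← hcomm, RingHom.comp_apply, ← hts, ← hιS s, ← map_mul, IsLocalization.mk'_spec, hιS]

open Groth.L01.NormalLocus in
/-- finiteness near a maximal ideal contracting to a nonzero prime -/
theorem goodAt_maximal {R : Type u} [CommRing R] [IsDomain R] [IsIntegrallyClosed R] (hR : CAlg.IsNagata R)
    {S : Type u} [CommRing S] [IsDomain S] [Algebra R S] [IsFractionRing R (FractionRing S)] (x : S)
    (hgen : Algebra.adjoin R {x} = ⊤) (m : Ideal S) [m.IsMaximal] (hm : m.comap (algebraMap R S) ≠ ⊥) :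
    ∃ T : Finset (FractionRing S), (∀ t ∈ T, IsIntegral S t) ∧
      GoodAt (Submodule.span S (T : Set (FractionRing S))) m := by
  classical
  haveI := hR.1
  let K := FractionRing S
  let p := m.comap (algebraMap R S)
  have hRS : Function.Injective (algebraMap R S) := fun a b h =>
    IsFractionRing.injective R K (by rw [IsScalarTower.algebraMap_apply R S K, h, ← IsScalarTower.algebraMap_apply])
  obtain ⟨P, hlc, hdeg, hz, hz0⟩ : ∃ P : Polynomial R, P.leadingCoeff ∉ p ∧ 1 ≤ P.natDegree ∧
      Polynomial.aeval x P ∈ m ∧ Polynomial.aeval x P ≠ 0 := by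
    obtain ⟨P, hlc, hdeg, hz⟩ := exists_poly_mem x hgen m
    by_cases h0 : Polynomial.aeval x P = 0
    · obtain ⟨c, hc, hc0⟩ := Submodule.exists_mem_ne_zero_of_ne_bot hm
      refine ⟨P + Polynomial.C c, ?_, ?_, ?_, ?_⟩
      · rwa [Polynomial.leadingCoeff_add_of_degree_lt' ?_]
        exact lt_of_le_of_lt Polynomial.degree_C_le (Polynomial.natDegree_pos_iff_degree_pos.mp hdeg)
      · rwa [Polynomial.natDegree_add_C]
      · rw [map_add, h0, zero_add, Polynomial.aeval_C]; exact hc
      · rw [map_add, h0, zero_add, Polynomial.aeval_C]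
        exact (map_ne_zero_iff _ hRS).mpr hc0
    · exact ⟨P, hlc, hdeg, hz, h0⟩
  let z := Polynomial.aeval x P
  let zK : K := algebraMap S K z
  have hzK : zK ≠ 0 := (map_ne_zero_iff _ (IsFractionRing.injective S K)).mpr hz0
  let Sm := Localization.AtPrime m
  have huS : ∀ s : m.primeCompl, IsUnit (algebraMap S K s) := fun s =>
    IsUnit.mk0 _ ((map_ne_zero_iff _ (IsFractionRing.injective S K)).mpr fun h => s.2 (h ▸ zero_mem m))
  let ι : Sm →+* K := IsLocalization.lift (M := m.primeCompl) huS
  have hιS : ∀ s, ι (algebraMap S Sm s) = algebraMap S K s := IsLocalization.lift_eq huS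
  have hinj : Function.Injective ι := by
    rw [IsLocalization.lift_injective_iff]
    exact fun a b => ⟨fun h => by rw [IsLocalization.injective Sm (Ideal.primeCompl_le_nonZeroDivisors m) h],
      fun h => by rw [IsFractionRing.injective S K h]⟩
  let Rp := Localization.AtPrime p
  have huR : ∀ s : p.primeCompl, IsUnit (algebraMap R K s) := fun s =>
    IsUnit.mk0 _ ((map_ne_zero_iff _ (IsFractionRing.injective R K)).mpr fun h => s.2 (h ▸ zero_mem p))
  letI : Algebra Rp K := (IsLocalization.lift (M := p.primeCompl) huR).toAlgebra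
  haveI : IsScalarTower R Rp K := IsScalarTower.of_algebraMap_eq fun r => (IsLocalization.lift_eq huR r).symm
  haveI : IsFractionRing Rp K := IsFractionRing.isFractionRing_of_isDomain_of_isLocalization p.primeCompl Rp K
  haveI : IsIntegrallyClosed Rp :=
    isIntegrallyClosed_of_isLocalization Rp p.primeCompl (Ideal.primeCompl_le_nonZeroDivisors p)
  let j : Rp →+* Sm := Localization.localRingHom p m (algebraMap R S) rfl
  haveI : IsLocalHom j := Localization.isLocalHom_localRingHom _ _ _ _
  have hιj : ι.comp j = algebraMap Rp K := by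
    refine IsLocalization.ringHom_ext p.primeCompl (RingHom.ext fun r => ?_)
    change ι (j (algebraMap R Rp r)) = algebraMap Rp K (algebraMap R Rp r)
    rw [Localization.localRingHom_to_map, hιS, ← IsScalarTower.algebraMap_apply R Rp K,
      ← IsScalarTower.algebraMap_apply R S K]
  let S0 := Algebra.adjoin Rp {zK}
  let zS : S0 := ⟨zK, Algebra.self_mem_adjoin_singleton Rp zK⟩
  have hle : ∀ v : S0, (v : K) ∈ ι.range := by
    rintro ⟨v, hv⟩
    induction hv using Algebra.adjoin_induction with
    | mem w hw => exact ⟨algebraMap S Sm z, (hιS z).trans (Set.mem_singleton_iff.mp hw).symm⟩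
    | algebraMap r => exact ⟨j r, RingHom.congr_fun hιj r⟩
    | add a b _ _ ha hb => exact Subring.add_mem _ ha hb
    | mul a b _ _ ha hb => exact Subring.mul_mem _ ha hb
  let eι : Sm ≃+* ι.range := RingEquiv.ofBijective ι.rangeRestrict
    ⟨fun a b h => hinj (congrArg Subtype.val h), ι.rangeRestrict_surjective⟩
  let ψ : S0 →+* Sm := eι.symm.toRingHom.comp ((algebraMap S0 K).codRestrict ι.range hle)
  have hιψ : ∀ v : S0, ι (ψ v) = (v : K) := fun v =>
    congrArg Subtype.val (eι.apply_symm_apply ⟨(v : K), hle v⟩)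
  let m0 := (maximalIdeal Sm).comap ψ
  haveI : m0.IsPrime := Ideal.IsPrime.comap _
  have hzm : zS ∈ m0 := by
    have h : ψ zS = algebraMap S Sm z := hinj ((hιψ zS).trans (hιS z).symm)
    rw [Ideal.mem_comap, h, ← Localization.AtPrime.map_eq_maximalIdeal]
    exact Ideal.mem_map_of_mem _ hz
  have hmR : (maximalIdeal Rp).map (algebraMap Rp S0) ≤ m0 := by
    rw [Ideal.map_le_iff_le_comap]
    intro r hr
    have h : ψ (algebraMap Rp S0 r) = j r := hinj ((hιψ _).trans (RingHom.congr_fun hιj r).symm)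
    rw [Ideal.mem_comap, Ideal.mem_comap, h]
    exact map_nonunit j r hr
  have hN1 := isN1_atPrime_adjoin (isNagata_localization hR p.primeCompl Rp) K zK hzK m0 hzm hmR
  haveI : IsFractionRing S0 K := by
    haveI : FaithfulSMul S0 K := (faithfulSMul_iff_algebraMap_injective _ _).mpr Subtype.val_injective
    refine IsFractionRing.of_field S0 K fun y => ?_
    obtain ⟨a, b, hb, rfl⟩ := IsFractionRing.div_surjective (A := R) y
    exact ⟨⟨algebraMap R K a, IsScalarTower.algebraMap_apply R Rp K a ▸ Subalgebra.algebraMap_mem _ _⟩,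
      ⟨algebraMap R K b, IsScalarTower.algebraMap_apply R Rp K b ▸ Subalgebra.algebraMap_mem _ _⟩, rfl⟩
  refine goodAt_of_local x hgen m P hdeg ((algebraMap Rp S0).comp (algebraMap R Rp)) ?_ ?_ zS rfl ι hιS ψ
    (fun v => hιψ v) hN1
  · exact RingHom.ext fun r => (IsScalarTower.algebraMap_apply R Rp K r).symm
  · exact (IsLocalization.map_units Rp (⟨_, hlc⟩ : p.primeCompl)).map (algebraMap Rp S0)

/-- `R[x]` is N-1 for a normal Nagata domain `R` and `x` in its fraction field -/
theorem isN1_of_generator {R : Type u} [CommRing R] [IsDomain R] [IsIntegrallyClosed R] (hR : CAlg.IsNagata R)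
    (S : Type u) [CommRing S] [IsDomain S] [Algebra R S] (hinj : Function.Injective (algebraMap R S))
    (x : S) (hgen : Algebra.adjoin R {x} = ⊤) (a b : R) (hb : b ≠ 0)
    (hab : x * algebraMap R S b = algebraMap R S a) : CAlg.IsN1 S := by
  classical
  haveI := hR.1
  haveI : Algebra.FiniteType R S := ⟨⟨{x}, by rw [Finset.coe_singleton]; exact hgen⟩⟩
  haveI : IsNoetherianRing S := Algebra.FiniteType.isNoetherianRing R S
  let K := FractionRing S
  have hinjK : Function.Injective (algebraMap R K) := by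
    rw [IsScalarTower.algebraMap_eq R S K]
    exact (IsFractionRing.injective S K).comp hinj
  have hclear : ∀ v : S, ∃ k : ℕ, ∃ r : R, v * algebraMap R S (b ^ k) = algebraMap R S r := by
    intro v
    have hv : v ∈ Algebra.adjoin R {x} := hgen ▸ Algebra.mem_top
    induction hv using Algebra.adjoin_induction with
    | mem y hy => exact ⟨1, a, by rw [Set.mem_singleton_iff.mp hy, pow_one, hab]⟩
    | algebraMap r => exact ⟨0, r, by simp⟩
    | add v y _ _ hv hy =>
      obtain ⟨k, r, hk⟩ := hv
      obtain ⟨l, r', hl⟩ := hy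
      exact ⟨k + l, r * b ^ l + r' * b ^ k, by rw [pow_add, map_mul, map_add, map_mul, map_mul, ← hk, ← hl]; ring⟩
    | mul v y _ _ hv hy =>
      obtain ⟨k, r, hk⟩ := hv
      obtain ⟨l, r', hl⟩ := hy
      exact ⟨k + l, r * r', by rw [pow_add, map_mul, map_mul, ← hk, ← hl]; ring⟩
  have hbS : algebraMap R S b ≠ 0 := (map_ne_zero_iff _ hinj).mpr hb
  haveI : IsFractionRing R K := by
    haveI : FaithfulSMul R K := (faithfulSMul_iff_algebraMap_injective R K).mpr hinjK
    refine IsFractionRing.of_field R K fun y => ?_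
    obtain ⟨v, w, hw, rfl⟩ := IsFractionRing.div_surjective (A := S) y
    obtain ⟨k, r, hk⟩ := hclear v
    obtain ⟨l, r', hl⟩ := hclear w
    refine ⟨r * b ^ l, r' * b ^ k, ?_⟩
    have hne : algebraMap S K (algebraMap R S b) ≠ 0 := (map_ne_zero_iff _ (IsFractionRing.injective S K)).mpr hbS
    rw [map_mul, map_mul, IsScalarTower.algebraMap_apply R S K r, IsScalarTower.algebraMap_apply R S K r',
      IsScalarTower.algebraMap_apply R S K (b ^ l), IsScalarTower.algebraMap_apply R S K (b ^ k), ← hk, ← hl,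
      map_mul, map_mul, map_pow, map_pow, map_pow, map_pow, mul_assoc, mul_assoc,
      mul_comm (algebraMap S K (algebraMap R S b) ^ l), mul_div_mul_right _ _ (mul_ne_zero (pow_ne_zero k hne) (pow_ne_zero l hne))]
  let Sb := Localization.Away (algebraMap R S b)
  have hpow : Submonoid.powers (algebraMap R S b) ≤ nonZeroDivisors S :=
    powers_le_nonZeroDivisors_of_noZeroDivisors hbS
  haveI : IsLocalization (Submonoid.powers b) Sb := by
    rw [isLocalization_iff]
    refine ⟨?_, fun y => ?_, fun {r r'} h => ⟨1, ?_⟩⟩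
    · rintro ⟨_, k, rfl⟩
      rw [IsScalarTower.algebraMap_apply R S Sb, map_pow, map_pow]
      exact (IsLocalization.Away.algebraMap_isUnit (algebraMap R S b)).pow k
    · obtain ⟨v, ⟨_, k, rfl⟩, rfl⟩ := IsLocalization.exists_mk'_eq (Submonoid.powers (algebraMap R S b)) y
      obtain ⟨l, r, hl⟩ := hclear v
      refine ⟨⟨r, ⟨b ^ (k + l), k + l, rfl⟩⟩, ?_⟩
      have h1 := IsLocalization.mk'_spec Sb v (⟨algebraMap R S b ^ k, k, rfl⟩ : Submonoid.powers (algebraMap R S b))
      change _ * algebraMap R Sb (b ^ (k + l)) = algebraMap R Sb r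
      rw [IsScalarTower.algebraMap_apply R S Sb, IsScalarTower.algebraMap_apply R S Sb, pow_add, map_mul,
        map_pow, map_mul, ← mul_assoc, h1, ← map_mul, hl]
    · rw [IsScalarTower.algebraMap_apply R S Sb, IsScalarTower.algebraMap_apply R S Sb] at h
      rw [hinj (IsLocalization.injective Sb hpow h)]
  have hn : IsIntegrallyClosed Sb :=
    isIntegrallyClosed_of_isLocalization Sb (Submonoid.powers b) (powers_le_nonZeroDivisors_of_noZeroDivisors hb)
  refine Groth.L01.NormalLocus.finite_integralClosure hbS hn fun m hm => ?_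
  haveI := hm
  by_cases hmb : m.comap (algebraMap R S) = ⊥
  · refine ⟨{1}, fun t ht => (Finset.mem_singleton.mp ht) ▸ isIntegral_one, fun y _ => ?_⟩
    obtain ⟨r, s, hs, rfl⟩ := IsFractionRing.div_surjective (A := R) y
    refine ⟨algebraMap R S s, fun h => nonZeroDivisors.ne_zero hs
      ((Submodule.eq_bot_iff _).mp hmb s h), ?_⟩
    rw [Finset.coe_singleton, Submodule.mem_span_singleton]
    refine ⟨algebraMap R S r, ?_⟩
    rw [Algebra.smul_def, Algebra.smul_def, ← IsScalarTower.algebraMap_apply,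
      ← IsScalarTower.algebraMap_apply, mul_one, mul_div_cancel₀]
    exact (map_ne_zero_iff _ hinjK).mpr (nonZeroDivisors.ne_zero hs)
  · exact goodAt_maximal hR x hgen m hmb

end Groth.L01.NagataAdjoin
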