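import Groth.Agent.L01.N2Basic
import Mathlib.FieldTheory.IsAlgClosed.AlgebraicClosure
import Mathlib.RingTheory.Polynomial.RationalRoot
import Mathlib.RingTheory.Polynomial.Basic
import Mathlib.RingTheory.Polynomial.IsIntegral
import Mathlib.Algebra.CharP.Lemmas

/-!
Polynomial rings over N-1 and N-2 domains.
-/

universe u

namespace Groth.L01.NagataPoly

open Polynomial

theorem finite_integralClosure_of_normal {A B : Type u} [CommRing A] [CommRing B] [IsDomain B]
    [IsIntegrallyClosed B] [Algebra A B] [Module.Finite A B] (L : Type u) [Field L] [Algebra A L] [Algebra B L]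
    [IsScalarTower A B L] [IsFractionRing B L] : Module.Finite A (integralClosure A L) := by
  let e : B →ₗ[A] integralClosure A L :=
    { toFun := fun b => ⟨algebraMap B L b, (Algebra.IsIntegral.isIntegral b).map (IsScalarTower.toAlgHom A B L)⟩
      map_add' := fun a b => Subtype.ext (map_add _ a b)
      map_smul' := fun c a => Subtype.ext ((IsScalarTower.toAlgHom A B L).toLinearMap.map_smul c a) }
  refine Module.Finite.of_surjective e fun x => ?_
  obtain ⟨b, hb⟩ := IsIntegrallyClosed.isIntegral_iff.mp (x.2.tower_top (A := B))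
  exact ⟨b, Subtype.ext hb⟩

theorem isIntegral_polynomial {A B : Type u} [CommRing A] [CommRing B] [Algebra A B] [Algebra.IsIntegral A B]
    (φ : A[X] →+* B[X]) (hC : ∀ a, φ (C a) = C (algebraMap A B a)) (hX : φ.IsIntegralElem X) : φ.IsIntegral := by
  letI := φ.toAlgebra
  intro f
  induction f using Polynomial.induction_on' with
  | add a b ha hb => exact RingHom.IsIntegralElem.add φ ha hb
  | monomial n a =>
    rw [← C_mul_X_pow_eq_monomial]
    refine RingHom.IsIntegralElem.mul φ ?_ (IsIntegral.pow (R := A[X]) (hX : IsIntegral A[X] X) n)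
    obtain ⟨P, hP, hP0⟩ := Algebra.IsIntegral.isIntegral (R := A) a
    refine ⟨P.map C, hP.map _, ?_⟩
    rw [eval₂_map, show φ.comp C = (C : B →+* B[X]).comp (algebraMap A B) from RingHom.ext hC,
      ← hom_eval₂, hP0, map_zero]

theorem finite_polynomial {A B : Type u} [CommRing A] [CommRing B] [Algebra A B] [Module.Finite A B]
    (φ : A[X] →+* B[X]) (hC : ∀ a, φ (C a) = C (algebraMap A B a)) (hX : φ.IsIntegralElem X) : φ.Finite := by
  letI := φ.toAlgebra
  haveI : IsScalarTower A A[X] B[X] := IsScalarTower.of_algebraMap_eq fun r => by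
    change algebraMap A B[X] r = φ (C r)
    rw [hC]; rfl
  haveI : Algebra.FiniteType A B[X] :=
    Algebra.FiniteType.trans (inferInstance : Algebra.FiniteType A B) inferInstance
  haveI : Algebra.FiniteType A[X] B[X] := Algebra.FiniteType.of_restrictScalars_finiteType A _ _
  haveI : Algebra.IsIntegral A[X] B[X] := ⟨isIntegral_polynomial φ hC hX⟩
  exact RingHom.finite_algebraMap.mpr Algebra.IsIntegral.finite

theorem isN1_polynomial_aux {R B : Type u} [CommRing R] [IsDomain R] [IsNoetherianRing R] [CommRing B] [IsDomain B]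
    [IsIntegrallyClosed B] [Algebra R B] [Module.Finite R B] (hinj : Function.Injective (algebraMap R B)) :
    CAlg.IsN1 R[X] := by
  let φ : R[X] →+* B[X] := mapRingHom (algebraMap R B)
  have hfin : φ.Finite := finite_polynomial φ (fun a => by simp [φ]) (by
    letI := φ.toAlgebra
    change IsIntegral R[X] (X : B[X])
    rw [show (X : B[X]) = algebraMap R[X] B[X] X from (Polynomial.map_X _).symm]
    exact isIntegral_algebraMap)
  letI : Algebra R[X] B[X] := φ.toAlgebra
  haveI : Module.Finite R[X] B[X] := hfin
  have hφ : Function.Injective φ := Polynomial.map_injective _ hinj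
  haveI : FaithfulSMul R[X] (FractionRing B[X]) := (faithfulSMul_iff_algebraMap_injective _ _).mpr <| by
    rw [IsScalarTower.algebraMap_eq R[X] B[X] (FractionRing B[X])]
    exact (IsFractionRing.injective B[X] (FractionRing B[X])).comp hφ
  letI := FractionRing.liftAlgebra R[X] (FractionRing B[X])
  haveI := FractionRing.isScalarTower_liftAlgebra R[X] (FractionRing B[X])
  exact Groth.L01.N2.finite_integralClosure_of_algHom
    (IsScalarTower.toAlgHom R[X] (FractionRing R[X]) (FractionRing B[X]))
    (RingHom.injective (algebraMap (FractionRing R[X]) (FractionRing B[X])))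
    (finite_integralClosure_of_normal (B := B[X]) (FractionRing B[X]))

theorem isN1_polynomial {R : Type u} [CommRing R] [IsDomain R] [IsNoetherianRing R] (h : CAlg.IsN1 R) :
    CAlg.IsN1 (Polynomial R) := by
  let R' := integralClosure R (FractionRing R)
  haveI : Module.Finite R R' := h
  haveI : IsIntegrallyClosed R' := integralClosure.isIntegrallyClosedOfFiniteExtension (FractionRing R)
  exact isN1_polynomial_aux (B := R') fun a b hab =>
    IsFractionRing.injective R (FractionRing R) (congrArg Subtype.val hab)

theorem exists_pow_expChar_mem {K L : Type u} [Field K] [Field L] [Algebra K L] [FiniteDimensional K L]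
    [IsPurelyInseparable K L] (p : ℕ) [ExpChar K p] :
    ∃ N : ℕ, ∀ z : L, z ^ p ^ N ∈ (algebraMap K L).range := by
  classical
  choose n hn using fun i => IsPurelyInseparable.pow_mem K p (Module.finBasis K L i)
  haveI : ExpChar L p := expChar_of_injective_algebraMap (algebraMap K L).injective p
  refine ⟨Finset.univ.sup n, fun z => ?_⟩
  rw [← (Module.finBasis K L).sum_repr z, sum_pow_char_pow]
  refine Subring.sum_mem _ fun i _ => ?_
  rw [Algebra.smul_def, mul_pow]
  refine Subring.mul_mem _ ⟨_ ^ p ^ Finset.univ.sup n, map_pow _ _ _⟩ ?_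
  obtain ⟨d, hd⟩ := Nat.exists_eq_add_of_le (Finset.le_sup (f := n) (Finset.mem_univ i))
  rw [hd, pow_add, pow_mul]
  exact Subring.pow_mem _ (hn i) _

theorem isN2_polynomial {R : Type u} [CommRing R] [IsDomain R] [IsNoetherianRing R] (h : CAlg.IsN2 R) :
    CAlg.IsN2 (Polynomial R) := by
  classical
  refine Groth.L01.N2.isN2_of_purelyInseparable _ fun L _ _ _ _ hfd hpi => ?_
  haveI := hfd
  haveI := hpi
  let K := FractionRing R
  let F := FractionRing R[X]
  let E := AlgebraicClosure L
  obtain ⟨p, hp⟩ := ExpChar.exists F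
  haveI : ExpChar E p := expChar_of_injective_algebraMap (algebraMap F E).injective p
  obtain ⟨N, hN⟩ := exists_pow_expChar_mem (K := F) (L := L) p
  let q := p ^ N
  have hq : 0 < q := Nat.pow_pos (expChar_pos F p)
  have hfrob : Function.Injective fun z : E => z ^ q := by
    intro a b hab
    exact iterateFrobenius_inj E p N (by simpa [iterateFrobenius_def] using hab)
  obtain ⟨G, hG⟩ := Module.Finite.fg_top (R := F) (M := L)
  choose v hv using hN
  choose f g hg hfg using fun l => IsFractionRing.div_surjective (A := R[X]) (v l)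
  let i : R →+* E := (algebraMap R[X] E).comp C
  have hAE : Function.Injective (algebraMap R[X] E) := by
    rw [IsScalarTower.algebraMap_eq R[X] F E]
    exact (algebraMap F E).injective.comp (IsFractionRing.injective R[X] F)
  have hi : Function.Injective i := hAE.comp C_injective
  letI : Algebra R E := i.toAlgebra
  haveI : FaithfulSMul R E := (faithfulSMul_iff_algebraMap_injective R E).mpr hi
  letI := FractionRing.liftAlgebra R E
  haveI := FractionRing.isScalarTower_liftAlgebra R E
  choose root hroot using fun c : R => IsAlgClosed.exists_pow_nat_eq (i c) hq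
  obtain ⟨Y, hY⟩ := IsAlgClosed.exists_pow_nat_eq (algebraMap R[X] E X) hq
  let coeffs : Finset R := G.biUnion fun l => (f l).coeffs ∪ (g l).coeffs
  have hrootint : ∀ c : R, IsIntegral R (root c) := fun c => by
    refine IsIntegral.of_pow hq ?_
    rw [hroot]
    exact isIntegral_algebraMap
  let K1 := IntermediateField.adjoin K ((coeffs.image root : Finset E) : Set E)
  haveI : FiniteDimensional K K1 := by
    haveI := (coeffs.image root).finite_toSet.to_subtype
    exact IntermediateField.finiteDimensional_adjoin fun z hz => by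
      obtain ⟨c, -, rfl⟩ := Finset.mem_image.mp hz
      exact (hrootint c).tower_top
  haveI : IsScalarTower R K K1 := IsScalarTower.of_algebraMap_eq fun r =>
    Subtype.ext (IsScalarTower.algebraMap_apply R K E r)
  haveI : IsScalarTower R K1 E := IsScalarTower.of_algebraMap_eq fun r => by
    rw [IsScalarTower.algebraMap_apply R K K1, ← IsScalarTower.algebraMap_apply K K1 E, ← IsScalarTower.algebraMap_apply R K E]
  let R'' := integralClosure R K1
  haveI : Module.Finite R R'' := h K1 inferInstance
  haveI : IsIntegrallyClosed R'' := integralClosure.isIntegrallyClosedOfFiniteExtension K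
  let B := Polynomial R''
  let j : R'' →+* E := (algebraMap K1 E).comp (algebraMap R'' K1)
  let Φ : B →+* E := eval₂RingHom j Y
  letI : Algebra R[X] B := (eval₂RingHom (C.comp (algebraMap R R'')) (X ^ q)).toAlgebra
  have hjR : ∀ r : R, j (algebraMap R R'' r) = i r := fun r => rfl
  have hΦ : ∀ a : R[X], Φ (algebraMap R[X] B a) = algebraMap R[X] E a := by
    intro a
    change (Φ.comp (eval₂RingHom (C.comp (algebraMap R R'')) (X ^ q))) a = algebraMap R[X] E a
    congr 1
    refine Polynomial.ringHom_ext (fun r => ?_) ?_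
    · change eval₂ j Y (eval₂ (C.comp (algebraMap R R'')) (X ^ q) (C r)) = _
      rw [eval₂_C, RingHom.comp_apply, eval₂_C]
      exact hjR r
    · change eval₂ j Y (eval₂ (C.comp (algebraMap R R'')) (X ^ q) X) = _
      rw [eval₂_X, eval₂_X_pow, hY]
  let ΦA : B →ₐ[R[X]] E := { Φ with commutes' := hΦ }
  haveI : IsScalarTower R R[X] B := IsScalarTower.of_algebraMap_eq fun r => by
    change algebraMap R B r = eval₂RingHom (C.comp (algebraMap R R'')) (X ^ q) (C r)
    simp [Polynomial.algebraMap_apply, B]
  haveI : Module.Finite R[X] B :=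
    finite_polynomial (eval₂RingHom (C.comp (algebraMap R R'')) (X ^ q)) (fun a => by simp) (by
      change IsIntegral R[X] (X : B)
      refine IsIntegral.of_pow hq ?_
      rw [show (X : B) ^ q = algebraMap R[X] B X from (eval₂_X _ _).symm]
      exact isIntegral_algebraMap)
  have hΦinj : Function.Injective ΦA := by
    refine (RingHom.injective_iff_ker_eq_bot ΦA.toRingHom).mpr (Ideal.eq_bot_of_comap_eq_bot (R := R[X]) ?_)
    rw [RingHom.comap_ker, show ΦA.toRingHom.comp (algebraMap R[X] B) = algebraMap R[X] E from ΦA.comp_algebraMap]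
    exact (RingHom.injective_iff_ker_eq_bot _).mp hAE
  let ΦK : FractionRing B →ₐ[R[X]] E := IsFractionRing.liftAlgHom hΦinj
  have hΦK : ∀ b : B, ΦK (algebraMap B (FractionRing B) b) = Φ b := fun b => by
    simp [ΦK, ΦA]
  have hrootpoly : ∀ P : R[X], (∀ c ∈ P.coeffs, c ∈ coeffs) → ∃ P1 : B, Φ P1 ^ q = algebraMap R[X] E P := by
    intro P hP
    have hmem : ∀ n, root (P.coeff n) ∈ K1 := by
      intro n
      by_cases h0 : P.coeff n = 0
      · have : root (P.coeff n) = 0 := by
          refine (pow_eq_zero_iff hq.ne').mp ?_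
          rw [hroot, h0, map_zero]
        rw [this]; exact zero_mem _
      · exact IntermediateField.subset_adjoin K _ (Finset.mem_image_of_mem _ (hP _ (Polynomial.coeff_mem_coeffs h0)))
    let c1 : ℕ → R'' := fun n => ⟨⟨_, hmem n⟩,
      (isIntegral_algHom_iff (IsScalarTower.toAlgHom R K1 E) Subtype.val_injective).mp (hrootint _)⟩
    refine ⟨∑ n ∈ P.support, C (c1 n) * X ^ n, ?_⟩
    rw [map_sum, sum_pow_char_pow]
    conv_rhs => rw [P.as_sum_support_C_mul_X_pow, map_sum]
    refine Finset.sum_congr rfl fun n _ => ?_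
    have h1 : Φ (C (c1 n)) = root (P.coeff n) := (eval₂_C j Y).trans rfl
    have h2 : Φ X = Y := eval₂_X j Y
    rw [map_mul, map_pow, h1, h2, mul_pow, ← pow_mul, mul_comm n, pow_mul, hroot, hY, map_mul, map_pow]
    rfl
  have hrange : ∀ z : L, ∃ w : FractionRing B, ΦK w = algebraMap L E z := by
    intro z
    have hz : z ∈ Submodule.span F (G : Set L) := hG ▸ Submodule.mem_top
    induction hz using Submodule.span_induction with
    | mem l hl =>
      obtain ⟨f1, hf1⟩ := hrootpoly (f l) fun c hc => Finset.mem_biUnion.mpr ⟨l, hl, Finset.mem_union_left _ hc⟩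
      obtain ⟨g1, hg1⟩ := hrootpoly (g l) fun c hc => Finset.mem_biUnion.mpr ⟨l, hl, Finset.mem_union_right _ hc⟩
      refine ⟨algebraMap B _ f1 / algebraMap B _ g1, hfrob ?_⟩
      change (ΦK (algebraMap B _ f1 / algebraMap B _ g1)) ^ q = (algebraMap L E l) ^ q
      rw [map_div₀, hΦK, hΦK, div_pow, hf1, hg1, ← map_pow, ← hv l, ← hfg l,
        ← IsScalarTower.algebraMap_apply F L E, map_div₀, ← IsScalarTower.algebraMap_apply R[X] F E,
        ← IsScalarTower.algebraMap_apply R[X] F E]
    | zero => exact ⟨0, by simp⟩
    | add a b _ _ ha hb =>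
      obtain ⟨w, hw⟩ := ha
      obtain ⟨w', hw'⟩ := hb
      exact ⟨w + w', by rw [map_add, map_add, hw, hw']⟩
    | smul c a _ ha =>
      obtain ⟨w, hw⟩ := ha
      obtain ⟨n, d, hd, rfl⟩ := IsFractionRing.div_surjective (A := R[X]) c
      refine ⟨algebraMap R[X] (FractionRing B) n / algebraMap R[X] (FractionRing B) d * w, ?_⟩
      rw [map_mul, map_div₀, AlgHom.commutes, AlgHom.commutes, hw, Algebra.smul_def, map_mul,
        ← IsScalarTower.algebraMap_apply F L E, map_div₀, ← IsScalarTower.algebraMap_apply R[X] F E,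
        ← IsScalarTower.algebraMap_apply R[X] F E]
  have hmem : ∀ z : integralClosure R[X] L, algebraMap L E z ∈ LinearMap.range ΦA.toLinearMap := by
    intro z
    obtain ⟨w, hw⟩ := hrange z
    have hint : IsIntegral R[X] w := by
      refine (isIntegral_algHom_iff ΦK ΦK.toRingHom.injective).mp ?_
      rw [hw]
      exact z.2.map (IsScalarTower.toAlgHom R[X] L E)
    obtain ⟨b, rfl⟩ := IsIntegrallyClosed.isIntegral_iff.mp (hint.tower_top (A := B))
    exact ⟨b, (hΦK b).symm.trans hw⟩
  let e : integralClosure R[X] L →ₗ[R[X]] LinearMap.range ΦA.toLinearMap :=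
    { toFun := fun z => ⟨algebraMap L E z, hmem z⟩
      map_add' := fun a b => Subtype.ext (map_add (algebraMap L E) _ _)
      map_smul' := fun c a => Subtype.ext ((IsScalarTower.toAlgHom R[X] L E).toLinearMap.map_smul c (a : L)) }
  exact Module.Finite.of_injective e fun a b hab =>
    Subtype.ext ((algebraMap L E).injective (congrArg Subtype.val hab))

end Groth.L01.NagataPoly
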