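import Groth.Agent.L01.NagataAdjoin
import Groth.Agent.L01.NagataPoly
import Mathlib.RingTheory.Jacobson.Ring
import Mathlib.RingTheory.FiniteStability

/-!
Finite type algebras over Nagata rings are Nagata; consequences.
-/

universe u

namespace Groth.L01.Nagata

open Groth.L01.N2

theorem isNagata_of_surjective {R S : Type u} [CommRing R] [CommRing S] (f : R →+* S)
    (hf : Function.Surjective f) (hR : CAlg.IsNagata R) : CAlg.IsNagata S := by
  haveI := hR.1
  refine ⟨isNoetherianRing_of_surjective R S f hf, fun P _ => ?_⟩
  haveI : (P.comap f).IsPrime := Ideal.IsPrime.comap f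
  letI : Algebra (R ⧸ P.comap f) (S ⧸ P) := (Ideal.quotientMap P f le_rfl).toAlgebra
  exact Groth.L03.Japanese.isN2_of_bijective
    ⟨Ideal.quotientMap_injective, Ideal.quotientMap_surjective hf⟩ (hR.2 (P.comap f))

theorem isNagata_of_finite {R S : Type u} [CommRing R] [CommRing S] [Algebra R S] [Module.Finite R S]
    (hR : CAlg.IsNagata R) : CAlg.IsNagata S := by
  haveI := hR.1
  refine ⟨IsNoetherianRing.of_finite R S, fun P _ => ?_⟩
  let p := P.comap (algebraMap R S)
  haveI : p.IsPrime := Ideal.IsPrime.comap _
  letI : Algebra (R ⧸ p) (S ⧸ P) := (Ideal.quotientMap P (algebraMap R S) le_rfl).toAlgebra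
  haveI : IsScalarTower R (R ⧸ p) (S ⧸ P) := IsScalarTower.of_algebraMap_eq fun _ => rfl
  haveI : Module.Finite (R ⧸ p) (S ⧸ P) := Module.Finite.of_restrictScalars_finite R _ _
  exact isN2_of_finite Ideal.quotientMap_injective (hR.2 p)

theorem isN2_of_isNagata {R : Type u} [CommRing R] [IsDomain R] (hR : CAlg.IsNagata R) : CAlg.IsN2 R := by
  letI : Algebra (R ⧸ (⊥ : Ideal R)) R := (RingEquiv.quotientBot R).toRingHom.toAlgebra
  exact Groth.L03.Japanese.isN2_of_bijective (RingEquiv.quotientBot R).bijective (hR.2 ⊥)

/-- a monogenic algebraic domain extension of a Nagata domain is N-2 -/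
theorem isN2_of_algebraic_generator {R S : Type u} [CommRing R] [IsDomain R] [CommRing S] [IsDomain S]
    [Algebra R S] (hR : CAlg.IsNagata R) (hinj : Function.Injective (algebraMap R S)) (x : S)
    (hgen : Algebra.adjoin R {x} = ⊤) (hx : IsAlgebraic R x) : CAlg.IsN2 S := by
  classical
  intro L _ _ _ _ hfd
  haveI := hfd
  haveI := hR.1
  haveI : Algebra.FiniteType R S := ⟨⟨{x}, by rw [Finset.coe_singleton]; exact hgen⟩⟩
  haveI : IsNoetherianRing S := Algebra.FiniteType.isNoetherianRing R S
  letI : Algebra R L := Algebra.compHom L (algebraMap R S)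
  haveI : IsScalarTower R S L := IsScalarTower.of_algebraMap_eq fun _ => rfl
  let K := FractionRing R
  have hRL : Function.Injective (algebraMap R L) := by
    rw [IsScalarTower.algebraMap_eq R S L, IsScalarTower.algebraMap_eq S (FractionRing S) L]
    exact ((algebraMap (FractionRing S) L).injective.comp (IsFractionRing.injective S _)).comp hinj
  haveI : FaithfulSMul R L := (faithfulSMul_iff_algebraMap_injective R L).mpr hRL
  haveI : FaithfulSMul R S := (faithfulSMul_iff_algebraMap_injective R S).mpr hinj
  haveI : FaithfulSMul R (FractionRing S) := (faithfulSMul_iff_algebraMap_injective R _).mpr <| by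
    rw [IsScalarTower.algebraMap_eq R S (FractionRing S)]
    exact (IsFractionRing.injective S _).comp hinj
  letI := FractionRing.liftAlgebra R (FractionRing S)
  haveI := FractionRing.isScalarTower_liftAlgebra R (FractionRing S)
  letI := FractionRing.liftAlgebra R L
  haveI := FractionRing.isScalarTower_liftAlgebra R L
  haveI : IsScalarTower K (FractionRing S) L := IsScalarTower.of_algebraMap_eq' <| by
    refine IsLocalization.ringHom_ext (nonZeroDivisors R) ?_
    rw [RingHom.comp_assoc, ← IsScalarTower.algebraMap_eq R K (FractionRing S),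
      ← IsScalarTower.algebraMap_eq R K L, IsScalarTower.algebraMap_eq R S (FractionRing S),
      ← RingHom.comp_assoc, ← IsScalarTower.algebraMap_eq S (FractionRing S) L, ← IsScalarTower.algebraMap_eq R S L]
  haveI : FiniteDimensional K (FractionRing S) := by
    have hxK : IsIntegral K (algebraMap S (FractionRing S) x) :=
      (IsAlgebraic.extendScalars (IsFractionRing.injective R K) (hx.algebraMap)).isIntegral
    let M : IntermediateField K (FractionRing S) := IntermediateField.adjoin K {algebraMap S (FractionRing S) x}
    haveI : FiniteDimensional K M := IntermediateField.adjoin.finiteDimensional hxK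
    have hS : ∀ s : S, algebraMap S (FractionRing S) s ∈ M := by
      intro s
      have hs : s ∈ Algebra.adjoin R {x} := hgen ▸ Algebra.mem_top
      induction hs using Algebra.adjoin_induction with
      | mem w hw => rw [Set.mem_singleton_iff.mp hw]; exact IntermediateField.mem_adjoin_simple_self K _
      | algebraMap r =>
        rw [← IsScalarTower.algebraMap_apply, IsScalarTower.algebraMap_apply R K (FractionRing S)]
        exact IntermediateField.algebraMap_mem M _
      | add a b _ _ ha hb => rw [map_add]; exact add_mem ha hb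
      | mul a b _ _ ha hb => rw [map_mul]; exact mul_mem ha hb
    refine Module.Finite.of_surjective M.val.toLinearMap fun y => ?_
    obtain ⟨a, b, -, rfl⟩ := IsFractionRing.div_surjective (A := S) y
    exact ⟨⟨_, div_mem (hS a) (hS b)⟩, rfl⟩
  haveI : FiniteDimensional K L := Module.Finite.trans (FractionRing S) L
  let R' := integralClosure R L
  haveI : Module.Finite R R' := isN2_of_isNagata hR L inferInstance
  haveI : IsIntegrallyClosed R' := integralClosure.isIntegrallyClosedOfFiniteExtension K
  haveI : IsFractionRing R' L := integralClosure.isFractionRing_of_finite_extension K L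
  have hR' := isNagata_of_finite (S := R') hR
  let xL : L := algebraMap S L x
  obtain ⟨a, b, hb, hab⟩ := IsFractionRing.div_surjective (A := R') xL
  let S' := Algebra.adjoin R' {xL}
  let xS : S' := ⟨xL, Algebra.self_mem_adjoin_singleton R' xL⟩
  have hgen' : Algebra.adjoin R' {xS} = ⊤ := by
    refine Subalgebra.map_injective (f := S'.val) Subtype.val_injective ?_
    rw [AlgHom.map_adjoin, Set.image_singleton, Algebra.map_top, Subalgebra.range_val]
    rfl
  have hinj' : Function.Injective (algebraMap R' S') := fun u v h =>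
    Subtype.ext (congrArg (fun z : S' => (z : L)) h)
  have hN1 := Groth.L01.NagataAdjoin.isN1_of_generator hR' S' hinj' xS hgen' a b (nonZeroDivisors.ne_zero hb)
    (Subtype.ext (by
      change xL * algebraMap R' L b = algebraMap R' L a
      rw [← hab, div_mul_cancel₀]
      exact (map_ne_zero_iff _ (IsFractionRing.injective R' L)).mpr (nonZeroDivisors.ne_zero hb)))
  haveI : FaithfulSMul S' L := (faithfulSMul_iff_algebraMap_injective _ _).mpr Subtype.val_injective
  haveI : IsFractionRing S' L := by
    refine IsFractionRing.of_field S' L fun y => ?_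
    obtain ⟨u, v, -, rfl⟩ := IsFractionRing.div_surjective (A := R') y
    exact ⟨algebraMap R' S' u, algebraMap R' S' v, rfl⟩
  have hfinS' : Module.Finite S' (integralClosure S' L) := (Groth.L03.Japanese.isN1_iff L).mp hN1
  have hle : ∀ s : S, algebraMap S L s ∈ S' := by
    intro s
    have hs : s ∈ Algebra.adjoin R {x} := hgen ▸ Algebra.mem_top
    induction hs using Algebra.adjoin_induction with
    | mem w hw => rw [Set.mem_singleton_iff.mp hw]; exact xS.2
    | algebraMap r =>
      rw [← IsScalarTower.algebraMap_apply]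
      exact Subalgebra.algebraMap_mem S' (algebraMap R R' r)
    | add a b _ _ ha hb => rw [map_add]; exact add_mem ha hb
    | mul a b _ _ ha hb => rw [map_mul]; exact mul_mem ha hb
  letI : Algebra S S' := ((algebraMap S L).codRestrict S' hle).toAlgebra
  haveI : IsScalarTower S S' L := IsScalarTower.of_algebraMap_eq fun _ => rfl
  haveI : Module.Finite S S' := by
    let N : Subalgebra S L := Algebra.adjoin S ((R' : Set L))
    obtain ⟨G, hG⟩ := (inferInstance : Module.Finite R R').fg_top
    let N' : Subalgebra S L := Algebra.adjoin S ((fun g : R' => (g : L)) '' (G : Set R'))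
    haveI : Module.Finite S N' := Algebra.finite_adjoin_of_finite_of_isIntegral (G.finite_toSet.image _) (by
      rintro _ ⟨g, -, rfl⟩
      exact g.2.tower_top)
    have hR'N : ∀ r : R', (r : L) ∈ N' := by
      intro r
      have hr : r ∈ Submodule.span R (G : Set R') := hG ▸ Submodule.mem_top
      induction hr using Submodule.span_induction with
      | mem g hg => exact Algebra.subset_adjoin ⟨g, hg, rfl⟩
      | zero => exact zero_mem _
      | add a b _ _ ha hb => exact add_mem ha hb
      | smul c a _ ha =>
        rw [SetLike.val_smul, Algebra.smul_def, IsScalarTower.algebraMap_apply R S L]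
        exact mul_mem (Subalgebra.algebraMap_mem N' _) ha
    have hS'N : ∀ z : S', (z : L) ∈ N' := by
      rintro ⟨z, hz⟩
      induction hz using Algebra.adjoin_induction with
      | mem w hw =>
        obtain rfl : w = xL := hw
        exact Subalgebra.algebraMap_mem N' x
      | algebraMap r => exact hR'N r
      | add a b _ _ ha hb => exact add_mem ha hb
      | mul a b _ _ ha hb => exact mul_mem ha hb
    let e : S' →ₗ[S] N' :=
      { toFun := fun z => ⟨z, hS'N z⟩
        map_add' := fun _ _ => rfl
        map_smul' := fun c z => Subtype.ext (by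
          change ((c • z : S') : L) = c • (z : L)
          rw [Algebra.smul_def, Algebra.smul_def, MulMemClass.coe_mul]
          rfl) }
    haveI : IsNoetherian S N' := isNoetherian_of_isNoetherianRing_of_finite S _
    exact Module.Finite.of_injective e fun u v h => Subtype.ext (congrArg (fun z : N' => (z : L)) h)
  haveI : Module.Finite S (integralClosure S' L) := Module.Finite.trans S' _
  haveI : IsNoetherian S (integralClosure S' L) :=
    isNoetherian_of_isNoetherianRing_of_finite S (integralClosure S' L)
  let e : integralClosure S L →ₗ[S] integralClosure S' L :=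
    { toFun := fun z => ⟨z, z.2.tower_top⟩
      map_add' := fun _ _ => rfl
      map_smul' := fun _ _ => rfl }
  exact Module.Finite.of_injective e fun u v h =>
    Subtype.ext (congrArg (fun z : integralClosure S' L => (z : L)) h)

theorem isNagata_polynomial {R : Type u} [CommRing R] (hR : CAlg.IsNagata R) : CAlg.IsNagata (Polynomial R) := by
  classical
  haveI := hR.1
  refine ⟨inferInstance, fun P _ => ?_⟩
  let p := P.comap (Polynomial.C : R →+* Polynomial R)
  haveI : p.IsPrime := Ideal.IsPrime.comap _
  letI : Algebra (R ⧸ p) (Polynomial R ⧸ P) := (Ideal.quotientMap P Polynomial.C le_rfl).toAlgebra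
  have hinj : Function.Injective (algebraMap (R ⧸ p) (Polynomial R ⧸ P)) := Ideal.quotientMap_injective
  have hRp : CAlg.IsNagata (R ⧸ p) := isNagata_of_surjective _ Ideal.Quotient.mk_surjective hR
  let x : Polynomial R ⧸ P := Ideal.Quotient.mk P Polynomial.X
  have hgen : Algebra.adjoin (R ⧸ p) {x} = ⊤ := by
    refine eq_top_iff.mpr fun y htop => ?_
    clear htop
    obtain ⟨f, rfl⟩ := Ideal.Quotient.mk_surjective y
    induction f using Polynomial.induction_on' with
    | add a b ha hb => rw [map_add]; exact add_mem ha hb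
    | monomial n a =>
      rw [← Polynomial.C_mul_X_pow_eq_monomial, map_mul, map_pow]
      exact mul_mem (Subalgebra.algebraMap_mem _ (Ideal.Quotient.mk p a))
        (pow_mem (Algebra.self_mem_adjoin_singleton _ x) n)
  by_cases hx : IsAlgebraic (R ⧸ p) x
  · exact isN2_of_algebraic_generator hRp hinj x hgen hx
  · haveI := hRp.1
    have hbij : Function.Bijective (Polynomial.aeval (R := R ⧸ p) x) := by
      refine ⟨transcendental_iff_injective.mp hx, fun y => ?_⟩
      have hy : y ∈ Algebra.adjoin (R ⧸ p) {x} := hgen ▸ Algebra.mem_top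
      rw [Algebra.adjoin_singleton_eq_range_aeval] at hy
      exact hy
    exact Groth.L01.NagataComplete.isN2_of_ringEquiv (RingEquiv.ofBijective _ hbij)
      (Groth.L01.NagataPoly.isN2_polynomial (isN2_of_isNagata hRp))

theorem isNagata_mvPolynomial {R : Type u} [CommRing R] (hR : CAlg.IsNagata R) :
    ∀ n : ℕ, CAlg.IsNagata (MvPolynomial (Fin n) R) := by
  intro n
  induction n with
  | zero =>
    exact isNagata_of_surjective (MvPolynomial.C (σ := Fin 0)) (MvPolynomial.C_surjective (Fin 0)) hR
  | succ n ih =>
    exact isNagata_of_surjective (MvPolynomial.finSuccEquiv R n).symm.toRingEquiv.toRingHom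
      (MvPolynomial.finSuccEquiv R n).symm.surjective (isNagata_polynomial ih)

theorem isNagata_of_finiteType {R S : Type u} [CommRing R] [CommRing S] [Algebra R S]
    [hS : Algebra.FiniteType R S] (hR : CAlg.IsNagata R) : CAlg.IsNagata S := by
  obtain ⟨n, f, hf⟩ := Algebra.FiniteType.iff_quotient_mvPolynomial''.mp hS
  exact isNagata_of_surjective f.toRingHom hf (isNagata_mvPolynomial hR n)

theorem finite_integralClosure_domain {R D : Type u} [CommRing R] [IsDomain R] [CommRing D] [IsDomain D]
    [Algebra R D] [Algebra.FiniteType R D] [IsNoetherianRing R] (hinj : Function.Injective (algebraMap R D))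
    (h2 : CAlg.IsN2 R) : Module.Finite R (integralClosure R D) := by
  let K := FractionRing R
  let T := TensorProduct R K D
  haveI : FaithfulSMul R (FractionRing D) := (faithfulSMul_iff_algebraMap_injective R _).mpr <| by
    rw [IsScalarTower.algebraMap_eq R D (FractionRing D)]
    exact (IsFractionRing.injective D _).comp hinj
  letI := FractionRing.liftAlgebra R (FractionRing D)
  haveI := FractionRing.isScalarTower_liftAlgebra R (FractionRing D)
  let φ : T →ₐ[R] FractionRing D := Algebra.TensorProduct.lift
    (IsScalarTower.toAlgHom R K (FractionRing D)) (IsScalarTower.toAlgHom R D (FractionRing D))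
    fun _ _ => Commute.all _ _
  haveI : Nontrivial T := φ.toRingHom.domain_nontrivial
  obtain ⟨m, hm⟩ := Ideal.exists_maximal T
  letI := Ideal.Quotient.field m
  haveI : Algebra.FiniteType K (T ⧸ m) := inferInstance
  haveI : Module.Finite K (T ⧸ m) := finite_of_finite_type_of_isJacobsonRing K (T ⧸ m)
  let ψ : D →ₐ[R] T ⧸ m := (Ideal.Quotient.mkₐ R m).comp Algebra.TensorProduct.includeRight
  let g : integralClosure R D →ₐ[R] T ⧸ m := ψ.comp (integralClosure R D).val
  have hinjT : Function.Injective (algebraMap R (T ⧸ m)) := by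
    rw [IsScalarTower.algebraMap_eq R K (T ⧸ m)]
    exact (algebraMap K (T ⧸ m)).injective.comp (IsFractionRing.injective R K)
  have hg : Function.Injective g := by
    refine (RingHom.injective_iff_ker_eq_bot g.toRingHom).mpr (Ideal.eq_bot_of_comap_eq_bot (R := R) ?_)
    rw [RingHom.comap_ker, show g.toRingHom.comp (algebraMap R _) = algebraMap R (T ⧸ m) from g.comp_algebraMap]
    exact (RingHom.injective_iff_ker_eq_bot _).mp hinjT
  haveI := h2 (T ⧸ m) inferInstance
  let e : integralClosure R D →ₗ[R] integralClosure R (T ⧸ m) :=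
    { toFun := fun z => ⟨g z, (Algebra.IsIntegral.isIntegral z).map g⟩
      map_add' := fun a b => Subtype.ext (map_add g a b)
      map_smul' := fun c a => Subtype.ext (map_smul g c a) }
  exact Module.Finite.of_injective e fun u v h => hg (congrArg Subtype.val h)

theorem finite_integralClosure_of_isNagata {R S : Type u} [CommRing R] (hR : CAlg.IsNagata R) [CommRing S]
    [IsReduced S] [Algebra R S] [hS : Algebra.FiniteType R S] : Module.Finite R (integralClosure R S) := by
  classical
  haveI := hR.1
  haveI : IsNoetherianRing S := Algebra.FiniteType.isNoetherianRing R S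
  haveI : Fintype (minimalPrimes S) := (minimalPrimes.finite_of_isNoetherianRing S).fintype
  haveI : ∀ i : minimalPrimes S, i.1.IsPrime := fun i => Ideal.minimalPrimes_isPrime i.2
  have hfin : ∀ i : minimalPrimes S, Module.Finite R (integralClosure R (S ⧸ i.1)) := by
    intro i
    let q := i.1.comap (algebraMap R S)
    haveI : q.IsPrime := Ideal.IsPrime.comap _
    letI : Algebra (R ⧸ q) (S ⧸ i.1) := (Ideal.quotientMap i.1 (algebraMap R S) le_rfl).toAlgebra
    haveI : IsScalarTower R (R ⧸ q) (S ⧸ i.1) := IsScalarTower.of_algebraMap_eq fun _ => rfl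
    haveI : Algebra.FiniteType (R ⧸ q) (S ⧸ i.1) := Algebra.FiniteType.of_restrictScalars_finiteType R _ _
    haveI : IsNoetherianRing (R ⧸ q) := inferInstance
    haveI := finite_integralClosure_domain (R := R ⧸ q) (D := S ⧸ i.1) Ideal.quotientMap_injective (hR.2 q)
    haveI : Module.Finite R (integralClosure (R ⧸ q) (S ⧸ i.1)) := Module.Finite.trans (R ⧸ q) _
    let e : integralClosure (R ⧸ q) (S ⧸ i.1) →ₗ[R] integralClosure R (S ⧸ i.1) :=
      { toFun := fun z => ⟨z, isIntegral_trans (R := R) (A := R ⧸ q) z.1 z.2⟩
        map_add' := fun _ _ => rfl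
        map_smul' := fun _ _ => rfl }
    exact Module.Finite.of_surjective e fun z => ⟨⟨z, z.2.tower_top⟩, rfl⟩
  let F : integralClosure R S →ₗ[R] ∀ i : minimalPrimes S, integralClosure R (S ⧸ i.1) :=
    { toFun := fun z i => ⟨Ideal.Quotient.mkₐ R i.1 z, z.2.map (Ideal.Quotient.mkₐ R i.1)⟩
      map_add' := fun a b => funext fun i => Subtype.ext (map_add (Ideal.Quotient.mkₐ R i.1) _ _)
      map_smul' := fun c a => funext fun i => Subtype.ext (map_smul (Ideal.Quotient.mkₐ R i.1) c (a : S)) }
  refine Module.Finite.of_injective F ((injective_iff_map_eq_zero F).mpr fun z hz => Subtype.ext ?_)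
  have hmem : (z : S) ∈ sInf (minimalPrimes S) := by
    rw [Submodule.mem_sInf]
    intro Q hQ
    exact Ideal.Quotient.eq_zero_iff_mem.mp (congrArg Subtype.val (congrFun hz ⟨Q, hQ⟩))
  rw [minimalPrimes, Ideal.sInf_minimalPrimes] at hmem
  exact (show IsNilpotent (z : S) from hmem).eq_zero

/-- the criterion through completions of finite local domains -/
theorem isN1_of_forall_finite_local {R : Type u} [CommRing R] [IsLocalRing R] [IsNoetherianRing R]
    (h : ∀ (S : Type u) [CommRing S] [IsDomain S] [IsLocalRing S] [Algebra R S]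
      [IsLocalHom (algebraMap R S)] [Module.Finite R S],
      IsReduced (AdicCompletion (IsLocalRing.maximalIdeal S) S))
    (B : Type u) [CommRing B] [IsDomain B] [Algebra R B] [Module.Finite R B] : CAlg.IsN1 B := by
  classical
  by_cases hB : IsField B
  · letI := hB.toField
    exact Groth.L01.N2.isN1_of_isIntegrallyClosed B
  haveI : IsNoetherianRing B := IsNoetherianRing.of_finite R B
  let J := Ideal.jacobson (⊥ : Ideal B)
  have hmJ : ∀ r ∈ IsLocalRing.maximalIdeal R, algebraMap R B r ∈ J := by
    intro r hr
    simp only [J, Ideal.jacobson, Ideal.mem_sInf]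
    rintro M ⟨-, hM⟩
    haveI : M.IsMaximal := hM
    haveI := Ideal.isMaximal_comap_of_isIntegral_of_isMaximal (R := R) M
    have h1 : M.comap (algebraMap R B) = IsLocalRing.maximalIdeal R := IsLocalRing.eq_maximalIdeal inferInstance
    exact Ideal.mem_comap.mp (h1 ▸ hr)
  let C : Subalgebra R B :=
    { carrier := {b | ∃ r : R, b - algebraMap R B r ∈ J}
      mul_mem' := by
        rintro u v ⟨r, hr⟩ ⟨s, hs⟩
        refine ⟨r * s, ?_⟩
        rw [map_mul, show u * v - algebraMap R B r * algebraMap R B s =
          (u - algebraMap R B r) * v + algebraMap R B r * (v - algebraMap R B s) by ring]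
        exact add_mem (J.mul_mem_right _ hr) (J.mul_mem_left _ hs)
      add_mem' := by
        rintro u v ⟨r, hr⟩ ⟨s, hs⟩
        exact ⟨r + s, by rw [map_add, add_sub_add_comm]; exact add_mem hr hs⟩
      algebraMap_mem' := fun r => ⟨r, by simp⟩ }
  have hJC : ∀ j ∈ J, j ∈ C := fun j hj => ⟨0, by simpa using hj⟩
  haveI : Module.Finite R C := Module.Finite.of_injective C.val.toLinearMap Subtype.val_injective
  haveI : IsNoetherianRing C := IsNoetherianRing.of_finite R C
  let mC : Ideal C := J.comap C.val
  have hunit : ∀ c : C, c ∉ mC → IsUnit c := by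
    rintro ⟨c, r, hr⟩ hc
    have hr' : IsUnit r := by
      by_contra hu
      exact hc (show c ∈ J by simpa using add_mem hr (hmJ r hu))
    have hcB : IsUnit c := by
      by_contra hu
      obtain ⟨M, hM, hcM⟩ := exists_max_ideal_of_mem_nonunits hu
      have hJM : J ≤ M := sInf_le ⟨bot_le, hM⟩
      exact hM.ne_top (Ideal.eq_top_of_isUnit_mem _ (by simpa using sub_mem hcM (hJM hr)) (hr'.map (algebraMap R B)))
    obtain ⟨d, hd⟩ := hcB.exists_right_inv
    obtain ⟨r', rfl⟩ := hr'
    have hdC : d ∈ C := by
      refine ⟨↑r'⁻¹, ?_⟩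
      have hinv : algebraMap R B ↑r' * algebraMap R B ↑r'⁻¹ = 1 := by rw [← map_mul, Units.mul_inv, map_one]
      rw [show d - algebraMap R B ↑r'⁻¹ = -(d * algebraMap R B ↑r'⁻¹ * (c - algebraMap R B ↑r')) by
        linear_combination (-d) * hinv + (algebraMap R B ↑r'⁻¹) * hd]
      exact neg_mem (J.mul_mem_left _ hr)
    exact isUnit_iff_exists_inv.mpr ⟨⟨d, hdC⟩, Subtype.ext hd⟩
  haveI : IsLocalRing C := by
    refine IsLocalRing.of_nonunits_add fun u v hu hv huv => ?_
    have hu' : u ∈ mC := by by_contra h'; exact hu (hunit u h')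
    have hv' : v ∈ mC := by by_contra h'; exact hv (hunit v h')
    have h1 := Ideal.eq_top_of_isUnit_mem _ (show ((u + v : C) : B) ∈ J from add_mem hu' hv') (huv.map C.val)
    exact (Ideal.jacobson_eq_top_iff.not.mpr bot_ne_top) h1
  haveI : IsLocalHom (algebraMap R C) := ⟨fun r hr => by
    by_contra hu
    exact (Ideal.jacobson_eq_top_iff.not.mpr bot_ne_top) (Ideal.eq_top_of_isUnit_mem _ (hmJ r hu) (hr.map C.val))⟩
  haveI := h C
  have hN1 := Groth.L01.AnalUnram.isN1 C
  have hJ0 : J ≠ ⊥ := by
    intro hbot
    have hRB : (⊥ : Ideal B).IsPrime := Ideal.bot_prime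
    haveI : Finite {M : Ideal B // M.IsMaximal} := by
      let mR := IsLocalRing.maximalIdeal R
      haveI : IsArtinianRing (B ⧸ mR.map (algebraMap R B)) := by
        letI := Ideal.Quotient.field mR
        haveI : Module.Finite (R ⧸ mR) (B ⧸ mR.map (algebraMap R B)) :=
          Module.Finite.of_restrictScalars_finite R _ _
        exact IsArtinianRing.of_finite (R ⧸ mR) (B ⧸ mR.map (algebraMap R B))
      haveI : Finite {M : Ideal (B ⧸ mR.map (algebraMap R B)) // M.IsMaximal} :=
        (IsArtinianRing.setOfPred_isMaximal_finite _).to_subtype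
      refine Finite.of_injective (fun M : {M : Ideal B // M.IsMaximal} =>
        (⟨M.1.map (Ideal.Quotient.mk _), ?_⟩ : {M : Ideal (B ⧸ mR.map (algebraMap R B)) // M.IsMaximal})) ?_
      · haveI := M.2
        refine Ideal.IsMaximal.map_of_surjective_of_ker_le Ideal.Quotient.mk_surjective ?_
        rw [Ideal.mk_ker, Ideal.map_le_iff_le_comap]
        exact fun r hr => (sInf_le (show M.1 ∈ {J | ⊥ ≤ J ∧ J.IsMaximal} from ⟨bot_le, M.2⟩)) (hmJ r hr)
      · intro M M' hMM
        have hle : ∀ N : {M : Ideal B // M.IsMaximal}, mR.map (algebraMap R B) ≤ N.1 := fun N => by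
          rw [Ideal.map_le_iff_le_comap]
          exact fun r hr => (sInf_le (show N.1 ∈ {J | ⊥ ≤ J ∧ J.IsMaximal} from ⟨bot_le, N.2⟩)) (hmJ r hr)
        have h1 := congrArg (fun x : {M : Ideal (B ⧸ mR.map (algebraMap R B)) // M.IsMaximal} =>
          x.1.comap (Ideal.Quotient.mk _)) hMM
        simp only [Ideal.comap_map_of_surjective _ Ideal.Quotient.mk_surjective, ← RingHom.ker_eq_comap_bot,
          Ideal.mk_ker, sup_eq_left.mpr (hle M), sup_eq_left.mpr (hle M')] at h1
        exact Subtype.ext h1
    cases nonempty_fintype {M : Ideal B // M.IsMaximal}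
    have hprod : (∏ M : {M : Ideal B // M.IsMaximal}, M.1) ≤ (⊥ : Ideal B) := by
      rw [← hbot]
      refine le_sInf fun M hM => ?_
      exact le_trans Ideal.prod_le_inf (Finset.inf_le (Finset.mem_univ (⟨M, hM.2⟩ : {M : Ideal B // M.IsMaximal})))
    obtain ⟨M, -, hM⟩ := (Ideal.IsPrime.prod_le hRB).mp hprod
    haveI := M.2
    exact hB (Ring.isField_iff_maximal_bot.mpr (le_bot_iff.mp hM ▸ M.2))
  obtain ⟨j, hj, hj0⟩ := Submodule.exists_mem_ne_zero_of_ne_bot hJ0
  let K := FractionRing B
  haveI : FaithfulSMul C K := (faithfulSMul_iff_algebraMap_injective C K).mpr <| by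
    rw [IsScalarTower.algebraMap_eq C B K]
    exact (IsFractionRing.injective B K).comp Subtype.val_injective
  haveI : IsFractionRing C K := by
    refine IsFractionRing.of_field C K fun y => ?_
    obtain ⟨u, v, hv, rfl⟩ := IsFractionRing.div_surjective (A := B) y
    refine ⟨⟨u * j, hJC _ (J.mul_mem_left _ hj)⟩, ⟨v * j, hJC _ (J.mul_mem_left _ hj)⟩, ?_⟩
    have hj1 : algebraMap B K j ≠ 0 := (map_ne_zero_iff _ (IsFractionRing.injective B K)).mpr hj0
    change algebraMap B K u / algebraMap B K v = algebraMap B K (u * j) / algebraMap B K (v * j)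
    rw [map_mul, map_mul, mul_div_mul_right _ _ hj1]
  haveI : Algebra.IsIntegral C B := ⟨fun b => (Algebra.IsIntegral.isIntegral (R := R) b).tower_top⟩
  haveI : Module.Finite C (integralClosure C K) := (Groth.L03.Japanese.isN1_iff K).mp hN1
  let e : integralClosure C K →ₗ[C] integralClosure B K :=
    { toFun := fun z => ⟨z, z.2.tower_top⟩
      map_add' := fun _ _ => rfl
      map_smul' := fun _ _ => rfl }
  haveI : Module.Finite C (integralClosure B K) :=
    Module.Finite.of_surjective e fun z => ⟨⟨z, isIntegral_trans (R := C) (A := B) z.1 z.2⟩, rfl⟩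
  exact Module.Finite.of_restrictScalars_finite C B _

theorem isN2_of_forall_isN1' {R : Type u} [CommRing R] [IsDomain R] [IsNoetherianRing R]
    (h : ∀ (B : Type u) [CommRing B] [IsDomain B] [Algebra R B] [Module.Finite R B],
      Function.Injective (algebraMap R B) → CAlg.IsN1 B) :
    CAlg.IsN2 R := by
  classical
  intro L _ _ _ _ hfd
  haveI := hfd
  obtain ⟨s, b, hb⟩ := FiniteDimensional.exists_is_basis_integral R (FractionRing R) L
  let B := Algebra.adjoin R (Set.range b)
  haveI : Module.Finite R B := Algebra.finite_adjoin_of_finite_of_isIntegral (Set.finite_range b)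
    (by rintro _ ⟨i, rfl⟩; exact hb i)
  haveI : FaithfulSMul B L := (faithfulSMul_iff_algebraMap_injective _ _).mpr Subtype.val_injective
  haveI : IsFractionRing B L := by
    refine IsFractionRing.of_field B L fun y => ?_
    obtain ⟨⟨d, hd⟩, hdz⟩ := IsLocalization.exist_integer_multiples_of_finite (nonZeroDivisors R) (fun i => b.repr y i)
    choose r hr using hdz
    refine ⟨∑ i, r i • ⟨b i, Algebra.subset_adjoin ⟨i, rfl⟩⟩, algebraMap R B d, ?_⟩
    have hd0 : algebraMap R L d ≠ 0 := by
      rw [IsScalarTower.algebraMap_apply R (FractionRing R) L]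
      exact (map_ne_zero_iff _ (RingHom.injective _)).mpr
        ((map_ne_zero_iff _ (IsFractionRing.injective R _)).mpr (nonZeroDivisors.ne_zero hd))
    rw [← IsScalarTower.algebraMap_apply R B L, eq_div_iff hd0, map_sum]
    conv_lhs => rw [← b.sum_repr y, Finset.sum_mul]
    refine Finset.sum_congr rfl fun i _ => ?_
    rw [Algebra.smul_def, Algebra.smul_def, map_mul, ← IsScalarTower.algebraMap_apply R B L,
      IsScalarTower.algebraMap_apply R (FractionRing R) L (r i), hr i]
    simp only [Algebra.smul_def, map_mul, ← IsScalarTower.algebraMap_apply]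
    change _ = _ * b i
    ring
  haveI : Module.Finite B (integralClosure B L) := (Groth.L03.Japanese.isN1_iff L).mp (h B fun u v huv => by
    have h1 := congrArg (fun z : B => (z : L)) huv
    have hRL : Function.Injective (algebraMap R L) := by
      rw [IsScalarTower.algebraMap_eq R (FractionRing R) L]
      exact (algebraMap (FractionRing R) L).injective.comp (IsFractionRing.injective R _)
    exact hRL h1)
  haveI : Module.Finite R (integralClosure B L) := Module.Finite.trans B _
  let e : integralClosure R L →ₗ[R] integralClosure B L :=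
    { toFun := fun z => ⟨z, z.2.tower_top⟩
      map_add' := fun _ _ => rfl
      map_smul' := fun _ _ => rfl }
  exact Module.Finite.of_injective e fun u v h => Subtype.ext (congrArg (fun z : integralClosure B L => (z : L)) h)

theorem isN2_of_forall_isN1 {R : Type u} [CommRing R] [IsDomain R] [IsNoetherianRing R]
    (h : ∀ (B : Type u) [CommRing B] [IsDomain B] [Algebra R B] [Module.Finite R B], CAlg.IsN1 B) :
    CAlg.IsN2 R :=
  isN2_of_forall_isN1' fun B _ _ _ _ _ => h B

end Groth.L01.Nagata
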