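import Groth.Prelude.Def_EGA4b
import Groth.Agent.L01.NagataFiniteType
import Groth.Agent.S0568
import Groth.Agent.L01.Regular
import Mathlib.RingTheory.Nilpotent.GeometricallyReduced
import Mathlib.RingTheory.LocalProperties.Reduced

/-!
Criteria for Nagata rings through formal fibres, and global criteria.
-/

universe u

open scoped TensorProduct

namespace Groth.L01.NagataCriteria

open IsLocalRing

/-- N-1 from a faithfully flat reduced Noetherian algebra whose domain quotients are N-1. -/
theorem isN1_of_faithfullyFlat_reduced {B T : Type u} [CommRing B] [IsDomain B] [IsNoetherianRing B] [CommRing T]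
    [Algebra B T] [Module.FaithfullyFlat B T] [IsNoetherianRing T] [IsReduced T]
    (hT : ∀ (P : Ideal T) [P.IsPrime], CAlg.IsN1 (T ⧸ P)) : CAlg.IsN1 B := by
  classical
  let K := FractionRing B
  let B' := integralClosure B K
  change Module.Finite B B'
  haveI : Fintype (minimalPrimes T) := (minimalPrimes.finite_of_isNoetherianRing T).fintype
  let P : minimalPrimes T → Ideal T := fun P => P.1
  haveI : ∀ i, (P i).IsPrime := fun i => Ideal.minimalPrimes_isPrime i.2
  let F : minimalPrimes T → Type u := fun i => FractionRing (T ⧸ P i)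
  have hne : ∀ i, ∀ r : B, algebraMap B (F i) r = 0 → r = 0 := by
    intro i r hr
    by_contra hr0
    rw [IsScalarTower.algebraMap_apply B (T ⧸ P i) (F i), map_eq_zero_iff _ (IsFractionRing.injective _ _),
      IsScalarTower.algebraMap_apply B T (T ⧸ P i), Ideal.Quotient.algebraMap_eq,
      Ideal.Quotient.eq_zero_iff_mem] at hr
    refine (Ideal.disjoint_nonZeroDivisors_of_mem_minimalPrimes i.2).le_bot ⟨hr, ?_⟩
    rw [SetLike.mem_coe, mem_nonZeroDivisors_iff_right]
    intro z hz
    have h1 : IsSMulRegular B r := isSMulRegular_iff_right_eq_zero_of_smul.mpr fun a ha =>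
      (mul_eq_zero.mp ha).resolve_left hr0
    refine (IsSMulRegular.of_flat (S := T) h1).right_eq_zero_of_smul ?_
    simpa [Algebra.smul_def, mul_comm] using hz
  have hfin : ∀ i, Module.Finite T (integralClosure (T ⧸ P i) (F i)) := fun i =>
    haveI : Module.Finite (T ⧸ P i) (integralClosure (T ⧸ P i) (F i)) := hT (P i)
    Module.Finite.trans (T ⧸ P i) _
  let φ : ∀ i, K →ₐ[B] F i := fun i => IsFractionRing.liftAlgHom
    (show Function.Injective (Algebra.ofId B (F i)) from (injective_iff_map_eq_zero _).mpr (hne i))
  let W := ∀ i, integralClosure (T ⧸ P i) (F i)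
  haveI : Module.Finite T W := inferInstance
  let ψ0 : ∀ i, B' →ₗ[B] integralClosure (T ⧸ P i) (F i) := fun i =>
    { toFun := fun z => ⟨φ i z, (z.2.map (φ i)).tower_top⟩
      map_add' := fun a b => Subtype.ext (map_add (φ i) _ _)
      map_smul' := fun r a => Subtype.ext (map_smul (φ i) r (a : K)) }
  let ψ : T ⊗[B] B' →ₗ[T] W := (LinearMap.pi ψ0).liftBaseChange T
  haveI : Module.Finite T (T ⊗[B] B') := by
    refine Module.Finite.of_injective ψ ?_
    rw [← LinearMap.ker_eq_bot, LinearMap.ker_eq_bot']
    intro z hz
    obtain ⟨d, hd0, a, ha⟩ : ∃ d : B, d ≠ 0 ∧ ∃ a : T, d • z = a ⊗ₜ[B] (1 : B') := by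
      clear hz
      induction z using TensorProduct.induction_on with
      | zero => exact ⟨1, one_ne_zero, 0, by simp⟩
      | tmul a r =>
        obtain ⟨c, d, hd, hcd⟩ := IsFractionRing.div_surjective (A := B) (r : K)
        refine ⟨d, nonZeroDivisors.ne_zero hd, c • a, ?_⟩
        rw [← TensorProduct.tmul_smul, TensorProduct.smul_tmul]
        congr 1
        apply Subtype.ext
        rw [SetLike.val_smul, SetLike.val_smul, OneMemClass.coe_one, Algebra.smul_def, Algebra.smul_def, ← hcd,
          mul_one, mul_div_cancel₀]
        exact (map_ne_zero_iff _ (IsFractionRing.injective B K)).mpr (nonZeroDivisors.ne_zero hd)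
      | add v w hv hw =>
        obtain ⟨d, hd, a, ha⟩ := hv
        obtain ⟨e, he, b, hb⟩ := hw
        refine ⟨d * e, mul_ne_zero hd he, e • a + d • b, ?_⟩
        rw [smul_add, mul_comm, mul_smul, ha, TensorProduct.smul_tmul', mul_comm, mul_smul, hb,
          TensorProduct.smul_tmul', TensorProduct.add_tmul]
    have hψ : ψ (d • z) = 0 := by rw [LinearMap.map_smul_of_tower, hz, smul_zero]
    rw [ha, LinearMap.liftBaseChange_tmul] at hψ
    have ha0 : a = 0 := by
      have hmem : a ∈ sInf (minimalPrimes T) := by
        rw [Submodule.mem_sInf]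
        intro Q hQ
        have h2 : algebraMap T (F ⟨Q, hQ⟩) a * φ ⟨Q, hQ⟩ ((1 : B') : K) = 0 := by
          rw [← Algebra.smul_def]
          exact congrArg Subtype.val (congrFun hψ ⟨Q, hQ⟩)
        rw [OneMemClass.coe_one, map_one, mul_one, IsScalarTower.algebraMap_apply T (T ⧸ Q) (F ⟨Q, hQ⟩),
          map_eq_zero_iff _ (IsFractionRing.injective _ _), Ideal.Quotient.algebraMap_eq,
          Ideal.Quotient.eq_zero_iff_mem] at h2
        exact h2
      rw [minimalPrimes, Ideal.sInf_minimalPrimes] at hmem
      exact (show IsNilpotent a from hmem).eq_zero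
    rw [ha0, TensorProduct.zero_tmul] at ha
    have hreg : IsSMulRegular (T ⊗[B] B') d := by
      intro v w hvw
      refine Module.Flat.lTensor_preserves_injective_linearMap (M := T) (LinearMap.lsmul B B' d)
        (fun a b h => Subtype.ext (mul_left_cancel₀
          ((map_ne_zero_iff _ (IsFractionRing.injective B K)).mpr hd0)
          (by simpa [Algebra.smul_def] using congrArg Subtype.val h))) ?_
      have : LinearMap.lTensor T (LinearMap.lsmul B B' d) = LinearMap.lsmul B _ d := by
        ext a' b'; simp
      rw [this]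
      exact hvw
    exact hreg.right_eq_zero_of_smul ha
  exact Module.Finite.of_finite_tensorProduct_of_faithfullyFlat T

/-- a finite domain over a Noetherian local ring with reduced completed tensor product is N-1 -/
theorem isN1_of_isReduced_tensor {A B : Type u} [CommRing A] [IsLocalRing A] [IsNoetherianRing A] [CommRing B]
    [IsDomain B] [Algebra A B] [Module.Finite A B]
    [IsReduced (AdicCompletion (maximalIdeal A) A ⊗[A] B)] : CAlg.IsN1 B := by
  let Ah := AdicCompletion (maximalIdeal A) A
  haveI := Groth.L01.AnalUnram.isNoetherianRing_completion A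
  haveI := Groth.L01.CompletionExt.faithfullyFlat A
  haveI : IsNoetherianRing B := IsNoetherianRing.of_finite A B
  let T := B ⊗[A] Ah
  let e : Ah ⊗[A] B ≃+* T := (Algebra.TensorProduct.comm A Ah B).toRingEquiv
  haveI : IsNoetherianRing (Ah ⊗[A] B) := IsNoetherianRing.of_finite Ah _
  haveI : IsNoetherianRing T := isNoetherianRing_of_ringEquiv _ e
  haveI : IsReduced T := isReduced_of_injective e.symm e.symm.injective
  have hT : CAlg.IsNagata T := Groth.L01.Nagata.isNagata_of_surjective e.toRingHom e.surjective
    (Groth.L01.Nagata.isNagata_of_finite (Groth.Agent.S0568.result Ah))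
  exact isN1_of_faithfullyFlat_reduced (T := T) fun P _ => Groth.L01.N2.isN1_of_isN2 _ (hT.2 P)

theorem isReduced_tensor_of_geomReduced {A : Type u} [CommRing A] [IsLocalRing A] [IsNoetherianRing A]
    (hA : EGA4.HasGeomReducedFormalFibres A) (B : Type u) [CommRing B] [IsDomain B] [Algebra A B] [Module.Finite A B] :
    IsReduced (AdicCompletion (maximalIdeal A) A ⊗[A] B) := by
  let Ah := AdicCompletion (maximalIdeal A) A
  let p := RingHom.ker (algebraMap A B)
  haveI : p.IsPrime := RingHom.ker_isPrime _
  let L := FractionRing B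
  let k := p.ResidueField
  have hinj : Function.Injective (algebraMap B L) := IsFractionRing.injective B L
  letI : Algebra (A ⧸ p) B := (RingHom.kerLift (algebraMap A B)).toAlgebra
  haveI : IsScalarTower A (A ⧸ p) B := IsScalarTower.of_algebraMap_eq fun _ => rfl
  haveI : Module.Finite (A ⧸ p) B := Module.Finite.of_restrictScalars_finite A _ _
  haveI : IsScalarTower A (A ⧸ p) L := IsScalarTower.of_algebraMap_eq fun x => by
    rw [IsScalarTower.algebraMap_apply A B L, IsScalarTower.algebraMap_apply A (A ⧸ p) B,
      ← IsScalarTower.algebraMap_apply (A ⧸ p) B L]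
  have hBinj : Function.Injective (algebraMap (A ⧸ p) B) := RingHom.kerLift_injective (algebraMap A B)
  haveI : FaithfulSMul (A ⧸ p) B := (faithfulSMul_iff_algebraMap_injective _ _).mpr hBinj
  haveI : FaithfulSMul (A ⧸ p) L := (faithfulSMul_iff_algebraMap_injective _ _).mpr <| by
    rw [IsScalarTower.algebraMap_eq (A ⧸ p) B L]
    exact hinj.comp hBinj
  letI : Algebra k L := (IsFractionRing.lift (A := A ⧸ p) (K := k)
    (FaithfulSMul.algebraMap_injective (A ⧸ p) L)).toAlgebra
  haveI : IsScalarTower A k L := IsScalarTower.of_algebraMap_eq fun x => by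
    rw [IsScalarTower.algebraMap_apply A (A ⧸ p) L, IsScalarTower.algebraMap_apply A (A ⧸ p) k]
    exact (IsFractionRing.lift_algebraMap (FaithfulSMul.algebraMap_injective (A ⧸ p) L) _).symm
  haveI : Algebra.IsAlgebraic k L := by
    haveI : IsScalarTower (A ⧸ p) k L := IsScalarTower.of_algebraMap_eq fun x =>
      (IsFractionRing.lift_algebraMap (FaithfulSMul.algebraMap_injective (A ⧸ p) L) x).symm
    haveI : IsScalarTower (A ⧸ p) B L := inferInstance
    exact isAlgebraic_of_isFractionRing (A ⧸ p) B k L
  haveI := hA p
  haveI : IsReduced (L ⊗[k] (k ⊗[A] Ah)) := inferInstance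
  haveI : IsReduced (L ⊗[A] Ah) :=
    isReduced_of_injective (Algebra.TensorProduct.cancelBaseChange A k k L Ah).symm (AlgEquiv.injective _)
  haveI : IsReduced (Ah ⊗[A] L) :=
    isReduced_of_injective (Algebra.TensorProduct.comm A Ah L) (AlgEquiv.injective _)
  exact isReduced_of_injective (Algebra.TensorProduct.map (AlgHom.id A Ah) (IsScalarTower.toAlgHom A B L))
    (Module.Flat.lTensor_preserves_injective_linearMap (M := Ah) (IsScalarTower.toAlgHom A B L).toLinearMap hinj)

/-- a Noetherian local ring with geometrically reduced formal fibres is Nagata -/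
theorem isNagata_of_geomReduced {A : Type u} [CommRing A] [IsLocalRing A] [IsNoetherianRing A]
    (hA : EGA4.HasGeomReducedFormalFibres A) : CAlg.IsNagata A := by
  refine ⟨inferInstance, fun p _ => Groth.L01.Nagata.isN2_of_forall_isN1 fun B _ _ _ _ => ?_⟩
  letI : Algebra A B := Algebra.compHom B (Ideal.Quotient.mk p)
  haveI : IsScalarTower A (A ⧸ p) B := IsScalarTower.of_algebraMap_eq fun _ => rfl
  haveI : Module.Finite A B := Module.Finite.trans (A ⧸ p) B
  haveI := isReduced_tensor_of_geomReduced hA B
  exact isN1_of_isReduced_tensor (A := A)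

theorem isReduced_of_isRegularRing (S : Type u) [CommRing S] [h : IsRegularRing S] : IsReduced S := by
  refine isReduced_ofLocalizationMaximal S fun P hP => ?_
  haveI := h.isRegularLocalRing_localization P
  haveI := Groth.L01.isDomain_of_regular (Localization.AtPrime P)
  infer_instance

theorem isGeometricallyReduced_of_isGeometricallyRegular {k S : Type u} [Field k] [CommRing S] [Algebra k S]
    (h : CAlg.IsGeometricallyRegular k S) : Algebra.IsGeometricallyReduced k S := by
  rw [Algebra.isGeometricallyReduced_field_iff]
  haveI : IsReduced (S ⊗[k] AlgebraicClosure k) := by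
    refine IsReduced.tensorProduct_of_flat_of_forall_fg fun D hD => ?_
    haveI : Algebra.FiniteType k D := D.fg_iff_finiteType.mp hD
    haveI : Algebra.IsIntegral k D := ⟨fun d =>
      (isIntegral_algHom_iff D.val Subtype.val_injective).mp (Algebra.IsIntegral.isIntegral (d : AlgebraicClosure k))⟩
    haveI : Module.Finite k D := Algebra.IsIntegral.finite
    letI := (Algebra.IsIntegral.isField_iff_isField (R := k) (S := D) (algebraMap k D).injective).mp (Field.toIsField k) |>.toField
    haveI := h D inferInstance
    haveI := isReduced_of_isRegularRing (D ⊗[k] S)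
    exact isReduced_of_injective (Algebra.TensorProduct.comm k S D) (AlgEquiv.injective _)
  exact isReduced_of_injective (Algebra.TensorProduct.comm k (AlgebraicClosure k) S) (AlgEquiv.injective _)

end Groth.L01.NagataCriteria
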