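import Groth.Agent.L01.NagataCriteria
import Groth.Agent.L03.RegularNormal
import Groth.Agent.L03.Japanese2
import Mathlib.RingTheory.LocalProperties.IntegrallyClosed

/-!
Global criteria: universally Japanese from formal fibres and J-2.
-/

universe u

open scoped TensorProduct

namespace Groth.L01.NagataCriteria

/-- local rings of finite type algebras over a ring with Nagata local rings are Nagata -/
theorem isNagata_atPrime_of_finiteType {A S : Type u} [CommRing A] [CommRing S] [Algebra A S]
    [Algebra.FiniteType A S] (M : Ideal A) [M.IsPrime] (hM : CAlg.IsNagata (Localization.AtPrime M))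
    (m : Ideal S) [m.IsPrime] (hm : m.comap (algebraMap A S) ≤ M) : CAlg.IsNagata (Localization.AtPrime m) := by
  let AM := Localization.AtPrime M
  let Sm := Localization.AtPrime m
  have hu : ∀ s : M.primeCompl, IsUnit (algebraMap A Sm s) := fun s => by
    rw [IsScalarTower.algebraMap_apply A S Sm]
    exact IsLocalization.map_units Sm (⟨_, fun h => s.2 (hm h)⟩ : m.primeCompl)
  let f : AM →ₐ[A] Sm := IsLocalization.liftAlgHom (f := Algebra.ofId A Sm) hu
  let g : AM ⊗[A] S →ₐ[A] Sm := Algebra.TensorProduct.lift f (IsScalarTower.toAlgHom A S Sm) fun _ _ => Commute.all _ _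
  haveI : Algebra.FiniteType AM (AM ⊗[A] S) := inferInstance
  have hT : CAlg.IsNagata (AM ⊗[A] S) := Groth.L01.Nagata.isNagata_of_finiteType hM
  let S' := g.toRingHom.range
  have hS' : CAlg.IsNagata S' :=
    Groth.L01.Nagata.isNagata_of_surjective g.toRingHom.rangeRestrict g.toRingHom.rangeRestrict_surjective hT
  have hS : ∀ s : S, algebraMap S Sm s ∈ S' := fun s => ⟨(1 : AM) ⊗ₜ[A] s, by simp [g]⟩
  let W : Submonoid S' := (IsUnit.submonoid Sm).comap S'.subtype.toMonoidHom
  letI : Algebra S' Sm := S'.subtype.toAlgebra
  haveI : IsLocalization W Sm := by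
    rw [isLocalization_iff]
    refine ⟨fun w => w.2, fun z => ?_, fun {a b} h => ⟨1, by rw [show a = b from Subtype.ext h]⟩⟩
    obtain ⟨s, t, rfl⟩ := IsLocalization.exists_mk'_eq m.primeCompl z
    exact ⟨⟨⟨_, hS s⟩, ⟨⟨_, hS t⟩, IsLocalization.map_units Sm t⟩⟩, IsLocalization.mk'_spec Sm s t⟩
  exact Groth.L01.NagataAdjoin.isNagata_localization hS' W Sm

open Groth.L01.NormalLocus in
/-- N-1 from generic normality and N-1 at all maximal ideals -/
theorem isN1_of_local {R : Type u} [CommRing R] [IsDomain R] [IsNoetherianRing R] {f : R} (hf : f ≠ 0)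
    (hn : IsIntegrallyClosed (Localization.Away f))
    (h : ∀ (m : Ideal R) [m.IsMaximal], CAlg.IsN1 (Localization.AtPrime m)) : CAlg.IsN1 R := by
  refine finite_integralClosure hf hn fun m hm => ?_
  haveI := hm
  let K := FractionRing R
  let A := Localization.AtPrime m
  have hu : ∀ s : m.primeCompl, IsUnit (algebraMap R K s) := fun s =>
    IsUnit.mk0 _ ((map_ne_zero_iff _ (IsFractionRing.injective R K)).mpr fun h => s.2 (h ▸ zero_mem m))
  letI : Algebra A K := (IsLocalization.lift (M := m.primeCompl) hu).toAlgebra
  haveI : IsScalarTower R A K := IsScalarTower.of_algebraMap_eq fun r => (IsLocalization.lift_eq hu r).symm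
  haveI : IsFractionRing A K := IsFractionRing.isFractionRing_of_isDomain_of_isLocalization m.primeCompl A K
  refine Groth.L01.NagataAdjoin.goodAt_of_overring m A ((Groth.L03.Japanese.isN1_iff K).mp (h m)) (fun s => ?_) fun a => ?_
  · rw [IsScalarTower.algebraMap_apply R A K]
    exact isIntegral_algebraMap
  · obtain ⟨r, s, rfl⟩ := IsLocalization.exists_mk'_eq m.primeCompl a
    refine ⟨s, r, s.2, ?_⟩
    rw [IsScalarTower.algebraMap_apply R A K s, ← map_mul, IsLocalization.mk'_spec, ← IsScalarTower.algebraMap_apply]

theorem isIntegrallyClosed_of_isRegularRing (R : Type u) [CommRing R] [IsDomain R] [h : IsRegularRing R] :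
    IsIntegrallyClosed R := by
  refine IsIntegrallyClosed.of_localization_maximal fun p _ _ => ?_
  haveI := h.isRegularLocalRing_localization p
  exact Groth.L03.RegularNormal.isIntegrallyClosed _

theorem isUniversallyJapanese_of_local {A : Type u} [CommRing A] [IsNoetherianRing A]
    (h1 : ∀ (m : Ideal A) [m.IsMaximal], CAlg.IsNagata (Localization.AtPrime m)) (h2 : EGA4.IsJ2 A) :
    CAlg.IsUniversallyJapanese A := by
  refine Groth.L03.Japanese.isUniversallyJapanese_of_isN1 fun S _ _ _ hS => ?_
  haveI := hS
  haveI : IsNoetherianRing S := Algebra.FiniteType.isNoetherianRing A S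
  let η : PrimeSpectrum S := ⟨⊥, Ideal.bot_prime⟩
  have hη : η ∈ EGA4.regLocus S := by
    haveI : IsFractionRing S (Localization.AtPrime η.asIdeal) := by
      have hpc : η.asIdeal.primeCompl = nonZeroDivisors S := by
        ext x
        simp [η, mem_nonZeroDivisors_iff_ne_zero]
      rw [IsFractionRing, ← hpc]
      infer_instance
    have hF : IsField (Localization.AtPrime η.asIdeal) := by
      letI := IsFractionRing.toField S (K := Localization.AtPrime η.asIdeal)
      exact Field.toIsField _
    letI := hF.toField
    show IsRegularLocalRing (Localization.AtPrime η.asIdeal)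
    infer_instance
  obtain ⟨_, ⟨f, rfl⟩, hfη, hfU⟩ :=
    PrimeSpectrum.isTopologicalBasis_basic_opens.isOpen_iff.mp (h2 S hS) η hη
  have hf : f ≠ 0 := fun h => hfη (by simp [η, h])
  haveI : IsDomain (Localization.Away f) :=
    IsLocalization.isDomain_localization (powers_le_nonZeroDivisors_of_noZeroDivisors hf)
  haveI : IsRegularRing (Localization.Away f) := by
    haveI : IsNoetherianRing (Localization.Away f) :=
      IsLocalization.isNoetherianRing (Submonoid.powers f) _ inferInstance
    refine { isRegularLocalRing_localization := fun P _ => ?_ }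
    let q : PrimeSpectrum S := ⟨P.comap (algebraMap S (Localization.Away f)), Ideal.IsPrime.comap _⟩
    have hq : q ∈ EGA4.regLocus S := hfU (show f ∉ q.asIdeal from fun h =>
      (inferInstance : P.IsPrime).ne_top (Ideal.eq_top_of_isUnit_mem _ h
        (IsLocalization.Away.algebraMap_isUnit f)))
    haveI : IsRegularLocalRing (Localization.AtPrime q.asIdeal) := hq
    exact IsRegularLocalRing.of_ringEquiv (IsLocalization.localizationLocalizationAtPrimeIsoLocalization (Submonoid.powers f) P).toRingEquiv
  refine isN1_of_local hf (isIntegrallyClosed_of_isRegularRing _) fun m _ => ?_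
  obtain ⟨M, hM, hle⟩ := (m.comap (algebraMap A S)).exists_le_maximal (Ideal.comap_ne_top _ (Ideal.IsMaximal.ne_top ‹_›))
  exact Groth.L01.N2.isN1_of_isN2 _ (Groth.L01.Nagata.isN2_of_isNagata (isNagata_atPrime_of_finiteType M (h1 M) m hle))

end Groth.L01.NagataCriteria
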