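import Groth.Agent.L01.SqZeroFlat
import Mathlib.RingTheory.Flat.EquationalCriterion
import Mathlib.RingTheory.Flat.Stability
import Mathlib.RingTheory.Filtration
import Mathlib.RingTheory.AdicCompletion.Noetherian
import Mathlib.RingTheory.TensorProduct.Finite
import Mathlib.LinearAlgebra.FreeModule.Basic

/-!
Descent of flatness along injections over nilpotent maximal ideals; flatness from flatness modulo powers.
-/

universe u v
open TensorProduct

namespace Groth.L01.NilDescent

theorem free_of_flat_baseChange {C : Type u} [CommRing C] (m : Ideal C) [m.IsMaximal] (hm : IsNilpotent m)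
    (C' : Type u) [CommRing C'] [Algebra C C'] (hinj : Function.Injective (algebraMap C C'))
    (M : Type u) [AddCommGroup M] [Module C M] [Module.Flat C' (C' ⊗[C] M)] : Module.Free C M := by
  classical
  letI : Field (C ⧸ m) := Ideal.Quotient.field m
  let β := Module.Free.chooseBasis (C ⧸ m) (M ⧸ (m • ⊤ : Submodule C M))
  choose e he using fun i => Submodule.mkQ_surjective (m • ⊤ : Submodule C M) (β i)
  have hspan : Submodule.span C (Set.range e) = ⊤ := by
    obtain ⟨k, hk⟩ := hm
    have hstep : ∀ j : ℕ, Submodule.span C (Set.range e) ⊔ m ^ j • ⊤ = (⊤ : Submodule C M) := by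
      intro j
      induction j with
      | zero => rw [pow_zero, Ideal.one_eq_top, Submodule.top_smul, sup_top_eq]
      | succ j ih =>
        have h1 : (⊤ : Submodule C M) = Submodule.span C (Set.range e) ⊔ m • ⊤ := by
          refine le_antisymm (fun x _ => ?_) le_top
          obtain ⟨c, hc⟩ : ∃ c ∈ Submodule.span C (Set.range e), (m • ⊤ : Submodule C M).mkQ c = (m • ⊤ : Submodule C M).mkQ x := by
            rw [← Submodule.mem_map, Submodule.map_span, ← Set.range_comp,
              show (m • ⊤ : Submodule C M).mkQ ∘ e = β from funext he]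
            have h2 := β.span_eq.ge (Submodule.mem_top (x := (m • ⊤ : Submodule C M).mkQ x))
            rw [← Submodule.restrictScalars_span C (C ⧸ m) Ideal.Quotient.mk_surjective]
            exact h2
          refine Submodule.mem_sup.mpr ⟨c, hc.1, x - c, ?_, add_sub_cancel c x⟩
          exact (Submodule.Quotient.eq _).mp hc.2.symm
        refine le_antisymm le_top ?_
        calc (⊤ : Submodule C M) = Submodule.span C (Set.range e) ⊔ m ^ j • (Submodule.span C (Set.range e) ⊔ m • ⊤) := by
              rw [← h1, ih]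
          _ ≤ _ := by
              rw [Submodule.smul_sup, ← Submodule.mul_smul, ← pow_succ, ← sup_assoc]
              exact sup_le_sup_right (sup_le le_rfl Submodule.smul_le_right) _
    have h := hstep k
    rwa [hk, Submodule.zero_eq_bot, Submodule.bot_smul, sup_bot_eq] at h
  have hli : LinearIndependent C e := by
    rw [linearIndependent_iff']
    intro s c hc
    have hrel : ∑ i : s, algebraMap C C' (c i) • ((1 : C') ⊗ₜ[C] e i) = 0 := by
      simp only [algebraMap_smul, ← TensorProduct.tmul_smul, ← TensorProduct.tmul_sum]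
      rw [Finset.sum_coe_sort s (fun i => c i • e i), hc, TensorProduct.tmul_zero]
    obtain ⟨k, a, y, hy, ha⟩ := Module.Flat.isTrivialRelation_of_sum_smul_eq_zero hrel
    let m' : Ideal C' := m.map (algebraMap C C')
    let ι' : (C ⧸ m) →ₗ[C] C' ⧸ m' := Submodule.liftQ m ((Ideal.Quotient.mkₐ C m').toLinearMap ∘ₗ Algebra.linearMap C C') (by
      intro x hx
      simp only [LinearMap.mem_ker, LinearMap.comp_apply, Algebra.linearMap_apply, AlgHom.toLinearMap_apply, Ideal.Quotient.mkₐ_eq_mk]
      exact Ideal.Quotient.eq_zero_iff_mem.mpr (Ideal.mem_map_of_mem _ hx))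
    let ψ : s → (C' ⊗[C] M →ₗ[C'] C' ⧸ m') := fun l =>
      LinearMap.liftBaseChange C' (ι' ∘ₗ ((β.coord l).restrictScalars C) ∘ₗ (m • ⊤ : Submodule C M).mkQ)
    have hψ : ∀ l i : s, ψ l ((1 : C') ⊗ₜ[C] e i) = if i = l then 1 else 0 := by
      intro l i
      simp only [ψ, LinearMap.liftBaseChange_tmul, one_smul, LinearMap.comp_apply, LinearMap.restrictScalars_apply, he,
        Module.Basis.coord_apply, Module.Basis.repr_self, Finsupp.single_apply, Subtype.ext_iff]
      split_ifs with h
      · exact map_one (Ideal.Quotient.mk m') ▸ congrArg (Ideal.Quotient.mk m') (map_one (algebraMap C C'))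
      · exact map_zero ι'
    choose b hb using fun l j => Ideal.Quotient.mk_surjective (ψ l (y j))
    let J : Ideal C' := Ideal.span (Set.range fun i : s => algebraMap C C' (c i))
    have hJ : J ≤ J * m' := by
      rw [Ideal.span_le]
      rintro _ ⟨l, rfl⟩
      have hδ : ∀ i : s, (if i = l then (1 : C') else 0) - ∑ j, a i j * b l j ∈ m' := by
        intro i
        rw [← Ideal.Quotient.eq_zero_iff_mem, map_sub, sub_eq_zero, map_sum]
        have h := congrArg (ψ l) (hy i)
        rw [hψ, map_sum] at h
        rw [apply_ite (Ideal.Quotient.mk m'), map_one, map_zero, h]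
        refine Finset.sum_congr rfl fun j _ => ?_
        rw [map_smul, ← hb, map_mul]
        rfl
      have he' : algebraMap C C' (c l) = ∑ i : s, algebraMap C C' (c i) * ((if i = l then (1 : C') else 0) - ∑ j, a i j * b l j) := by
        simp only [mul_sub, Finset.sum_sub_distrib, mul_ite, mul_one, mul_zero, Finset.sum_ite_eq', Finset.mem_univ, if_true]
        rw [eq_comm, sub_eq_self]
        simp only [Finset.mul_sum, ← mul_assoc]
        rw [Finset.sum_comm]
        refine Finset.sum_eq_zero fun j _ => ?_
        rw [← Finset.sum_mul, ha j, zero_mul]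
      show algebraMap C C' (c l) ∈ J * m'
      rw [he']
      exact Submodule.sum_mem _ fun i _ => Ideal.mul_mem_mul (Ideal.subset_span ⟨i, rfl⟩) (hδ i)
    obtain ⟨t, ht⟩ := hm
    have hpow : ∀ n, J ≤ J * m' ^ n := by
      intro n
      induction n with
      | zero => rw [pow_zero, mul_one]
      | succ n ih =>
        rw [pow_succ', ← mul_assoc]
        exact ih.trans (Ideal.mul_mono_left hJ)
    intro i hi
    have h := hpow t (Ideal.subset_span ⟨⟨i, hi⟩, rfl⟩)
    rw [show m' ^ t = ⊥ by rw [← Ideal.map_pow, ht, Submodule.zero_eq_bot, Ideal.map_bot],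
      Ideal.mul_bot, Submodule.mem_bot] at h
    exact hinj (h.trans (map_zero _).symm)
  exact Module.Free.of_basis (Module.Basis.mk hli hspan.ge)

theorem flat_of_flat_quotient_pow {B A : Type u} [CommRing B] [CommRing A] [IsNoetherianRing B]
    [IsNoetherianRing A] [Algebra B A] (J : Ideal B) (hJA : J.map (algebraMap B A) ≤ (⊥ : Ideal A).jacobson)
    (h : ∀ n : ℕ, 0 < n → Module.Flat (B ⧸ J ^ n) ((B ⧸ J ^ n) ⊗[B] A)) : Module.Flat B A := by
  rw [Module.Flat.iff_lTensor_injective']
  intro I
  rw [injective_iff_map_eq_zero]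
  intro z hz
  obtain ⟨c, hc⟩ := J.exists_pow_inf_eq_pow_smul (I : Submodule B B)
  haveI : IsHausdorff (J.map (algebraMap B A)) (A ⊗[B] I) := IsHausdorff.of_le_jacobson _ _ hJA
  apply IsHausdorff.haus' (I := J.map (algebraMap B A))
  intro k
  rw [SModEq.sub_mem, sub_zero]
  let n := k + c + 1
  haveI := h n (Nat.succ_pos _)
  let K : Submodule B I := Submodule.comap I.subtype (J ^ n : Ideal B)
  have hK : K ≤ J ^ k • (⊤ : Submodule B I) := by
    intro x hx
    have h1 : (x : B) ∈ J ^ n • (⊤ : Submodule B B) ⊓ I :=
      ⟨by rw [smul_eq_mul, Ideal.mul_top]; exact hx, x.2⟩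
    rw [hc n (by omega)] at h1
    have h2 : (x : B) ∈ J ^ k • (I : Submodule B B) :=
      Submodule.smul_mono (Ideal.pow_le_pow_right (by omega)) inf_le_right h1
    have h3 : (x : B) ∈ Submodule.map I.subtype (J ^ k • (⊤ : Submodule B I)) := by
      rw [Submodule.map_smul'', Submodule.map_top, Submodule.range_subtype]
      exact h2
    obtain ⟨y, hy, hyx⟩ := h3
    rwa [← Subtype.ext hyx]
  have hX : Module.IsTorsionBySet B (I ⧸ K) ((J ^ n : Ideal B) : Set B) := by
    intro q a
    obtain ⟨j, rfl⟩ := Submodule.Quotient.mk_surjective _ q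
    rw [← Submodule.Quotient.mk_smul, Submodule.Quotient.mk_eq_zero]
    exact Ideal.mul_mem_right _ _ a.2
  have hY : Module.IsTorsionBySet B (B ⧸ J ^ n) ((J ^ n : Ideal B) : Set B) := by
    intro q a
    obtain ⟨j, rfl⟩ := Submodule.Quotient.mk_surjective _ q
    rw [← Submodule.Quotient.mk_smul, Submodule.Quotient.mk_eq_zero]
    exact Ideal.mul_mem_right _ _ a.2
  let f : (I ⧸ K) →ₗ[B] B ⧸ J ^ n := Submodule.mapQ K (J ^ n) I.subtype le_rfl
  have hf : Function.Injective f := by
    rw [← LinearMap.ker_eq_bot]
    exact Submodule.ker_liftQ_eq_bot _ _ _ (by rw [LinearMap.ker_comp, Submodule.ker_mkQ])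
  let z' : I ⊗[B] A := TensorProduct.comm B A I z
  have hz' : I.subtype.rTensor A z' = 0 := by
    have h1 : I.subtype.rTensor A z' = TensorProduct.comm B A B (I.subtype.lTensor A z) :=
      LinearMap.congr_fun (show I.subtype.rTensor A ∘ₗ (TensorProduct.comm B A I).toLinearMap
        = (TensorProduct.comm B A B).toLinearMap ∘ₗ I.subtype.lTensor A from
          TensorProduct.ext' fun a i => rfl) z
    rw [h1, hz, map_zero]
  have hq : K.mkQ.rTensor A z' = 0 := by
    apply Groth.L01.SqZeroFlat.rTensor_injective_of_killed (J ^ n) hX hY f hf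
    rw [map_zero, ← LinearMap.comp_apply, ← LinearMap.rTensor_comp,
      show f ∘ₗ K.mkQ = (J ^ n).mkQ ∘ₗ I.subtype from rfl,
      LinearMap.rTensor_comp, LinearMap.comp_apply, hz', map_zero]
  obtain ⟨y, hy⟩ := ((rTensor_exact A (LinearMap.exact_subtype_mkQ K) K.mkQ_surjective) z').mp hq
  have hzy : z = TensorProduct.comm B I A (K.subtype.rTensor A y) := by
    rw [hy]
    simp [z']
  rw [hzy]
  clear hy hzy
  induction y using TensorProduct.induction_on with
  | zero => simp
  | tmul x a =>
    have hx := hK x.2
    simp only [LinearMap.rTensor_tmul, TensorProduct.comm_tmul, Submodule.subtype_apply]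
    generalize (x : ↥I) = x' at hx
    refine Submodule.smul_induction_on hx (fun r hr m _ => ?_) (fun u v hu hv => ?_)
    · rw [TensorProduct.tmul_smul, ← algebraMap_smul A r]
      exact Submodule.smul_mem_smul (Ideal.map_pow (algebraMap B A) J k ▸ Ideal.mem_map_of_mem _ hr) Submodule.mem_top
    · rw [TensorProduct.tmul_add]
      exact add_mem hu hv
  | add u v hu hv =>
    rw [map_add, map_add]
    exact add_mem hu hv


end Groth.L01.NilDescent
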