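import Groth.Agent.L01.NodeUnits
import Groth.Prelude.Def_W4c5spincurvestfNode
import Mathlib.RingTheory.MvPowerSeries.Equiv
import Mathlib.Tactic.LinearCombination

/-!
Normal form `f(x) + y g(y)` in the complete node, for an arbitrary Noetherian local base.
-/

set_option autoImplicit false
universe u

namespace Groth.L01.NodeCanon

open IsLocalRing Groth.L01.NodeUnits SpinCurv

noncomputable section

variable {R : Type u} [CommRing R]

theorem coeff_toMv (t t' : Fin 2) (ht : t ≠ t') (f : PowerSeries R) (D : Fin 2 →₀ ℕ) :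
    MvPowerSeries.coeff D (PowerSeries.toMvPowerSeries (σ := Fin 2) t f) =
      if D t' = 0 then PowerSeries.coeff (D t) f else 0 := by
  have hrange : ∀ x : Unit →₀ ℕ, Finsupp.mapDomain (fun _ => t) x = Finsupp.single t (x ()) := fun x => by
    rw [Finsupp.unique_single x, Finsupp.mapDomain_single]; simp
  by_cases h : D t' = 0
  · rw [if_pos h]
    have hD : Finsupp.single t (D t) = D := Finsupp.ext fun j => by
      fin_cases t <;> fin_cases t' <;> fin_cases j <;> simp_all
    have e : Finsupp.embDomain (Function.Embedding.punit t) (Finsupp.single () (D t)) = Finsupp.single t (D t) := by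
      rw [Finsupp.embDomain_single]; rfl
    conv_lhs => rw [← hD, ← e]
    exact MvPowerSeries.coeff_embDomain_rename (Function.Embedding.punit t) f (Finsupp.single () (D t))
  · rw [if_neg h]
    refine MvPowerSeries.coeff_rename_eq_zero (fun _ => t) f ?_
    rintro ⟨x, rfl⟩
    rw [hrange] at h
    exact h (Finsupp.single_eq_of_ne ht.symm)

theorem canon_eq (f g : PowerSeries R) :
    canon (fun i => if i = 0 then PowerSeries.coeff 0 f else PowerSeries.coeff (i - 1) g) (fun j => PowerSeries.coeff j f) =
      PowerSeries.toMvPowerSeries (σ := Fin 2) 0 f + MvPowerSeries.X 1 * PowerSeries.toMvPowerSeries (σ := Fin 2) 1 g := by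
  refine MvPowerSeries.ext fun D => ?_
  rw [← PowerSeries.toMvPowerSeries_X, ← map_mul, map_add, coeff_toMv 0 1 (by decide), coeff_toMv 1 0 (by decide)]
  rw [← ex_eta D, coeff_canon, (ex_apply _ _).1, (ex_apply _ _).2]
  generalize D 0 = j, D 1 = i
  rcases i with _ | i
  · rcases j with _ | j <;> simp
  · rcases j with _ | j <;> simp

variable [IsLocalRing R] [IsNoetherianRing R]

theorem canon_eq_zero {π : R} (hπ : π ∈ maximalIdeal R) {a b : ℕ → R} (h0 : a 0 = b 0)
    (h : canon a b ∈ Ideal.span {rel π}) : (∀ i, a i = 0) ∧ ∀ i, b i = 0 := by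
  obtain ⟨Q, hQ⟩ := Ideal.mem_span_singleton'.mp h
  have hrm : (rel π : MvPowerSeries (Fin 2) R) = MvPowerSeries.monomial (ex 1 1) 1 - MvPowerSeries.C π := by
    rw [rel, MvPowerSeries.X_def, MvPowerSeries.X_def, MvPowerSeries.monomial_mul_monomial, one_mul]; rfl
  have hcoef : ∀ j i, (if ex 1 1 ≤ ex j i then MvPowerSeries.coeff (ex j i - ex 1 1) Q else 0) -
      MvPowerSeries.coeff (ex j i) Q * π = if j = 0 then a i else if i = 0 then b j else 0 := fun j i => by
    rw [← coeff_canon a b, ← hQ, hrm, mul_sub, map_sub, MvPowerSeries.coeff_mul_monomial, mul_one, MvPowerSeries.coeff_mul_C]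
  have hrec : ∀ j i, MvPowerSeries.coeff (ex j i) Q = π * MvPowerSeries.coeff (ex (j + 1) (i + 1)) Q := fun j i => by
    have := hcoef (j + 1) (i + 1)
    rw [if_pos (Finsupp.le_def.mpr fun t => by fin_cases t <;> simp [ex]),
      show ex (j + 1) (i + 1) - ex 1 1 = ex j i from Finsupp.ext fun t => by fin_cases t <;> simp [ex],
      if_neg (Nat.succ_ne_zero j), if_neg (Nat.succ_ne_zero i)] at this
    linear_combination this
  have hQ0 : ∀ j i, MvPowerSeries.coeff (ex j i) Q = 0 := by
    intro j i
    refine Ideal.mem_bot.mp (Ideal.iInf_pow_eq_bot_of_isLocalRing (maximalIdeal R) (maximalIdeal.isMaximal R).ne_top ▸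
      Submodule.mem_iInf _ |>.mpr fun k => ?_)
    induction k generalizing j i with
    | zero => rw [pow_zero, Ideal.one_eq_top]; trivial
    | succ k ih => rw [hrec, pow_succ']; exact Ideal.mul_mem_mul hπ (ih _ _)
  constructor
  · intro i
    have := hcoef 0 i
    rwa [if_pos rfl, if_neg (fun h => absurd (Finsupp.le_def.mp h 0) (by simp [ex])), hQ0, zero_mul, sub_zero, eq_comm] at this
  · intro j
    have := hcoef j 0
    rw [if_neg (fun h => absurd (Finsupp.le_def.mp h 1) (by simp [ex])), hQ0, zero_mul, sub_zero] at this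
    rcases j with _ | j
    · rw [← h0]; simpa using this.symm
    · simpa using this.symm

/-- Existence of the normal form. -/
theorem exists_normalForm [IsPrecomplete (maximalIdeal R) R] {π : R} (hπ : π ∈ maximalIdeal R) (z : NodeRing R π) :
    ∃ f g : PowerSeries R, z = NodeRing.ofX R π f + NodeRing.y R π * NodeRing.ofY R π g := by
  obtain ⟨F, rfl⟩ := Ideal.Quotient.mk_surjective z
  obtain ⟨a, b, h0, hab⟩ := exists_canon hπ F
  refine ⟨PowerSeries.mk b, PowerSeries.mk fun i => a (i + 1), ?_⟩
  show _ = Ideal.Quotient.mk _ _ + Ideal.Quotient.mk _ _ * Ideal.Quotient.mk _ _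
  rw [← map_mul, ← map_add, ← canon_eq, Ideal.Quotient.eq]
  convert hab using 3
  congr 1
  · funext i
    rcases i with _ | i <;> simp [h0]
  · funext j; simp

/-- Uniqueness of the normal form. -/
theorem eq_zero_of_normalForm {π : R} (hπ : π ∈ maximalIdeal R) {f g : PowerSeries R}
    (h : NodeRing.ofX R π f + NodeRing.y R π * NodeRing.ofY R π g = 0) : f = 0 ∧ g = 0 := by
  have h' : canon (fun i => if i = 0 then PowerSeries.coeff 0 f else PowerSeries.coeff (i - 1) g)
      (fun j => PowerSeries.coeff j f) ∈ Ideal.span {rel π} := by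
    rw [canon_eq]
    rw [← map_mul, ← map_add] at h
    exact Ideal.Quotient.eq_zero_iff_mem.mp h
  obtain ⟨ha, hb⟩ := canon_eq_zero hπ (by simp) h'
  exact ⟨PowerSeries.ext fun j => by simpa using hb j, PowerSeries.ext fun i => by simpa using ha (i + 1)⟩

/-- The second normal form `g(y) + x f(x)`. -/
theorem exists_normalForm' [IsPrecomplete (maximalIdeal R) R] {π : R} (hπ : π ∈ maximalIdeal R) (z : NodeRing R π) :
    ∃ f g : PowerSeries R, z = NodeRing.ofY R π g + NodeRing.x R π * NodeRing.ofX R π f := by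
  obtain ⟨f, g, rfl⟩ := exists_normalForm hπ z
  refine ⟨PowerSeries.mk fun i => PowerSeries.coeff (i + 1) f, PowerSeries.C (PowerSeries.constantCoeff f) + PowerSeries.X * g, ?_⟩
  show Ideal.Quotient.mk _ _ + Ideal.Quotient.mk _ _ * Ideal.Quotient.mk _ _ =
    Ideal.Quotient.mk _ _ + Ideal.Quotient.mk _ _ * Ideal.Quotient.mk _ _
  simp only [← map_mul, ← map_add]
  congr 1
  rw [map_add, map_mul, PowerSeries.toMvPowerSeries_C, PowerSeries.toMvPowerSeries_X]
  conv_lhs => rw [PowerSeries.eq_X_mul_shift_add_const f, map_add, map_mul, PowerSeries.toMvPowerSeries_C,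
    PowerSeries.toMvPowerSeries_X]
  ring

end

end Groth.L01.NodeCanon
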