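import Groth.Agent.L01.NodeUnits
import Mathlib.RingTheory.MvPolynomial.Basic
import Mathlib.RingTheory.Polynomial.Basic
import Mathlib.RingTheory.Ideal.KrullsHeightTheorem

/-!
Fibral height one primes of the complete node and of the polynomial node.
-/

set_option autoImplicit false
universe u

namespace Groth.L01.NodePrimes

open IsLocalRing Groth.L01.NodeUnits

noncomputable section

/-- Contraction of the primes lying over a prime element, given the minimal ones as extended ideals. -/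
theorem bijOn_comap {R S T : Type u} [CommRing R] [CommRing S] [CommRing T] [IsDomain T]
    [IsNoetherianRing T] [IsNoetherianRing S] [IsDomain R] [UniqueFactorizationMonoid R] [Algebra R S] [Algebra R T]
    (φ : S →+* T) (hφ : ∀ c, φ (algebraMap R S c) = algebraMap R T c) (hinj : Function.Injective φ)
    (hne : ∀ c : R, c ≠ 0 → algebraMap R T c ≠ 0) (𝒥 : R → Set (Ideal S))
    (hmem : ∀ π, Prime π → ∀ J ∈ 𝒥 π, algebraMap R S π ∈ J ∧ (J.map φ).IsPrime ∧ (J.map φ).comap φ = J)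
    (hcov : ∀ π, Prime π → ∀ q : Ideal S, q.IsPrime → algebraMap R S π ∈ q → ∃ J ∈ 𝒥 π, J ≤ q)
    (hcov' : ∀ π, Prime π → ∀ Q : Ideal T, Q.IsPrime → algebraMap R T π ∈ Q → ∃ J ∈ 𝒥 π, J.map φ ≤ Q)
    (hinc : ∀ π, Prime π → ∀ J ∈ 𝒥 π, ∀ J' ∈ 𝒥 π, J'.map φ ≤ J.map φ → J' = J) :
    Set.BijOn (fun Q => Ideal.comap φ Q)
      {Q : Ideal T | Q.IsPrime ∧ Q.height = 1 ∧ Ideal.comap (algebraMap R T) Q ≠ ⊥}
      {q : Ideal S | q.IsPrime ∧ q.height = 1 ∧ Ideal.comap (algebraMap R S) q ≠ ⊥} := by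
  haveI : IsDomain S := hinj.isDomain
  have hneS : ∀ c : R, c ≠ 0 → algebraMap R S c ≠ 0 := fun c hc h => hne c hc (by rw [← hφ, h, map_zero])
  have hfact : ∀ {U : Type u} [CommRing U] [Algebra R U] (Q : Ideal U), Q.IsPrime →
      Ideal.comap (algebraMap R U) Q ≠ ⊥ → ∃ π, Prime π ∧ algebraMap R U π ∈ Q := by
    intro U _ _ Q hQ h
    obtain ⟨π, hπ, hp⟩ := Ideal.IsPrime.exists_mem_prime_of_ne_bot (Ideal.IsPrime.comap (algebraMap R U) (hK := hQ)) h
    exact ⟨π, hp, hπ⟩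
  have hhtT : ∀ π, Prime π → ∀ J ∈ 𝒥 π, (J.map φ).height = 1 := by
    intro π hπ J hJ
    obtain ⟨hπJ, hp, -⟩ := hmem π hπ J hJ
    refine le_antisymm (Ideal.height_le_one_of_isPrincipal_of_mem_minimalPrimes (Ideal.span {algebraMap R T π}) _
      ⟨⟨hp, (Ideal.span_singleton_le_iff_mem _).mpr (hφ π ▸ Ideal.mem_map_of_mem φ hπJ)⟩, ?_⟩) ?_
    · rintro Q ⟨hQ, hπQ⟩ hle
      obtain ⟨J', hJ', hle'⟩ := hcov' π hπ Q hQ ((Ideal.span_singleton_le_iff_mem _).mp hπQ)
      exact hinc π hπ J hJ J' hJ' (hle'.trans hle) ▸ hle'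
    · refine Order.one_le_iff_ne_zero.mpr fun h => hne π hπ.ne_zero ?_
      have := Ideal.height_eq_zero_iff_eq_bot.mp h
      exact Ideal.mem_bot.mp (this ▸ hφ π ▸ Ideal.mem_map_of_mem φ hπJ)
  have hhtS : ∀ π, Prime π → ∀ J ∈ 𝒥 π, J.IsPrime ∧ J.height = 1 := by
    intro π hπ J hJ
    obtain ⟨hπJ, hp, hc⟩ := hmem π hπ J hJ
    have hJp : J.IsPrime := hc ▸ Ideal.IsPrime.comap φ
    refine ⟨hJp, le_antisymm (Ideal.height_le_one_of_isPrincipal_of_mem_minimalPrimes (Ideal.span {algebraMap R S π}) _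
      ⟨⟨hJp, (Ideal.span_singleton_le_iff_mem _).mpr hπJ⟩, ?_⟩) ?_⟩
    · rintro q ⟨hq, hπq⟩ hle
      obtain ⟨J', hJ', hle'⟩ := hcov π hπ q hq ((Ideal.span_singleton_le_iff_mem _).mp hπq)
      exact hinc π hπ J hJ J' hJ' (Ideal.map_mono (hle'.trans hle)) ▸ hle'
    · refine Order.one_le_iff_ne_zero.mpr fun h => hneS π hπ.ne_zero ?_
      exact Ideal.mem_bot.mp ((Ideal.height_eq_zero_iff_eq_bot.mp h).le hπJ)
  have hchar : ∀ Q : Ideal T, Q.IsPrime → Q.height = 1 → Ideal.comap (algebraMap R T) Q ≠ ⊥ →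
      ∃ π, Prime π ∧ ∃ J ∈ 𝒥 π, Q = J.map φ := by
    intro Q hQ h1 hc
    obtain ⟨π, hπ, hπQ⟩ := hfact Q hQ hc
    obtain ⟨J, hJ, hle⟩ := hcov' π hπ Q hQ hπQ
    refine ⟨π, hπ, J, hJ, ((hle.eq_or_lt).resolve_right fun hlt => ?_).symm⟩
    haveI := (hmem π hπ J hJ).2.1
    have := Ideal.height_strict_mono_of_isPrime_of_isPrime hlt
    rw [hhtT π hπ J hJ, h1] at this
    exact lt_irrefl _ this
  refine ⟨fun Q hQ => ?_, fun Q hQ Q' hQ' h => ?_, fun q hq => ?_⟩
  · obtain ⟨π, hπ, J, hJ, rfl⟩ := hchar Q hQ.1 hQ.2.1 hQ.2.2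
    show Ideal.comap φ (J.map φ) ∈ _
    rw [(hmem π hπ J hJ).2.2]
    exact ⟨(hhtS π hπ J hJ).1, (hhtS π hπ J hJ).2, fun h => hπ.ne_zero (Ideal.mem_bot.mp (h.le (hmem π hπ J hJ).1))⟩
  · obtain ⟨π, hπ, J, hJ, rfl⟩ := hchar Q hQ.1 hQ.2.1 hQ.2.2
    obtain ⟨π', hπ', J', hJ', rfl⟩ := hchar Q' hQ'.1 hQ'.2.1 hQ'.2.2
    have h' : Ideal.comap φ (J.map φ) = Ideal.comap φ (J'.map φ) := h
    rw [(hmem π hπ J hJ).2.2, (hmem π' hπ' J' hJ').2.2] at h'
    rw [h']
  · obtain ⟨π, hπ, hπq⟩ := hfact q hq.1 hq.2.2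
    obtain ⟨J, hJ, hle⟩ := hcov π hπ q hq.1 hπq
    obtain ⟨hJp, hJ1⟩ := hhtS π hπ J hJ
    have he : J = q := (hle.eq_or_lt).resolve_right fun hlt => by
      haveI := hq.1
      have := Ideal.height_strict_mono_of_isPrime_of_isPrime hlt
      rw [hq.2.1, hJ1] at this
      exact lt_irrefl _ this
    refine ⟨J.map φ, ⟨(hmem π hπ J hJ).2.1, hhtT π hπ J hJ,
      fun h => hπ.ne_zero (Ideal.mem_bot.mp (h.le (show algebraMap R T π ∈ J.map φ by
        rw [← hφ π]; exact Ideal.mem_map_of_mem φ (hmem π hπ J hJ).1)))⟩, ?_⟩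
    show Ideal.comap φ (J.map φ) = q
    rw [(hmem π hπ J hJ).2.2, he]

section Node

variable {R : Type u} [CommRing R] (r : R)

theorem coeff_aeval_X (p : Polynomial R) (t t' : Fin 2) (ht : t ≠ t') (D : Fin 2 →₀ ℕ) :
    MvPolynomial.coeff D (Polynomial.aeval (MvPolynomial.X t : MvPolynomial (Fin 2) R) p) =
      if D t' = 0 then p.coeff (D t) else 0 := by
  classical
  induction p using Polynomial.induction_on' with
  | add p q hp hq =>
    rw [map_add, MvPolynomial.coeff_add, hp, hq, Polynomial.coeff_add]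
    split_ifs <;> simp
  | monomial n a =>
    rw [Polynomial.aeval_monomial, MvPolynomial.X_pow_eq_monomial,
      show (algebraMap R (MvPolynomial (Fin 2) R)) a = MvPolynomial.monomial 0 a from rfl,
      MvPolynomial.monomial_mul, zero_add, mul_one, MvPolynomial.coeff_monomial, Polynomial.coeff_monomial]
    by_cases h : Finsupp.single t n = D
    · subst h; rw [if_pos rfl, if_pos (by simp [ht]), if_pos (by simp)]
    · rw [if_neg h]
      split_ifs with h1 h2
      · refine absurd (Finsupp.ext fun j => ?_) h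
        fin_cases t <;> fin_cases t' <;> fin_cases j <;> simp_all
      · rfl
      · rfl

/-- Every polynomial is congruent to `p(y) + x q(x)`. -/
theorem exists_poly_canon (f : MvPolynomial (Fin 2) R) :
    ∃ p q : Polynomial R,
      f - (Polynomial.aeval (MvPolynomial.X 1) p + MvPolynomial.X 0 * Polynomial.aeval (MvPolynomial.X 0) q) ∈
        Ideal.span {(MvPolynomial.X 0 * MvPolynomial.X 1 - MvPolynomial.C r : MvPolynomial (Fin 2) R)} := by
  induction f using MvPolynomial.induction_on with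
  | C c => exact ⟨Polynomial.C c, 0, by simp [MvPolynomial.algebraMap_eq]⟩
  | add f g hf hg =>
    obtain ⟨p, q, h⟩ := hf
    obtain ⟨p', q', h'⟩ := hg
    refine ⟨p + p', q + q', ?_⟩
    have := Ideal.add_mem _ h h'
    convert this using 1
    simp only [map_add]; ring
  | mul_X f t hf =>
    obtain ⟨p, q, h⟩ := hf
    have hp := congrArg (Polynomial.aeval (MvPolynomial.X 1 : MvPolynomial (Fin 2) R)) (Polynomial.X_mul_divX_add p)
    have hq := congrArg (Polynomial.aeval (MvPolynomial.X 0 : MvPolynomial (Fin 2) R)) (Polynomial.X_mul_divX_add q)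
    simp only [map_add, map_mul, Polynomial.aeval_X, Polynomial.aeval_C, MvPolynomial.algebraMap_eq] at hp hq
    obtain ⟨w, hw⟩ := Ideal.mem_span_singleton'.mp h
    fin_cases t
    · refine ⟨Polynomial.C r * p.divX, Polynomial.C (p.coeff 0) + Polynomial.X * q, Ideal.mem_span_singleton'.mpr
        ⟨w * MvPolynomial.X 0 + Polynomial.aeval (MvPolynomial.X 1) p.divX, ?_⟩⟩
      simp only [map_add, map_mul, Polynomial.aeval_X, Polynomial.aeval_C, MvPolynomial.algebraMap_eq, Fin.zero_eta]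
      linear_combination (MvPolynomial.X 0 : MvPolynomial (Fin 2) R) * hw +
        (MvPolynomial.X 0 : MvPolynomial (Fin 2) R) * hp
    · refine ⟨Polynomial.X * p + Polynomial.C (r * q.coeff 0), Polynomial.C r * q.divX, Ideal.mem_span_singleton'.mpr
        ⟨w * MvPolynomial.X 1 + Polynomial.aeval (MvPolynomial.X 0) q, ?_⟩⟩
      simp only [map_add, map_mul, Polynomial.aeval_X, Polynomial.aeval_C, MvPolynomial.algebraMap_eq, Fin.mk_one]
      linear_combination (MvPolynomial.X 1 : MvPolynomial (Fin 2) R) * hw +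
        (MvPolynomial.C r : MvPolynomial (Fin 2) R) * hq

/-- The coefficient sequence along `x`. -/
def bseq (p q : Polynomial R) (j : ℕ) : R := if j = 0 then p.coeff 0 else q.coeff (j - 1)

theorem coe_canon (p q : Polynomial R) :
    ((Polynomial.aeval (MvPolynomial.X 1) p + MvPolynomial.X 0 * Polynomial.aeval (MvPolynomial.X 0) q :
      MvPolynomial (Fin 2) R) : MvPowerSeries (Fin 2) R) = canon (fun i => p.coeff i) (bseq p q) := by
  classical
  refine MvPowerSeries.ext fun D => ?_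
  rw [MvPolynomial.coeff_coe, MvPolynomial.coeff_add, MvPolynomial.coeff_X_mul', coeff_aeval_X p 1 0 (by decide)]
  show _ = if D 0 = 0 then p.coeff (D 1) else if D 1 = 0 then bseq p q (D 0) else 0
  by_cases h0 : D 0 = 0
  · rw [if_pos h0, if_pos h0, if_neg (by simp [h0]), add_zero]
  rw [if_neg h0, if_neg h0, if_pos (by simp [h0]), coeff_aeval_X q 0 1 (by decide), zero_add]
  simp only [Finsupp.tsub_apply, Finsupp.single_apply, bseq]
  simp [h0]

/-- A power series all of whose coefficients are multiples of `c`. -/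
theorem canon_mul (c : R) (a b : ℕ → R) :
    canon (fun i => c * a i) (fun i => c * b i) = MvPowerSeries.C c * canon a b := by
  refine MvPowerSeries.ext fun D => ?_
  rw [MvPowerSeries.coeff_C_mul, ← ex_eta D, coeff_canon, coeff_canon]
  split_ifs <;> simp

/-- Restriction to the axis `x = 0`. -/
def res0 {S : Type u} [CommRing S] (ρ : R →+* S) : MvPowerSeries (Fin 2) R →+* PowerSeries S :=
  (PowerSeries.constantCoeff).comp (E ρ)

theorem coeff_res0 {S : Type u} [CommRing S] (ρ : R →+* S) (F : MvPowerSeries (Fin 2) R) (i : ℕ) :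
    PowerSeries.coeff i (res0 ρ F) = ρ (MvPowerSeries.coeff (ex 0 i) F) := by
  rw [res0, RingHom.comp_apply, ← PowerSeries.coeff_zero_eq_constantCoeff_apply, coeff_E]

theorem res0_rel {S : Type u} [CommRing S] (ρ : R →+* S) (h : ρ r = 0) : res0 ρ (rel r) = 0 := by
  refine PowerSeries.ext fun i => ?_
  rw [coeff_res0, map_zero, rel, map_sub, MvPowerSeries.coeff_C, map_sub,
    MvPowerSeries.X_dvd_iff.mp (dvd_mul_right (MvPowerSeries.X 0) (MvPowerSeries.X 1)) _ (ex_apply 0 i).1, map_zero, zero_sub]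
  split_ifs <;> simp [h]

variable [IsLocalRing R] [IsNoetherianRing R] [IsPrecomplete (maximalIdeal R) R] [IsDomain R] {r}

theorem dvd_coeff_of_res0 (hr : r ∈ maximalIdeal R) (hr0 : r ≠ 0) {π : R} (hπr : π ∣ r) {F : MvPowerSeries (Fin 2) R}
    {a b : ℕ → R} (hF : F - canon a b ∈ Ideal.span {rel r}) :
    res0 (Ideal.Quotient.mk (Ideal.span {π})) F = 0 ↔ ∀ i, π ∣ a i := by
  have hr' : (Ideal.Quotient.mk (Ideal.span {π})) r = 0 :=
    Ideal.Quotient.eq_zero_iff_mem.mpr (Ideal.mem_span_singleton.mpr hπr)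
  obtain ⟨w, hw⟩ := Ideal.mem_span_singleton'.mp hF
  rw [show F = canon a b + w * rel r by rw [hw]; ring, map_add, map_mul, res0_rel r _ hr', mul_zero, add_zero,
    PowerSeries.ext_iff]
  refine forall_congr' fun i => ?_
  rw [coeff_res0, coeff_canon, if_pos rfl, map_zero, Ideal.Quotient.eq_zero_iff_mem, Ideal.mem_span_singleton]

/-- `(π, x)` as a kernel. -/
theorem mem_span_pair_iff (hr : r ∈ maximalIdeal R) (hr0 : r ≠ 0) {π : R} (hπr : π ∣ r) (F : MvPowerSeries (Fin 2) R) :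
    F ∈ Ideal.span {MvPowerSeries.C π, MvPowerSeries.X 0} ⊔ Ideal.span {rel r} ↔
      res0 (Ideal.Quotient.mk (Ideal.span {π})) F = 0 := by
  have hr' : (Ideal.Quotient.mk (Ideal.span {π})) r = 0 :=
    Ideal.Quotient.eq_zero_iff_mem.mpr (Ideal.mem_span_singleton.mpr hπr)
  constructor
  · intro h
    obtain ⟨u, hu, w, hw, rfl⟩ := Submodule.mem_sup.mp h
    obtain ⟨s, t, rfl⟩ := Ideal.mem_span_pair.mp hu
    obtain ⟨z, rfl⟩ := Ideal.mem_span_singleton'.mp hw
    have hC : res0 (Ideal.Quotient.mk (Ideal.span {π})) (MvPowerSeries.C π) = 0 := by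
      refine PowerSeries.ext fun i => ?_
      rw [coeff_res0, MvPowerSeries.coeff_C, map_zero]
      split_ifs
      · exact Ideal.Quotient.eq_zero_iff_mem.mpr (Ideal.mem_span_singleton_self π)
      · exact map_zero _
    have hX : res0 (Ideal.Quotient.mk (Ideal.span {π})) (MvPowerSeries.X 0) = 0 := by
      refine PowerSeries.ext fun i => ?_
      rw [coeff_res0, MvPowerSeries.X_dvd_iff.mp dvd_rfl _ (ex_apply 0 i).1, map_zero, map_zero]
    simp [map_add, map_mul, hC, hX, res0_rel r _ hr']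
  · intro h
    obtain ⟨a, b, h0, hF⟩ := exists_canon hr F
    choose a' ha' using (dvd_coeff_of_res0 hr hr0 hπr hF).mp h
    rw [show F = canon a b + (F - canon a b) by ring]
    refine Ideal.add_mem _ (Ideal.mem_sup_left ?_) (Ideal.mem_sup_right hF)
    obtain ⟨t, ht⟩ : (MvPowerSeries.X 0 : MvPowerSeries (Fin 2) R) ∣ canon a b - MvPowerSeries.C π * canon a' fun _ => 0 :=
      MvPowerSeries.X_dvd_iff.mpr fun D hD => by
        rw [map_sub, MvPowerSeries.coeff_C_mul, ← ex_eta D, coeff_canon, coeff_canon, if_pos hD, if_pos hD, ha', sub_self]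
    exact Ideal.mem_span_pair.mpr ⟨canon a' fun _ => 0, t, by rw [mul_comm t, ← ht]; ring⟩

/-- `π` generates a prime ideal of the node when it does not divide `r`. -/
theorem exists_dvd_of_mul (hr : r ∈ maximalIdeal R) {π : R} (hπ : Prime π) (hπr : ¬ π ∣ r) {a b a' b' : ℕ → R}
    {H : MvPowerSeries (Fin 2) R} (h : canon a b * canon a' b' - MvPowerSeries.C π * H ∈ Ideal.span {rel r}) :
    (∀ n, π ∣ cc r a b n) ∨ ∀ n, π ∣ cc r a' b' n := by
  let ψ := Ideal.Quotient.mk (Ideal.span {π})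
  haveI hP : (Ideal.span {π}).IsPrime := (Ideal.span_singleton_prime hπ.ne_zero).mpr hπ
  haveI : IsLocalRing (R ⧸ Ideal.span {π}) := .of_surjective' ψ Ideal.Quotient.mk_surjective
  have hψr : ψ r ∈ maximalIdeal (R ⧸ Ideal.span {π}) := fun hu => by
    haveI := IsLocalHom.of_surjective ψ Ideal.Quotient.mk_surjective
    exact hr (isUnit_of_map_unit ψ r hu)
  have hψ0 : ∀ x, ψ x = 0 ↔ π ∣ x := fun x => Ideal.Quotient.eq_zero_iff_mem.trans Ideal.mem_span_singleton
  let L := FractionRing (R ⧸ Ideal.span {π})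
  obtain ⟨V, hV, hVR, hVm⟩ := Groth.L18.exists_isDiscreteValuationRing_dominating (L := L) (A := R ⧸ Ideal.span {π})
    Set.finite_empty (by
      refine eq_top_iff.mpr fun x _ => ?_
      obtain ⟨s, t, -, rfl⟩ := IsFractionRing.div_surjective (A := R ⧸ Ideal.span {π}) x
      exact div_mem (Subfield.subset_closure (Or.inl ⟨s, rfl⟩)) (Subfield.subset_closure (Or.inl ⟨t, rfl⟩)))
    (fun hk => (mt (hψ0 r).mp hπr) ((map_eq_zero_iff _ (IsFractionRing.injective (R ⧸ Ideal.span {π}) L)).mp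
      (RingHom.mem_ker.mp (hk.ge hψr))))
  let φ : (R ⧸ Ideal.span {π}) →+* V := (algebraMap _ L).codRestrict V.toSubring hVR
  obtain ⟨ϖ, hϖ⟩ := IsDiscreteValuationRing.exists_irreducible V
  have hφr : ϖ ∣ φ (ψ r) := by
    rw [← Ideal.mem_span_singleton, ← hϖ.maximalIdeal_eq]
    exact (V.valuation_lt_one_iff (φ (ψ r))).mpr (hVm _ hψr)
  have hcc : ∀ a b n, cc (ψ r) (fun i => ψ (a i)) (fun i => ψ (b i)) n = ψ (cc r a b n) := fun a b n => by
    simp only [cc]; split_ifs <;> simp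
  have hmap : ∀ a b, MvPowerSeries.map ψ (canon a b) = canon (fun i => ψ (a i)) (fun i => ψ (b i)) := fun a b =>
    MvPowerSeries.ext fun D => by
      rw [MvPowerSeries.coeff_map, ← ex_eta D, coeff_canon, coeff_canon]; split_ifs <;> simp
  have hab : canon (fun i => ψ (a i)) (fun i => ψ (b i)) * canon (fun i => ψ (a' i)) (fun i => ψ (b' i)) -
      MvPowerSeries.C (0 : R ⧸ Ideal.span {π}) ∈ Ideal.span {rel (ψ r)} := by
    obtain ⟨w, hw⟩ := Ideal.mem_span_singleton'.mp h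
    refine Ideal.mem_span_singleton'.mpr ⟨MvPowerSeries.map ψ w, ?_⟩
    have := congrArg (MvPowerSeries.map ψ) hw
    simp only [rel, map_mul, map_sub, MvPowerSeries.map_X, MvPowerSeries.map_C, hmap] at this
    rw [(hψ0 π).mpr dvd_rfl, map_zero, zero_mul, sub_zero] at this
    rw [map_zero, sub_zero]
    exact this
  by_contra! hcon
  obtain ⟨⟨i, hi⟩, j, hj⟩ := hcon
  have hne : ∀ x, ¬ π ∣ x → φ (ψ x) ≠ 0 := fun x hx h0 =>
    mt (hψ0 x).mp hx ((map_eq_zero_iff _ (IsFractionRing.injective (R ⧸ Ideal.span {π}) L)).mp (congrArg Subtype.val h0))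
  refine mul_ne_zero (hne _ hi) (hne _ hj) (eq_zero_of_forall_pow_dvd hϖ.not_isUnit fun k => ?_)
  rw [← hcc, ← hcc]
  exact pow_dvd_mul hϖ.prime φ hφr hab (by rw [map_zero]; exact dvd_zero _) i j

theorem span_pi_mem (hr0 : r ≠ 0) {π : R} (hπ : Prime π) (hπr : ¬ π ∣ r) {a b : ℕ → R} (h0 : a 0 = b 0)
    (h : ∀ n, π ∣ cc r a b n) : (∀ i, π ∣ a i) ∧ ∀ i, π ∣ b i := by
  refine ⟨fun i => by simpa [cc_natCast] using h (i : ℤ), fun i => ?_⟩
  have := h (-(i : ℤ))
  rw [cc_neg _ _ _ h0] at this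
  exact (hπ.dvd_or_dvd this).resolve_left fun hh => hπr (hπ.dvd_of_dvd_pow hh)

end Node

end

end Groth.L01.NodePrimes
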