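import Groth.Agent.L01.PdRes
import Mathlib.RingTheory.Length
import Mathlib.LinearAlgebra.TensorProduct.Prod

/-!
Periodic Tor of the residue field of a node: if m = (x, y) is maximal, xy = 0 and every relation
a x + b y = 0 is trivial, then Tor_i(A/m, A/m) has length 2 for all i ≥ 1.
-/

set_option autoImplicit false
universe u

open CategoryTheory CategoryTheory.Limits
open scoped TensorProduct

namespace Groth.L01.NodeTor

variable {A : Type u} [CommRing A] (x y : A)

/-- The map `A × A → (x, y)`. -/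
def proj : A × A →ₗ[A] Ideal.span {x, y} :=
  ((LinearMap.fst A A A).smulRight ⟨x, Ideal.subset_span (by simp)⟩) +
    ((LinearMap.snd A A A).smulRight ⟨y, Ideal.subset_span (by simp)⟩)

theorem proj_apply (p : A × A) : ((proj x y p : Ideal.span {x, y}) : A) = p.1 * x + p.2 * y := rfl

theorem proj_surjective : Function.Surjective (proj x y) := by
  rintro ⟨z, hz⟩
  obtain ⟨a, b, h⟩ := Ideal.mem_span_pair.mp hz
  exact ⟨(a, b), Subtype.ext h⟩

variable {x y}

theorem ker_mem (hrel : ∀ a b : A, a * x + b * y = 0 → (∃ c, a = c * y) ∧ ∃ c, b = c * x)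
    {p : A × A} (hp : p ∈ LinearMap.ker (proj x y)) : (∃ c, p.1 = c * y) ∧ ∃ c, p.2 = c * x :=
  hrel _ _ (congrArg Subtype.val hp)

theorem sum_mem (hrel : ∀ a b : A, a * x + b * y = 0 → (∃ c, a = c * y) ∧ ∃ c, b = c * x)
    {p : A × A} (hp : p ∈ LinearMap.ker (proj x y)) : p.1 + p.2 ∈ Ideal.span {x, y} := by
  obtain ⟨⟨c, hc⟩, d, hd⟩ := ker_mem hrel hp
  rw [hc, hd]
  exact add_mem (Ideal.mul_mem_left _ _ (Ideal.subset_span (by simp)))
    (Ideal.mul_mem_left _ _ (Ideal.subset_span (by simp)))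

/-- The kernel of the free cover of the maximal ideal is again the maximal ideal. -/
noncomputable def kerEquiv (hxy : x * y = 0)
    (hrel : ∀ a b : A, a * x + b * y = 0 → (∃ c, a = c * y) ∧ ∃ c, b = c * x) :
    LinearMap.ker (proj x y) ≃ₗ[A] Ideal.span {x, y} := by
  refine LinearEquiv.ofBijective
    (LinearMap.codRestrict _ ((LinearMap.coprod LinearMap.id LinearMap.id).comp (LinearMap.ker (proj x y)).subtype)
      fun p => sum_mem hrel p.2) ⟨?_, ?_⟩
  · rw [injective_iff_map_eq_zero]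
    rintro ⟨⟨u, v⟩, hp⟩ h
    have h' : u + v = 0 := congrArg Subtype.val h
    obtain ⟨⟨b, rfl : u = b * y⟩, a, rfl : v = a * x⟩ := ker_mem hrel hp
    obtain ⟨⟨a', rfl⟩, b', rfl⟩ := hrel a b (by rw [add_comm]; exact h')
    refine Subtype.ext (Prod.ext ?_ ?_) <;> simp [mul_assoc, hxy, show y * x = 0 by rw [mul_comm, hxy]]
  · rintro ⟨z, hz⟩
    obtain ⟨a, b, h⟩ := Ideal.mem_span_pair.mp hz
    refine ⟨⟨(b * y, a * x), ?_⟩, Subtype.ext ?_⟩
    · refine Subtype.ext ?_
      show b * y * x + a * x * y = 0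
      linear_combination (b + a) * hxy
    · show b * y + a * x = z
      rw [← h, add_comm]

/-- `Tor_{i+1}(A/m, A/m)` has length two. -/
theorem length_tor (hxy : x * y = 0)
    (hrel : ∀ a b : A, a * x + b * y = 0 → (∃ c, a = c * y) ∧ ∃ c, b = c * x)
    (hmax : (Ideal.span {x, y}).IsMaximal) (k : ℕ) :
    Module.length A (DRing.Tor A (k + 1) (A ⧸ Ideal.span {x, y}) (A ⧸ Ideal.span {x, y})) = 2 := by
  let m := Ideal.span {x, y}
  let Q := A ⧸ m
  let π := proj x y
  let e : m →ₗ[A] A × A := (LinearMap.ker π).subtype.comp (kerEquiv hxy hrel).symm.toLinearMap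
  have he : Function.Injective e := Subtype.val_injective.comp (kerEquiv hxy hrel).symm.injective
  have hex : Function.Exact e π := by
    intro p
    constructor
    · intro hp; exact ⟨kerEquiv hxy hrel ⟨p, hp⟩, by simp [e]⟩
    · rintro ⟨z, rfl⟩; exact ((kerEquiv hxy hrel).symm z).2
  have hπ : Function.Surjective π := proj_surjective x y
  have hem : ∀ z, (e z).1 ∈ m ∧ (e z).2 ∈ m := fun z => by
    obtain ⟨⟨c, hc⟩, d, hd⟩ := ker_mem hrel ((kerEquiv hxy hrel).symm z).2
    exact ⟨hc ▸ Ideal.mul_mem_left _ _ (Ideal.subset_span (by simp)),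
      hd ▸ Ideal.mul_mem_left _ _ (Ideal.subset_span (by simp))⟩
  have hkill : ∀ a ∈ m, ∀ q : Q, a • q = 0 := fun a ha q => by
    induction q using Quotient.inductionOn' with
    | h b => exact Ideal.Quotient.eq_zero_iff_mem.mpr (Ideal.mul_mem_right b _ ha)
  have he0 : e.lTensor Q = 0 := by
    refine TensorProduct.ext' fun q z => ?_
    rw [LinearMap.lTensor_tmul, show e z = (e z).1 • (1, 0) + (e z).2 • (0, 1) by simp,
      TensorProduct.tmul_add, ← TensorProduct.smul_tmul, ← TensorProduct.smul_tmul,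
      hkill _ (hem z).1 q, hkill _ (hem z).2 q]
    simp
  -- Tor_{j+1}(Q, m) ≅ Q ⊗ m
  have hm : ∀ j, Nonempty (DRing.Tor A (j + 1) Q m ≃ₗ[A] Q ⊗[A] m) := by
    intro j
    induction j with
    | zero =>
      obtain ⟨f⟩ := Groth.L28.Kun.nonempty_tor_one Q e π he hex hπ
      exact ⟨f ≪≫ₗ LinearEquiv.ofEq _ _ (by rw [he0]; exact LinearMap.ker_zero) ≪≫ₗ Submodule.topEquiv⟩
    | succ j ih =>
      obtain ⟨f⟩ := Groth.L28.Kun.nonempty_tor_succ Q e π he hex hπ j
      obtain ⟨g⟩ := ih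
      exact ⟨f ≪≫ₗ g⟩
  have hall : Nonempty (DRing.Tor A (k + 1) Q Q ≃ₗ[A] Q ⊗[A] m) := by
    have h1 : Function.Exact (Submodule.subtype m) (Submodule.mkQ m) := LinearMap.exact_subtype_mkQ m
    match k with
    | 0 =>
      obtain ⟨f⟩ := Groth.L28.Kun.nonempty_tor_one Q (Submodule.subtype m) (Submodule.mkQ m)
        Subtype.val_injective h1 (Submodule.mkQ_surjective _)
      have h0 : (Submodule.subtype m).lTensor Q = 0 := by
        refine TensorProduct.ext' fun q z => ?_
        rw [LinearMap.lTensor_tmul, show (Submodule.subtype m z) = (z : A) • (1 : A) by simp,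
          ← TensorProduct.smul_tmul, hkill _ z.2 q]
        simp
      exact ⟨f ≪≫ₗ LinearEquiv.ofEq _ _ (by rw [h0]; exact LinearMap.ker_zero) ≪≫ₗ Submodule.topEquiv⟩
    | j + 1 =>
      obtain ⟨f⟩ := Groth.L28.Kun.nonempty_tor_succ Q (Submodule.subtype m) (Submodule.mkQ m)
        Subtype.val_injective h1 (Submodule.mkQ_surjective _) j
      obtain ⟨g⟩ := hm j
      exact ⟨f ≪≫ₗ g⟩
  obtain ⟨f⟩ := hall
  have hb : Function.Bijective (π.lTensor Q) := by
    refine ⟨?_, LinearMap.lTensor_surjective Q hπ⟩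
    rw [injective_iff_map_eq_zero]
    intro t ht
    obtain ⟨s, hs⟩ := (lTensor_exact Q hex hπ t).mp ht
    rw [← hs, he0, LinearMap.zero_apply]
  rw [f.length_eq, ← (LinearEquiv.ofBijective _ hb).length_eq,
    (TensorProduct.prodRight A A Q A A ≪≫ₗ
      (LinearEquiv.prodCongr (TensorProduct.rid A Q) (TensorProduct.rid A Q))).length_eq,
    Module.length_prod]
  haveI : IsSimpleModule A Q := isSimpleModule_iff_isCoatom.mpr (Ideal.isMaximal_def.mp hmax)
  rw [Module.length_eq_one]
  rfl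

end Groth.L01.NodeTor
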