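import Mathlib.RingTheory.LaurentSeries
import Mathlib.RingTheory.MvPowerSeries.Equiv
import Mathlib.RingTheory.MvPowerSeries.Inverse
import Mathlib.RingTheory.AdicCompletion.Basic
import Mathlib.RingTheory.UniqueFactorizationDomain.Multiplicative
import Mathlib.RingTheory.Filtration
import Mathlib.RingTheory.DiscreteValuationRing.Basic
import Mathlib.Algebra.Polynomial.Div
import Mathlib.Tactic.Ring
import Groth.Agent.L18.DominatingDVR
import Groth.Agent.L10.RegularUFD

/-!
Elements of the node `R⟦x,y⟧/(xy - r)` dividing a non-zero constant, through Laurent expansions.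
-/

set_option autoImplicit false
universe u

open MvPowerSeries

namespace Groth.L01.NodeUnits

noncomputable section

variable {R : Type u} [CommRing R]

section Psi

variable {S : Type u} [CommRing S] (ρ : R →+* S)

/-- Power series in `X 0` with coefficients series in `X 1`. -/
def E : MvPowerSeries (Fin 2) R →+* PowerSeries (PowerSeries S) :=
  (PowerSeries.map ((PowerSeries.map ρ).comp
    (MvPowerSeries.renameEquiv R (Equiv.equivPUnit (Fin 1) : Fin 1 ≃ Unit)).toAlgHom.toRingHom)).comp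
    (MvPowerSeries.finSuccEquiv R 1).toAlgHom.toRingHom

/-- The exponent `(j, i)`. -/
def ex (j i : ℕ) : Fin 2 →₀ ℕ := Finsupp.single 0 j + Finsupp.single 1 i

theorem ex_apply (j i : ℕ) : ex j i 0 = j ∧ ex j i 1 = i := by simp [ex]

theorem ex_eta (d : Fin 2 →₀ ℕ) : ex (d 0) (d 1) = d := by
  refine Finsupp.ext fun t => ?_
  fin_cases t <;> simp [ex]

theorem coeff_E (F : MvPowerSeries (Fin 2) R) (j i : ℕ) :
    PowerSeries.coeff i (PowerSeries.coeff j (E ρ F)) = ρ (coeff (ex j i) F) := by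
  simp only [E, RingHom.comp_apply, PowerSeries.coeff_map]
  congr 1
  have he : Finsupp.embDomain (Equiv.equivPUnit (Fin 1) : Fin 1 ≃ Unit).toEmbedding (Finsupp.single 0 i) =
      Finsupp.single () i := by
    rw [Finsupp.embDomain_single]
  show coeff (Finsupp.single () i) (rename (Equiv.equivPUnit (Fin 1) : Fin 1 ≃ Unit)
    (PowerSeries.coeff j (MvPowerSeries.finSuccEquiv R 1 F))) = _
  have he2 : Finsupp.cons j (Finsupp.single (0 : Fin 1) i) = ex j i := by
    refine Finsupp.ext fun t => ?_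
    fin_cases t
    · simp [ex]
    · simp [ex]
      exact (Finsupp.cons_succ (0 : Fin 1) j (Finsupp.single (0 : Fin 1) i)).trans Finsupp.single_eq_same
  rw [← he, ← Equiv.coe_toEmbedding, coeff_embDomain_rename, coeff_coeff_finSuccEquiv, he2]

/-- The truncated value at `X 0 ↦ r / T`. -/
def P (k : ℕ) (F : MvPowerSeries (Fin 2) R) : Polynomial (LaurentSeries S) :=
  ∑ j ∈ Finset.range k, Polynomial.monomial j (HahnSeries.ofPowerSeries ℤ S (PowerSeries.coeff j (E ρ F)))

theorem coeff_P (k : ℕ) (F : MvPowerSeries (Fin 2) R) (j : ℕ) (hj : j < k) :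
    (P ρ k F).coeff j = HahnSeries.ofPowerSeries ℤ S (PowerSeries.coeff j (E ρ F)) := by
  simp only [P, Polynomial.finsetSum_coeff, Polynomial.coeff_monomial]
  simp [Finset.mem_range.mpr hj]

variable (r : R)

/-- The point `r / T`. -/
def z : LaurentSeries S := HahnSeries.single (-1 : ℤ) (ρ r)

theorem eval_congr {k : ℕ} (hk : ρ r ^ k = 0) {p q : Polynomial (LaurentSeries S)}
    (h : ∀ j < k, p.coeff j = q.coeff j) : p.eval (z ρ r) = q.eval (z ρ r) := by
  obtain ⟨t, ht⟩ := (Polynomial.X_pow_dvd_iff (f := p - q) (n := k)).mpr fun j hj => by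
    rw [Polynomial.coeff_sub, h j hj, sub_self]
  have hz : z ρ r ^ k = 0 := by rw [z, HahnSeries.single_pow, hk, map_zero]
  rw [← sub_eq_zero, ← Polynomial.eval_sub, ht, Polynomial.eval_mul, Polynomial.eval_pow, Polynomial.eval_X, hz,
    zero_mul]

/-- The Laurent expansion modulo a power of `r`. -/
def Psi (k : ℕ) (hk : ρ r ^ k = 0) : MvPowerSeries (Fin 2) R →+* LaurentSeries S where
  toFun F := (P ρ k F).eval (z ρ r)
  map_one' := by
    refine (eval_congr ρ r hk fun j hj => ?_).trans Polynomial.eval_one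
    rw [coeff_P ρ k _ j hj, map_one, PowerSeries.coeff_one, Polynomial.coeff_one]
    split_ifs <;> simp
  map_mul' F G := by
    rw [← Polynomial.eval_mul]
    refine eval_congr ρ r hk fun j hj => ?_
    rw [coeff_P ρ k _ j hj, map_mul, PowerSeries.coeff_mul, map_sum, Polynomial.coeff_mul]
    refine Finset.sum_congr rfl fun x hx => ?_
    rw [Finset.HasAntidiagonal.mem_antidiagonal] at hx
    rw [map_mul, coeff_P ρ k F _ (by omega), coeff_P ρ k G _ (by omega)]
  map_zero' := by simp [P]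
  map_add' F G := by
    rw [← Polynomial.eval_add]
    refine eval_congr ρ r hk fun j hj => ?_
    rw [Polynomial.coeff_add, coeff_P ρ k _ j hj, coeff_P ρ k _ j hj, coeff_P ρ k _ j hj, map_add, map_add, map_add]

theorem coeff_Psi (k : ℕ) (hk : ρ r ^ k = 0) (F : MvPowerSeries (Fin 2) R) (n : ℤ) :
    (Psi ρ r k hk F).coeff n =
      ∑ j ∈ Finset.range k, if 0 ≤ n + j then ρ r ^ j * ρ (coeff (ex j (n + j).toNat) F) else 0 := by
  show ((P ρ k F).eval (z ρ r)).coeff n = _
  rw [P, Polynomial.eval_finsetSum, HahnSeries.coeff_sum]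
  refine Finset.sum_congr rfl fun j _ => ?_
  rw [Polynomial.eval_monomial, z, HahnSeries.single_pow, mul_comm, HahnSeries.coeff_single_mul,
    show n - j • (-1 : ℤ) = n + j by simp]
  split_ifs with h
  · obtain ⟨m, hm⟩ := Int.eq_ofNat_of_zero_le h
    rw [hm, HahnSeries.ofPowerSeries_apply_coeff, coeff_E]
    rfl
  · rw [PowerSeries.coeff_coe, if_pos (by omega), mul_zero]

theorem coeff_Psi_C_mul (k : ℕ) (hk : ρ r ^ k = 0) (d : R) (F : MvPowerSeries (Fin 2) R) (n : ℤ) :
    (Psi ρ r k hk (C d * F)).coeff n = ρ d * (Psi ρ r k hk F).coeff n := by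
  rw [coeff_Psi, coeff_Psi, Finset.mul_sum]
  refine Finset.sum_congr rfl fun j _ => ?_
  rw [coeff_C_mul, map_mul]
  split_ifs <;> ring

/-- The relation. -/
def rel : MvPowerSeries (Fin 2) R := X 0 * X 1 - C r

theorem Psi_X0 (k : ℕ) (hk : ρ r ^ k = 0) : Psi ρ r k hk (X 0) = z ρ r := by
  refine (eval_congr ρ r hk (q := Polynomial.X) fun j hj => ?_).trans Polynomial.eval_X
  rw [coeff_P ρ k _ j hj, E, RingHom.comp_apply, show (finSuccEquiv R 1).toAlgHom.toRingHom (X 0) = PowerSeries.X from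
    finSuccEquiv_X_zero, PowerSeries.map_X, PowerSeries.coeff_X, Polynomial.coeff_X]
  by_cases h : j = 1
  · rw [if_pos h, if_pos h.symm, map_one]
  · rw [if_neg h, if_neg (Ne.symm h), map_zero]

theorem Psi_X1 (k : ℕ) (hk : ρ r ^ k = 0) : Psi ρ r k hk (X 1) = HahnSeries.single 1 1 := by
  refine (eval_congr ρ r hk (q := Polynomial.C (HahnSeries.single 1 1)) fun j hj => ?_).trans Polynomial.eval_C
  rw [coeff_P ρ k _ j hj, Polynomial.coeff_C, ← HahnSeries.ofPowerSeries_X (Γ := ℤ) (R := S)]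
  have h : PowerSeries.coeff j (E ρ (X 1)) = if j = 0 then PowerSeries.X else 0 := by
    refine PowerSeries.ext fun i => ?_
    rw [coeff_E, coeff_X]
    by_cases hj0 : j = 0
    · subst hj0
      rw [if_pos rfl, PowerSeries.coeff_X]
      by_cases hi : i = 1
      · subst hi; rw [if_pos rfl, if_pos (by simp [ex]), map_one]
      · rw [if_neg hi, if_neg (fun h => hi (by simpa [ex] using Finsupp.ext_iff.mp h 1)), map_zero]
    · rw [if_neg hj0, map_zero, if_neg (fun h => hj0 (by simpa [ex] using Finsupp.ext_iff.mp h 0)), map_zero]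
  rw [h]
  split_ifs <;> simp

theorem Psi_rel (k : ℕ) (hk : ρ r ^ k = 0) : Psi ρ r k hk (rel r) = 0 := by
  have hC : Psi ρ r k hk (C r) = HahnSeries.single 0 (ρ r) := by
    refine (eval_congr ρ r hk (q := Polynomial.C (HahnSeries.single 0 (ρ r))) fun j hj => ?_).trans Polynomial.eval_C
    rw [coeff_P ρ k _ j hj, Polynomial.coeff_C, ← HahnSeries.C_apply, ← HahnSeries.ofPowerSeries_C]
    have h : PowerSeries.coeff j (E ρ (C r)) = if j = 0 then PowerSeries.C (ρ r) else 0 := by
      refine PowerSeries.ext fun i => ?_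
      rw [coeff_E, coeff_C]
      by_cases hj0 : j = 0
      · subst hj0
        rw [if_pos rfl, PowerSeries.coeff_C]
        by_cases hi : i = 0
        · subst hi; rw [if_pos rfl, if_pos (by simp [ex])]
        · rw [if_neg hi, if_neg (fun h => hi (by simpa [ex] using Finsupp.ext_iff.mp h 1)), map_zero]
      · rw [if_neg hj0, map_zero, if_neg (fun h => hj0 (by simpa [ex] using Finsupp.ext_iff.mp h 0)), map_zero]
    rw [h]
    split_ifs <;> simp
  rw [rel, map_sub, map_mul, Psi_X0, Psi_X1, hC, z, HahnSeries.single_mul_single]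
  simp

end Psi

/-- The canonical series `∑ a_i Y^i + ∑ b_j X^j`. -/
def canon (a b : ℕ → R) : MvPowerSeries (Fin 2) R :=
  fun d => if d 0 = 0 then a (d 1) else if d 1 = 0 then b (d 0) else 0

theorem coeff_canon (a b : ℕ → R) (j i : ℕ) :
    coeff (ex j i) (canon a b) = if j = 0 then a i else if i = 0 then b j else 0 := by
  show (if ex j i 0 = 0 then _ else _) = _
  rw [(ex_apply j i).1, (ex_apply j i).2]

/-- The Laurent coefficients of a canonical series. -/
def cc (r : R) (a b : ℕ → R) (n : ℤ) : R := if 0 ≤ n then a n.toNat else r ^ (-n).toNat * b (-n).toNat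

theorem cc_natCast (r : R) (a b : ℕ → R) (n : ℕ) : cc r a b n = a n := by simp [cc]

theorem cc_neg (r : R) (a b : ℕ → R) (h0 : a 0 = b 0) (n : ℕ) : cc r a b (-(n : ℤ)) = r ^ n * b n := by
  rcases Nat.eq_zero_or_pos n with rfl | hn
  · simp [cc, h0]
  · rw [cc, if_neg (by omega)]; simp

theorem pow_dvd_cc (r : R) (a b : ℕ → R) (n : ℤ) (hn : n < 0) : r ^ (-n).toNat ∣ cc r a b n := by
  rw [cc, if_neg (by omega)]
  exact dvd_mul_right _ _

theorem coeff_Psi_canon {S : Type u} [CommRing S] (ρ : R →+* S) (r : R) (k : ℕ) (hk : ρ r ^ k = 0)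
    (a b : ℕ → R) (n : ℤ) : (Psi ρ r k hk (canon a b)).coeff n = ρ (cc r a b n) := by
  rw [coeff_Psi]
  by_cases hn : 0 ≤ n
  · rw [cc, if_pos hn, Finset.sum_eq_single 0]
    · rw [if_pos (by simpa using hn), coeff_canon]; simp
    · intro j _ hj
      rw [if_pos (by omega), coeff_canon, if_neg hj, if_neg (by omega), map_zero, mul_zero]
    · intro h0
      obtain rfl : k = 0 := by simpa using h0
      have : Subsingleton S := subsingleton_of_zero_eq_one (by simpa using hk.symm)
      exact Subsingleton.elim _ _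
  · rw [cc, if_neg hn, map_mul, map_pow, Finset.sum_eq_single (-n).toNat]
    · rw [if_pos (by omega), coeff_canon, if_neg (by omega), if_pos (by omega)]
    · intro j _ hj
      split_ifs with h
      · rw [coeff_canon, if_neg (by omega), if_neg (by omega), map_zero, mul_zero]
      · rfl
    · intro h0
      rw [Finset.mem_range, not_lt] at h0
      split_ifs
      · rw [pow_eq_zero_of_le h0 hk, zero_mul]
      · rfl

section Local

variable [IsLocalRing R] [IsNoetherianRing R]

open IsLocalRing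

theorem eq_zero_of_forall_pow_dvd {W : Type u} [CommRing W] [IsDomain W] [IsNoetherianRing W] {ϖ : W}
    (hϖ : ¬ IsUnit ϖ) {x : W} (h : ∀ k, ϖ ^ k ∣ x) : x = 0 := by
  by_contra hx
  obtain ⟨n, hn⟩ := (FiniteMultiplicity.of_not_isUnit (α := W) hϖ hx)
  exact hn (h (n + 1))

/-- Canonical representatives modulo `xy - r`. -/
theorem exists_canon [IsPrecomplete (maximalIdeal R) R] {r : R} (hr : r ∈ maximalIdeal R)
    (F : MvPowerSeries (Fin 2) R) :
    ∃ a b : ℕ → R, a 0 = b 0 ∧ F - canon a b ∈ Ideal.span {rel r} := by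
  classical
  have hlim : ∀ f : ℕ → R, ∃ L, ∀ k, (r ^ k) ∣ L - ∑ t ∈ Finset.range k, f t * r ^ t := by
    intro f
    obtain ⟨L, hL⟩ := IsPrecomplete.prec (I := maximalIdeal R) inferInstance
      (f := fun k => ∑ t ∈ Finset.range k, f t * r ^ t) (fun {m n} hmn => by
        rw [SModEq.sub_mem, smul_eq_mul, Ideal.mul_top, ← neg_sub, neg_mem_iff, ← Finset.sum_Ico_eq_sub _ hmn]
        exact Ideal.sum_mem _ fun t ht => Ideal.mul_mem_left _ _
          (Ideal.pow_le_pow_right (Finset.mem_Ico.mp ht).1 (Ideal.pow_mem_pow hr t)))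
    refine ⟨L, fun k => ?_⟩
    rw [← Ideal.mem_span_singleton]
    set I := Ideal.span {r ^ k}
    by_cases hI : I = ⊤
    · rw [hI]; trivial
    have : Nontrivial (R ⧸ I) := Ideal.Quotient.nontrivial_iff.mpr hI
    have : IsLocalRing (R ⧸ I) := .of_surjective' (Ideal.Quotient.mk I) Ideal.Quotient.mk_surjective
    rw [← Ideal.Quotient.eq_zero_iff_mem, ← Submodule.mem_bot (R ⧸ I), ← Ideal.iInf_pow_eq_bot_of_isLocalRing
      ((maximalIdeal R).map (Ideal.Quotient.mk I)) (fun htop => by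
        have := Ideal.comap_map_of_surjective (Ideal.Quotient.mk I) Ideal.Quotient.mk_surjective (maximalIdeal R)
        rw [htop, Ideal.comap_top, ← RingHom.ker_eq_comap_bot, Ideal.mk_ker] at this
        exact (maximalIdeal.isMaximal R).ne_top (top_le_iff.mp (this.le.trans (sup_le le_rfl (le_maximalIdeal hI)))))]
    refine Submodule.mem_iInf _ |>.mpr fun N => ?_
    rw [← Ideal.map_pow]
    have h1 : L - ∑ t ∈ Finset.range (max N k), f t * r ^ t ∈ maximalIdeal R ^ N := by
      have h := hL (max N k)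
      rw [SModEq.sub_mem, smul_eq_mul, Ideal.mul_top] at h
      exact Ideal.pow_le_pow_right (le_max_left _ _) ((Submodule.sub_mem_iff_left _ (by simp)).mp
        (show L - (∑ t ∈ Finset.range (max N k), f t * r ^ t) - 0 ∈ _ by
          rw [sub_zero, ← neg_sub]; exact Submodule.neg_mem _ h))
    have h2 : Ideal.Quotient.mk I (∑ t ∈ Finset.range (max N k), f t * r ^ t) =
        Ideal.Quotient.mk I (∑ t ∈ Finset.range k, f t * r ^ t) := by
      rw [Ideal.Quotient.eq, ← Finset.sum_Ico_eq_sub _ (le_max_right N k)]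
      exact Ideal.sum_mem _ fun t ht => Ideal.mul_mem_left _ _
        (Ideal.mem_span_singleton.mpr (pow_dvd_pow r (Finset.mem_Ico.mp ht).1))
    rw [map_sub, ← h2, ← map_sub]
    exact Ideal.mem_map_of_mem _ h1
  choose L hL using fun j i : ℕ => hlim fun t => coeff (ex (j + 1 + t) (i + 1 + t)) F
  have hrec : ∀ j i, L j i = coeff (ex (j + 1) (i + 1)) F + r * L (j + 1) (i + 1) := by
    intro j i
    rw [← sub_eq_zero]
    refine Ideal.mem_bot.mp (Ideal.iInf_pow_eq_bot_of_isLocalRing (maximalIdeal R) (maximalIdeal.isMaximal R).ne_top ▸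
      Submodule.mem_iInf _ |>.mpr fun k => ?_)
    have h1 := hL j i (k + 1)
    rw [Finset.sum_range_succ' (fun t => coeff (ex (j + 1 + t) (i + 1 + t)) F * r ^ t)] at h1
    have h2 : r ^ (k + 1) ∣ r * (L (j + 1) (i + 1) -
        ∑ t ∈ Finset.range k, coeff (ex (j + 1 + 1 + t) (i + 1 + 1 + t)) F * r ^ t) := by
      rw [pow_succ']; exact mul_dvd_mul_left r (hL (j + 1) (i + 1) k)
    obtain ⟨q, hq⟩ := dvd_sub h1 h2
    have : L j i - (coeff (ex (j + 1) (i + 1)) F + r * L (j + 1) (i + 1)) = r ^ (k + 1) * q := by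
      rw [← hq, mul_sub, Finset.mul_sum]
      have : ∀ t : ℕ, coeff (ex (j + 1 + (t + 1)) (i + 1 + (t + 1))) F * r ^ (t + 1) =
          r * (coeff (ex (j + 1 + 1 + t) (i + 1 + 1 + t)) F * r ^ t) := fun t => by
        rw [show j + 1 + (t + 1) = j + 1 + 1 + t by omega, show i + 1 + (t + 1) = i + 1 + 1 + t by omega]
        ring
      simp only [this]
      ring
    rw [this]
    exact Ideal.mul_mem_right _ _ (Ideal.pow_le_pow_right k.le_succ (Ideal.pow_mem_pow hr _))
  let Q : MvPowerSeries (Fin 2) R := fun d => L (d 0) (d 1)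
  refine ⟨fun i => coeff (ex 0 i) F + r * L 0 i, fun j => coeff (ex j 0) F + r * L j 0, rfl,
    Ideal.mem_span_singleton'.mpr ⟨Q, MvPowerSeries.ext fun d => ?_⟩⟩
  rw [← ex_eta d]
  generalize d 0 = j, d 1 = i
  have hQ : ∀ j i, coeff (ex j i) Q = L j i := fun j i => by
    show L (ex j i 0) (ex j i 1) = _
    rw [(ex_apply j i).1, (ex_apply j i).2]
  have hrm : (rel r : MvPowerSeries (Fin 2) R) = monomial (ex 1 1) 1 - C r := by
    rw [rel, X_def, X_def, monomial_mul_monomial, one_mul]; rfl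
  rw [map_sub, coeff_canon, hrm, mul_sub, map_sub, coeff_mul_monomial, mul_one, coeff_mul_C, hQ]
  rcases j with _ | j
  · rw [if_neg (fun h => absurd (h 0) (by simp [ex])), if_pos rfl]; ring
  rcases i with _ | i
  · rw [if_neg (fun h => absurd (h 1) (by simp [ex])), if_neg (Nat.succ_ne_zero j), if_pos rfl]; ring
  rw [if_pos (Finsupp.le_def.mpr fun t => by fin_cases t <;> simp [ex]),
    show ex (j + 1) (i + 1) - ex 1 1 = ex j i from Finsupp.ext fun t => by fin_cases t <;> simp [ex],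
    hQ, hrec j i, if_neg (Nat.succ_ne_zero j), if_neg (Nat.succ_ne_zero i)]
  ring

/-- The Gauss inequality. -/
theorem pow_dvd_mul {W : Type u} [CommRing W] [IsDomain W] [IsNoetherianRing W] {ϖ : W} (hϖ : Prime ϖ) (φ : R →+* W)
    {r : R} (hr : ϖ ∣ φ r) {d : R} {a b a' b' : ℕ → R}
    (hab : canon a b * canon a' b' - C d ∈ Ideal.span {rel r}) {k : ℕ} (hk : ϖ ^ k ∣ φ d) (n m : ℤ) :
    ϖ ^ k ∣ φ (cc r a b n) * φ (cc r a' b' m) := by
  classical
  by_contra hnm
  have hne : φ (cc r a b n) ≠ 0 ∧ φ (cc r a' b' m) ≠ 0 :=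
    ⟨fun h => hnm (by rw [h, zero_mul]; exact dvd_zero _), fun h => hnm (by rw [h, mul_zero]; exact dvd_zero _)⟩
  have hmin : ∀ (a b : ℕ → R) (n : ℤ), φ (cc r a b n) ≠ 0 → ∃ (e : ℕ) (N : ℤ), (∀ i, ϖ ^ e ∣ φ (cc r a b i)) ∧
      ¬ ϖ ^ (e + 1) ∣ φ (cc r a b N) ∧ ∀ i, i < N → ϖ ^ (e + 1) ∣ φ (cc r a b i) := by
    intro a b n hn
    have hex : ∃ e : ℕ, ∃ i, ¬ ϖ ^ (e + 1) ∣ φ (cc r a b i) := by
      by_contra! h
      exact hn (eq_zero_of_forall_pow_dvd hϖ.not_unit fun k => (pow_dvd_pow ϖ k.le_succ).trans (h k n))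
    let e := Nat.find hex
    obtain ⟨i, hi⟩ := Nat.find_spec hex
    obtain ⟨N, hN, hNmin⟩ := Int.exists_least_of_bdd (P := fun i => ¬ ϖ ^ (e + 1) ∣ φ (cc r a b i))
      ⟨-((e + 1 : ℕ) : ℤ), fun i hi => by
        by_contra h
        refine hi ((pow_dvd_pow_of_dvd hr _).trans ?_)
        rw [← map_pow]
        exact map_dvd φ ((pow_dvd_pow r (by omega)).trans (pow_dvd_cc r a b i (by omega)))⟩ ⟨i, hi⟩
    refine ⟨e, N, fun j => ?_, hN, fun j hj => by by_contra h; exact absurd (hNmin j h) (not_le.mpr hj)⟩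
    rcases Nat.eq_zero_or_pos e with he | he
    · rw [he, pow_zero]; exact one_dvd _
    · have := Nat.find_min hex (show e - 1 < Nat.find hex by omega)
      simp only [not_exists, not_not] at this
      simpa [Nat.sub_add_cancel he] using this j
  obtain ⟨e, N, he, hN, hlt⟩ := hmin a b n hne.1
  obtain ⟨e', N', he', hN', hlt'⟩ := hmin a' b' m hne.2
  have hek : e + e' + 1 ≤ k := by
    by_contra h
    refine hnm ((pow_dvd_pow ϖ (by omega : k ≤ e + e')).trans ?_)
    rw [pow_add]; exact mul_dvd_mul (he n) (he' m)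
  let K := e + e' + 1
  let ρ : R →+* W ⧸ Ideal.span {ϖ ^ K} := (Ideal.Quotient.mk _).comp φ
  have hρ : ∀ x, ϖ ^ K ∣ φ x → ρ x = 0 := fun x hx => Ideal.Quotient.eq_zero_iff_mem.mpr (Ideal.mem_span_singleton.mpr hx)
  have hK : ρ r ^ K = 0 := by rw [← map_pow]; exact hρ _ (by rw [map_pow]; exact pow_dvd_pow_of_dvd hr K)
  have h0 : Psi ρ r K hK (canon a b) * Psi ρ r K hK (canon a' b') = 0 := by
    obtain ⟨q, hq⟩ := Ideal.mem_span_singleton'.mp hab
    rw [← map_mul, show canon a b * canon a' b' = C d + q * rel r by rw [hq]; ring, map_add, map_mul, Psi_rel,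
      mul_zero, add_zero]
    ext i
    rw [show (C d : MvPowerSeries (Fin 2) R) = C d * 1 from (mul_one _).symm, coeff_Psi_C_mul,
      hρ d ((pow_dvd_pow ϖ hek).trans hk), zero_mul, HahnSeries.coeff_zero]
  have h1 := congrArg (fun F : LaurentSeries (W ⧸ Ideal.span {ϖ ^ K}) => F.coeff (N + N')) h0
  simp only [HahnSeries.coeff_zero] at h1
  rw [HahnSeries.coeff_mul, Finset.sum_eq_single (N, N')] at h1
  · rw [coeff_Psi_canon, coeff_Psi_canon, ← map_mul] at h1
    have h2 := Ideal.mem_span_singleton.mp (Ideal.Quotient.eq_zero_iff_mem.mp h1)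
    rw [map_mul] at h2
    obtain ⟨u, hu⟩ := he N
    obtain ⟨v, hv⟩ := he' N'
    rw [hu, hv, show K = e + e' + 1 from rfl, pow_succ, pow_add,
      show ϖ ^ e * u * (ϖ ^ e' * v) = ϖ ^ e * ϖ ^ e' * (u * v) by ring,
      mul_dvd_mul_iff_left (mul_ne_zero (pow_ne_zero _ hϖ.ne_zero) (pow_ne_zero _ hϖ.ne_zero))] at h2
    rcases hϖ.dvd_or_dvd h2 with h | h
    · exact hN (by rw [hu, pow_succ]; exact mul_dvd_mul_left _ h)
    · exact hN' (by rw [hv, pow_succ]; exact mul_dvd_mul_left _ h)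
  · rintro ⟨i, j⟩ hij hne
    have hsum : i + j = N + N' := (Finset.mem_antidiagonal.mp hij).2.2
    rw [coeff_Psi_canon, coeff_Psi_canon, ← map_mul]
    refine hρ _ ?_
    rw [map_mul]
    rcases lt_trichotomy i N with h | h | h
    · rw [show K = (e + 1) + e' by omega, pow_add]; exact mul_dvd_mul (hlt i h) (he' j)
    · exact absurd (Prod.ext h (by omega : j = N')) hne
    · rw [show K = e + (e' + 1) by omega, pow_add]; exact mul_dvd_mul (he i) (hlt' j (by omega))
  · intro h
    simp only [Finset.mem_antidiagonal, HahnSeries.mem_support, ne_eq, not_and] at h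
    by_contra hne
    exact h (left_ne_zero_of_mul hne) (right_ne_zero_of_mul hne) trivial

variable [IsDomain R]

theorem eq_zero_of_forall_mem_pow {x : R} (h : ∀ k : ℕ, x ∈ maximalIdeal R ^ k) : x = 0 :=
  Ideal.mem_bot.mp (Ideal.iInf_pow_eq_bot_of_isLocalRing (maximalIdeal R) (maximalIdeal.isMaximal R).ne_top ▸
    Submodule.mem_iInf _ |>.mpr h)

theorem mk_pow_eq_zero {r : R} (hr : r ∈ maximalIdeal R) (k : ℕ) :
    Ideal.Quotient.mk (maximalIdeal R ^ k) r ^ k = 0 := by
  rw [← map_pow]; exact Ideal.Quotient.eq_zero_iff_mem.mpr (Ideal.pow_mem_pow hr k)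

/-- Coefficients only depend on the class. -/
theorem cc_eq_of_sub_mem {r : R} (hr : r ∈ maximalIdeal R) {a b a' b' : ℕ → R}
    (h : canon a b - canon a' b' ∈ Ideal.span {rel r}) (n : ℤ) : cc r a b n = cc r a' b' n := by
  obtain ⟨q, hq⟩ := Ideal.mem_span_singleton'.mp h
  rw [← sub_eq_zero]
  refine eq_zero_of_forall_mem_pow fun k => ?_
  rw [← Ideal.Quotient.eq]
  have h1 := congrArg (fun F => (Psi (Ideal.Quotient.mk (maximalIdeal R ^ k)) r k (mk_pow_eq_zero hr k) F).coeff n) hq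
  simp only [map_mul, map_sub, Psi_rel, mul_zero, HahnSeries.coeff_zero, HahnSeries.coeff_sub, coeff_Psi_canon] at h1
  exact sub_eq_zero.mp h1.symm

variable [IsPrecomplete (maximalIdeal R) R]

/-- Constants are not zero divisors. -/
theorem mem_rel_of_C_mul {r : R} (hr : r ∈ maximalIdeal R) (hr0 : r ≠ 0) {c : R} (hc : c ≠ 0)
    {Z : MvPowerSeries (Fin 2) R} (h : C c * Z ∈ Ideal.span {rel r}) : Z ∈ Ideal.span {rel r} := by
  obtain ⟨a, b, h0, hab⟩ := exists_canon hr Z
  have hC : C c * canon a b = canon (fun i => c * a i) (fun i => c * b i) := MvPowerSeries.ext fun D => by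
    rw [coeff_C_mul, ← ex_eta D, coeff_canon, coeff_canon]
    split_ifs <;> simp
  have hz : canon (fun _ => (0 : R)) (fun _ => 0) = 0 := MvPowerSeries.ext fun D => by
    show (if D 0 = 0 then (0 : R) else if D 1 = 0 then 0 else 0) = 0
    split_ifs <;> rfl
  have hm : canon (fun i => c * a i) (fun i => c * b i) - canon (fun _ => 0) (fun _ => 0) ∈ Ideal.span {rel r} := by
    rw [hz, sub_zero, ← hC, show C c * canon a b = C c * Z - C c * (Z - canon a b) by ring]
    exact Ideal.sub_mem _ h (Ideal.mul_mem_left _ _ hab)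
  have ha : ∀ i : ℕ, a i = 0 := fun i => by
    have := cc_eq_of_sub_mem hr hm (i : ℤ)
    simp only [cc_natCast] at this
    exact (mul_eq_zero.mp this).resolve_left hc
  have hb : ∀ i : ℕ, b i = 0 := fun i => by
    have := cc_eq_of_sub_mem hr hm (-(i : ℤ))
    rw [cc_neg _ _ _ (by simp [h0]), cc_neg _ _ _ rfl] at this
    simpa [hr0, hc] using this
  rw [show canon a b = 0 by rw [← hz]; congr 1 <;> funext i <;> simp [ha, hb], sub_zero] at hab
  exact hab

variable [UniqueFactorizationMonoid R]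

/-- The coefficients of two factors of `d` multiply into `(d)`. -/
theorem dvd_mul_cc {r : R} (hr : r ∈ maximalIdeal R) {d : R} (hd : d ≠ 0) {a b a' b' : ℕ → R}
    (hab : canon a b * canon a' b' - C d ∈ Ideal.span {rel r}) (n m : ℤ) : d ∣ cc r a b n * cc r a' b' m := by
  suffices hpp : ∀ (π : R), Prime π → ∀ k, π ^ k ∣ d → π ^ k ∣ cc r a b n * cc r a' b' m by
    have key : ∀ x : R, x ∣ d → x ∣ cc r a b n * cc r a' b' m := by
      intro x
      induction x using UniqueFactorizationMonoid.induction_on_coprime with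
      | h0 => exact fun h => absurd (zero_dvd_iff.mp h) hd
      | h1 hu => exact fun _ => hu.dvd
      | hpr i hp => exact hpp _ hp i
      | hcp hxy hx hy => exact fun h => hxy.mul_dvd (hx (dvd_of_mul_right_dvd h)) (hy (dvd_of_mul_left_dvd h))
    exact key d dvd_rfl
  intro π hπ k
  by_cases hπr : π ∣ r
  · exact fun hk => pow_dvd_mul hπ (RingHom.id R) hπr hab hk n m
  have hr0 : r ≠ 0 := fun h => hπr (h ▸ dvd_zero π)
  clear hd
  induction k generalizing d a b a' b' n m with
  | zero => exact fun _ => by rw [pow_zero]; exact one_dvd _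
  | succ k ih =>
    intro hk
    -- a discrete valuation ring dominating `R/π`
    haveI hP : (Ideal.span {π}).IsPrime := (Ideal.span_singleton_prime hπ.ne_zero).mpr hπ
    let L := FractionRing (R ⧸ Ideal.span {π})
    letI : Algebra R L := ((algebraMap (R ⧸ Ideal.span {π}) L).comp (Ideal.Quotient.mk _)).toAlgebra
    have hker : ∀ x : R, algebraMap R L x = 0 ↔ π ∣ x := fun x => by
      show algebraMap (R ⧸ Ideal.span {π}) L (Ideal.Quotient.mk _ x) = 0 ↔ _
      rw [map_eq_zero_iff _ (IsFractionRing.injective (R ⧸ Ideal.span {π}) L), Ideal.Quotient.eq_zero_iff_mem,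
        Ideal.mem_span_singleton]
    obtain ⟨V, hV, hVR, hVm⟩ := Groth.L18.exists_isDiscreteValuationRing_dominating (L := L) (A := R) Set.finite_empty
      (by
        refine eq_top_iff.mpr fun x _ => ?_
        obtain ⟨s, t, -, rfl⟩ := IsFractionRing.div_surjective (A := R ⧸ Ideal.span {π}) x
        obtain ⟨s, rfl⟩ := Ideal.Quotient.mk_surjective s
        obtain ⟨t, rfl⟩ := Ideal.Quotient.mk_surjective t
        exact div_mem (Subfield.subset_closure (Or.inl ⟨s, rfl⟩)) (Subfield.subset_closure (Or.inl ⟨t, rfl⟩)))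
      (fun h => hπr ((hker r).mp (RingHom.mem_ker.mp (h.ge hr))))
    let φ : R →+* V := (algebraMap R L).codRestrict V.toSubring hVR
    obtain ⟨ϖ, hϖ⟩ := IsDiscreteValuationRing.exists_irreducible V
    have hφr : ϖ ∣ φ r := by
      rw [← Ideal.mem_span_singleton, ← hϖ.maximalIdeal_eq]
      exact (V.valuation_lt_one_iff (φ r)).mpr (hVm r hr)
    have hφ : ∀ x, φ x = 0 ↔ π ∣ x := fun x => by rw [← hker]; exact Subtype.ext_iff
    have hall : (∀ i, π ∣ cc r a b i) ∨ ∀ i, π ∣ cc r a' b' i := by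
      by_contra! h
      obtain ⟨⟨i, hi⟩, j, hj⟩ := h
      refine mul_ne_zero (mt (hφ _).mp hi) (mt (hφ _).mp hj) (eq_zero_of_forall_pow_dvd hϖ.not_isUnit fun q => ?_)
      refine pow_dvd_mul hϖ.prime φ hφr hab ?_ i j
      rw [(hφ d).mpr ((dvd_pow_self π k.succ_ne_zero).trans hk)]
      exact dvd_zero _
    have hdvd : ∀ (a b : ℕ → R), (∀ i, π ∣ cc r a b i) → ∀ j, π ∣ a j ∧ π ∣ b j ∨ j = 0 := fun a b h j => by
      rcases Nat.eq_zero_or_pos j with hj | hj
      · exact Or.inr hj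
      refine Or.inl ⟨by simpa [cc_natCast] using h (j : ℤ), ?_⟩
      have h2 := h (-(j : ℤ))
      rw [cc, if_neg (by omega), show (-(-(j : ℤ))).toNat = j by omega] at h2
      exact (hπ.dvd_or_dvd h2).resolve_left fun h => hπr (hπ.dvd_of_dvd_pow h)
    have hdiv : ∀ (a b : ℕ → R), (∀ i, π ∣ cc r a b i) → ∃ a₁ b₁ : ℕ → R, canon a b = C π * canon a₁ b₁ ∧
        ∀ i, cc r a b i = π * cc r a₁ b₁ i := by
      intro a b h
      have hA : ∀ j, ∃ x, a j = π * x := fun j => by
        have := h (j : ℤ); rw [cc_natCast] at this; exact this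
      have hB : ∀ j, ∃ x, 0 < j → b j = π * x := fun j => by
        rcases hdvd a b h j with h' | h'
        · exact h'.2.imp fun x hx _ => hx
        · exact ⟨0, fun h0 => absurd h' (by omega)⟩
      choose a₁ ha₁ using hA
      choose b₁ hb₁ using hB
      refine ⟨a₁, b₁, MvPowerSeries.ext fun D => ?_, fun i => ?_⟩
      · rw [coeff_C_mul, ← ex_eta D, coeff_canon, coeff_canon]
        split_ifs with h1 h2
        · exact ha₁ _
        · exact hb₁ _ (by omega)
        · rw [mul_zero]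
      · simp only [cc]
        split_ifs with h1
        · exact ha₁ _
        · rw [hb₁ _ (by omega)]; ring
    obtain ⟨d₁, rfl⟩ := (dvd_pow_self π k.succ_ne_zero).trans hk
    have hk' : π ^ k ∣ d₁ := by
      rw [pow_succ', mul_dvd_mul_iff_left hπ.ne_zero] at hk; exact hk
    rcases hall with h | h
    · obtain ⟨a₁, b₁, hc, hcc⟩ := hdiv a b h
      have h' : canon a₁ b₁ * canon a' b' - C d₁ ∈ Ideal.span {rel r} := by
        rw [hc, map_mul, mul_assoc, ← mul_sub] at hab
        exact mem_rel_of_C_mul hr hr0 hπ.ne_zero hab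
      rw [hcc, mul_assoc, pow_succ']
      exact mul_dvd_mul_left π (ih h' n m hk')
    · obtain ⟨a₁, b₁, hc, hcc⟩ := hdiv a' b' h
      have h' : canon a b * canon a₁ b₁ - C d₁ ∈ Ideal.span {rel r} := by
        rw [hc, map_mul, mul_left_comm, ← mul_sub] at hab
        exact mem_rel_of_C_mul hr hr0 hπ.ne_zero hab
      rw [hcc, mul_left_comm, pow_succ']
      exact mul_dvd_mul_left π (ih h' n m hk')

/-- Exchanging the variables. -/
def swap : MvPowerSeries (Fin 2) R →ₐ[R] MvPowerSeries (Fin 2) R :=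
  (renameEquiv R (Equiv.swap (0 : Fin 2) 1)).toAlgHom

omit [IsLocalRing R] [IsNoetherianRing R] [IsDomain R] [IsPrecomplete (maximalIdeal R) R] [UniqueFactorizationMonoid R] in
theorem swap_X (i : Fin 2) : swap (X i : MvPowerSeries (Fin 2) R) = X (Equiv.swap (0 : Fin 2) 1 i) := by
  show rename (Equiv.swap (0 : Fin 2) 1) (X i) = _
  rw [rename_X]

omit [IsLocalRing R] [IsNoetherianRing R] [IsDomain R] [IsPrecomplete (maximalIdeal R) R] [UniqueFactorizationMonoid R] in
theorem swap_C (c : R) : swap (C c : MvPowerSeries (Fin 2) R) = C c := by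
  show rename (Equiv.swap (0 : Fin 2) 1) (C c) = _
  rw [rename_C]

omit [IsLocalRing R] [IsNoetherianRing R] [IsDomain R] [IsPrecomplete (maximalIdeal R) R] [UniqueFactorizationMonoid R] in
theorem swap_mem {r : R} {F : MvPowerSeries (Fin 2) R} (h : F ∈ Ideal.span {rel r}) : swap F ∈ Ideal.span {rel r} := by
  obtain ⟨q, rfl⟩ := Ideal.mem_span_singleton'.mp h
  refine Ideal.mem_span_singleton'.mpr ⟨swap q, ?_⟩
  rw [map_mul]
  congr 1
  rw [rel, map_sub, map_mul, swap_X, swap_X, swap_C, Equiv.swap_apply_left, Equiv.swap_apply_right, mul_comm (X 1)]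

omit [IsLocalRing R] [IsNoetherianRing R] [IsDomain R] [IsPrecomplete (maximalIdeal R) R] [UniqueFactorizationMonoid R] in
theorem swap_canon {a b : ℕ → R} (h0 : a 0 = b 0) : swap (canon a b) = canon b a := by
  refine MvPowerSeries.ext fun D => ?_
  rw [← ex_eta D]
  generalize D 0 = j, D 1 = i
  have he : Finsupp.embDomain (Equiv.swap (0 : Fin 2) 1).toEmbedding (ex i j) = ex j i := by
    rw [Finsupp.embDomain_eq_mapDomain, ex, ex, Finsupp.mapDomain_add, Finsupp.mapDomain_single, Finsupp.mapDomain_single]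
    simp [add_comm]
  conv_lhs => rw [← he]
  show coeff _ (rename (Equiv.swap (0 : Fin 2) 1).toEmbedding (canon a b)) = _
  rw [coeff_embDomain_rename, coeff_canon, coeff_canon]
  rcases Nat.eq_zero_or_pos i with rfl | hi <;> rcases Nat.eq_zero_or_pos j with rfl | hj
  · simp [h0]
  · simp [hj.ne']
  · simp [hi.ne']
  · simp [hi.ne', hj.ne']

omit [IsDomain R] [IsPrecomplete (maximalIdeal R) R] [UniqueFactorizationMonoid R] in
theorem mem_of_forall_mem_sup_pow {I : Ideal R} (hI : I ≤ maximalIdeal R) {x : R}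
    (h : ∀ k : ℕ, x ∈ I ⊔ maximalIdeal R ^ k) : x ∈ I := by
  have : Nontrivial (R ⧸ I) := Ideal.Quotient.nontrivial_iff.mpr (ne_top_of_le_ne_top (maximalIdeal.isMaximal R).ne_top hI)
  have : IsLocalRing (R ⧸ I) := .of_surjective' (Ideal.Quotient.mk I) Ideal.Quotient.mk_surjective
  rw [← Ideal.Quotient.eq_zero_iff_mem, ← Submodule.mem_bot (R ⧸ I), ← Ideal.iInf_pow_eq_bot_of_isLocalRing
    (maximalIdeal (R ⧸ I)) (maximalIdeal.isMaximal _).ne_top]
  refine Submodule.mem_iInf _ |>.mpr fun k => ?_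
  obtain ⟨y, hy, z, hz, rfl⟩ := Submodule.mem_sup.mp (h k)
  rw [map_add, Ideal.Quotient.eq_zero_iff_mem.mpr hy, zero_add]
  have hle : (maximalIdeal R).map (Ideal.Quotient.mk I) ≤ maximalIdeal (R ⧸ I) :=
    Ideal.map_le_iff_le_comap.mpr fun t ht hu => by
      obtain ⟨v, hv⟩ := hu.exists_right_inv
      obtain ⟨v, rfl⟩ := Ideal.Quotient.mk_surjective v
      rw [← map_mul, ← map_one (Ideal.Quotient.mk I), Ideal.Quotient.eq] at hv
      exact (maximalIdeal R).one_notMem (by
        simpa using (maximalIdeal R).sub_mem ((maximalIdeal R).mul_mem_right v ht) (hI hv))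
  have := Ideal.pow_right_mono hle k
  rw [← Ideal.map_pow] at this
  exact this (Ideal.mem_map_of_mem _ hz)

theorem main_aux {r : R} (hr : r ∈ maximalIdeal R) (hr0 : r ≠ 0) {d : R} (hd : d ≠ 0) {a b a' b' : ℕ → R}
    (h0 : a 0 = b 0) (h0' : a' 0 = b' 0) (hab : canon a b * canon a' b' - C d ∈ Ideal.span {rel r}) (n₀ : ℕ)
    {v : R} (hv : IsUnit v) (hn : a n₀ * (r ^ n₀ * b' n₀) = d * v) :
    ∃ U : MvPowerSeries (Fin 2) R, IsUnit U ∧ canon a b - C (a n₀) * X 1 ^ n₀ * U ∈ Ideal.span {rel r} := by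
  have hprod : a n₀ * (r ^ n₀ * b' n₀) ≠ 0 := hn ▸ mul_ne_zero hd hv.ne_zero
  have hs : a n₀ ≠ 0 := left_ne_zero_of_mul hprod
  have hs' : r ^ n₀ * b' n₀ ≠ 0 := right_ne_zero_of_mul hprod
  have hB : b' n₀ ≠ 0 := right_ne_zero_of_mul hs'
  have hab' : canon b a * canon b' a' - C d ∈ Ideal.span {rel r} := by
    have := swap_mem hab
    rwa [map_sub, map_mul, swap_canon h0, swap_canon h0', swap_C] at this
  have h1 : ∀ n : ℤ, a n₀ ∣ cc r a b n := fun n => by
    have := dvd_mul_cc hr hd hab n (-(n₀ : ℤ))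
    rw [cc_neg _ _ _ h0', ← hv.mul_right_dvd (a := d), ← hn] at this
    exact (mul_dvd_mul_iff_right hs').mp this
  have h2 : ∀ m : ℤ, a n₀ * r ^ n₀ ∣ cc r b a m := fun m => by
    have := dvd_mul_cc hr hd hab' m (n₀ : ℤ)
    rw [cc_natCast, ← hv.mul_right_dvd (a := d), ← hn, ← mul_assoc] at this
    exact (mul_dvd_mul_iff_right hB).mp this
  have h3 : ∀ i : ℕ, 0 < i → a n₀ * r ^ i ∣ cc r a b ((n₀ : ℤ) - i) := by
    intro i hi
    rcases Nat.lt_or_ge n₀ i with hlt | hge
    · obtain ⟨p, rfl⟩ := Nat.exists_eq_add_of_le hlt.le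
      have := h2 (p : ℤ)
      rw [cc_natCast] at this
      rw [show ((n₀ : ℤ) - (n₀ + p : ℕ)) = -(p : ℤ) by omega, cc_neg _ _ _ h0, pow_add, mul_comm (r ^ n₀) (r ^ p),
        mul_left_comm]
      exact mul_dvd_mul_left _ this
    · obtain ⟨p, hp⟩ := Nat.exists_eq_add_of_le hge
      have := h2 (-(p : ℤ))
      rw [cc_neg _ _ _ h0.symm, hp, pow_add, mul_comm (r ^ i) (r ^ p), mul_left_comm,
        mul_dvd_mul_iff_left (pow_ne_zero _ hr0)] at this
      rw [show ((n₀ : ℤ) - i) = (p : ℤ) by omega, cc_natCast]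
      rw [hp]
      exact this
  choose α hα using fun i : ℕ => h1 ((n₀ + i : ℕ) : ℤ)
  have hβex : ∀ i : ℕ, ∃ x, (0 < i → cc r a b ((n₀ : ℤ) - i) = a n₀ * r ^ i * x) ∧ (i = 0 → x = α 0) := fun i => by
    rcases Nat.eq_zero_or_pos i with hi | hi
    · exact ⟨α 0, fun h => absurd hi (by omega), fun _ => rfl⟩
    · exact (h3 i hi).imp fun x hx => ⟨fun _ => hx, fun h => absurd h (by omega)⟩
  choose β hβ hβ0 using hβex
  have hα0 : α 0 = 1 := by
    have := hα 0
    rw [cc_natCast, add_zero] at this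
    exact mul_left_cancel₀ hs (this.symm.trans (mul_one _).symm)
  refine ⟨canon α β, MvPowerSeries.isUnit_iff_constantCoeff.mpr ?_, ?_⟩
  · rw [← MvPowerSeries.coeff_zero_eq_constantCoeff_apply, show (0 : Fin 2 →₀ ℕ) = ex 0 0 by simp [ex], coeff_canon,
      if_pos rfl, hα0]
    exact isUnit_one
  obtain ⟨a₂, b₂, h20, h2'⟩ := exists_canon hr (X 1 ^ n₀ * canon α β)
  have hcc : ∀ n : ℤ, cc r a b n = a n₀ * cc r a₂ b₂ n := by
    intro n
    have hshift : cc r a₂ b₂ n = cc r α β (n - n₀) := by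
      obtain ⟨q, hq⟩ := Ideal.mem_span_singleton'.mp h2'
      rw [← sub_eq_zero]
      refine eq_zero_of_forall_mem_pow fun k => ?_
      rw [← Ideal.Quotient.eq]
      have h := congrArg (fun F => (Psi (Ideal.Quotient.mk (maximalIdeal R ^ k)) r k (mk_pow_eq_zero hr k) F).coeff n) hq
      simp only [map_mul, map_sub, map_pow, Psi_rel, mul_zero, HahnSeries.coeff_zero, HahnSeries.coeff_sub,
        Psi_X1, HahnSeries.single_pow, one_pow, HahnSeries.coeff_single_mul, one_mul, coeff_Psi_canon] at h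
      rw [nsmul_eq_mul, mul_one] at h
      exact (sub_eq_zero.mp h.symm).symm
    rw [hshift]
    by_cases hn : (n₀ : ℤ) ≤ n
    · obtain ⟨p, hp⟩ := Int.le.dest hn
      subst hp
      rw [add_sub_cancel_left, cc_natCast r α β p, ← Nat.cast_add, hα p]
    · obtain ⟨i, hi, rfl⟩ : ∃ i : ℕ, 0 < i ∧ n = (n₀ : ℤ) - i := ⟨((n₀ : ℤ) - n).toNat, by omega, by omega⟩
      rw [show (n₀ : ℤ) - i - n₀ = -(i : ℤ) by ring, cc_neg _ _ _ (hβ0 0 rfl).symm, hβ i hi, mul_assoc]
  have he : canon a b = C (a n₀) * canon a₂ b₂ := MvPowerSeries.ext fun D => by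
    rw [coeff_C_mul, ← ex_eta D, coeff_canon, coeff_canon]
    split_ifs with e1 e2
    · simpa only [cc_natCast] using hcc (D 1 : ℕ)
    · have := hcc (-((D 0 : ℕ) : ℤ))
      rw [cc_neg _ _ _ h0, cc_neg _ _ _ h20, mul_left_comm] at this
      exact mul_left_cancel₀ (pow_ne_zero _ hr0) this
    · rw [mul_zero]
  rw [he, mul_assoc, ← mul_sub, ← neg_sub (X 1 ^ n₀ * canon α β)]
  exact Ideal.mul_mem_left _ _ (Submodule.neg_mem _ h2')

/-- Divisors of a non-zero constant are monomials up to units. -/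
theorem main {r : R} (hr : r ∈ maximalIdeal R) (hr0 : r ≠ 0) {d : R} (hd : d ≠ 0) {F G : MvPowerSeries (Fin 2) R}
    (h : F * G - C d ∈ Ideal.span {rel r}) :
    ∃ (s : R) (m n : ℕ) (U : MvPowerSeries (Fin 2) R), IsUnit U ∧ m * n = 0 ∧
      F - C s * X 0 ^ n * X 1 ^ m * U ∈ Ideal.span {rel r} := by
  obtain ⟨a, b, h0, hF⟩ := exists_canon hr F
  obtain ⟨a', b', h0', hG⟩ := exists_canon hr G
  have hab : canon a b * canon a' b' - C d ∈ Ideal.span {rel r} := by
    rw [show canon a b * canon a' b' - C d = (F * G - C d) - ((F - canon a b) * G + canon a b * (G - canon a' b')) by ring]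
    exact Ideal.sub_mem _ h (Ideal.add_mem _ (Ideal.mul_mem_right _ _ hF) (Ideal.mul_mem_left _ _ hG))
  obtain ⟨n, v, hv, hn⟩ : ∃ (n : ℤ) (v : R), IsUnit v ∧ cc r a b n * cc r a' b' (-n) = d * v := by
    by_contra! hcon
    have hall : ∀ n : ℤ, cc r a b n * cc r a' b' (-n) ∈ Ideal.span {d} * maximalIdeal R := fun n => by
      obtain ⟨w, hw⟩ := dvd_mul_cc hr hd hab n (-n)
      rw [hw]
      exact Ideal.mul_mem_mul (Ideal.mem_span_singleton_self d) (fun hu => hcon n w hu hw)
    have hd' : d ∈ Ideal.span {d} * maximalIdeal R := by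
      refine mem_of_forall_mem_sup_pow (I := Ideal.span {d} * maximalIdeal R) (Ideal.mul_le.mpr fun _ _ _ h => Ideal.mul_mem_left _ _ h) fun k => ?_
      set J := Ideal.span {d} * maximalIdeal R ⊔ maximalIdeal R ^ k
      have hk : Ideal.Quotient.mk J r ^ k = 0 := by
        rw [← map_pow, Ideal.Quotient.eq_zero_iff_mem]
        exact Ideal.mem_sup_right (Ideal.pow_mem_pow hr k)
      obtain ⟨q, hq⟩ := Ideal.mem_span_singleton'.mp hab
      rw [← Ideal.Quotient.eq_zero_iff_mem]
      have he := congrArg (fun F => (Psi (Ideal.Quotient.mk J) r k hk F).coeff 0) hq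
      rw [← mul_one (C d)] at he
      simp only [map_mul, map_sub, Psi_rel, mul_zero, HahnSeries.coeff_zero, HahnSeries.coeff_sub] at he
      rw [← map_mul (Psi (Ideal.Quotient.mk J) r k hk) (C d) 1, coeff_Psi_C_mul] at he
      rw [show ((Psi (Ideal.Quotient.mk J) r k hk) 1).coeff 0 = 1 by simp, mul_one] at he
      rw [show (Ideal.Quotient.mk J d) = ((Psi (Ideal.Quotient.mk J) r k hk (canon a b)) *
        (Psi (Ideal.Quotient.mk J) r k hk (canon a' b'))).coeff 0 from (sub_eq_zero.mp he.symm).symm, HahnSeries.coeff_mul]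
      refine Finset.sum_eq_zero fun x hx => ?_
      have hx' : x.2 = -x.1 := by have := (Finset.mem_antidiagonal.mp hx).2.2; omega
      rw [coeff_Psi_canon, coeff_Psi_canon, hx', ← map_mul, Ideal.Quotient.eq_zero_iff_mem]
      exact Ideal.mem_sup_left (hall x.1)
    obtain ⟨t, ht, hdt⟩ := Ideal.mem_span_singleton_mul.mp hd'
    exact (maximalIdeal R).one_notMem ((mul_left_cancel₀ hd (hdt.trans (mul_one d).symm)) ▸ ht)
  rcases Int.eq_nat_or_neg n with ⟨n₀, rfl | rfl⟩
  · rw [cc_natCast, cc_neg _ _ _ h0'] at hn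
    obtain ⟨U, hU, hU'⟩ := main_aux hr hr0 hd h0 h0' hab n₀ hv hn
    refine ⟨a n₀, n₀, 0, U, hU, mul_zero _, ?_⟩
    rw [pow_zero, mul_one, show F - C (a n₀) * X 1 ^ n₀ * U = (F - canon a b) + (canon a b - C (a n₀) * X 1 ^ n₀ * U) by ring]
    exact Ideal.add_mem _ hF hU'
  · rw [neg_neg, cc_natCast, cc_neg _ _ _ h0, mul_comm (r ^ n₀), mul_assoc] at hn
    have hab' : canon b a * canon b' a' - C d ∈ Ideal.span {rel r} := by
      have := swap_mem hab
      rwa [map_sub, map_mul, swap_canon h0, swap_canon h0', swap_C] at this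
    obtain ⟨U, hU, hU'⟩ := main_aux hr hr0 hd h0.symm h0'.symm hab' n₀ hv hn
    refine ⟨b n₀, 0, n₀, swap U, hU.map _, zero_mul _, ?_⟩
    have h2 := swap_mem hU'
    rw [map_sub, map_mul, map_mul, map_pow, swap_canon h0.symm, swap_C, swap_X, Equiv.swap_apply_right] at h2
    rw [pow_zero, mul_one, show F - C (b n₀) * X 0 ^ n₀ * swap U = (F - canon a b) + (canon a b - C (b n₀) * X 0 ^ n₀ * swap U) by ring]
    exact Ideal.add_mem _ hF h2

end Local

end

end Groth.L01.NodeUnits
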