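import Mathlib.Algebra.MvPolynomial.Monad
import Mathlib.Data.List.Indexes
import Mathlib.RingTheory.IntegralClosure.IsIntegralClosure.Basic
import Mathlib.RingTheory.NoetherNormalization

/-!
Noether normalization by polynomials with integer coefficients.
The triangular substitution lemmas follow Mathlib's `NoetherNormalization` file, where they are private.
-/

open Polynomial MvPolynomial Ideal Nat RingHom List

variable {k : Type*} [Field k] {n : ℕ} (f : MvPolynomial (Fin (n + 1)) k)
variable (v w : Fin (n + 1) →₀ ℕ)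

namespace Groth.L01.NoetherInt

section equivT

/-- `up` is defined as `2 + f.totalDegree`. Any big enough number would work. -/
local notation3 "up" => 2 + f.totalDegree

variable {f v} in
lemma lt_up (vlt : ∀ i, v i < up) : ∀ l ∈ ofFn v, l < up := by
  grind

/-- `r` maps `(i : Fin (n + 1))` to `up ^ i`. -/
local notation3 "r" => fun (i : Fin (n + 1)) ↦ up ^ i.1

/-- We construct an algebra map `T1 f c` which maps `X_i` into `X_i + c • X_0 ^ r_i` when `i ≠ 0`
and `X_0` to `X_0`. -/
noncomputable abbrev T1 (c : k) :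
    MvPolynomial (Fin (n + 1)) k →ₐ[k] MvPolynomial (Fin (n + 1)) k :=
  aeval fun i ↦ if i = 0 then X 0 else X i + c • X 0 ^ r i

lemma t1_comp_t1_neg (c : k) : (T1 f c).comp (T1 f (-c)) = AlgHom.id _ _ := by
  rw [comp_aeval, ← MvPolynomial.aeval_X_left]
  ext i v
  cases i using Fin.cases <;> simp

/-- `T1 f 1` leads to an algebra equiv `T f`. -/
noncomputable abbrev T := AlgEquiv.ofAlgHom (T1 f 1) (T1 f (-1))
  (t1_comp_t1_neg f 1) (by simpa using t1_comp_t1_neg f (-1))

lemma sum_r_mul_ne (vlt : ∀ i, v i < up) (wlt : ∀ i, w i < up) (ne : v ≠ w) :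
    ∑ x : Fin (n + 1), r x * v x ≠ ∑ x : Fin (n + 1), r x * w x := by
  intro h
  refine ne <| Finsupp.ext <| congrFun <| ofFn_inj.mp ?_
  apply ofDigits_inj_of_len_eq (Nat.lt_add_right f.totalDegree one_lt_two)
    (by simp) (lt_up vlt) (lt_up wlt)
  simpa only [ofDigits_eq_sum_mapIdx, mapIdx_eq_ofFn, get_ofFn, length_ofFn,
    Fin.val_cast, mul_comm, sum_ofFn] using! h

lemma degreeOf_zero_t {a : k} (ha : a ≠ 0) : ((T f) (monomial v a)).degreeOf 0 =
    ∑ i : Fin (n + 1), (r i) * v i := by
  rw [← natDegree_finSuccEquiv, monomial_eq, Finsupp.prod_pow v fun a ↦ X a]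
  simp only [Fin.prod_univ_succ, Fin.sum_univ_succ, map_mul, map_prod, map_pow,
    AlgEquiv.ofAlgHom_apply, MvPolynomial.aeval_C, MvPolynomial.aeval_X, if_pos, Fin.succ_ne_zero,
    ite_false, one_smul, map_add, finSuccEquiv_X_zero, finSuccEquiv_X_succ, algebraMap_eq]
  have h (i : Fin n) :
      (Polynomial.C (X (R := k) i) + Polynomial.X ^ r i.succ) ^ v i.succ ≠ 0 :=
    pow_ne_zero (v i.succ) (leadingCoeff_ne_zero.mp <| by simp [add_comm, leadingCoeff_X_pow_add_C])
  rw [natDegree_mul (by simp [ha]) (mul_ne_zero (by simp) (Finset.prod_ne_zero_iff.mpr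
    (fun i _ ↦ h i))), natDegree_mul (by simp) (Finset.prod_ne_zero_iff.mpr (fun i _ ↦ h i)),
    natDegree_prod _ _ (fun i _ ↦ h i), natDegree_finSuccEquiv, degreeOf_C]
  simpa only [natDegree_pow, zero_add, natDegree_X, mul_one, Fin.val_zero, pow_zero, one_mul,
    add_right_inj] using Finset.sum_congr rfl (fun i _ ↦ by
    rw [add_comm (Polynomial.C _), natDegree_X_pow_add_C, mul_comm])

/-- `T` maps different monomials of `f` to polynomials with different degrees in `X_0`. -/
lemma degreeOf_t_ne_of_ne (hv : v ∈ f.support) (hw : w ∈ f.support) (ne : v ≠ w) :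
    (T f <| monomial v <| coeff v f).degreeOf 0 ≠
    (T f <| monomial w <| coeff w f).degreeOf 0 := by
  rw [degreeOf_zero_t _ _ <| mem_support_iff.mp hv, degreeOf_zero_t _ _ <| mem_support_iff.mp hw]
  refine sum_r_mul_ne f v w (fun i ↦ ?_) (fun i ↦ ?_) ne <;>
  exact lt_of_le_of_lt ((monomial_le_degreeOf i ‹_›).trans (degreeOf_le_totalDegree f i))
    (by lia)

lemma leadingCoeff_finSuccEquiv_t :
    (finSuccEquiv k n ((T f) ((monomial v) (coeff v f)))).leadingCoeff =
    algebraMap k _ (coeff v f) := by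
  rw [monomial_eq, Finsupp.prod_fintype]
  · simp only [map_mul, map_prod, leadingCoeff_mul, leadingCoeff_prod]
    rw [AlgEquiv.ofAlgHom_apply, algHom_C, algebraMap_eq, finSuccEquiv_apply,
      eval₂Hom_C, coe_comp]
    simp only [AlgEquiv.ofAlgHom_apply, Function.comp_apply, leadingCoeff_C, map_pow,
      leadingCoeff_pow, algebraMap_eq]
    have : ∀ j, ((finSuccEquiv k n) ((T1 f) 1 (X j))).leadingCoeff = 1 := fun j ↦ by
      by_cases h : j = 0
      · simp [h, finSuccEquiv_apply]
      · simp only [aeval_eq_bind₁, bind₁_X_right, if_neg h, one_smul, map_add, map_pow]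
        obtain ⟨i, rfl⟩ := Fin.exists_succ_eq.mpr h
        simp [finSuccEquiv_X_succ, finSuccEquiv_X_zero, add_comm]
    simp only [this, one_pow, Finset.prod_const_one, mul_one]
  exact fun i ↦ pow_zero _

/-- `T` maps `f` into some polynomial in `X_0` such that the leading coefficient is invertible. -/
lemma T_leadingcoeff_isUnit (fne : f ≠ 0) :
    IsUnit (finSuccEquiv k n (T f f)).leadingCoeff := by
  obtain ⟨v, vin, vs⟩ := Finset.exists_max_image f.support
    (fun v ↦ (T f ((monomial v) (coeff v f))).degreeOf 0) (support_nonempty.mpr fne)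
  set h := fun w ↦ (MvPolynomial.monomial w) (coeff w f)
  simp only [← natDegree_finSuccEquiv] at vs
  replace vs : ∀ x ∈ f.support \ {v}, (finSuccEquiv k n ((T f) (h x))).degree <
      (finSuccEquiv k n ((T f) (h v))).degree := by
    intro x hx
    obtain ⟨h1, h2⟩ := Finset.mem_sdiff.mp hx
    apply degree_lt_degree <| lt_of_le_of_ne (vs x h1) ?_
    simpa only [natDegree_finSuccEquiv]
      using degreeOf_t_ne_of_ne f _ _ h1 vin <| ne_of_not_mem_cons h2
  have coeff : (finSuccEquiv k n ((T f) (h v + ∑ x ∈ f.support \ {v}, h x))).leadingCoeff =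
      (finSuccEquiv k n ((T f) (h v))).leadingCoeff := by
    simp only [map_add, map_sum]
    rw [add_comm]
    apply leadingCoeff_add_of_degree_lt <| (lt_of_le_of_lt <| degree_sum_le _ _) ?_
    have h2 : h v ≠ 0 := by simpa [h] using mem_support_iff.mp vin
    replace h2 : (finSuccEquiv k n ((T f) (h v))) ≠ 0 := fun eq ↦ h2 <|
      by simpa only [map_eq_zero_iff _ (AlgEquiv.injective _)] using eq
    exact (Finset.sup_lt_iff <| Ne.bot_lt (fun x ↦ h2 <| degree_eq_bot.mp x)).mpr vs
  nth_rw 2 [← f.support_sum_monomial_coeff]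
  rw [Finset.sum_eq_add_sum_sdiff_singleton_of_mem vin h]
  rw [leadingCoeff_finSuccEquiv_t] at coeff
  simpa only [coeff, algebraMap_eq] using (mem_support_iff.mp vin).isUnit.map MvPolynomial.C

end equivT

theorem isIntegral_step (I : Ideal (MvPolynomial (Fin (n + 1)) k)) (fne : f ≠ 0) (fi : f ∈ I) :
    ((Ideal.Quotient.mkₐ k I).comp (MvPolynomial.aeval fun i : Fin n =>
      (MvPolynomial.X i.succ - MvPolynomial.X 0 ^ ((2 + f.totalDegree) ^ (i.succ : Fin (n + 1)).1) :
        MvPolynomial (Fin (n + 1)) k))).IsIntegral := by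
  set y : Fin n → MvPolynomial (Fin (n + 1)) k := fun i =>
    MvPolynomial.X i.succ - MvPolynomial.X 0 ^ ((2 + f.totalDegree) ^ (i.succ : Fin (n + 1)).1)
  set ψ := (Ideal.Quotient.mkₐ k I).comp (MvPolynomial.aeval y) with hψ
  let x : Fin (n + 1) → MvPolynomial (Fin (n + 1)) k ⧸ I := fun i => Ideal.Quotient.mkₐ k I (MvPolynomial.X i)
  let z : Fin (n + 1) → MvPolynomial (Fin (n + 1)) k ⧸ I := Fin.cons (x 0) fun i => ψ (MvPolynomial.X i)
  have hz : ∀ g, ((finSuccEquiv k n g).eval₂ ψ.toRingHom (x 0)) = MvPolynomial.aeval z g := by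
    intro g
    induction g using MvPolynomial.induction_on with
    | C a => simp [finSuccEquiv_apply]
    | add p q hp hq => rw [map_add, Polynomial.eval₂_add, hp, hq, map_add]
    | mul_X p i hp =>
      rw [map_mul, Polynomial.eval₂_mul, hp, map_mul, MvPolynomial.aeval_X]
      cases i using Fin.cases with
      | zero => simp [finSuccEquiv_X_zero, z]
      | succ j => simp [finSuccEquiv_X_succ, z]
  have hT : MvPolynomial.aeval z (T f f) = 0 := by
    have h : (MvPolynomial.aeval z).comp (T1 f 1) = Ideal.Quotient.mkₐ k I := by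
      refine MvPolynomial.algHom_ext fun i => ?_
      cases i using Fin.cases with
      | zero => simp [z, x]
      | succ j => simp [z, x, ψ, y]
    have := AlgHom.congr_fun h f
    rw [AlgHom.comp_apply] at this
    rw [AlgEquiv.ofAlgHom_apply, this, Ideal.Quotient.mkₐ_eq_mk, Ideal.Quotient.eq_zero_iff_mem]
    exact fi
  have hx0 : ψ.toRingHom.IsIntegralElem (x 0) := by
    have u := T_leadingcoeff_isUnit f fne
    refine ⟨_, monic_of_isUnit_leadingCoeff_inv_smul u, ?_⟩
    rw [Units.smul_def, Polynomial.smul_eq_C_mul, Polynomial.eval₂_mul, hz, hT, mul_zero]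
  intro b
  obtain ⟨b, rfl⟩ := Ideal.Quotient.mk_surjective b
  induction b using MvPolynomial.induction_on with
  | C a =>
    have : Ideal.Quotient.mk I (MvPolynomial.C a) = ψ.toRingHom (MvPolynomial.C a) := by
      simp [ψ]
      rfl
    rw [this]
    exact ψ.toRingHom.isIntegralElem_map
  | add p q hp hq => rw [map_add]; exact RingHom.IsIntegralElem.add _ hp hq
  | mul_X p i hp =>
    rw [map_mul]
    refine RingHom.IsIntegralElem.mul _ hp ?_
    cases i using Fin.cases with
    | zero => exact hx0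
    | succ j =>
      have : Ideal.Quotient.mk I (MvPolynomial.X j.succ) =
          ψ.toRingHom (MvPolynomial.X j) + x 0 ^ ((2 + f.totalDegree) ^ (j.succ : Fin (n + 1)).1) := by
        simp [ψ, y, x]
      rw [this]
      refine RingHom.IsIntegralElem.add _ ψ.toRingHom.isIntegralElem_map ?_
      algebraize [ψ.toRingHom]
      exact IsIntegral.pow hx0 _

/-- Polynomials with integer coefficients. -/
def intPolys (k : Type*) [Field k] (n : ℕ) : Set (MvPolynomial (Fin n) k) :=
  Set.range (MvPolynomial.map (Int.castRingHom k) : MvPolynomial (Fin n) ℤ → MvPolynomial (Fin n) k)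

theorem exists_normalization_int : ∀ (n : ℕ) (I : Ideal (MvPolynomial (Fin n) k)), I ≠ ⊤ →
    ∃ (r : ℕ) (y : Fin r → MvPolynomial (Fin n) k), (∀ i, y i ∈ intPolys k n) ∧
      Function.Injective ((Ideal.Quotient.mkₐ k I).comp (MvPolynomial.aeval y)) ∧
      ((Ideal.Quotient.mkₐ k I).comp (MvPolynomial.aeval y)).IsIntegral := by
  intro n
  have hbot : ∀ n, ∃ (r : ℕ) (y : Fin r → MvPolynomial (Fin n) k), (∀ i, y i ∈ intPolys k n) ∧
      Function.Injective ((Ideal.Quotient.mkₐ k (⊥ : Ideal (MvPolynomial (Fin n) k))).comp (MvPolynomial.aeval y)) ∧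
      ((Ideal.Quotient.mkₐ k (⊥ : Ideal (MvPolynomial (Fin n) k))).comp (MvPolynomial.aeval y)).IsIntegral := by
    intro n
    refine ⟨n, MvPolynomial.X, fun i => ⟨MvPolynomial.X i, by simp⟩, ?_, ?_⟩
    · rw [MvPolynomial.aeval_X_left, AlgHom.comp_id]
      exact ((Ideal.Quotient.mk_bijective_iff_eq_bot _).mpr rfl).1
    · rw [MvPolynomial.aeval_X_left, AlgHom.comp_id]
      exact RingHom.isIntegral_of_surjective _ (Ideal.Quotient.mkₐ_surjective k _)
  induction n with
  | zero =>
    intro I hI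
    have hI0 : I = ⊥ := by
      rw [eq_bot_iff]
      intro a ha
      by_contra ha0
      rw [Submodule.mem_bot] at ha0
      refine hI (Ideal.eq_top_of_isUnit_mem _ ha ?_)
      rw [MvPolynomial.eq_C_of_isEmpty a] at ha0 ⊢
      exact (isUnit_iff_ne_zero.mpr (fun h => ha0 (by rw [h, map_zero]))).map _
    subst hI0
    exact hbot 0
  | succ d hd =>
    intro I hI
    by_cases eqi : I = ⊥
    · subst eqi
      exact hbot _
    obtain ⟨f, fi, fne⟩ := Submodule.exists_mem_ne_zero_of_ne_bot eqi
    set ψ := (Ideal.Quotient.mkₐ k I).comp (MvPolynomial.aeval fun i : Fin d =>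
      (MvPolynomial.X i.succ - MvPolynomial.X 0 ^ ((2 + f.totalDegree) ^ (i.succ : Fin (d + 1)).1) :
        MvPolynomial (Fin (d + 1)) k)) with hψ
    have hint : ψ.IsIntegral := isIntegral_step f I fne fi
    haveI : Nontrivial (MvPolynomial (Fin (d + 1)) k ⧸ I) := Quotient.nontrivial_iff.mpr hI
    obtain ⟨r, y, hy, hinj, hyint⟩ := hd (RingHom.ker ψ) (RingHom.ker_ne_top ψ)
    refine ⟨r, fun j => MvPolynomial.bind₁ (fun i : Fin d => (MvPolynomial.X i.succ -
        MvPolynomial.X 0 ^ ((2 + f.totalDegree) ^ (i.succ : Fin (d + 1)).1) : MvPolynomial (Fin (d + 1)) k)) (y j),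
      fun j => ?_, ?_⟩
    · obtain ⟨q, hq⟩ := hy j
      refine ⟨MvPolynomial.bind₁ (fun i : Fin d => (MvPolynomial.X i.succ -
        MvPolynomial.X 0 ^ ((2 + f.totalDegree) ^ (i.succ : Fin (d + 1)).1) : MvPolynomial (Fin (d + 1)) ℤ)) q, ?_⟩
      rw [MvPolynomial.map_bind₁, hq]
      simp
    have hc : (Ideal.Quotient.mkₐ k I).comp (MvPolynomial.aeval fun j => MvPolynomial.bind₁ (fun i : Fin d =>
        (MvPolynomial.X i.succ - MvPolynomial.X 0 ^ ((2 + f.totalDegree) ^ (i.succ : Fin (d + 1)).1) :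
          MvPolynomial (Fin (d + 1)) k)) (y j)) =
        (Ideal.kerLiftAlg ψ).comp ((Ideal.Quotient.mkₐ k (RingHom.ker ψ)).comp (MvPolynomial.aeval y)) := by
      refine MvPolynomial.algHom_ext fun j => ?_
      simp only [AlgHom.comp_apply, MvPolynomial.aeval_X, Ideal.Quotient.mkₐ_eq_mk, Ideal.kerLiftAlg_mk]
      rfl
    rw [hc]
    refine ⟨(Ideal.kerLiftAlg_injective ψ).comp hinj, RingHom.IsIntegral.trans _ _ hyint ?_⟩
    intro b
    obtain ⟨p, hp, hpb⟩ := hint b
    refine ⟨p.map (Ideal.Quotient.mk (RingHom.ker ψ)), hp.map _, ?_⟩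
    rw [Polynomial.eval₂_map]
    exact hpb

end Groth.L01.NoetherInt
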