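import Mathlib.RingTheory.IntegralClosure.IntegrallyClosed
import Mathlib.RingTheory.Localization.Integral
import Mathlib.RingTheory.Localization.LocalizationLocalization
import Mathlib.RingTheory.Localization.AtPrime.Basic
import Mathlib.RingTheory.Localization.Away.Basic
import Mathlib.RingTheory.Ideal.AssociatedPrime.Finiteness
import Mathlib.RingTheory.Ideal.AssociatedPrime.Localization
import Mathlib.RingTheory.Spectrum.Prime.Topology
import Mathlib.Tactic.LinearCombination

/-!
Openness of the normal locus of a Noetherian domain with a normal basic open.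
-/

universe u

namespace Groth.L01.NormalLocus

variable {R : Type u} [CommRing R] [IsDomain R]

/-- `p` is a normal point: every element of the fraction field integral over `R` has a denominator
outside `p`. -/
def NormalAt (p : Ideal R) : Prop :=
  ∀ x : FractionRing R, IsIntegral R x → ∃ s, s ∉ p ∧ ∃ r : R, algebraMap R _ s * x = algebraMap R _ r

theorem NormalAt.mono {p q : Ideal R} (h : p ≤ q) (hq : NormalAt q) : NormalAt p := fun x hx => by
  obtain ⟨s, hs, r, hr⟩ := hq x hx
  exact ⟨s, fun h' => hs (h h'), r, hr⟩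

theorem isIntegrallyClosed_localization_iff (M : Submonoid R) (hM : M ≤ nonZeroDivisors R)
    (L : Type u) [CommRing L] [Algebra R L] [IsLocalization M L] :
    IsIntegrallyClosed L ↔ ∀ x : FractionRing R, IsIntegral R x →
      ∃ s ∈ M, ∃ r : R, algebraMap R _ s * x = algebraMap R _ r := by
  let K := FractionRing R
  letI : Algebra L K := IsLocalization.localizationAlgebraOfSubmonoidLe L K M (nonZeroDivisors R) hM
  haveI : IsScalarTower R L K :=
    IsLocalization.localization_isScalarTower_of_submonoid_le L K M (nonZeroDivisors R) hM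
  haveI : IsFractionRing L K := IsFractionRing.isFractionRing_of_isDomain_of_isLocalization M L K
  rw [isIntegrallyClosed_iff K]
  refine ⟨fun h x hx => ?_, fun h y hy => ?_⟩
  · obtain ⟨l, hl⟩ := h (hx.tower_top (A := L))
    obtain ⟨r, s, rfl⟩ := IsLocalization.exists_mk'_eq M l
    refine ⟨s, s.2, r, ?_⟩
    rw [← hl, IsScalarTower.algebraMap_apply R L K, IsScalarTower.algebraMap_apply R L K r, ← map_mul,
      IsLocalization.mk'_spec']
  · obtain ⟨⟨s, hs⟩, hsy⟩ := IsIntegral.exists_multiple_integral_of_isLocalization M y hy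
    obtain ⟨t, ht, r, hr⟩ := h _ hsy
    refine ⟨IsLocalization.mk' L r (⟨t * s, mul_mem ht hs⟩ : M), ?_⟩
    have hne : algebraMap R K (t * s) ≠ 0 :=
      IsFractionRing.to_map_ne_zero_of_mem_nonZeroDivisors (hM (mul_mem ht hs))
    apply mul_left_cancel₀ hne
    rw [Submonoid.smul_def, Algebra.smul_def] at hr
    conv_rhs => rw [map_mul, mul_assoc, hr]
    rw [IsScalarTower.algebraMap_apply R L K, ← map_mul, IsLocalization.mk'_spec'_mk,
      ← IsScalarTower.algebraMap_apply]

theorem isIntegrallyClosed_atPrime_iff (p : Ideal R) [p.IsPrime] :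
    IsIntegrallyClosed (Localization.AtPrime p) ↔ NormalAt p :=
  isIntegrallyClosed_localization_iff p.primeCompl p.primeCompl_le_nonZeroDivisors _

theorem exists_pow_of_normal_away {f : R} (hf : f ≠ 0) (hn : IsIntegrallyClosed (Localization.Away f))
    (x : FractionRing R) (hx : IsIntegral R x) :
    ∃ n, ∃ r : R, algebraMap R _ (f ^ n) * x = algebraMap R _ r := by
  obtain ⟨s, hs, r, hr⟩ := (isIntegrallyClosed_localization_iff (Submonoid.powers f)
    (powers_le_nonZeroDivisors_of_noZeroDivisors hf) _).mp hn x hx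
  obtain ⟨n, rfl⟩ := hs
  exact ⟨n, r, hr⟩

variable [IsNoetherianRing R]

theorem associatedPrimes_pow_subset {f : R} (hf : f ≠ 0) :
    ∀ n, associatedPrimes R (R ⧸ Ideal.span {f ^ (n + 1)}) ⊆ associatedPrimes R (R ⧸ Ideal.span {f})
  | 0 => by rw [zero_add, pow_one]
  | n + 1 => by
    let i : (R ⧸ Ideal.span {f ^ (n + 1)}) →ₗ[R] (R ⧸ Ideal.span {f ^ (n + 2)}) :=
      Submodule.mapQ _ _ (LinearMap.mulLeft R f) (by
        intro x hx
        obtain ⟨c, rfl⟩ := Ideal.mem_span_singleton'.mp hx
        exact Ideal.mem_span_singleton'.mpr ⟨c, by simp; ring⟩)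
    let q : (R ⧸ Ideal.span {f ^ (n + 2)}) →ₗ[R] (R ⧸ Ideal.span {f}) :=
      Submodule.factor (Ideal.span_singleton_le_span_singleton.mpr (dvd_pow_self f (by omega)))
    refine (associatedPrimes.subset_union_of_exact (f := i) (g := q) ?_ ?_).trans
      (Set.union_subset (associatedPrimes_pow_subset hf n) le_rfl)
    · rw [← LinearMap.ker_eq_bot, LinearMap.ker_eq_bot']
      intro a ha
      obtain ⟨a, rfl⟩ := Submodule.Quotient.mk_surjective _ a
      rw [Submodule.mapQ_apply, Submodule.Quotient.mk_eq_zero, LinearMap.mulLeft_apply,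
        Ideal.mem_span_singleton'] at ha
      obtain ⟨c, hc⟩ := ha
      rw [Submodule.Quotient.mk_eq_zero, Ideal.mem_span_singleton']
      exact ⟨c, mul_left_cancel₀ hf (by rw [← hc]; ring)⟩
    · intro a
      obtain ⟨a, rfl⟩ := Submodule.Quotient.mk_surjective _ a
      refine ⟨fun ha => ?_, ?_⟩
      · change Submodule.Quotient.mk a = 0 at ha
        rw [Submodule.Quotient.mk_eq_zero, Ideal.mem_span_singleton'] at ha
        obtain ⟨c, rfl⟩ := ha
        exact ⟨Submodule.Quotient.mk c, by rw [Submodule.mapQ_apply, LinearMap.mulLeft_apply, mul_comm]⟩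
      · rintro ⟨b, hb⟩
        obtain ⟨b, rfl⟩ := Submodule.Quotient.mk_surjective _ b
        rw [← hb]
        change Submodule.Quotient.mk (f * b) = 0
        rw [Submodule.Quotient.mk_eq_zero]
        exact Ideal.mem_span_singleton'.mpr ⟨b, by simp [mul_comm]⟩

/-- The obstructions to normality: non-normal associated primes of `R / f`. -/
def bad (f : R) : Set (Ideal R) := {P ∈ associatedPrimes R (R ⧸ Ideal.span {f}) | ¬ NormalAt P}

theorem bad_finite (f : R) : (bad f).Finite := (associatedPrimes.finite R _).subset (fun _ h => h.1)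

theorem normalAt_of_forall_bad {f : R} (hf : f ≠ 0) (hn : IsIntegrallyClosed (Localization.Away f))
    (p : Ideal R) [p.IsPrime] (h : ∀ P ∈ bad f, ¬ P ≤ p) : NormalAt p := by
  intro x hx
  obtain ⟨n, a, ha⟩ := exists_pow_of_normal_away hf hn x hx
  by_contra hcon
  push Not at hcon
  let J : Ideal R := Submodule.comap (LinearMap.mulLeft R (f * a)) (Ideal.span {f ^ (n + 1)})
  have hJ : ∀ s, s ∈ J ↔ ∃ r : R, algebraMap R (FractionRing R) s * x = algebraMap R _ r := by
    intro s
    have hne : algebraMap R (FractionRing R) (f ^ n) ≠ 0 :=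
      IsFractionRing.to_map_ne_zero_of_mem_nonZeroDivisors (mem_nonZeroDivisors_of_ne_zero (pow_ne_zero n hf))
    simp only [J, Submodule.mem_comap, LinearMap.mulLeft_apply, Ideal.mem_span_singleton']
    constructor
    · rintro ⟨r, hr⟩
      have hr' : s * a = f ^ n * r := mul_left_cancel₀ hf (by linear_combination -hr)
      exact ⟨r, mul_left_cancel₀ hne (by rw [mul_left_comm, ha, ← map_mul, hr', map_mul])⟩
    · rintro ⟨r, hr⟩
      refine ⟨r, ?_⟩
      have : f ^ n * r = s * a := IsFractionRing.injective R (FractionRing R)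
        (by rw [map_mul, map_mul, ← hr, ← ha]; ring)
      linear_combination f * this
  have hJp : J ≤ p := fun s hs => by
    by_contra hsp
    obtain ⟨r, hr⟩ := (hJ s).mp hs
    exact hcon s hsp r hr
  obtain ⟨P, hP, hPp⟩ := Ideal.exists_minimalPrimes_le hJp
  have hPJ : P ∈ associatedPrimes R (R ⧸ J) :=
    Module.associatedPrimes.minimalPrimes_annihilator_subset_associatedPrimes R (R ⧸ J) (by rwa [Ideal.annihilator_quotient])
  have hass : P ∈ associatedPrimes R (R ⧸ Ideal.span {f ^ (n + 1)}) := by
    refine associatedPrimes.subset_of_injective (f := Submodule.mapQ J _ (LinearMap.mulLeft R (f * a)) le_rfl) ?_ hPJ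
    rw [← LinearMap.ker_eq_bot]
    exact Submodule.ker_liftQ_eq_bot _ _ _ (by rw [LinearMap.ker_comp, Submodule.ker_mkQ])
  have hnorm : NormalAt P := by
    by_contra hb
    exact h P ⟨associatedPrimes_pow_subset hf n hass, hb⟩ hPp
  obtain ⟨s, hs, r, hr⟩ := hnorm x hx
  exact hs (hP.1.2 ((hJ s).mpr ⟨r, hr⟩))

theorem isOpen_normalAt {f : R} (hf : f ≠ 0) (hn : IsIntegrallyClosed (Localization.Away f)) :
    IsOpen {p : PrimeSpectrum R | NormalAt p.asIdeal} := by
  have hset : {p : PrimeSpectrum R | NormalAt p.asIdeal} =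
      (⋃ P ∈ bad f, PrimeSpectrum.zeroLocus (P : Set R))ᶜ := by
    ext p
    simp only [Set.mem_ofPred_eq, Set.mem_compl_iff, Set.mem_iUnion, PrimeSpectrum.mem_zeroLocus,
      SetLike.coe_subset_coe, not_exists]
    exact ⟨fun h P hP hle => hP.2 (h.mono hle), fun h => normalAt_of_forall_bad hf hn p.asIdeal h⟩
  rw [hset, isOpen_compl_iff]
  exact (bad_finite f).isClosed_biUnion fun P _ => PrimeSpectrum.isClosed_zeroLocus _

end Groth.L01.NormalLocus
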