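import Groth.Prelude.Def_W4bk4bump814p2PDiff
import Mathlib.RingTheory.WittVector.Teichmuller
import Mathlib.RingTheory.WittVector.Identities
import Mathlib.RingTheory.WittVector.WittPolynomial
import Mathlib.Algebra.MvPolynomial.PDeriv
import Mathlib.Algebra.MvPolynomial.Funext
import Mathlib.FieldTheory.Perfect
import Mathlib.Algebra.CharP.Algebra
import Mathlib.Tactic.LinearCombination

/-!
The filtration of Kaehler differentials by `x ^ (p ^ i - 1) dx`.
-/

set_option autoImplicit false
universe u v

namespace Groth.L01.PDiff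

open MvPolynomial W4bk4bump814p2

variable (p : ℕ) [Fact p.Prime]

/-- Components of the Witt sum of two Teichmüller representatives. -/
noncomputable def S (j : ℕ) : MvPolynomial (Fin 2) ℤ :=
  (WittVector.teichmuller p (X 0) + WittVector.teichmuller p (X 1) :
    WittVector p (MvPolynomial (Fin 2) ℤ)).coeff j

theorem S_zero : S p 0 = X 0 + X 1 := by
  simp [S, WittVector.add_coeff_zero]

theorem sum_S (i : ℕ) :
    ∑ j ∈ Finset.range (i + 1), C ((p : ℤ) ^ j) * S p j ^ p ^ (i - j) =
      (X 0 ^ p ^ i + X 1 ^ p ^ i : MvPolynomial (Fin 2) ℤ) := by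
  have h := map_add (WittVector.ghostComponent i)
    (WittVector.teichmuller p (X 0 : MvPolynomial (Fin 2) ℤ)) (WittVector.teichmuller p (X 1))
  rw [WittVector.ghostComponent_teichmuller, WittVector.ghostComponent_teichmuller,
    WittVector.ghostComponent_apply, wittPolynomial_eq_sum_C_mul_X_pow] at h
  rw [← h]
  simp [S]

theorem sum_pderiv (i : ℕ) (k : Fin 2) :
    ∑ j ∈ Finset.range (i + 1), S p j ^ (p ^ (i - j) - 1) * pderiv k (S p j) =
      X k ^ (p ^ i - 1) := by
  have h := congrArg (pderiv k) (sum_S p i)
  rw [map_sum, map_add] at h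
  have hp : (C ((p : ℤ) ^ i) : MvPolynomial (Fin 2) ℤ) ≠ 0 := by
    rw [Ne, C_eq_zero]; exact pow_ne_zero _ (by exact_mod_cast (Fact.out : p.Prime).ne_zero)
  refine mul_left_cancel₀ hp ?_
  rw [Finset.mul_sum]
  refine ((Finset.sum_congr rfl fun j hj => ?_).trans h).trans ?_
  · have hj' : j + (i - j) = i := by have := Finset.mem_range.1 hj; omega
    rw [pderiv_mul, pderiv_C, zero_mul, zero_add, pderiv_pow]
    conv_lhs => rw [← hj', pow_add, map_mul, map_pow C (p : ℤ) (i - j), hj']
    simp only [Nat.cast_pow, map_natCast]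
    ring
  · fin_cases k <;> simp [pderiv_pow, pderiv_X_of_ne, mul_comm]

variable (K : Type u) (A : Type v) [CommRing K] [CommRing A] [Algebra K A]

theorem D_aeval (v : Fin 2 → A) (F : MvPolynomial (Fin 2) ℤ) :
    KaehlerDifferential.D K A (aeval v F) =
      ∑ k, aeval v (pderiv k F) • KaehlerDifferential.D K A (v k) := by
  induction F using MvPolynomial.induction_on with
  | C r => simp
  | add f g hf hg => simp only [map_add, hf, hg, add_smul, Finset.sum_add_distrib]
  | mul_X f n hf =>
    rw [map_mul, aeval_X, Derivation.leibniz, hf, Finset.smul_sum]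
    simp_rw [pderiv_mul, map_add, map_mul, aeval_X, add_smul, Finset.sum_add_distrib, smul_smul]
    rw [add_comm]
    congr 1
    · exact Finset.sum_congr rfl fun k _ => by rw [mul_comm]
    · rw [Finset.sum_eq_single n (fun k _ hk => by rw [pderiv_X_of_ne hk.symm, map_zero, mul_zero, zero_smul])
        (fun h => absurd (Finset.mem_univ _) h), pderiv_X_self, map_one, mul_one]

theorem delta_identity (i : ℕ) (x y : A) :
    ∑ j ∈ Finset.range (i + 1), delta K A p (i - j) (aeval ![x, y] (S p j)) =
      delta K A p i x + delta K A p i y := by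
  simp only [delta, D_aeval, Finset.smul_sum, smul_smul]
  rw [Finset.sum_comm, Fin.sum_univ_two]
  simp only [← Finset.sum_smul, ← map_pow, ← map_mul, ← map_sum, sum_pderiv]
  simp

/-- The subgroup generated by the `delta j` for `j < i`. -/
noncomputable def G (i : ℕ) : AddSubgroup (Ω[A⁄K]) :=
  AddSubgroup.closure (⋃ j ∈ Finset.range i, Set.range (delta K A p j))

variable {K A} in
omit [Fact p.Prime] in
theorem delta_mem {i j : ℕ} (hj : j < i) (x : A) : delta K A p j x ∈ G p K A i :=
  AddSubgroup.subset_closure (Set.mem_biUnion (Finset.mem_range.2 hj) ⟨x, rfl⟩)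

theorem delta_add_sub_mem (i : ℕ) (x y : A) :
    delta K A p i (x + y) - delta K A p i x - delta K A p i y ∈ G p K A i := by
  have h := delta_identity p K A i x y
  rw [Finset.sum_range_succ', Nat.sub_zero, S_zero] at h
  simp only [map_add, aeval_X, Matrix.cons_val_zero, Matrix.cons_val_one] at h
  rw [sub_sub, ← h, sub_add_cancel_right]
  exact neg_mem (sum_mem fun j hj => delta_mem p (by have := Finset.mem_range.1 hj; omega) _)

omit [Fact p.Prime] in
theorem delta_zero (i : ℕ) : delta K A p i (0 : A) = 0 := by simp [delta]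

theorem sigma_eq (i : ℕ) : sigma K A p i = (G p K A i : Set (Ω[A⁄K])) := by
  induction i with
  | zero => simp [G]
  | succ i ih =>
    ext ω
    rw [mem_sigma_succ, ih]
    constructor
    · rintro ⟨x, hx⟩
      rw [SetLike.mem_coe, show ω = (ω - delta K A p i x) + delta K A p i x by abel]
      refine add_mem ?_ (delta_mem p i.lt_succ_self x)
      refine (AddSubgroup.closure_mono ?_ : G p K A i ≤ G p K A (i + 1)) hx
      exact Set.biUnion_subset_biUnion_left (Finset.coe_subset.2 (Finset.range_mono i.le_succ))
    · intro hω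
      induction hω using AddSubgroup.closure_induction with
      | mem z hz =>
        obtain ⟨j, hj, x, rfl⟩ := Set.mem_iUnion₂.1 hz
        rcases (Nat.lt_succ_iff_lt_or_eq.1 (Finset.mem_range.1 hj)) with hj | rfl
        · exact ⟨0, by rw [delta_zero, sub_zero]; exact delta_mem p hj x⟩
        · exact ⟨x, by rw [sub_self]; exact zero_mem _⟩
      | zero => exact ⟨0, by rw [delta_zero, sub_zero]; exact zero_mem _⟩
      | add a b _ _ ha hb =>
        obtain ⟨x, hx⟩ := ha
        obtain ⟨y, hy⟩ := hb
        refine ⟨x + y, ?_⟩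
        rw [show a + b - delta K A p i (x + y) = (a - delta K A p i x) + (b - delta K A p i y) -
          (delta K A p i (x + y) - delta K A p i x - delta K A p i y) by abel]
        exact sub_mem (add_mem hx hy) (delta_add_sub_mem p K A i x y)
      | neg a _ ha =>
        obtain ⟨x, hx⟩ := ha
        refine ⟨-x, ?_⟩
        have h := delta_add_sub_mem p K A i x (-x)
        rw [add_neg_cancel, delta_zero] at h
        rw [show -a - delta K A p i (-x) = -(a - delta K A p i x) +
          (0 - delta K A p i x - delta K A p i (-x)) by abel]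
        exact add_mem (neg_mem hx) h

omit [Fact p.Prime] in
theorem delta_mul (j : ℕ) (hq : 1 ≤ p ^ j) (a y : A) :
    delta K A p j (a * y) = a ^ (p ^ j) • delta K A p j y + y ^ (p ^ j) • delta K A p j a := by
  obtain ⟨q, hq⟩ : ∃ q, p ^ j = q + 1 := ⟨p ^ j - 1, by omega⟩
  simp only [delta, hq, Nat.add_sub_cancel, Derivation.leibniz, smul_add, smul_smul]
  ring_nf

end Groth.L01.PDiff
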