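import Groth.Agent.L28.Kun.Shift
import Groth.Prelude.Def_DRing2
import Mathlib.CategoryTheory.Abelian.Projective.Dimension
import Mathlib.Algebra.Homology.Augment

/-!
Projective dimension and resolutions of modules: syzygy step, finite-length resolutions,
vanishing of Tor above the projective dimension.
-/

set_option autoImplicit false
universe u

open CategoryTheory CategoryTheory.Limits

namespace Groth.L01.PdRes

variable {R : Type u} [CommRing R]

/-- A free cover of a module and its kernel. -/
theorem exists_cover (N : Type u) [AddCommGroup N] [Module R N] :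
    ∃ (K G : Type u) (_ : AddCommGroup K) (_ : Module R K) (_ : AddCommGroup G) (_ : Module R G)
      (_ : Module.Projective R G) (e : K →ₗ[R] G) (π : G →ₗ[R] N),
      Function.Injective e ∧ Function.Exact e π ∧ Function.Surjective π := by
  let π : (N →₀ R) →ₗ[R] N := Finsupp.linearCombination R id
  exact ⟨LinearMap.ker π, N →₀ R, inferInstance, inferInstance, inferInstance, inferInstance, inferInstance,
    (LinearMap.ker π).subtype, π, Subtype.val_injective,
    LinearMap.exact_subtype_ker_map π, Finsupp.linearCombination_id_surjective R N⟩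

/-- Dimension shifting for the projective dimension. -/
theorem pdLT_step {K G N : Type u} [AddCommGroup K] [Module R K] [AddCommGroup G] [Module R G]
    [Module.Projective R G] [AddCommGroup N] [Module R N] (e : K →ₗ[R] G) (π : G →ₗ[R] N)
    (he : Function.Injective e) (hex : Function.Exact e π) (hπ : Function.Surjective π) (n : ℕ) :
    HasProjectiveDimensionLT (ModuleCat.of R N) (n + 2) ↔
      HasProjectiveDimensionLT (ModuleCat.of R K) (n + 1) := by
  have hS : (ShortComplex.mk (ModuleCat.ofHom e) (ModuleCat.ofHom π)
      (by ext x; exact hex.apply_apply_eq_zero x)).ShortExact :=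
    { exact := (ShortComplex.moduleCat_exact_iff _).mpr fun x hx => (hex x).mp hx
      mono_f := (ModuleCat.mono_iff_injective _).mpr he
      epi_g := (ModuleCat.epi_iff_surjective _).mpr hπ }
  exact hS.hasProjectiveDimensionLT_X₃_iff n ((IsProjective.iff_projective _).mp inferInstance)

/-- A resolution by projective modules is a projective resolution. -/
theorem exists_projRes_of_isRes {M : ModuleCat.{u} R} (C : ChainComplex (ModuleCat.{u} R) ℕ)
    (ε : C.X 0 ⟶ M) (hC : Groth.L28.Balance.IsRes C ε) (hp : ∀ n, Projective (C.X n)) :
    ∃ P : ProjectiveResolution M, P.complex = C := by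
  have hd : C.d 1 0 ≫ ε = 0 := by ext x; exact hC.exact₀.apply_apply_eq_zero x
  let π : C ⟶ (ChainComplex.single₀ (ModuleCat.{u} R)).obj M := (C.toSingle₀Equiv _).symm ⟨ε, hd⟩
  have hπ : π.f 0 = ε := by simp [π]
  have hq : QuasiIso π := by
    refine Groth.L28.HomElt.quasiIso_of_bijective π fun j => ?_
    have hz : ∀ k, Subsingleton (((ChainComplex.single₀ (ModuleCat.{u} R)).obj M).X (k + 1)) :=
      fun k => ModuleCat.subsingleton_of_isZero (HomologicalComplex.isZero_single_obj_X _ _ _ _ (Nat.succ_ne_zero k))
    have hp : (ComplexShape.down ℕ).prev j = j + 1 := (ComplexShape.down ℕ).prev_eq' rfl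
    cases j with
    | zero =>
      haveI := hz 0
      refine ⟨(Groth.L28.HomElt.injective_homologyMap_iff π hp rfl).mpr fun x w _ he => ?_,
        (Groth.L28.HomElt.surjective_homologyMap_iff π hp rfl).mpr fun y _ => ?_⟩
      · rw [Subsingleton.elim w 0, map_zero, hπ] at he
        obtain ⟨u, hu⟩ := (hC.exact₀ x).mp he
        exact ⟨u, hu⟩
      · obtain ⟨x, hx⟩ := hC.surj y
        refine ⟨x, 0, by simp, ?_⟩
        rw [map_zero, add_zero, hπ]
        exact hx
    | succ k =>
      haveI := hz k
      haveI := hz (k + 1)
      have hn : (ComplexShape.down ℕ).next (k + 1) = k := (ComplexShape.down ℕ).next_eq' rfl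
      refine ⟨(Groth.L28.HomElt.injective_homologyMap_iff π hp hn).mpr fun x w hx _ => ?_,
        (Groth.L28.HomElt.surjective_homologyMap_iff π hp hn).mpr fun y _ =>
          ⟨0, 0, map_zero _, Subsingleton.elim _ _⟩⟩
      obtain ⟨u, hu⟩ := (hC.exact k x).mp hx
      exact ⟨u, hu⟩
  exact ⟨{ complex := C, projective := hp, π := π, quasiIso := hq }, rfl⟩

/-- A projective resolution of length at most `d`. -/
theorem exists_res_of_pdLE (d : ℕ) : ∀ (M : Type u) [AddCommGroup M] [Module R M],
    HasProjectiveDimensionLT (ModuleCat.of R M) (d + 1) →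
      ∃ (C : ChainComplex (ModuleCat.{u} R) ℕ) (ε : C.X 0 ⟶ ModuleCat.of R M),
        Groth.L28.Balance.IsRes C ε ∧ (∀ n, Projective (C.X n)) ∧ ∀ i, d < i → IsZero (C.X i) := by
  induction d with
  | zero =>
    intro M _ _ h
    haveI : Projective (ModuleCat.of R M) := projective_iff_hasProjectiveDimensionLT_one.mpr h
    haveI : Module.Projective R M := (IsProjective.iff_projective _).mpr inferInstance
    let C := (ChainComplex.single₀ (ModuleCat.{u} R)).obj (ModuleCat.of R M)
    have hz : ∀ k, IsZero (C.X (k + 1)) :=
      fun k => HomologicalComplex.isZero_single_obj_X _ _ _ _ (Nat.succ_ne_zero k)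
    refine ⟨C, 𝟙 _, ⟨fun x => ⟨x, rfl⟩, ?_, ?_, ?_⟩, ?_, ?_⟩
    · intro y
      haveI := ModuleCat.subsingleton_of_isZero (hz 0)
      constructor
      · intro hy; exact ⟨0, (map_zero _).trans hy.symm⟩
      · rintro ⟨x, rfl⟩; rw [Subsingleton.elim x 0, map_zero, map_zero]
    · intro k y
      haveI := ModuleCat.subsingleton_of_isZero (hz k)
      exact iff_of_true (by rw [Subsingleton.elim y 0, map_zero])
        ⟨0, Subsingleton.elim _ _⟩
    · intro n
      match n with
      | 0 => exact inferInstanceAs (Module.Flat R M)
      | k + 1 =>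
        haveI := ModuleCat.subsingleton_of_isZero (hz k)
        infer_instance
    · intro n
      match n with
      | 0 => exact ‹Projective (ModuleCat.of R M)›
      | k + 1 => exact (hz k).projective
    · intro i hi
      match i with
      | 0 => omega
      | k + 1 => exact hz k
  | succ d ih =>
    intro M _ _ h
    obtain ⟨K, G, _, _, _, _, _, e, π, he, hex, hπ⟩ := exists_cover (R := R) M
    obtain ⟨C, ε, hC, hp, hz⟩ := ih K ((pdLT_step e π he hex hπ d).mp h)
    refine ⟨ChainComplex.augment C (ε ≫ ModuleCat.ofHom e) ?_, ModuleCat.ofHom π, ⟨hπ, ?_, ?_, ?_⟩, ?_, ?_⟩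
    · ext x; exact (congrArg e (hC.exact₀.apply_apply_eq_zero x)).trans (map_zero e)
    · intro g
      constructor
      · intro hg
        obtain ⟨k, rfl⟩ := (hex g).mp hg
        obtain ⟨r, rfl⟩ := hC.surj k
        exact ⟨r, rfl⟩
      · rintro ⟨r, rfl⟩
        exact hex.apply_apply_eq_zero _
    · intro n
      match n with
      | 0 =>
        intro r
        constructor
        · intro hr
          exact (hC.exact₀ r).mp (he (hr.trans (map_zero e).symm))
        · rintro ⟨y, rfl⟩
          exact (congrArg e (hC.exact₀.apply_apply_eq_zero y)).trans (map_zero e)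
      | n + 1 => exact hC.exact n
    · intro n
      match n with
      | 0 => exact inferInstanceAs (Module.Flat R G)
      | n + 1 => exact hC.flat n
    · intro n
      match n with
      | 0 => exact (IsProjective.iff_projective _).mp (inferInstanceAs (Module.Projective R G))
      | n + 1 => exact hp n
    · intro i hi
      match i with
      | 0 => omega
      | k + 1 => exact hz k (by omega)

/-- `Tor` vanishes above the projective dimension of the resolved variable. -/
theorem tor_isZero_of_pdLT (q : ℕ) : ∀ (M : ModuleCat.{u} R) (N : Type u) [AddCommGroup N] [Module R N],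
    HasProjectiveDimensionLT (ModuleCat.of R N) (q + 1) → ∀ i, q < i →
      IsZero (((CategoryTheory.Tor (ModuleCat.{u} R) i).obj M).obj (ModuleCat.of R N)) := by
  induction q with
  | zero =>
    intro M N _ _ h i hi
    haveI : Projective (ModuleCat.of R N) := projective_iff_hasProjectiveDimensionLT_one.mpr h
    haveI : Module.Projective R N := (IsProjective.iff_projective _).mpr inferInstance
    match i with
    | 0 => omega
    | k + 1 => exact Groth.L28.TorFacts.isZero_of_flat_right _ _ k
  | succ q ih =>
    intro M N _ _ h i hi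
    obtain ⟨K, G, _, _, _, _, _, e, π, he, hex, hπ⟩ := exists_cover (R := R) N
    match i with
    | 0 => omega
    | 1 => omega
    | k + 2 =>
      obtain ⟨f⟩ := Groth.L28.Kun.nonempty_tor_succ (M : Type u) e π he hex hπ k
      exact (ih M K ((pdLT_step e π he hex hπ q).mp h) (k + 1) (by omega)).of_iso f.toModuleIso

end Groth.L01.PdRes
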