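import Mathlib.RingTheory.LaurentSeries
import Mathlib.RingTheory.PowerSeries.Trunc
import Mathlib.RingTheory.PowerSeries.Inverse
import Mathlib.RingTheory.AdicCompletion.Completeness
import Mathlib.RingTheory.PicardGroup
import Groth.Agent.L05.Henselization.Pair
import Groth.Agent.L01.AvoidFibre
import Groth.Agent.L01.HensIdem

/-!
Every invertible module over `R((t))` comes from `R[1/t]` for a henselian local ring `R`.
-/

set_option autoImplicit false

open Polynomial IsLocalRing TensorProduct L02.CAlg.Horrocks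

namespace L01.PicLaurent

universe u

theorem smul_eq_smul_of_invertible {L : Type u} [CommRing L] {P : Type u} [AddCommGroup P] [Module L P]
    [Module.Invertible L P] (χ : P →ₗ[L] L) (x y : P) : χ x • y = χ y • x := by
  simpa using congrArg ((TensorProduct.lid L P).toLinearMap ∘ₗ χ.rTensor P) (Module.Invertible.tmul_comm (m₁ := x) (m₂ := y))

/-- Invertible modules which are ideals avoiding the special fibre. -/
theorem exists_ideal {R : Type u} [CommRing R] [HenselianLocalRing R] {B : Type u} [CommRing B] [Algebra R B]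
    [Algebra R[X] B] [IsScalarTower R R[X] B]
    (hB : Hens2.IsPairHenselization R[X] (Ideal.span {(X : R[X])}) B)
    {L : Type u} [CommRing L] [Algebra R L] [Algebra B L] [IsScalarTower R B L]
    [IsLocalization.Away (algebraMap R[X] B X) L] [Algebra R[X] L] [IsScalarTower R R[X] L]
    (hψ : algebraMap R[X] L X * algebraMap B L (algebraMap R[X] B X) = 1)
    (P : Type u) [AddCommGroup P] [Module L P] [Module.Invertible L P] :
    ∃ I : Ideal R[X], Module.Invertible R[X] I ∧ Nonempty (L ⊗[R[X]] I ≃ₗ[L] P) := by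
  classical
  let ψ : R[X] →ₐ[R] L := IsScalarTower.toAlgHom R R[X] L
  obtain ⟨hI, hJ⟩ := AvoidFibre.main_hens hB ψ hψ
  set τ := algebraMap R[X] B X
  set T := algebraMap B L τ
  set mL := (maximalIdeal R).map (algebraMap R L) with hmL
  have hmLB : mL = ((maximalIdeal R).map (algebraMap R B)).map (algebraMap B L) := by
    rw [hmL, IsScalarTower.algebraMap_eq R B L, ← Ideal.map_map]
  have hTu : IsUnit T := IsLocalization.Away.algebraMap_isUnit τ
  -- `L / m L` is a field
  have hmax : ∀ z ∉ mL, Ideal.span {z} ⊔ mL = ⊤ := by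
    intro z hz
    obtain ⟨j, b, hb⟩ := IsLocalization.Away.surj τ z
    have hbm : b ∉ (maximalIdeal R).map (algebraMap R B) := fun hbm => hz (by
      rw [hmLB, ← Ideal.mul_unit_mem_iff_mem _ (hTu.pow j), hb]
      exact Ideal.mem_map_of_mem _ hbm)
    obtain ⟨Q, u, hQ, rfl⟩ := HensWeier.exists_dist hB b hbm
    have h1 : algebraMap R[X] B Q - τ ^ Q.natDegree ∈ (maximalIdeal R).map (algebraMap R B) := by
      have h2 : Q - X ^ Q.natDegree ∈ (maximalIdeal R).map (C : R →+* R[X]) := Ideal.mem_map_C_iff.2 fun i => by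
        rw [← residue_eq_zero_iff, ← Polynomial.coeff_map, Polynomial.map_sub, hQ.2, Polynomial.map_pow,
          Polynomial.map_X, sub_self, coeff_zero]
      have h3 := Ideal.mem_map_of_mem (algebraMap R[X] B) h2
      rwa [Ideal.map_map, show (algebraMap R[X] B).comp C = algebraMap R B from
        (IsScalarTower.algebraMap_eq R R[X] B).symm, map_sub, map_pow] at h3
    have h4 : T ^ Q.natDegree ∈ Ideal.span {z} ⊔ mL := by
      have e : T ^ Q.natDegree = algebraMap B L ↑u⁻¹ * T ^ j * z - algebraMap B L (algebraMap R[X] B Q - τ ^ Q.natDegree) := by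
        rw [mul_assoc, mul_comm (T ^ j) z, hb, ← map_mul, mul_left_comm, u.inv_mul, mul_one, map_sub, map_pow]
        ring
      rw [e]
      refine sub_mem (Ideal.mem_sup_left (Ideal.mul_mem_left _ _ (Ideal.mem_span_singleton_self _)))
        (Ideal.mem_sup_right ?_)
      rw [hmLB]
      exact Ideal.mem_map_of_mem _ h1
    exact Ideal.eq_top_of_isUnit_mem _ h4 (hTu.pow _)
  have hne : mL ≠ ⊤ := fun h => by
    rw [hmLB, Ideal.eq_top_iff_one] at h
    obtain ⟨⟨⟨c, hc⟩, ⟨_, i, rfl⟩⟩, hxc⟩ := (IsLocalization.mem_map_algebraMap_iff (Submonoid.powers τ) L).1 h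
    obtain ⟨⟨_, e, rfl⟩, he⟩ := (IsLocalization.eq_iff_exists (Submonoid.powers τ) L).1
      (show algebraMap B L (τ ^ i) = algebraMap B L c by simpa using hxc)
    refine HensWeier.pow_notMem hB (e + i) ?_
    rw [pow_add, show τ ^ e * τ ^ i = τ ^ e * c from he]
    exact Ideal.mul_mem_left _ _ hc
  -- an embedding with image avoiding the special fibre
  obtain ⟨φ, x₁, hφx⟩ : ∃ (φ : P →ₗ[L] L) (x : P), φ x ∉ mL := by
    by_contra hcon
    push Not at hcon
    obtain ⟨z, hz⟩ := (Module.Invertible.bijective (R := L) (M := P)).2 1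
    refine hne ((Ideal.eq_top_iff_one _).2 ?_)
    rw [← hz]
    clear hz
    induction z using TensorProduct.induction_on with
    | zero => rw [map_zero]; exact zero_mem _
    | tmul f x => rw [contractLeft_apply]; exact hcon f x
    | add a b ha hb => rw [map_add]; exact add_mem ha hb
  set J : Ideal L := LinearMap.range φ with hJdef
  have hJm : J ⊔ mL = ⊤ := by
    refine top_le_iff.1 ((hmax _ hφx).symm.le.trans (sup_le_sup_right ?_ _))
    exact (Ideal.span_singleton_le_iff_mem _).2 ⟨x₁, rfl⟩
  obtain ⟨hIJ, hIm⟩ := hJ J hJm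
  obtain ⟨q, hqI, μ, hμ, hqμ⟩ := Submodule.mem_sup.1 ((Ideal.eq_top_iff_one _).1 hIm)
  have hμψ : ψ μ ∈ mL := by
    rw [hmL, ← ψ.comp_algebraMap, ← Ideal.map_map]
    exact Ideal.mem_map_of_mem ψ.toRingHom hμ
  obtain ⟨x₀, hx₀⟩ : ψ q ∈ J := hqI
  have hq1 : q.map (residue R) = 1 := AvoidFibre.map_residue_eq_one_iff.2 (by
    rw [← hqμ, add_sub_cancel_left]; exact hμ)
  -- `ψ q` is a nonzerodivisor
  have hreg : ∀ l : L, ψ q * l = 0 → l = 0 := by
    intro l hl
    obtain ⟨j, b, hb⟩ := IsLocalization.Away.surj τ l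
    have hq0 : IsUnit (q.coeff 0) := by
      rw [← IsLocalRing.residue_ne_zero_iff_isUnit, ← Polynomial.coeff_map, hq1, coeff_one_zero]
      exact one_ne_zero
    obtain ⟨iq, hiq⟩ := hq0.exists_left_inv
    set k := q.natDegree
    have hD : HensWeier.Dist (C iq * reflect k q) := by
      have hle : (C iq * reflect k q).natDegree ≤ k := by
        refine (natDegree_C_mul_le _ _).trans (natDegree_le_iff_coeff_eq_zero.2 fun i hi => ?_)
        rw [coeff_reflect, revAt_eq_self_of_lt hi]
        exact coeff_eq_zero_of_natDegree_lt hi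
      have hk : (C iq * reflect k q).coeff k = 1 := by
        rw [coeff_C_mul, coeff_reflect, revAt_le le_rfl, Nat.sub_self, hiq]
      refine ⟨monic_of_natDegree_le_of_coeff_eq_one _ hle hk, ?_⟩
      rw [le_antisymm hle (le_natDegree_of_ne_zero (by rw [hk]; exact one_ne_zero)), Polynomial.map_mul,
        Polynomial.map_C, ← reflect_map, hq1, reflect_one]
      have h1 := congrArg (residue R) hiq
      rw [map_mul, map_one, ← Polynomial.coeff_map, hq1, coeff_one_zero, mul_one] at h1
      rw [h1, map_one, one_mul]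
    have hTa : ∀ p : R[X], algebraMap B L (algebraMap R[X] B p) = aeval T p := fun p =>
      DFunLike.congr_fun (Polynomial.algHom_ext
        (f := (IsScalarTower.toAlgHom R B L).comp (IsScalarTower.toAlgHom R R[X] B)) (g := aeval T)
        (by rw [aeval_X]; rfl)) p
    have hψe : ψ q = aeval (ψ X) q :=
      DFunLike.congr_fun (Polynomial.algHom_ext (f := ψ) (g := aeval (ψ X)) (by rw [aeval_X])) q
    have h2 : algebraMap B L (algebraMap R[X] B (C iq * reflect k q) * b) = 0 := by
      rw [map_mul, hTa, map_mul, AvoidFibre.aeval_reflect (show T * ψ X = 1 by rw [mul_comm]; exact hψ) k q le_rfl, ← hψe,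
        ← hb]
      linear_combination (aeval T (C iq) * T ^ k * T ^ j) * hl
    obtain ⟨⟨_, e, rfl⟩, he⟩ := (IsLocalization.map_eq_zero_iff (Submonoid.powers τ) L _).1 h2
    have h3 := HensWeier.mul_eq_zero_of_dist hB hD (b := τ ^ e * b) (by rw [mul_left_comm]; exact he)
    refine (hTu.pow j).mul_left_eq_zero.1 ?_
    rw [hb, IsLocalization.map_eq_zero_iff (Submonoid.powers τ) L]
    exact ⟨⟨_, e, rfl⟩, h3⟩
  have hφinj : Function.Injective φ := by
    rw [← LinearMap.ker_eq_bot, LinearMap.ker_eq_bot']
    intro x hx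
    obtain ⟨n, i, p, hip⟩ := exists_retract L P
    have h1 : ψ q • x = 0 := by rw [← hx₀, smul_eq_smul_of_invertible φ x₀ x, hx, zero_smul]
    have h2 : i x = 0 := funext fun a => hreg _ (by
      have := congrFun (congrArg i h1) a
      rwa [map_smul, map_zero] at this)
    rw [← LinearMap.id_apply (R := L) x, ← hip, LinearMap.comp_apply, h2, map_zero]
  -- the inverse ideal
  set J' : Ideal L := LinearMap.range (Module.Dual.eval L P x₀) with hJ'def
  have hqJ' : ψ q ∈ J' := ⟨φ, hx₀⟩
  have hqJ : ψ q ∈ J := ⟨x₀, hx₀⟩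
  have htop : ∀ K : Ideal L, ψ q ∈ K → K ⊔ mL = ⊤ := fun K hK =>
    (Ideal.eq_top_iff_one _).2 (Submodule.mem_sup.2 ⟨ψ q, hK, ψ μ, hμψ, by rw [← map_add, hqμ, map_one]⟩)
  have hJJ' : J * J' = Ideal.span {ψ q} := by
    refine le_antisymm (Ideal.mul_le.2 ?_) ((Ideal.span_singleton_le_iff_mem _).2 ?_)
    · rintro _ ⟨y, rfl⟩ _ ⟨χ, rfl⟩
      refine Ideal.mem_span_singleton'.2 ⟨χ y, ?_⟩
      show χ y * ψ q = φ y * χ x₀
      have := congrArg χ (smul_eq_smul_of_invertible φ y x₀)
      rw [map_smul, map_smul, smul_eq_mul, smul_eq_mul, hx₀] at this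
      rw [this, mul_comm]
    · obtain ⟨z, hz⟩ := (Module.Invertible.bijective (R := L) (M := P)).2 1
      rw [← one_mul (ψ q), ← hz]
      clear hz
      induction z using TensorProduct.induction_on with
      | zero => rw [map_zero, zero_mul]; exact zero_mem _
      | tmul f y =>
        rw [contractLeft_apply, show f y * ψ q = φ y * f x₀ by
          have := congrArg f (smul_eq_smul_of_invertible φ y x₀)
          rw [map_smul, map_smul, smul_eq_mul, smul_eq_mul, hx₀] at this
          rw [this, mul_comm]]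
        exact Ideal.mul_mem_mul ⟨y, rfl⟩ ⟨f, rfl⟩
      | add a b ha hb => rw [map_add, add_mul]; exact add_mem ha hb
  set I := J.comap ψ.toRingHom with hIdef
  set I' := J'.comap ψ.toRingHom
  obtain ⟨hI'J', -⟩ := hJ J' (htop _ hqJ')
  have hqq : q * q ∈ I * I' := Ideal.mul_mem_mul hqJ hqJ'
  have htopR : ∀ K : Ideal R[X], q ∈ K ∨ q * q ∈ K → K ⊔ (maximalIdeal R).map (algebraMap R R[X]) = ⊤ := by
    intro K hK
    rcases hK with hK | hK
    · exact (Ideal.eq_top_iff_one _).2 (Submodule.mem_sup.2 ⟨q, hK, μ, hμ, hqμ⟩)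
    · refine (Ideal.eq_top_iff_one _).2 (Submodule.mem_sup.2 ⟨q * q, hK, μ * (1 + q), Ideal.mul_mem_right _ _ hμ, ?_⟩)
      linear_combination (1 + q) * hqμ
  have hII' : I * I' = Ideal.span {q} := by
    rw [← (hI _ (htopR _ (Or.inr hqq))).1, ← (hI _ (htopR (Ideal.span {q}) (Or.inl (Ideal.mem_span_singleton_self q)))).1]
    congr 1
    rw [Ideal.map_mul, hIJ, hI'J', hJJ', Ideal.map_span, Set.image_singleton]
    rfl
  haveI : Module.Invertible R[X] I := by
    let K := FractionRing R[X]
    let a := Algebra.linearMap R[X] K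
    have hqr : q ∈ nonZeroDivisors R[X] := by
      refine mem_nonZeroDivisors_iff_right.2 fun p hp => ?_
      -- `q` is congruent to one modulo `m`
      have hq0 : IsUnit (q.coeff 0) := by
        rw [← IsLocalRing.residue_ne_zero_iff_isUnit, ← Polynomial.coeff_map, hq1, coeff_one_zero]
        exact one_ne_zero
      by_contra h0
      have h1 := congrArg (fun f : R[X] => f.coeff p.natTrailingDegree) hp
      simp only [coeff_mul, coeff_zero] at h1
      rw [Finset.sum_eq_single (p.natTrailingDegree, 0)] at h1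
      · exact h0 (trailingCoeff_eq_zero.1 ((hq0.mul_left_eq_zero).1 h1))
      · rintro ⟨i, j⟩ hij hne'
        rw [Finset.HasAntidiagonal.mem_antidiagonal] at hij
        have hj : j ≠ 0 := fun hj => hne' (Prod.ext (by simp only; omega) hj)
        rw [coeff_eq_zero_of_lt_natTrailingDegree (p := p) (by simp only; omega), zero_mul]
      · intro hn; exact absurd (Finset.HasAntidiagonal.mem_antidiagonal.2 (add_zero _)) hn
    let iq : K := IsLocalization.mk' K (1 : R[X]) ⟨q, hqr⟩
    have h1 : Submodule.map a I * (Submodule.span R[X] {iq} * Submodule.map a I') = 1 := by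
      rw [mul_left_comm, show Submodule.map a I * Submodule.map a I' = Submodule.map a (I * I') from
          (Submodule.map_mul I I' (Algebra.ofId R[X] K)).symm, hII', Ideal.span, Submodule.map_span,
        Set.image_singleton, Submodule.span_mul_span, Set.singleton_mul_singleton, Submodule.one_eq_span]
      congr 2
      exact (IsLocalization.mk'_spec K (1 : R[X]) ⟨q, hqr⟩).trans (map_one _)
    let U : (Submodule R[X] K)ˣ := Units.mkOfMulEqOne _ _ h1
    haveI : Module.Invertible R[X] (Submodule.map a I) := inferInstanceAs (Module.Invertible R[X] (U : Submodule R[X] K))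
    exact Module.Invertible.congr (Submodule.equivMapOfInjective a (IsFractionRing.injective R[X] K) I).symm
  refine ⟨I, inferInstance, ?_⟩
  let f : I →ₗ[R[X]] J :=
    { toFun := fun x => ⟨ψ x.1, x.2⟩
      map_add' := fun x y => Subtype.ext (map_add ψ x.1 y.1)
      map_smul' := fun r x => Subtype.ext (by
        show ψ (r * x.1) = r • ψ x.1
        rw [map_mul, Algebra.smul_def]; rfl) }
  let F : L ⊗[R[X]] I →ₗ[L] J := f.liftBaseChange L
  have hsurj : Function.Surjective F := by
    rintro ⟨y, hy⟩
    rw [← hIJ] at hy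
    suffices h : ∀ y ∈ I.map ψ.toRingHom, ∀ hy : y ∈ J, (⟨y, hy⟩ : J) ∈ LinearMap.range F from h y hy _
    intro y hy
    induction hy using Submodule.span_induction with
    | mem z hz =>
      obtain ⟨w, hw, rfl⟩ := hz
      exact fun _ => ⟨1 ⊗ₜ ⟨w, hw⟩, by
        rw [LinearMap.liftBaseChange_tmul, one_smul]; rfl⟩
    | zero => exact fun _ => ⟨0, map_zero _⟩
    | add a b ha hb iha ihb =>
      intro hab
      obtain ⟨u, hu⟩ := iha (hIJ.le ha)
      obtain ⟨v, hv⟩ := ihb (hIJ.le hb)
      exact ⟨u + v, by rw [map_add, hu, hv]; rfl⟩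
    | smul c a ha iha =>
      intro hca
      obtain ⟨u, hu⟩ := iha (hIJ.le ha)
      exact ⟨c • u, by rw [map_smul, hu]; rfl⟩
  let eP : P ≃ₗ[L] J := LinearEquiv.ofInjective φ hφinj
  haveI : Module.Invertible L J := Module.Invertible.congr eP
  exact ⟨(LinearEquiv.ofBijective F (Module.Invertible.bijective_of_surjective hsurj)).trans eP.symm⟩

/-- The descent of an invertible module from `R((t))` to `R[1/t]`. -/
theorem exists_invertible {R : Type u} [CommRing R] [HenselianLocalRing R] [Algebra R[X] (LaurentSeries R)]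
    (halg : algebraMap R[X] (LaurentSeries R) =
      Polynomial.eval₂RingHom (HahnSeries.C) (HahnSeries.single (-1 : ℤ) (1 : R)))
    (M' : Type u) [AddCommGroup M'] [Module (LaurentSeries R) M'] [Module.Invertible (LaurentSeries R) M'] :
    ∃ (M : Type u) (_ : AddCommGroup M) (_ : Module R[X] M), Module.Invertible R[X] M ∧
      Nonempty (M' ≃ₗ[LaurentSeries R] LaurentSeries R ⊗[R[X]] M) := by
  classical
  let B := Groth.L05.Henselization.PairHens R[X] (Ideal.span {(X : R[X])})
  have hB : Hens2.IsPairHenselization R[X] (Ideal.span {(X : R[X])}) B :=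
    Groth.L05.Henselization.isPairHenselization _ _
  letI : Algebra R B := ((algebraMap R[X] B).comp C).toAlgebra
  haveI : IsScalarTower R R[X] B := IsScalarTower.of_algebraMap_eq fun _ => rfl
  set τ := algebraMap R[X] B X
  obtain ⟨L, _, _, _, _, _⟩ : ∃ (L : Type u) (_ : CommRing L) (_ : Algebra B L) (_ : Algebra R L)
      (_ : IsScalarTower R B L), IsLocalization.Away τ L :=
    ⟨Localization.Away τ, inferInstance, inferInstance, inferInstance, inferInstance, inferInstance⟩
  let c : R[X] →+* PowerSeries R := Polynomial.coeToPowerSeries.ringHom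
  obtain ⟨g, hg, -⟩ := hB.2 (PowerSeries R) (Ideal.span {PowerSeries.X}) c inferInstance (by
    rw [Ideal.map_span, Set.image_singleton, show c X = PowerSeries.X from Polynomial.coe_X])
  letI : Algebra B (PowerSeries R) := g.toAlgebra
  have hgc : ∀ p, algebraMap B (PowerSeries R) (algebraMap R[X] B p) = c p := RingHom.congr_fun hg
  have hgτ : algebraMap B (PowerSeries R) τ = PowerSeries.X := (hgc X).trans Polynomial.coe_X
  let σ : PowerSeries R →+* LaurentSeries R := HahnSeries.ofPowerSeries ℤ R
  letI : Algebra B (LaurentSeries R) := (σ.comp g).toAlgebra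
  haveI : IsScalarTower B (PowerSeries R) (LaurentSeries R) := IsScalarTower.of_algebraMap_eq fun b => by
    rw [LaurentSeries.coe_algebraMap]; rfl
  have hτLS : IsUnit (algebraMap B (LaurentSeries R) τ) := by
    rw [IsScalarTower.algebraMap_apply B (PowerSeries R) (LaurentSeries R), hgτ]
    exact IsLocalization.map_units (LaurentSeries R)
      (⟨PowerSeries.X, Submonoid.mem_powers _⟩ : Submonoid.powers (PowerSeries.X : PowerSeries R))
  letI : Algebra L (LaurentSeries R) := (IsLocalization.Away.lift τ hτLS).toAlgebra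
  have hlift : ∀ b, algebraMap L (LaurentSeries R) (algebraMap B L b) = algebraMap B (LaurentSeries R) b :=
    IsLocalization.Away.lift_eq τ hτLS
  haveI : IsScalarTower B L (LaurentSeries R) := IsScalarTower.of_algebraMap_eq fun b => (hlift b).symm
  haveI := hB.1
  have hspan : (Ideal.span {(X : R[X])}).map (algebraMap R[X] B) = Ideal.span {τ} := by
    rw [Ideal.map_span, Set.image_singleton]
  haveI : HenselianRing B (Ideal.span {τ}) := hspan ▸ hB.1
  have h : ApproxProj.Setup B (PowerSeries R) L (LaurentSeries R) τ := by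
    refine ⟨inferInstance, ?_, hB.1.jac (hspan ▸ Ideal.mem_span_singleton_self τ), ?_, fun m s => ?_, fun m b hb => ?_⟩
    · rw [hgτ]; exact inferInstance
    · rw [Ideal.mem_jacobson_bot, hgτ]
      intro y
      rw [PowerSeries.isUnit_iff_constantCoeff]
      simp
    · refine ⟨algebraMap R[X] B (PowerSeries.trunc m s), PowerSeries.mk fun i => PowerSeries.coeff (i + m) s, ?_⟩
      rw [hgc, hgτ, sub_eq_iff_eq_add]
      exact PowerSeries.eq_X_pow_mul_shift_add_trunc m s
    · obtain ⟨q, hq⟩ := HensWeier.exists_poly hB m b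
      obtain ⟨y, hy⟩ := Ideal.mem_span_singleton'.1 hq
      obtain ⟨w, hw⟩ := hb
      have h2 : (X : R[X]) ^ m ∣ q := Polynomial.X_pow_dvd_iff.2 fun d hd => by
        rw [← Polynomial.coeff_coe]
        show PowerSeries.coeff d (c q) = 0
        rw [← hgc, show algebraMap R[X] B q = b - y * τ ^ m by rw [hy]; ring, map_sub, hw, map_mul, map_pow,
          hgτ, mul_comm _ (PowerSeries.X ^ m), ← mul_sub, PowerSeries.coeff_X_pow_mul', if_neg (by omega)]
      obtain ⟨q', rfl⟩ := h2
      refine ⟨y + algebraMap R[X] B q', ?_⟩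
      rw [map_mul, map_pow] at hy
      linear_combination -hy
  -- descend a projective module
  have desc : ∀ (N : Type u) [AddCommGroup N] [Module (LaurentSeries R) N] [Module.Finite (LaurentSeries R) N]
      [Module.Projective (LaurentSeries R) N], ∃ (P : Type u) (_ : AddCommGroup P) (_ : Module L P),
        Module.Finite L P ∧ Module.Projective L P ∧ Nonempty (LaurentSeries R ⊗[L] P ≃ₗ[LaurentSeries R] N) := by
    intro N _ _ _ _
    obtain ⟨n, iN, pN, hN⟩ := exists_retract (LaurentSeries R) N
    obtain ⟨e, he, hE⟩ := ApproxProj.exists_idempotent h (LinearMap.toMatrix' (iN ∘ₗ pN))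
      (toMatrix'_idem iN pN hN)
    let P := LinearMap.range e.mulVecLin
    let p : (Fin n → L) →ₗ[L] P := e.mulVecLin.rangeRestrict
    have hp : p ∘ₗ P.subtype = LinearMap.id := by
      refine LinearMap.ext fun x => Subtype.ext ?_
      obtain ⟨v, hv⟩ := x.2
      show e.mulVec (x : Fin n → L) = x
      rw [← hv, Matrix.mulVecLin_apply, Matrix.mulVec_mulVec, he]
    refine ⟨P, inferInstance, inferInstance, Module.Finite.range _, Module.Projective.of_split P.subtype p hp, ?_⟩
    obtain ⟨l⟩ := nonempty_linearEquiv_of_eqv iN pN (inclS (LaurentSeries R) P.subtype) (projS (LaurentSeries R) p)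
      (fun x => LinearMap.congr_fun hN x) (projS_inclS P.subtype p hp)
      (fun v => by rw [← Matrix.toLin'_apply, Matrix.toLin'_toMatrix', LinearMap.comp_apply])
      (fun v => by
        rw [inclS_projS, show P.subtype ∘ₗ p = Matrix.toLin' e from
          LinearMap.ext fun w => (Matrix.toLin'_apply e w).symm, LinearMap.toMatrix'_toLin']) hE
    exact ⟨l.symm⟩
  obtain ⟨P, _, _, _, _, ⟨eP⟩⟩ := desc M'
  obtain ⟨Q, _, _, _, _, ⟨eQ⟩⟩ := desc (Module.Dual (LaurentSeries R) M')
  obtain ⟨ePQ⟩ := ApproxProj.nonempty_linearEquiv h (Q ⊗[L] P) L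
    ((TensorProduct.AlgebraTensorModule.distribBaseChange L (LaurentSeries R) Q P) ≪≫ₗ
      TensorProduct.congr eQ eP ≪≫ₗ Module.Invertible.linearEquiv (LaurentSeries R) M' ≪≫ₗ
      (TensorProduct.AlgebraTensorModule.rid L (LaurentSeries R) (LaurentSeries R)).symm)
  haveI : Module.Invertible L P := Module.Invertible.right ePQ
  -- the algebra `R[s] → L`
  letI : Algebra R[X] L := (Polynomial.aeval (IsLocalization.Away.invSelf τ : L) : R[X] →ₐ[R] L).toRingHom.toAlgebra
  haveI : IsScalarTower R R[X] L := IsScalarTower.of_algebraMap_eq fun r => by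
    show algebraMap R L r = Polynomial.aeval (IsLocalization.Away.invSelf τ : L) (algebraMap R R[X] r)
    rw [AlgHom.commutes]
  have hψ : algebraMap R[X] L X * algebraMap B L τ = 1 := by
    show Polynomial.aeval (IsLocalization.Away.invSelf τ : L) (X : R[X]) * _ = 1
    rw [aeval_X, mul_comm, IsLocalization.Away.mul_invSelf]
  obtain ⟨I, hIinv, ⟨l⟩⟩ := exists_ideal hB hψ P
  haveI : IsScalarTower R[X] L (LaurentSeries R) := by
    refine IsScalarTower.of_algebraMap_eq' (Polynomial.ringHom_ext (fun r => ?_) ?_)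
    · rw [halg, RingHom.comp_apply, show algebraMap R[X] L (C r) = algebraMap R L r from
        (IsScalarTower.algebraMap_apply R R[X] L r).symm, IsScalarTower.algebraMap_apply R B L, hlift]
      show eval₂ _ _ (C r) = σ (g (algebraMap R[X] B (C r)))
      rw [eval₂_C, show g (algebraMap R[X] B (C r)) = c (C r) from hgc _,
        show c (C r) = PowerSeries.C r from Polynomial.coe_C r, HahnSeries.ofPowerSeries_C]
    · rw [halg, RingHom.comp_apply]
      show eval₂ _ _ X = _
      rw [eval₂_X]
      have h1 := congrArg (algebraMap L (LaurentSeries R)) hψ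
      rw [map_mul, map_one, hlift, show algebraMap B (LaurentSeries R) τ = σ (g τ) from rfl,
        show g τ = PowerSeries.X from hgτ, HahnSeries.ofPowerSeries_X] at h1
      calc (HahnSeries.single (-1 : ℤ) (1 : R) : LaurentSeries R)
          = algebraMap L (LaurentSeries R) (algebraMap R[X] L X) *
              ((HahnSeries.single (1 : ℤ) (1 : R) : LaurentSeries R) * HahnSeries.single (-1 : ℤ) (1 : R)) := by
            rw [← mul_assoc, h1, one_mul]
        _ = _ := by simp [HahnSeries.single_mul_single]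
  refine ⟨I, inferInstance, inferInstance, hIinv, ⟨?_⟩⟩
  exact eP.symm ≪≫ₗ (LinearEquiv.baseChange L (LaurentSeries R) P (L ⊗[R[X]] I) l.symm) ≪≫ₗ
    TensorProduct.AlgebraTensorModule.cancelBaseChange R[X] L (LaurentSeries R) (LaurentSeries R) I

end L01.PicLaurent
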