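import Mathlib.RingTheory.PicardGroup
import Mathlib.RingTheory.Idempotents
import Mathlib.LinearAlgebra.Matrix.ToLin
import Mathlib.LinearAlgebra.TensorProduct.Tower
import Groth.Agent.L03.ModJac

/-!
The Picard group does not change under nilpotent thickenings.
-/

universe u

namespace Groth.L01

open TensorProduct

variable {R : Type u} [CommRing R] (I : Ideal R)

set_option maxHeartbeats 1000000 in
/-- A finite projective module which becomes free of rank one modulo a nilpotent ideal is free. -/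
theorem nonempty_linearEquiv_self_of_mod (hI : I ≤ Ideal.jacobson (⊥ : Ideal R)) (X : Type*)
    [AddCommGroup X] [Module R X] [Module.Finite R X] [Module.Projective R X]
    (g : (R ⧸ I) ⊗[R] X ≃ₗ[R ⧸ I] R ⧸ I) : Nonempty (X ≃ₗ[R] R) := by
  let h : X →ₗ[R] R ⧸ I := (g.toLinearMap.restrictScalars R).comp (TensorProduct.mk R (R ⧸ I) X 1)
  obtain ⟨φ, hφ⟩ := Module.projective_lifting_property (Algebra.linearMap R (R ⧸ I)) h
    Ideal.Quotient.mk_surjective
  refine ⟨LinearEquiv.ofBijective φ (Groth.L03.ModJac.bijective_of_mod hI φ ?_)⟩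
  have : φ.baseChange (R ⧸ I) = ((AlgebraTensorModule.rid R (R ⧸ I) (R ⧸ I)).symm.toLinearMap ∘ₗ
      g.toLinearMap : (R ⧸ I) ⊗[R] X →ₗ[R ⧸ I] (R ⧸ I) ⊗[R] R) := by
    ext x
    have hx := LinearMap.congr_fun hφ x
    simp only [LinearMap.comp_apply, Algebra.linearMap_apply] at hx
    simp only [AlgebraTensorModule.curry_apply, LinearMap.restrictScalars_apply, curry_apply,
      LinearMap.baseChange_tmul, LinearMap.comp_apply, LinearEquiv.coe_coe]
    rw [show g ((1 : R ⧸ I) ⊗ₜ[R] x) = algebraMap R (R ⧸ I) (φ x) from hx.symm,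
      LinearEquiv.eq_symm_apply]
    simp only [AlgebraTensorModule.rid_tmul]
    rw [← Algebra.algebraMap_eq_smul_one]
  rw [this, LinearMap.coe_comp]
  exact (LinearEquiv.bijective _).comp g.bijective

/-- Finite projective modules lift along nilpotent thickenings. -/
theorem exists_projective_lift (hI : IsNilpotent I) (M : Type u) [AddCommGroup M]
    [Module (R ⧸ I) M] [Module.Finite (R ⧸ I) M] [Module.Projective (R ⧸ I) M] :
    ∃ (X : Type u) (_ : AddCommGroup X) (_ : Module R X), Module.Finite R X ∧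
      Module.Projective R X ∧ Nonempty ((R ⧸ I) ⊗[R] X ≃ₗ[R ⧸ I] M) := by
  classical
  let : Module R M := Module.compHom M (Ideal.Quotient.mk I)
  have : IsScalarTower R (R ⧸ I) M :=
    ⟨fun r s m => by rw [Algebra.smul_def, mul_smul]; rfl⟩
  obtain ⟨n, π, hπ⟩ := Module.Finite.exists_fin' (R ⧸ I) M
  obtain ⟨s, hs⟩ := Module.projective_lifting_property π LinearMap.id hπ
  let Φ : Matrix (Fin n) (Fin n) R →+* Matrix (Fin n) (Fin n) (R ⧸ I) := (Ideal.Quotient.mk I).mapMatrix
  let e : Matrix (Fin n) (Fin n) (R ⧸ I) := LinearMap.toMatrix' (s ∘ₗ π)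
  have hker : ∀ x ∈ RingHom.ker Φ, IsNilpotent x := by
    intro x hx
    obtain ⟨k, hk⟩ := hI
    refine ⟨k, ?_⟩
    have hxi : ∀ i j, x i j ∈ I := fun i j =>
      Ideal.Quotient.eq_zero_iff_mem.mp (congrFun (congrFun hx i) j)
    have hpow : ∀ m i j, (x ^ m) i j ∈ I ^ m := by
      intro m
      induction m with
      | zero => simp
      | succ m ih =>
        intro i j
        rw [pow_succ (a := x), Matrix.mul_apply, pow_succ]
        exact Submodule.sum_mem _ fun l _ => Ideal.mul_mem_mul (ih i l) (hxi l j)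
    ext i j
    have h0 := hpow k i j
    rw [hk, Ideal.zero_eq_bot, Submodule.mem_bot] at h0
    rw [h0]; rfl
  have he : IsIdempotentElem e := by
    change LinearMap.toMatrix' (s ∘ₗ π) * LinearMap.toMatrix' (s ∘ₗ π) = _
    rw [← LinearMap.toMatrix'_comp]
    congr 1
    refine LinearMap.ext fun v => ?_
    simp [show ∀ y, π (s y) = y from LinearMap.congr_fun hs]
  obtain ⟨e', he', hee⟩ := exists_isIdempotentElem_eq_of_ker_isNilpotent Φ hker e
    ⟨e.map (Function.surjInv Ideal.Quotient.mk_surjective), by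
      ext i j; simp [Φ, Function.surjInv_eq]⟩ he
  let E : (Fin n → R) →ₗ[R] (Fin n → R) := Matrix.mulVecLin e'
  have hE : ∀ v, E (E v) = E v := fun v => by
    simp [E, Matrix.mulVec_mulVec, he'.eq]
  let q : (Fin n → R) →ₗ[R] (Fin n → R ⧸ I) :=
    { toFun := fun v i => Ideal.Quotient.mk I (v i)
      map_add' := fun v w => by ext i; simp
      map_smul' := fun r v => by ext i; simp [Algebra.smul_def] }
  have hqE : ∀ v, q (E v) = s (π (q v)) := fun v => by
    have h1 : q (E v) = e.mulVec (q v) := by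
      rw [← hee]
      funext i
      exact RingHom.map_mulVec (Ideal.Quotient.mk I) e' v i
    rw [h1, LinearMap.toMatrix'_mulVec]
    rfl
  let X := LinearMap.range E
  have hproj : Module.Projective R X := by
    refine Module.Projective.of_split (R := R) (M := Fin n → R) X.subtype E.rangeRestrict
      (LinearMap.ext ?_)
    rintro ⟨_, v, rfl⟩
    exact Subtype.ext (hE v)
  let a : (R ⧸ I) ⊗[R] X →ₗ[R ⧸ I] M :=
    LinearMap.liftBaseChange (R ⧸ I) ((π.restrictScalars R) ∘ₗ q ∘ₗ X.subtype)
  let c : (Fin n → R ⧸ I) →ₗ[R ⧸ I] (R ⧸ I) ⊗[R] X :=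
    (Pi.basisFun (R ⧸ I) (Fin n)).constr (R ⧸ I) fun i => 1 ⊗ₜ E.rangeRestrict (Pi.single i 1)
  have hcq : ∀ v, c (q v) = 1 ⊗ₜ E.rangeRestrict v := fun v => by
    have : (c.restrictScalars R) ∘ₗ q = TensorProduct.mk R (R ⧸ I) X 1 ∘ₗ E.rangeRestrict := by
      refine (Pi.basisFun R (Fin n)).ext fun i => ?_
      simp only [Pi.basisFun_apply, LinearMap.comp_apply, TensorProduct.mk_apply]
      rw [LinearMap.restrictScalars_apply, ← (Pi.basisFun (R ⧸ I) (Fin n)).constr_basis (R ⧸ I)
        (fun i => (1 : R ⧸ I) ⊗ₜ[R] E.rangeRestrict (Pi.single i 1)) i]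
      congr 1
      funext j
      simp only [q, LinearMap.coe_mk, AddHom.coe_mk, Pi.basisFun_apply]
      by_cases h : j = i
      · subst h; simp
      · simp [h]
    exact LinearMap.congr_fun this v
  refine ⟨X, inferInstance, inferInstance, inferInstance, hproj,
    ⟨LinearEquiv.ofLinearMap a (c ∘ₗ s) ?_ ?_⟩⟩
  · refine LinearMap.ext fun m => ?_
    obtain ⟨v, hv⟩ : ∃ v, q v = s m :=
      ⟨Function.surjInv Ideal.Quotient.mk_surjective ∘ s m, by
        funext i; simp [q, Function.surjInv_eq]⟩
    simp only [LinearMap.comp_apply, LinearMap.id_apply, ← hv, hcq]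
    simp [a, hqE, hv, show ∀ y, π (s y) = y from LinearMap.congr_fun hs]
  · refine AlgebraTensorModule.ext fun r x => ?_
    obtain ⟨v, hv⟩ := x.2
    have hx : E.rangeRestrict v = x := Subtype.ext hv
    have hsx : s (π (q (x : Fin n → R))) = q x := by rw [← hqE, ← hv, hE]
    simp only [LinearMap.comp_apply, LinearMap.id_apply, a, LinearMap.liftBaseChange_tmul,
      Submodule.subtype_apply, LinearMap.restrictScalars_apply, map_smul, hsx, hcq]
    rw [show E.rangeRestrict (x : Fin n → R) = x from Subtype.ext (by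
      change E x = x; rw [← hv, hE]), TensorProduct.smul_tmul', smul_eq_mul, mul_one]

end Groth.L01

namespace Groth.L01

open TensorProduct CommRing

theorem picMap_quotient_bijective {R : Type u} [CommRing R] (I : Ideal R) (hI : IsNilpotent I) :
    Function.Bijective (CommRing.Pic.mapAlgebra R (R ⧸ I)) := by
  have hjac : I ≤ Ideal.jacobson (⊥ : Ideal R) := fun x hx =>
    Ideal.mem_sInf.mpr fun {J} hJ => by
      have := hJ.2.isPrime
      obtain ⟨k, hk⟩ := hI
      exact this.mem_of_pow_mem k (by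
        have h := Ideal.pow_mem_pow hx k
        rw [hk, Ideal.zero_eq_bot, Submodule.mem_bot] at h
        rw [h]; exact zero_mem J)
  constructor
  · refine (injective_iff_map_eq_one _).mpr fun M hM => ?_
    rw [Pic.mapAlgebra_apply, Pic.mk_eq_one_iff] at hM
    obtain ⟨e⟩ := nonempty_linearEquiv_self_of_mod I hjac M hM.some
    rw [← Pic.mk_eq_self (M := M), Pic.mk_eq_one_iff]
    exact ⟨e⟩
  · intro N
    obtain ⟨X, _, _, _, _, ⟨eX⟩⟩ := exists_projective_lift I hI N
    obtain ⟨Y, _, _, _, _, ⟨eY⟩⟩ := exists_projective_lift I hI (Module.Dual (R ⧸ I) N)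
    obtain ⟨e⟩ := nonempty_linearEquiv_self_of_mod I hjac (Y ⊗[R] X)
      ((AlgebraTensorModule.distribBaseChange R (R ⧸ I) Y X) ≪≫ₗ TensorProduct.congr eY eX ≪≫ₗ
        Module.Invertible.linearEquiv (R ⧸ I) N)
    have : Module.Invertible R X := Module.Invertible.right e
    refine ⟨Pic.mk R X, ?_⟩
    rw [Pic.mapAlgebra_apply, Pic.mk_eq_iff]
    exact ⟨TensorProduct.AlgebraTensorModule.congr (.refl _ _) (Pic.mk.linearEquiv R X) ≪≫ₗ eX⟩

theorem picMap_bijective {A' A : Type u} [CommRing A'] [CommRing A] (f : A' →+* A)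
    (hf : Function.Surjective f) (hker : IsNilpotent (RingHom.ker f)) :
    Function.Bijective (CommRing.Pic.mapRingHom f) := by
  let e : A' ⧸ RingHom.ker f ≃+* A := RingHom.quotientKerEquivOfSurjective hf
  have hfe : f = e.toRingHom.comp (Ideal.Quotient.mk (RingHom.ker f)) := by
    ext a; rfl
  have he : Function.Bijective (CommRing.Pic.mapRingHom e.toRingHom) := by
    refine Function.bijective_iff_has_inverse.mpr
      ⟨CommRing.Pic.mapRingHom e.symm.toRingHom, fun x => ?_, fun x => ?_⟩
    · rw [Pic.mapRingHom_mapRingHom, show e.symm.toRingHom.comp e.toRingHom = RingHom.id _ from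
        RingHom.ext e.symm_apply_apply, Pic.mapRingHom_id_apply]
    · rw [Pic.mapRingHom_mapRingHom, show e.toRingHom.comp e.symm.toRingHom = RingHom.id _ from
        RingHom.ext e.apply_symm_apply, Pic.mapRingHom_id_apply]
  have hq : Function.Bijective
      (CommRing.Pic.mapRingHom (Ideal.Quotient.mk (RingHom.ker f))) := by
    rw [← Ideal.Quotient.algebraMap_eq, Pic.mapRingHom_algebraMap]
    exact picMap_quotient_bijective _ hker
  have := he.comp hq
  rw [← MonoidHom.coe_comp, Pic.mapRingHom_comp_mapRingHom, ← hfe] at this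
  exact this

end Groth.L01
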