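import Groth.Agent.L08.Subcoalg
import Groth.Agent.L08.JordanPoly
import Groth.Prelude.Def_ComodSub
import Mathlib.RingTheory.HopfAlgebra.Convolution
import Mathlib.RingTheory.TensorProduct.Maps
import Mathlib.RingTheory.Finiteness.Ideal

/-!
# The Jordan decomposition of a rational point
-/

set_option autoImplicit false

universe u v w w'

open TensorProduct WithConv Module.End
open Groth.L08 (fAct cf)

noncomputable section

namespace Groth.L01.PointJordan

section End

variable {k : Type u} [Field k] [PerfectField k] {X : Type w} [AddCommGroup X] [Module k X]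
  [FiniteDimensional k X] {Y : Type w'} [AddCommGroup Y] [Module k Y] [FiniteDimensional k Y]

theorem exists_ss (α : Module.End k X) :
    ∃ s : Module.End k X, s.IsSemisimple ∧ IsNilpotent (α - s) ∧ Commute s α := by
  obtain ⟨n, -, s, hs, hn, hss, h⟩ := α.exists_isNilpotent_isSemisimple
  refine ⟨s, hss, ?_, ?_⟩
  · rwa [h, add_sub_cancel_right]
  · rw [Algebra.adjoin_singleton_eq_range_aeval] at hs
    obtain ⟨P, hP⟩ := hs
    rw [← hP]
    simpa using (Commute.all P Polynomial.X).map (Polynomial.aeval α)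

/-- The semisimple part. -/
def ss (α : Module.End k X) : Module.End k X := (exists_ss α).choose

theorem ss_spec (α : Module.End k X) :
    (ss α).IsSemisimple ∧ IsNilpotent (α - ss α) ∧ Commute (ss α) α := (exists_ss α).choose_spec

theorem eq_ss {α s : Module.End k X} (hs : s.IsSemisimple) (hn : IsNilpotent (α - s)) (hc : Commute s α) :
    s = ss α := by
  obtain ⟨h1, h2, h3⟩ := ss_spec α
  exact (isNilpotent_isSemisimple_unique hn hs h2 h1 (hc.symm.sub_left (Commute.refl s))
    (h3.symm.sub_left (Commute.refl _)) (by rw [sub_add_cancel, sub_add_cancel])).2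

theorem ss_comm (α : Module.End k X) (β : Module.End k Y) (f : X →ₗ[k] Y) (h : f ∘ₗ α = β ∘ₗ f) :
    f ∘ₗ ss α = ss β ∘ₗ f := by
  obtain ⟨h1, h2, h3⟩ := ss_spec α
  obtain ⟨g1, g2, g3⟩ := ss_spec β
  obtain ⟨P, hα, hβ⟩ := Groth.L08.JordanPoly.exists_common_poly α _ β _ h1 h2 h3 g1 g2 g3
  rw [hα, hβ]
  clear hα hβ
  induction P using Polynomial.induction_on with
  | C a => refine LinearMap.ext fun x => ?_; simp [Algebra.algebraMap_eq_smul_one]
  | add p q hp hq => rw [map_add, map_add, LinearMap.comp_add, LinearMap.add_comp, hp, hq]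
  | monomial n a hh =>
    rw [pow_succ, ← mul_assoc, map_mul, map_mul (Polynomial.aeval β), Polynomial.aeval_X,
      Polynomial.aeval_X, Module.End.mul_eq_comp, Module.End.mul_eq_comp, ← LinearMap.comp_assoc, hh,
      LinearMap.comp_assoc, h, LinearMap.comp_assoc]

theorem ss_one : ss (1 : Module.End k X) = 1 :=
  (eq_ss (α := (1 : Module.End k X)) (s := 1) (Module.End.isSemisimple_id) (by rw [sub_self]; exact IsNilpotent.zero) (Commute.refl 1)).symm

theorem isSemisimple_map_left {s : Module.End k X} (hs : s.IsSemisimple) :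
    Module.End.IsSemisimple (TensorProduct.map s (1 : Module.End k Y)) := by
  refine Module.End.isSemisimple_of_squarefree_aeval_eq_zero hs.minpoly_squarefree ?_
  have key : ∀ P : Polynomial k, Polynomial.aeval (TensorProduct.map s (1 : Module.End k Y)) P =
      TensorProduct.map (Polynomial.aeval s P) (1 : Module.End k Y) := fun P =>
    Polynomial.aeval_algHom_apply (Module.End.rTensorAlgHom k X Y) s P
  rw [key, minpoly.aeval, TensorProduct.map_zero_left]

theorem isSemisimple_map_right {t : Module.End k Y} (ht : t.IsSemisimple) :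
    Module.End.IsSemisimple (TensorProduct.map (1 : Module.End k X) t) := by
  refine Module.End.isSemisimple_of_squarefree_aeval_eq_zero ht.minpoly_squarefree ?_
  have key : ∀ P : Polynomial k, Polynomial.aeval (TensorProduct.map (1 : Module.End k X) t) P =
      TensorProduct.map (1 : Module.End k X) (Polynomial.aeval t P) := fun P =>
    Polynomial.aeval_algHom_apply (Module.End.lTensorAlgHom k Y X) t P
  rw [key, minpoly.aeval, TensorProduct.map_zero_right]

theorem ss_map (α : Module.End k X) (β : Module.End k Y) :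
    ss (TensorProduct.map α β) = TensorProduct.map (ss α) (ss β) := by
  obtain ⟨h1, h2, h3⟩ := ss_spec α
  obtain ⟨g1, g2, g3⟩ := ss_spec β
  have hmul : ∀ (a b : Module.End k X) (c d : Module.End k Y),
      TensorProduct.map a c * TensorProduct.map b d = TensorProduct.map (a * b) (c * d) :=
    fun a b c d => (TensorProduct.map_comp a c b d).symm
  have hc : ∀ {a b : Module.End k X} {c d : Module.End k Y}, Commute a b → Commute c d →
      Commute (TensorProduct.map a c) (TensorProduct.map b d) := fun h h' => by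
    rw [Commute, SemiconjBy, hmul, hmul, h.eq, h'.eq]
  refine (eq_ss ?_ ?_ (hc h3 g3)).symm
  · have e : TensorProduct.map (ss α) (ss β) =
        TensorProduct.map (ss α) (1 : Module.End k Y) * TensorProduct.map (1 : Module.End k X) (ss β) := by
      rw [hmul, mul_one, one_mul]
    rw [e]
    exact Module.End.IsSemisimple.mul_of_commute (hc (Commute.one_right _) (Commute.one_left _))
      (isSemisimple_map_left h1) (isSemisimple_map_right g1)
  · have e : TensorProduct.map α β - TensorProduct.map (ss α) (ss β) =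
        TensorProduct.map (α - ss α) β + TensorProduct.map (ss α) (β - ss β) := by
      ext x y
      simp [sub_tmul, tmul_sub]
    rw [e]
    obtain ⟨n, hn⟩ := h2
    obtain ⟨m, hm⟩ := g2
    refine (hc ?_ ?_).isNilpotent_add ⟨n, ?_⟩ ⟨m, ?_⟩
    · exact h3.symm.sub_left (Commute.refl _)
    · exact ((Commute.refl β).sub_right g3.symm)
    · rw [TensorProduct.map_pow, hn, TensorProduct.map_zero_left]
    · rw [TensorProduct.map_pow, hm, TensorProduct.map_zero_right]

end End

section Hopf

variable {k : Type u} [Field k] [PerfectField k] {A : Type v} [CommRing A] [HopfAlgebra k A]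
variable (φ : A →ₗ[k] k)

/-- The translation restricted to a subcomodule. -/
def T {W : Submodule k A} (hW : HopfRep.IsSubcomod (k := k) (A := A) W) : Module.End k W :=
  (fAct A φ).restrict fun _ hv => Groth.L08.fAct_mem_of_isSubcomod hW φ hv

theorem T_coe {W : Submodule k A} (hW : HopfRep.IsSubcomod (k := k) (A := A) W) (w : W) :
    (T φ hW w : A) = fAct A φ w := rfl

variable (k A) in
/-- A finite subcomodule around an element. -/
def nbhd (a : A) : Submodule k A :=
  (Groth.L08.exists_finite_subcomod (k := k) (A := A) (V := A) a).choose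

theorem nbhd_spec (a : A) : Module.Finite k (nbhd k A a) ∧ a ∈ nbhd k A a ∧
    HopfRep.IsSubcomod (k := k) (A := A) (nbhd k A a) :=
  (Groth.L08.exists_finite_subcomod (k := k) (A := A) (V := A) a).choose_spec

/-- The semisimple part of the translation, as a function. -/
def Sfun (a : A) : A :=
  haveI := (nbhd_spec (k := k) a).1
  (ss (T φ (nbhd_spec (k := k) a).2.2) ⟨a, (nbhd_spec (k := k) a).2.1⟩ : nbhd k A a)

theorem ss_incl {W W' : Submodule k A} [Module.Finite k W] [Module.Finite k W']
    (hW : HopfRep.IsSubcomod (k := k) (A := A) W) (hW' : HopfRep.IsSubcomod (k := k) (A := A) W')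
    (hle : W ≤ W') (w : W) : (ss (T φ hW) w : A) = ss (T φ hW') (Submodule.inclusion hle w) := by
  have h := LinearMap.congr_fun (ss_comm (T φ hW) (T φ hW') (Submodule.inclusion hle) rfl) w
  exact congrArg Subtype.val h

theorem Sfun_eq {W : Submodule k A} [Module.Finite k W]
    (hW : HopfRep.IsSubcomod (k := k) (A := A) W) {a : A} (ha : a ∈ W) :
    Sfun φ a = (ss (T φ hW) ⟨a, ha⟩ : A) := by
  obtain ⟨hfin, hmem, hsub⟩ := nbhd_spec (k := k) a
  haveI := hfin
  have hsup := Groth.L08.isSubcomod_sup hsub hW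
  rw [ss_incl φ hW hsup le_sup_right, Sfun]
  exact ss_incl φ hsub hsup le_sup_left ⟨a, hmem⟩

/-- The semisimple part of the translation. -/
def S : A →ₗ[k] A where
  toFun := Sfun φ
  map_add' a b := by
    obtain ⟨W, hfin, hs, hW⟩ := Groth.L08.exists_finite_subcomod_of_finset (k := k) (A := A) (V := A)
      ({a, b} : Set A).toFinite.toFinset
    haveI := hfin
    have ha : a ∈ W := hs (by simp)
    have hb : b ∈ W := hs (by simp)
    rw [Sfun_eq φ hW ha, Sfun_eq φ hW hb, Sfun_eq φ hW (W.add_mem ha hb), ← Submodule.coe_add, ← map_add]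
    rfl
  map_smul' c a := by
    obtain ⟨hfin, hmem, hsub⟩ := nbhd_spec (k := k) a
    haveI := hfin
    rw [Sfun_eq φ hsub hmem, Sfun_eq φ hsub ((nbhd k A a).smul_mem c hmem), RingHom.id_apply,
      ← Submodule.coe_smul, ← map_smul]
    rfl

/-- The semisimple part as a functional. -/
def sF : A →ₗ[k] k := Coalgebra.counit ∘ₗ S φ

theorem S_comm {V : Type w} [AddCommGroup V] [Module k V] [HopfRep.Comod k A V] [Module.Finite k V]
    (f : V →ₗ[k] A) (hf : Hoch.IsComodHom A f) (v : V) :
    f (ss (fAct V φ) v) = S φ (f v) := by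
  have hR := Groth.L08.isSubcomod_range hf
  have h := LinearMap.congr_fun (ss_comm (fAct V φ) (T φ hR) f.rangeRestrict (LinearMap.ext fun x =>
    Subtype.ext (Groth.L08.fAct_comm_of_isComodHom hf φ x))) v
  show f (ss (fAct V φ) v) = Sfun φ (f v)
  rw [Sfun_eq φ hR (LinearMap.mem_range_self f v)]
  exact congrArg Subtype.val h

theorem fAct_sF {V : Type w} [AddCommGroup V] [Module k V] [HopfRep.Comod k A V] [Module.Finite k V] :
    fAct V (sF φ) = ss (fAct V φ) := by
  refine LinearMap.ext fun v => (Module.forall_dual_apply_eq_zero_iff k _).1 (fun θ => ?_) |> sub_eq_zero.1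
  rw [map_sub, sub_eq_zero, ← Groth.L08.apply_cf (sF φ) θ v, sF, LinearMap.comp_apply,
    ← S_comm φ (cf θ) (Groth.L08.isComodHom_cf θ) v, Groth.L08.apply_cf, Groth.L08.fAct_counit]
  rfl

variable (g : A →ₐ[k] k)

theorem fAct_point_mul (a b : A) :
    fAct A g.toLinearMap (a * b) = fAct A g.toLinearMap a * fAct A g.toLinearMap b := by
  have key : ∀ x, fAct A g.toLinearMap x = ((Algebra.TensorProduct.rid k k A).toAlgHom.comp
      ((Algebra.TensorProduct.map (AlgHom.id k A) g).comp (Bialgebra.comulAlgHom k A))) x := fun x => by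
    show TensorProduct.rid k A (g.toLinearMap.lTensor A (Coalgebra.comul x)) =
      Algebra.TensorProduct.rid k k A (Algebra.TensorProduct.map (AlgHom.id k A) g (Coalgebra.comul x))
    induction Coalgebra.comul (R := k) x with
    | zero => simp
    | tmul p q => simp
    | add p q hp hq => simp only [map_add, hp, hq]
  simp only [key, map_mul]

theorem sF_one : sF g.toLinearMap (1 : A) = 1 := by
  have hW : HopfRep.IsSubcomod (k := k) (A := A) (k ∙ (1 : A)) := by
    rw [Groth.L08.isSubcomod_iff]
    intro ψ v hv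
    obtain ⟨c, rfl⟩ := Submodule.mem_span_singleton.1 hv
    refine Submodule.mem_span_singleton.2 ⟨c * ψ 1, ?_⟩
    rw [map_smul, mul_smul]
    congr 1
    show _ = TensorProduct.rid k A (ψ.lTensor A (Coalgebra.comul (1 : A)))
    rw [Bialgebra.comul_one, Algebra.TensorProduct.one_def, LinearMap.lTensor_tmul, TensorProduct.rid_tmul]
  have hT : T g.toLinearMap hW = 1 := by
    refine LinearMap.ext fun w => Subtype.ext ?_
    obtain ⟨c, hc⟩ := Submodule.mem_span_singleton.1 w.2
    rw [T_coe, ← hc, map_smul, Module.End.one_apply, ← hc]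
    congr 1
    show TensorProduct.rid k A (g.toLinearMap.lTensor A (Coalgebra.comul (1 : A))) = _
    rw [Bialgebra.comul_one, Algebra.TensorProduct.one_def, LinearMap.lTensor_tmul, TensorProduct.rid_tmul]
    simp
  show Coalgebra.counit (Sfun g.toLinearMap 1) = 1
  rw [Sfun_eq _ hW (Submodule.mem_span_singleton_self 1), hT, ss_one]
  exact Bialgebra.counit_one

theorem sF_mul (a b : A) : sF g.toLinearMap (a * b) = sF g.toLinearMap a * sF g.toLinearMap b := by
  obtain ⟨h1f, ha, h1⟩ := nbhd_spec (k := k) a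
  obtain ⟨h2f, hb, h2⟩ := nbhd_spec (k := k) b
  haveI := h1f
  haveI := h2f
  obtain ⟨G, hG⟩ := Module.Finite.iff_fg.1
    (inferInstance : Module.Finite k ↥(LinearMap.range ((LinearMap.mul' k A) ∘ₗ
      TensorProduct.mapIncl (nbhd k A a) (nbhd k A b))))
  obtain ⟨W, hfin, hs, hW⟩ := Groth.L08.exists_finite_subcomod_of_finset (k := k) (A := A) (V := A) G
  haveI := hfin
  let f : nbhd k A a ⊗[k] nbhd k A b →ₗ[k] W :=
    LinearMap.codRestrict W ((LinearMap.mul' k A) ∘ₗ TensorProduct.mapIncl _ _) fun x =>
      Submodule.span_le.2 hs (hG ▸ LinearMap.mem_range_self _ x)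
  have hf : f ∘ₗ TensorProduct.map (T g.toLinearMap h1) (T g.toLinearMap h2) = T g.toLinearMap hW ∘ₗ f := by
    refine TensorProduct.ext' fun x y => Subtype.ext ?_
    exact (fAct_point_mul g x y).symm
  have hab : a * b ∈ W := (f (⟨a, ha⟩ ⊗ₜ ⟨b, hb⟩)).2
  have h := congrArg Subtype.val (LinearMap.congr_fun (ss_comm (TensorProduct.map (T g.toLinearMap h1) (T g.toLinearMap h2) : Module.End k (nbhd k A a ⊗[k] nbhd k A b))
    (T g.toLinearMap hW) f hf) ((⟨a, ha⟩ : nbhd k A a) ⊗ₜ (⟨b, hb⟩ : nbhd k A b)))
  rw [ss_map] at h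
  show Coalgebra.counit (Sfun g.toLinearMap (a * b)) =
    Coalgebra.counit (Sfun g.toLinearMap a) * Coalgebra.counit (Sfun g.toLinearMap b)
  rw [Sfun_eq _ hW hab, Sfun_eq _ h1 ha, Sfun_eq _ h2 hb, ← Bialgebra.counit_mul]
  exact congrArg _ h.symm

/-- The semisimple part of a point. -/
def gs : A →ₐ[k] k := AlgHom.ofLinearMap (sF g.toLinearMap) (sF_one g) (sF_mul g)

theorem act_mul (x y : WithConv (A →ₐ[k] k)) {V : Type w} [AddCommGroup V] [Module k V]
    [HopfRep.Comod k A V] :
    fAct V (x * y).ofConv.toLinearMap = fAct V x.ofConv.toLinearMap * fAct V y.ofConv.toLinearMap := by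
  rw [Module.End.mul_eq_comp, ← Groth.L08.fAct_comp]
  congr 1


theorem act_one {V : Type w} [AddCommGroup V] [Module k V] [HopfRep.Comod k A V] :
    fAct V (1 : WithConv (A →ₐ[k] k)).ofConv.toLinearMap = (1 : Module.End k V) := by
  rw [show (1 : WithConv (A →ₐ[k] k)).ofConv.toLinearMap = Coalgebra.counit from LinearMap.ext fun a => by simp,
    Groth.L08.fAct_counit]
  rfl

/-- The unipotent part of a point. -/
def gu : A →ₐ[k] k := ((toConv (gs g))⁻¹ * toConv g).ofConv

theorem spec {V : Type w} [AddCommGroup V] [Module k V] [HopfRep.Comod k A V] [Module.Finite k V] :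
    Module.End.IsSemisimple (fAct V (gs g).toLinearMap) ∧ IsNilpotent (fAct V (gu g).toLinearMap - 1) ∧
    Commute (fAct V (gs g).toLinearMap) (fAct V g.toLinearMap) := by
  obtain ⟨h1, h2, h3⟩ := ss_spec (fAct V g.toLinearMap)
  have hs : fAct V (gs g).toLinearMap = ss (fAct V g.toLinearMap) := fAct_sF _
  refine ⟨hs ▸ h1, ?_, hs ▸ h3⟩
  have hi : fAct V ((toConv (gs g))⁻¹).ofConv.toLinearMap * ss (fAct V g.toLinearMap) = 1 := by
    rw [← hs, ← act_one (k := k) (A := A), ← act_mul, inv_mul_cancel]
  have hi' : ss (fAct V g.toLinearMap) * fAct V ((toConv (gs g))⁻¹).ofConv.toLinearMap = 1 := by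
    rw [← hs, ← act_one (k := k) (A := A), ← act_mul, mul_inv_cancel]
  have he : fAct V (gu g).toLinearMap - 1 = fAct V ((toConv (gs g))⁻¹).ofConv.toLinearMap *
      (fAct V g.toLinearMap - ss (fAct V g.toLinearMap)) := by
    rw [mul_sub, hi]
    congr 1
    exact act_mul _ _
  rw [he]
  have hcu : Commute (ss (fAct V g.toLinearMap)) (fAct V g.toLinearMap - ss (fAct V g.toLinearMap)) :=
    h3.sub_right (Commute.refl _)
  let U : (Module.End k V)ˣ := ⟨ss (fAct V g.toLinearMap), fAct V ((toConv (gs g))⁻¹).ofConv.toLinearMap, hi', hi⟩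
  have hcU : Commute (↑U⁻¹ : Module.End k V) (fAct V g.toLinearMap - ss (fAct V g.toLinearMap)) :=
    Commute.units_inv_left (u := U) hcu
  exact hcU.isNilpotent_mul_left h2

theorem functional_ext {x y : A →ₗ[k] k} (h : ∀ (W : Submodule k A) (hW : HopfRep.IsSubcomod (k := k) (A := A) W),
    Module.Finite k W → letI := ComodSub.Comod.restr (inferInstance : HopfRep.Comod k A A) W hW
      fAct W x = fAct W y) : x = y := by
  refine LinearMap.ext fun a => ?_
  obtain ⟨hfin, hmem, hsub⟩ := nbhd_spec (k := k) a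
  letI := ComodSub.Comod.restr (inferInstance : HopfRep.Comod k A A) _ hsub
  have key : ∀ z : A →ₗ[k] k, z a = Coalgebra.counit (fAct (nbhd k A a) z ⟨a, hmem⟩ : A) := fun z => by
    rw [show (fAct (nbhd k A a) z ⟨a, hmem⟩ : A) = fAct A z a from
      Groth.L08.fAct_comm_of_isComodHom (ComodSub.isComodHom_subtype _ _ hsub) z ⟨a, hmem⟩,
      ← Groth.L08.apply_cf z Coalgebra.counit a, Groth.L08.cf_counit_apply]
  rw [key x, key y, h _ hsub hfin]

theorem main :
    toConv (gs g) * toConv (gu g) = toConv g ∧ toConv (gu g) * toConv (gs g) = toConv g := by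
  have h1 : toConv (gs g) * toConv (gu g) = toConv g := mul_inv_cancel_left _ _
  refine ⟨h1, ?_⟩
  have hc : toConv g * toConv (gs g) = toConv (gs g) * toConv g := by
    refine WithConv.ofConv_injective (AlgHom.toLinearMap_injective (functional_ext fun W hW hfin => ?_))
    letI := ComodSub.Comod.restr (inferInstance : HopfRep.Comod k A A) W hW
    haveI := hfin
    rw [act_mul, act_mul]
    exact (spec g).2.2.eq.symm
  show (toConv (gs g))⁻¹ * toConv g * toConv (gs g) = _
  rw [mul_assoc, hc, inv_mul_cancel_left]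

theorem unique (s' u' : A →ₐ[k] k) (h1 : toConv s' * toConv u' = toConv g)
    (h2 : toConv u' * toConv s' = toConv g)
    (h : ∀ (V : Type v) [AddCommGroup V] [Module k V] [HopfRep.Comod k A V], Module.Finite k V →
      Module.End.IsSemisimple (fAct V s'.toLinearMap) ∧ IsNilpotent (fAct V u'.toLinearMap - 1)) :
    s' = gs g ∧ u' = gu g := by
  have hs : s' = gs g := by
    refine AlgHom.toLinearMap_injective (functional_ext fun W hW hfin => ?_)
    letI := ComodSub.Comod.restr (inferInstance : HopfRep.Comod k A A) W hW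
    haveI := hfin
    obtain ⟨hs1, hu1⟩ := h W hfin
    have e1 : fAct W s'.toLinearMap * fAct W u'.toLinearMap = fAct W g.toLinearMap := by
      rw [← act_mul (toConv s') (toConv u'), h1]
    have e2 : fAct W u'.toLinearMap * fAct W s'.toLinearMap = fAct W g.toLinearMap := by
      rw [← act_mul (toConv u') (toConv s'), h2]
    obtain ⟨hn, hc⟩ := Groth.L08.JordanPoly.isNilpotent_sub_of_mul hu1 (e1.trans e2.symm) e1
    exact (eq_ss hs1 hn hc).trans (fAct_sF _).symm
  subst hs
  exact ⟨rfl, congrArg WithConv.ofConv (eq_inv_mul_of_mul_eq h1)⟩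

end Hopf

end Groth.L01.PointJordan
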