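import Groth.Prelude.Def_W4c5spincurvestfNode
import Mathlib.Algebra.Polynomial.Laurent
import Mathlib.LinearAlgebra.Finsupp.LinearCombination
import Mathlib.RingTheory.MvPolynomial.Basic
import Mathlib.Tactic.Ring

/-!
The basis `x^k`, `y^k` of the polynomial node.
-/

set_option autoImplicit false
universe u

open MvPolynomial SpinCurv

namespace Groth.L01.PolyNodeBasis

noncomputable section

variable {R : Type u} [CommRing R] (a : R)

/-- `e n` is `x^n` for `n ≥ 0` and `y^(-n)` otherwise. -/
def e (n : ℤ) : PolyNodeRing R a := PolyNodeRing.x R a ^ n.toNat * PolyNodeRing.y R a ^ (-n).toNat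

theorem e_natCast (n : ℕ) : e a (n : ℤ) = PolyNodeRing.x R a ^ n := by
  rw [e, Int.toNat_natCast, show (-(n : ℤ)).toNat = 0 by omega, pow_zero, mul_one]

theorem e_neg (n : ℕ) : e a (-(n : ℤ)) = PolyNodeRing.y R a ^ n := by
  rw [e, neg_neg, Int.toNat_natCast, show (-(n : ℤ)).toNat = 0 by omega, pow_zero, one_mul]

theorem x_mul_y : PolyNodeRing.x R a * PolyNodeRing.y R a = algebraMap R (PolyNodeRing R a) a := by
  show Ideal.Quotient.mk _ _ * Ideal.Quotient.mk _ _ = Ideal.Quotient.mk _ (MvPolynomial.C a)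
  rw [← map_mul]
  exact Ideal.Quotient.eq.mpr (Ideal.mem_span_singleton_self _)

def T : MvPolynomial (Fin 2) R →ₗ[R] (ℤ →₀ R) :=
  (MvPolynomial.basisMonomials (Fin 2) R).constr R fun d =>
    Finsupp.single ((d 0 : ℤ) - (d 1 : ℤ)) (a ^ min (d 0) (d 1))

theorem T_monomial (d : Fin 2 →₀ ℕ) (c : R) :
    T a (monomial d c) = Finsupp.single ((d 0 : ℤ) - (d 1 : ℤ)) (c * a ^ min (d 0) (d 1)) := by
  have h : monomial d c = c • MvPolynomial.basisMonomials (Fin 2) R d := by
    rw [coe_basisMonomials, smul_monomial, smul_eq_mul, mul_one]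
  rw [h, map_smul, T, Module.Basis.constr_basis, Finsupp.smul_single, smul_eq_mul]

theorem T_mul_g (z : MvPolynomial (Fin 2) R) : T a (z * (X 0 * X 1 - C a)) = 0 := by
  induction z using MvPolynomial.induction_on' with
  | monomial d c =>
    rw [mul_sub, map_sub, sub_eq_zero, X, X, C_apply, monomial_mul, monomial_mul, monomial_mul, T_monomial,
      T_monomial]
    congr 1
    · simp [Finsupp.single_apply]
    · simp [Finsupp.single_apply, Nat.add_comm (d 0), Nat.add_comm (d 1), Nat.add_min_add_left, pow_add]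
      ring
  | add p q hp hq => rw [add_mul, map_add, hp, hq, add_zero]

def S : (ℤ →₀ R) →ₗ[R] PolyNodeRing R a := Finsupp.linearCombination R (e a)

theorem S_T (z : MvPolynomial (Fin 2) R) : S a (T a z) = Ideal.Quotient.mk _ z := by
  induction z using MvPolynomial.induction_on' with
  | monomial d c =>
    rw [T_monomial, S, Finsupp.linearCombination_single]
    refine (Algebra.smul_def (R := R) (A := PolyNodeRing R a) _ _).trans ?_
    rw [map_mul, map_pow, ← x_mul_y, e]
    show Ideal.Quotient.mk _ (C c) * _ * _ = _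
    rw [monomial_eq, Finsupp.prod_fintype _ _ (fun i => pow_zero _), Fin.prod_univ_two, map_mul, map_mul, map_pow, map_pow]
    show _ = Ideal.Quotient.mk _ (C c) * (PolyNodeRing.x R a ^ d 0 * PolyNodeRing.y R a ^ d 1)
    rcases le_total (d 0) (d 1) with h | h
    · rw [min_eq_left h, show ((d 0 : ℤ) - d 1).toNat = 0 by omega, mul_pow,
        show (-((d 0 : ℤ) - d 1)).toNat = d 1 - d 0 by omega]
      conv_rhs => rw [← Nat.sub_add_cancel h, pow_add]
      ring
    · rw [min_eq_right h, show (-((d 0 : ℤ) - d 1)).toNat = 0 by omega, mul_pow,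
        show ((d 0 : ℤ) - d 1).toNat = d 0 - d 1 by omega]
      conv_rhs => rw [← Nat.sub_add_cancel h, pow_add]
      ring
  | add p q hp hq => rw [map_add, map_add, hp, hq, map_add]

theorem S_bijective : Function.Bijective (S a) := by
  have hT : ∀ f : ℤ →₀ R, ∀ z : MvPolynomial (Fin 2) R, Ideal.Quotient.mk _ z = S a f → T a z = f := by
    intro f
    suffices ∃ z, Ideal.Quotient.mk _ z = S a f ∧ T a z = f by
      obtain ⟨z₀, hz₀, hf⟩ := this
      intro z hz
      obtain ⟨w, hw⟩ := Ideal.mem_span_singleton'.mp (Ideal.Quotient.eq.mp (hz.trans hz₀.symm))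
      rw [← hf, ← sub_eq_zero, ← map_sub, ← hw, T_mul_g]
    induction f using Finsupp.induction_linear with
    | zero => exact ⟨0, by simp, by simp⟩
    | add f g hf hg =>
      obtain ⟨z, hz, hz'⟩ := hf
      obtain ⟨w, hw, hw'⟩ := hg
      exact ⟨z + w, by rw [map_add, map_add, hz, hw], by rw [map_add, hz', hw']⟩
    | single n c =>
      have hd : ∀ d : Fin 2 →₀ ℕ, d 0 = n.toNat → d 1 = (-n).toNat → T a (monomial d c) = Finsupp.single n c := by
        intro d h0 h1
        rw [T_monomial, h0, h1, show min n.toNat (-n).toNat = 0 by omega, pow_zero, mul_one,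
          show ((n.toNat : ℤ) - ((-n).toNat : ℤ)) = n by omega]
      refine ⟨monomial (Finsupp.single 0 n.toNat + Finsupp.single 1 (-n).toNat) c, ?_, hd _ (by simp) (by simp)⟩
      rw [← S_T, hd _ (by simp) (by simp)]
  refine ⟨fun f g h => ?_, fun w => ?_⟩
  · obtain ⟨z, hz⟩ := Ideal.Quotient.mk_surjective (S a f)
    rw [← hT f z hz, ← hT g z (hz.trans h)]
  · obtain ⟨z, rfl⟩ := Ideal.Quotient.mk_surjective w
    exact ⟨T a z, S_T a z⟩

/-- Coordinates. -/
def E : PolyNodeRing R a ≃ₗ[R] (ℤ →₀ R) := (LinearEquiv.ofBijective (S a) (S_bijective a)).symm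

theorem E_e (n : ℤ) : E a (e a n) = Finsupp.single n 1 := by
  rw [E, LinearEquiv.symm_apply_eq]
  show _ = S a _
  rw [S, Finsupp.linearCombination_single, one_smul]

theorem induction {P : PolyNodeRing R a → Prop} (z : PolyNodeRing R a) (h0 : P 0) (hadd : ∀ x y, P x → P y → P (x + y))
    (hsingle : ∀ (c : R) n, P (c • e a n)) : P z := by
  obtain ⟨f, rfl⟩ := (S_bijective a).2 z
  induction f using Finsupp.induction_linear with
  | zero => simpa using h0
  | add f g hf hg => rw [map_add]; exact hadd _ _ hf hg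
  | single n c => rw [S, Finsupp.linearCombination_single]; exact hsingle c n

/-- The coefficients of the image in Laurent polynomials, for a chart. -/
theorem map_chart (g : PolyNodeRing R a →ₐ[R] LaurentPolynomial R) (s : ℤ) (hs : s = 1 ∨ s = -1)
    (hx : g (PolyNodeRing.x R a) = LaurentPolynomial.T s)
    (hy : g (PolyNodeRing.y R a) = LaurentPolynomial.C a * LaurentPolynomial.T (-s)) (z : PolyNodeRing R a) (m : ℤ) :
    (g z).coeff m = a ^ (-(s * m)).toNat * E a z (s * m) := by
  induction z using induction with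
  | h0 => simp
  | hadd x y hx hy =>
    rw [map_add, map_add, Finsupp.add_apply, mul_add, ← hx, ← hy, AddMonoidAlgebra.coeff_add, Finsupp.add_apply]
  | hsingle c n =>
    have hg : g (e a n) = LaurentPolynomial.C (a ^ (-n).toNat) * LaurentPolynomial.T (s * n) := by
      rw [e, map_mul, map_pow, map_pow, hx, hy, mul_pow, LaurentPolynomial.T_pow, LaurentPolynomial.T_pow,
        mul_left_comm, ← LaurentPolynomial.T_add, ← map_pow]
      congr 2
      rcases hs with rfl | rfl <;> omega
    rw [map_smul, map_smul, hg, E_e, Finsupp.smul_apply, Finsupp.single_apply, smul_eq_mul,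
      ← LaurentPolynomial.single_eq_C_mul_T, AddMonoidAlgebra.coeff_smul, AddMonoidAlgebra.coeff_single, Finsupp.smul_apply,
      Finsupp.single_apply, smul_eq_mul]
    by_cases h : s * n = m
    · have h' : n = s * m := by rcases hs with rfl | rfl <;> omega
      rw [if_pos h, if_pos h', ← h']; ring
    · have h' : ¬ n = s * m := by rcases hs with rfl | rfl <;> omega
      rw [if_neg h, if_neg h']; ring

theorem coeff_T_mul (n m : ℤ) (F : LaurentPolynomial R) : (LaurentPolynomial.T n * F).coeff m = F.coeff (m - n) := by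
  rw [LaurentPolynomial.T, AddMonoidAlgebra.coeff_single_mul_eq_mul_coeff (m - n) (fun m' _ => by omega), one_mul]

variable (p q : R) (n : ℤ)

/-- The distinguished sections of the twist. -/
def Φ : (ℤ →₀ R) →ₗ[R] PolyNodeRing R q × PolyNodeRing R p :=
  Finsupp.linearCombination R fun m => (p ^ (m - n).toNat • e q m, q ^ (-m).toNat • e p (n - m))

theorem E_Φ (h : ℤ →₀ R) :
    (∀ m, E q (Φ p q n h).1 m = p ^ (m - n).toNat * h m) ∧
      ∀ j, E p (Φ p q n h).2 j = q ^ (j - n).toNat * h (n - j) := by
  induction h using Finsupp.induction_linear with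
  | zero => simp
  | add f g hf hg =>
    simp only [map_add, Prod.fst_add, Prod.snd_add, Finsupp.add_apply]
    exact ⟨fun m => by rw [hf.1, hg.1, mul_add], fun j => by rw [hf.2, hg.2, mul_add]⟩
  | single k c =>
    simp only [Φ, Finsupp.linearCombination_single, Prod.smul_fst, Prod.smul_snd, map_smul, E_e, Finsupp.smul_apply,
      Finsupp.single_apply, smul_eq_mul]
    refine ⟨fun m => ?_, fun j => ?_⟩
    · by_cases h : k = m
      · subst h; rw [if_pos rfl, if_pos rfl]; ring
      · rw [if_neg h, if_neg h]; ring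
    · by_cases h : n - k = j
      · obtain rfl : k = n - j := by omega
        rw [if_pos h, if_pos rfl, show -(n - j) = j - n by ring]; ring
      · rw [if_neg h, if_neg (by omega)]; ring

theorem Φ_injective (hn : -1 ≤ n) : Function.Injective (Φ p q n) := by
  refine (injective_iff_map_eq_zero _).mpr fun h h0 => Finsupp.ext fun m => ?_
  obtain ⟨h1, h2⟩ := E_Φ p q n h
  by_cases hm : m ≤ n
  · have := h1 m
    rw [h0, show (m - n).toNat = 0 by omega, pow_zero, one_mul] at this
    simpa using this.symm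
  · have := h2 (n - m)
    rw [h0, show (n - m - n).toNat = 0 by omega, pow_zero, one_mul, show n - (n - m) = m by ring] at this
    simpa using this.symm

variable (gU : PolyNodeRing R q →ₐ[R] LaurentPolynomial R)
    (hgUs : gU (PolyNodeRing.x R q) = LaurentPolynomial.T 1)
    (hgUy : gU (PolyNodeRing.y R q) = LaurentPolynomial.C q * LaurentPolynomial.T (-1))
    (gV : PolyNodeRing R p →ₐ[R] LaurentPolynomial R)
    (hgVt : gV (PolyNodeRing.x R p) = LaurentPolynomial.T (-1))
    (hgVx : gV (PolyNodeRing.y R p) = LaurentPolynomial.C p * LaurentPolynomial.T 1)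

include hgUs hgUy hgVt hgVx in
theorem section_iff (z : PolyNodeRing R q × PolyNodeRing R p) :
    gU z.1 = LaurentPolynomial.T n * gV z.2 ↔
      ∀ m, q ^ (-m).toNat * E q z.1 m = p ^ (m - n).toNat * E p z.2 (n - m) := by
  have hU : ∀ m, (gU z.1).coeff m = q ^ (-m).toNat * E q z.1 m := fun m => by
    simpa using map_chart q gU 1 (Or.inl rfl) hgUs hgUy z.1 m
  have hV : ∀ m, (gV z.2).coeff m = p ^ m.toNat * E p z.2 (-m) := fun m => by
    simpa using map_chart p gV (-1) (Or.inr rfl) hgVt (by rw [neg_neg]; exact hgVx) z.2 m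
  constructor
  · intro h m
    rw [← hU, h, coeff_T_mul, hV, neg_sub]
  · intro h
    refine AddMonoidAlgebra.ext (Finsupp.ext fun m => ?_)
    rw [hU, h, coeff_T_mul, hV, neg_sub]

include hgUs hgUy hgVt hgVx in
theorem Φ_mem (h : ℤ →₀ R) : gU (Φ p q n h).1 = LaurentPolynomial.T n * gV (Φ p q n h).2 := by
  rw [section_iff p q n gU hgUs hgUy gV hgVt hgVx]
  intro m
  rw [(E_Φ p q n h).1, (E_Φ p q n h).2, show n - m - n = -m by ring, show n - (n - m) = m by ring]
  ring

include hgUs hgUy hgVt hgVx in
theorem exists_Φ (hn : -1 ≤ n) (z : PolyNodeRing R q × PolyNodeRing R p)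
    (hz : gU z.1 = LaurentPolynomial.T n * gV z.2) : ∃ h, Φ p q n h = z := by
  classical
  rw [section_iff p q n gU hgUs hgUy gV hgVt hgVx] at hz
  let h : ℤ →₀ R := Finsupp.onFinset ((E q z.1).support ∪ (E p z.2).support.image fun j => n - j)
    (fun m => if m ≤ n then E q z.1 m else E p z.2 (n - m)) fun m hm => by
      rw [Finset.mem_union, Finset.mem_image]
      by_cases hmn : m ≤ n
      · rw [if_pos hmn] at hm; exact Or.inl (Finsupp.mem_support_iff.mpr hm)
      · rw [if_neg hmn] at hm; exact Or.inr ⟨n - m, Finsupp.mem_support_iff.mpr hm, by ring⟩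
  refine ⟨h, Prod.ext ((E q).injective (Finsupp.ext fun m => ?_)) ((E p).injective (Finsupp.ext fun j => ?_))⟩
  · rw [(E_Φ p q n h).1]
    show p ^ (m - n).toNat * (if m ≤ n then E q z.1 m else E p z.2 (n - m)) = _
    by_cases hmn : m ≤ n
    · rw [if_pos hmn, show (m - n).toNat = 0 by omega]; ring
    · rw [if_neg hmn, ← hz m, show (-m).toNat = 0 by omega]; ring
  · rw [(E_Φ p q n h).2]
    show q ^ (j - n).toNat * (if n - j ≤ n then E q z.1 (n - j) else E p z.2 (n - (n - j))) = _
    by_cases hmn : n - j ≤ n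
    · have := hz (n - j)
      rw [neg_sub, sub_sub_cancel, show (n - j - n).toNat = 0 by omega, pow_zero, one_mul] at this
      rw [if_pos hmn, this]
    · rw [if_neg hmn, sub_sub_cancel, show (j - n).toNat = 0 by omega]; ring

end

end Groth.L01.PolyNodeBasis
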