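import Groth.Agent.S6337
import Groth.Agent.L01.Kaplansky
import Groth.Agent.L01.CountFlatML
import Mathlib.LinearAlgebra.DirectSum.Finsupp
import Mathlib.RingTheory.Flat.Basic

/-!
Projective modules are Mittag-Leffler sums of countably generated modules, and conversely.
-/

universe u

namespace Groth.L01.ProjML

variable {R : Type u} [CommRing R] {M : Type u} [AddCommGroup M] [Module R M]

theorem universallyInjective_of_leftInverse {N : Type u} [AddCommGroup N] [Module R N] (f : N →ₗ[R] M)
    (g : M →ₗ[R] N) (hgf : g ∘ₗ f = LinearMap.id) : CAlgX.UniversallyInjective R f := by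
  intro Q _ _
  refine Function.LeftInverse.injective (g := g.rTensor Q) fun x => ?_
  rw [← LinearMap.comp_apply, ← LinearMap.rTensor_comp, hgf, LinearMap.rTensor_id, LinearMap.id_apply]

theorem isMittagLeffler_of_projective [Module.Projective R M] : CAlg.IsMittagLeffler R M := by
  classical
  obtain ⟨s, hs⟩ := Module.projective_def'.mp ‹Module.Projective R M›
  haveI : Module.FinitePresentation R R := inferInstance
  have hF : CAlg.IsMittagLeffler R (DirectSum M fun _ => R) :=
    (Groth.Agent.S6337.result R fun _ : M => R).mpr fun _ => Groth.L02.isMittagLeffler_of_finitePresentation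
  refine Groth.L02.isMittagLeffler_of_universallyInjective
    ((finsuppLEquivDirectSum R R M).toLinearMap ∘ₗ s) ?_ hF
  refine universallyInjective_of_leftInverse _
    (Finsupp.linearCombination R id ∘ₗ (finsuppLEquivDirectSum R R M).symm.toLinearMap) (LinearMap.ext fun x => ?_)
  simp only [LinearMap.comp_apply, LinearEquiv.coe_coe, LinearEquiv.symm_apply_apply, LinearMap.id_apply]
  exact LinearMap.congr_fun hs x

theorem exists_countable_decomposition [Module.Projective R M] :
    ∃ (ι : Type u) (N : ι → Submodule R M), iSupIndep N ∧ iSup N = ⊤ ∧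
      ∀ i, CountablyGen (N i) := by
  classical
  obtain ⟨s, hs⟩ := Module.projective_def'.mp ‹Module.Projective R M›
  let π : (M →₀ R) →ₗ[R] M := Finsupp.linearCombination R id
  let Ns : M → Submodule R (M →₀ R) := fun i => LinearMap.range (Finsupp.lsingle i)
  have hinternal : DirectSum.IsInternal Ns := by
    rw [DirectSum.isInternal_submodule_iff_iSupIndep_and_iSup_eq_top]
    refine ⟨fun i => ?_, ?_⟩
    · have := Finsupp.disjoint_lsingle_lsingle (M := R) (R := R) ({i} : Set M) {j | j ≠ i} (by simp)
      simpa [Ns] using this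
    · simp [Ns, Finsupp.iSup_lsingle_range]
  have hc : ∀ i, CountablyGen (Ns i) := fun i =>
    ⟨{Finsupp.single i 1}, Set.countable_singleton _, by
      simp only [Ns]
      refine le_antisymm ?_ ?_
      · rw [Submodule.span_singleton_le_iff_mem]
        exact ⟨1, rfl⟩
      · rintro _ ⟨r, rfl⟩
        exact Submodule.mem_span_singleton.mpr ⟨r, by simp⟩⟩
  have hcompl : IsCompl (LinearMap.range s) (LinearMap.ker π) := by
    refine ⟨Submodule.disjoint_def.mpr ?_, codisjoint_iff.mpr (eq_top_iff.mpr fun x _ => ?_)⟩
    · rintro _ ⟨y, rfl⟩ hy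
      rw [LinearMap.mem_ker] at hy
      have : y = 0 := (LinearMap.congr_fun hs y).symm.trans hy
      rw [this, map_zero]
    · refine Submodule.mem_sup.mpr ⟨s (π x), ⟨_, rfl⟩, x - s (π x), ?_, add_sub_cancel _ _⟩
      rw [LinearMap.mem_ker, map_sub, sub_eq_zero]
      exact (LinearMap.congr_fun hs (π x)).symm
  obtain ⟨κ, L, hind, hsup, hcg⟩ := kaplansky_internal Ns hinternal hc _ _ hcompl
  let e : LinearMap.range s ≃ₗ[R] M :=
    (LinearEquiv.ofLeftInverse (f := s) (g := π) (LinearMap.congr_fun hs)).symm
  refine ⟨κ, fun k => (L k).map e.toLinearMap, ?_, ?_, fun k => ?_⟩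
  · exact hind.map_orderIso (Submodule.orderIsoMapComap e)
  · rw [← Submodule.map_iSup, hsup, Submodule.map_top, LinearEquiv.range]
  · obtain ⟨t, ht, hts⟩ := hcg k
    exact ⟨e.toLinearMap '' t, ht.image _, by rw [← Submodule.map_span, hts]⟩

theorem projective_of_decomposition [Module.Flat R M] (hML : CAlg.IsMittagLeffler R M) {ι : Type u}
    [DecidableEq ι] (N : ι → Submodule R M) (hN : DirectSum.IsInternal N)
    (hc : ∀ i, CAlg.IsCountablyGenerated R (N i)) : Module.Projective R M := by
  let e := LinearEquiv.ofBijective (DirectSum.coeLinearMap N) hN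
  have h : ∀ i, Module.Projective R (N i) := fun i => by
    let g : M →ₗ[R] N i := DirectSum.component R ι (fun i => N i) i ∘ₗ e.symm.toLinearMap
    have hg : g ∘ₗ (N i).subtype = LinearMap.id := LinearMap.ext fun x => by
      have : e.symm (x : M) = DirectSum.lof R ι (fun i => N i) i x :=
        e.injective (by simp [e, DirectSum.coeLinearMap])
      simp [g, this]
    haveI : Module.Flat R (N i) := Module.Flat.of_retract (N i).subtype g hg
    exact CountFlatML.projective
      (Groth.L02.isMittagLeffler_of_universallyInjective _ (universallyInjective_of_leftInverse _ g hg) hML) (hc i)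
  exact Module.Projective.of_equiv' e

end Groth.L01.ProjML
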