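import Groth.Agent.L02.BassCancel
import Mathlib.Algebra.Category.ModuleCat.Basic
import Mathlib.CategoryTheory.IsomorphismClasses
import Mathlib.LinearAlgebra.TensorPower.Basic
import Mathlib.LinearAlgebra.PiTensorProduct
import Mathlib.LinearAlgebra.TensorProduct.Prod
import Mathlib.Algebra.Polynomial.Eval.Coeff
import Mathlib.NumberTheory.Multiplicity
import Mathlib.RingTheory.Ideal.Quotient.Basic
import Mathlib.RingTheory.Spectrum.Prime.FreeLocus

/-!
A finite projective module with a free tensor power is torsion in reduced K-theory.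
-/

set_option autoImplicit false
set_option linter.style.haveILetI false
universe u

open CategoryTheory TensorProduct

namespace Groth.L01.ProjTorsion

variable (R : Type u) [CommRing R]

/-- Isomorphism classes of modules. -/
def Cls : Type (u + 1) := Quotient (isIsomorphicSetoid (ModuleCat.{u} R))

variable {R}

/-- The class of a module. -/
def cl (M : Type u) [AddCommGroup M] [Module R M] : Cls R := Quotient.mk _ (ModuleCat.of R M)

theorem cl_eq {M N : Type u} [AddCommGroup M] [Module R M] [AddCommGroup N] [Module R N] (e : M ≃ₗ[R] N) :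
    cl (R := R) M = cl N := Quotient.sound ⟨e.toModuleIso⟩

theorem exists_equiv {M N : Type u} [AddCommGroup M] [Module R M] [AddCommGroup N] [Module R N]
    (h : cl (R := R) M = cl N) : Nonempty (M ≃ₗ[R] N) :=
  (Quotient.exact h).map Iso.toLinearEquiv

noncomputable instance : Add (Cls R) :=
  ⟨Quotient.map₂ (fun M N => ModuleCat.of R (M × N)) fun _ _ ⟨e⟩ _ _ ⟨f⟩ =>
    ⟨(e.toLinearEquiv.prodCongr f.toLinearEquiv).toModuleIso⟩⟩

noncomputable instance : Mul (Cls R) :=
  ⟨Quotient.map₂ (fun M N => ModuleCat.of R (M ⊗[R] N)) fun _ _ ⟨e⟩ _ _ ⟨f⟩ =>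
    ⟨(TensorProduct.congr e.toLinearEquiv f.toLinearEquiv).toModuleIso⟩⟩

noncomputable instance : Zero (Cls R) := ⟨cl PUnit.{u + 1}⟩

noncomputable instance : One (Cls R) := ⟨cl R⟩

noncomputable instance : CommSemiring (Cls R) where
  add_assoc a b c := Quotient.inductionOn₃ a b c fun _ _ _ => cl_eq (LinearEquiv.prodAssoc R _ _ _)
  zero_add a := Quotient.inductionOn a fun _ => cl_eq (LinearEquiv.uniqueProd)
  add_zero a := Quotient.inductionOn a fun _ => cl_eq (LinearEquiv.prodUnique)
  add_comm a b := Quotient.inductionOn₂ a b fun _ _ => cl_eq (LinearEquiv.prodComm R _ _)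
  nsmul := nsmulRec
  mul_assoc a b c := Quotient.inductionOn₃ a b c fun _ _ _ => cl_eq (TensorProduct.assoc R _ _ _)
  one_mul a := Quotient.inductionOn a fun _ => cl_eq (TensorProduct.lid R _)
  mul_one a := Quotient.inductionOn a fun _ => cl_eq (TensorProduct.rid R _)
  mul_comm a b := Quotient.inductionOn₂ a b fun _ _ => cl_eq (TensorProduct.comm R _ _)
  zero_mul a := Quotient.inductionOn a fun M => cl_eq
    (LinearEquiv.ofSubsingleton (PUnit.{u + 1} ⊗[R] M) PUnit.{u + 1})
  mul_zero a := Quotient.inductionOn a fun M => cl_eq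
    (LinearEquiv.ofSubsingleton ((M : Type u) ⊗[R] PUnit.{u + 1}) PUnit.{u + 1})
  left_distrib a b c := Quotient.inductionOn₃ a b c fun _ _ _ => cl_eq (TensorProduct.prodRight R R _ _ _)
  right_distrib a b c := Quotient.inductionOn₃ a b c fun _ _ _ => cl_eq (TensorProduct.prodLeft R R _ _ _)

theorem cl_prod (M N : Type u) [AddCommGroup M] [Module R M] [AddCommGroup N] [Module R N] :
    cl (R := R) (M × N) = cl M + cl N := rfl

theorem cl_tensor (M N : Type u) [AddCommGroup M] [Module R M] [AddCommGroup N] [Module R N] :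
    cl (R := R) (M ⊗[R] N) = cl M * cl N := rfl

theorem cl_fin (m : ℕ) : cl (R := R) (Fin m → R) = (m : Cls R) := by
  induction m with
  | zero =>
    rw [Nat.cast_zero]
    exact cl_eq (LinearEquiv.ofSubsingleton (Fin 0 → R) PUnit.{u + 1})
  | succ m ih =>
    rw [Nat.cast_succ, ← ih, show (1 : Cls R) = cl R from rfl, ← cl_prod]
    exact cl_eq
      { toFun := fun c => (fun i => c i.succ, c 0)
        invFun := fun z => Fin.cons z.2 z.1
        map_add' := fun _ _ => rfl
        map_smul' := fun _ _ => rfl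
        left_inv := fun c => Fin.cons_self_tail c
        right_inv := fun z => rfl }

theorem cl_pi (M : Type u) [AddCommGroup M] [Module R M] (m : ℕ) :
    cl (R := R) (Fin m → M) = (m : Cls R) * cl M := by
  induction m with
  | zero =>
    rw [Nat.cast_zero, zero_mul]
    exact cl_eq (LinearEquiv.ofSubsingleton (Fin 0 → M) PUnit.{u + 1})
  | succ m ih =>
    rw [Nat.cast_succ, add_mul, one_mul, ← ih, ← cl_prod]
    exact cl_eq
      { toFun := fun c => (fun i => c i.succ, c 0)
        invFun := fun z => Fin.cons z.2 z.1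
        map_add' := fun _ _ => rfl
        map_smul' := fun _ _ => rfl
        left_inv := fun c => Fin.cons_self_tail c
        right_inv := fun z => rfl }

theorem cl_tensorPower (P : Type u) [AddCommGroup P] [Module R P] (n : ℕ) :
    cl (R := R) (TensorPower R n P) = cl P ^ n := by
  induction n with
  | zero =>
    rw [pow_zero]
    exact cl_eq (PiTensorProduct.isEmptyEquiv (Fin 0))
  | succ n ih =>
    rw [pow_succ, ← ih, ← cl_tensor]
    exact cl_eq ((TensorPower.mulEquiv (n := n) (m := 1)).symm.trans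
      (TensorProduct.congr (LinearEquiv.refl R _) (PiTensorProduct.subsingletonEquiv (0 : Fin 1))))

/-- Evaluation of polynomials with natural coefficients. -/
noncomputable def ev (a : Cls R) : Polynomial ℕ →+* Cls R := Polynomial.eval₂RingHom (Nat.castRingHom _) a

theorem ev_X (a : Cls R) : ev a Polynomial.X = a := Polynomial.eval₂_X _ _

theorem ev_C (a : Cls R) (m : ℕ) : ev a (Polynomial.C m) = (m : Cls R) := Polynomial.eval₂_C _ _

/-- The natural map to integral polynomials. -/
noncomputable abbrev toZ : Polynomial ℕ →+* Polynomial ℤ := Polynomial.mapRingHom (Nat.castRingHom ℤ)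

theorem exists_sub (f : Polynomial ℤ) : ∃ p q : Polynomial ℕ, f = toZ p - toZ q := by
  induction f using Polynomial.induction_on' with
  | add f g hf hg =>
    obtain ⟨p, q, rfl⟩ := hf
    obtain ⟨p', q', rfl⟩ := hg
    exact ⟨p + p', q + q', by rw [map_add, map_add]; ring⟩
  | monomial j c =>
    refine ⟨Polynomial.monomial j c.toNat, Polynomial.monomial j (-c).toNat, ?_⟩
    simp only [toZ, Polynomial.coe_mapRingHom, Polynomial.map_monomial, Nat.coe_castRingHom,
      ← map_sub, Int.toNat_sub_toNat_neg]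

/-- The relations satisfied by a class. -/
noncomputable def relIdeal (a : Cls R) : Ideal (Polynomial ℤ) where
  carrier := {f | ∃ p q, f = toZ p - toZ q ∧ ev a p = ev a q}
  zero_mem' := ⟨0, 0, by simp, rfl⟩
  add_mem' := by
    rintro _ _ ⟨p, q, rfl, h⟩ ⟨p', q', rfl, h'⟩
    exact ⟨p + p', q + q', by rw [map_add, map_add]; ring, by rw [map_add, map_add, h, h']⟩
  smul_mem' := by
    rintro c _ ⟨p, q, rfl, h⟩
    obtain ⟨s, t, rfl⟩ := exists_sub c
    refine ⟨p * s + q * t, q * s + p * t, ?_, ?_⟩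
    · simp only [map_add, map_mul, smul_eq_mul]; ring
    · rw [map_add, map_add, map_mul, map_mul, map_mul, map_mul, h]

theorem exists_int_smul_eq_zero {Q : Type*} [CommRing Q] (y : Q) (k r n : ℕ) (hk : y ^ k = 0)
    (hr : 0 < r) (hn : 0 < n) (h : (y + r) ^ n = (r : Q) ^ n) : ∃ C : ℕ, 0 < C ∧ (C : Q) * y = 0 := by
  obtain ⟨z, hz⟩ := sq_dvd_add_pow_sub_sub y (r : Q) n
  rw [add_comm (r : Q) y, h] at hz
  let N := r ^ (n - 1) * n
  have hN : (N : Q) * y = -(y ^ 2 * z) := by
    rw [Nat.cast_mul, Nat.cast_pow]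
    linear_combination -hz
  have key : ∀ d i, 1 ≤ i → k ≤ i + d → (N : Q) ^ d * y ^ i = 0 := by
    intro d
    induction d with
    | zero => exact fun i _ hki => by rw [pow_zero, one_mul, pow_eq_zero_of_le (by omega) hk]
    | succ d ih =>
      intro i hi hki
      obtain ⟨j, rfl⟩ : ∃ j, i = j + 1 := ⟨i - 1, by omega⟩
      calc (N : Q) ^ (d + 1) * y ^ (j + 1) = (N : Q) ^ d * y ^ j * ((N : Q) * y) := by ring
        _ = -((N : Q) ^ d * y ^ (j + 1 + 1) * z) := by rw [hN]; ring
        _ = 0 := by rw [ih (j + 1 + 1) (by omega) (by omega), zero_mul, neg_zero]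
  refine ⟨N ^ k, pow_pos (Nat.mul_pos (pow_pos hr _) hn) _, ?_⟩
  rw [Nat.cast_pow]
  have := key k 1 le_rfl (by omega)
  rwa [pow_one] at this

variable (P : Type u) [AddCommGroup P] [Module R P]

/-- Two factor step of the Koszul-type construction. -/
theorem exists_step {E O A B : Type u} [AddCommGroup E] [Module R E] [AddCommGroup O] [Module R O]
    [AddCommGroup A] [Module R A] [AddCommGroup B] [Module R B]
    (U : E →ₗ[R] O) (V : O →ₗ[R] E) (φ : A →ₗ[R] B) (ψ : B →ₗ[R] A) (s t : R)
    (hVU : ∀ x, V (U x) = s • x) (hUV : ∀ x, U (V x) = s • x)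
    (hψφ : ∀ x, ψ (φ x) = t • x) (hφψ : ∀ x, φ (ψ x) = t • x) :
    ∃ (U' : ((E ⊗[R] A) × (O ⊗[R] B)) →ₗ[R] ((O ⊗[R] A) × (E ⊗[R] B)))
      (V' : ((O ⊗[R] A) × (E ⊗[R] B)) →ₗ[R] ((E ⊗[R] A) × (O ⊗[R] B))),
      (∀ x, V' (U' x) = (s + t) • x) ∧ ∀ x, U' (V' x) = (s + t) • x := by
  let U' : ((E ⊗[R] A) × (O ⊗[R] B)) →ₗ[R] ((O ⊗[R] A) × (E ⊗[R] B)) :=
    ((U.rTensor A).coprod (-(ψ.lTensor O))).prod ((φ.lTensor E).coprod (V.rTensor B))
  let V' : ((O ⊗[R] A) × (E ⊗[R] B)) →ₗ[R] ((E ⊗[R] A) × (O ⊗[R] B)) :=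
    ((V.rTensor A).coprod (ψ.lTensor E)).prod ((-(φ.lTensor O)).coprod (U.rTensor B))
  refine ⟨U', V', LinearMap.congr_fun (show V' ∘ₗ U' = (s + t) • LinearMap.id from ?_),
    LinearMap.congr_fun (show U' ∘ₗ V' = (s + t) • LinearMap.id from ?_)⟩
  · apply LinearMap.prod_ext <;> refine TensorProduct.ext' fun x y => ?_ <;>
      simp [U', V', hVU, hUV, hψφ, hφψ, add_smul, TensorProduct.smul_tmul', TensorProduct.tmul_smul] <;> abel
  · apply LinearMap.prod_ext <;> refine TensorProduct.ext' fun x y => ?_ <;>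
      simp [U', V', hVU, hUV, hψφ, hφψ, add_smul, TensorProduct.smul_tmul', TensorProduct.tmul_smul] <;> abel

variable {P}

/-- The class of a module which is locally free of rank `r` satisfies `(r - X) ^ k`. -/
theorem pow_mem_relIdeal {r : ℕ} : ∀ (L : List (R × ((Fin r → R) →ₗ[R] P) × (P →ₗ[R] (Fin r → R)))) (c : List R),
    c.length = L.length →
    (∀ l ∈ L, (∀ x, l.2.2 (l.2.1 x) = l.1 • x) ∧ ∀ x, l.2.1 (l.2.2 x) = l.1 • x) →
    ∃ (E O : Type u) (_ : AddCommGroup E) (_ : Module R E) (_ : AddCommGroup O) (_ : Module R O)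
      (U : E →ₗ[R] O) (V : O →ₗ[R] E) (p q : Polynomial ℕ),
      (∀ x, V (U x) = (List.zipWith (fun a l => a * l.1) c L).sum • x) ∧
      (∀ x, U (V x) = (List.zipWith (fun a l => a * l.1) c L).sum • x) ∧
      ev (cl (R := R) P) p = cl E ∧ ev (cl (R := R) P) q = cl O ∧
      toZ p - toZ q = (Polynomial.C (r : ℤ) - Polynomial.X) ^ L.length := by
  intro L
  induction L with
  | nil =>
    intro c hc _
    obtain rfl := List.eq_nil_of_length_eq_zero hc
    refine ⟨R, PUnit.{u + 1}, inferInstance, inferInstance, inferInstance, inferInstance, 0, 0, 1, 0,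
      fun x => by simp, fun x => Subsingleton.elim _ _, map_one _, map_zero _, by simp⟩
  | cons l L ih =>
    intro c hc hL
    cases c with
    | nil => simp at hc
    | cons a c =>
      obtain ⟨E, O, _, _, _, _, U, V, p, q, hVU, hUV, hp, hq, hpq⟩ :=
        ih c (by simpa using hc) fun l' hl' => hL l' (List.mem_cons_of_mem _ hl')
      obtain ⟨hψφ, hφψ⟩ := hL l List.mem_cons_self
      obtain ⟨U', V', hVU', hUV'⟩ := exists_step (A := Fin r → R) (B := P) U V l.2.1 (a • l.2.2) _ (a * l.1)
        hVU hUV (fun x => by rw [LinearMap.smul_apply, hψφ, smul_smul])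
        (fun x => by rw [LinearMap.smul_apply, map_smul, hφψ, smul_smul])
      refine ⟨_, _, inferInstance, inferInstance, inferInstance, inferInstance, U', V',
        p * Polynomial.C r + q * Polynomial.X, q * Polynomial.C r + p * Polynomial.X,
        fun x => by rw [hVU', List.zipWith_cons_cons, List.sum_cons, add_comm],
        fun x => by rw [hUV', List.zipWith_cons_cons, List.sum_cons, add_comm], ?_, ?_, ?_⟩
      · rw [cl_prod, cl_tensor, cl_tensor, cl_fin, map_add, map_mul, map_mul, ev_C, ev_X, hp, hq]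
      · rw [cl_prod, cl_tensor, cl_tensor, cl_fin, map_add, map_mul, map_mul, ev_C, ev_X, hp, hq]
      · rw [List.length_cons, pow_succ, ← hpq]
        simp only [map_add, map_mul, toZ, Polynomial.coe_mapRingHom, Polynomial.map_C, Polynomial.map_X,
          Nat.coe_castRingHom]
        ring

theorem exists_local_inverse [Module.Finite R P] [Module.Projective R P] {r : ℕ} (q : PrimeSpectrum R)
    (hq : Module.rankAtStalk (R := R) P q = r) :
    ∃ (g : R) (φ : (Fin r → R) →ₗ[R] P) (ψ : P →ₗ[R] (Fin r → R)),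
      g ∉ q.asIdeal ∧ (∀ x, ψ (φ x) = g • x) ∧ ∀ x, φ (ψ x) = g • x := by
  classical
  haveI : Module.FinitePresentation R P := Module.finitePresentation_of_projective R P
  let S := q.asIdeal.primeCompl
  let Rq := Localization.AtPrime q.asIdeal
  haveI : Module.Finite Rq (LocalizedModule S P) :=
    Module.Finite.of_isLocalizedModule S (LocalizedModule.mkLinearMap S P)
  haveI : Module.Flat Rq (LocalizedModule S P) :=
    Module.Flat.of_isLocalizedModule Rq S (LocalizedModule.mkLinearMap S P)
  haveI : Module.Free Rq (LocalizedModule S P) := Module.free_of_flat_of_isLocalRing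
  let b := Module.finBasisOfFinrankEq Rq (LocalizedModule S P) hq
  let mR := (Algebra.linearMap R Rq).compLeft (Fin r)
  haveI : IsLocalizedModule S mR :=
    IsLocalizedModule.pi S fun _ : Fin r => Algebra.linearMap R Rq
  let mP := LocalizedModule.mkLinearMap S P
  obtain ⟨φ, s₁, hφ⟩ := Module.FinitePresentation.exists_lift_of_isLocalizedModule (S := S) (f := mP)
    ((b.equivFun.symm.toLinearMap.restrictScalars R).comp mR)
  obtain ⟨ψ, s₂, hψ⟩ := Module.FinitePresentation.exists_lift_of_isLocalizedModule (S := S) (f := mR)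
    ((b.equivFun.toLinearMap.restrictScalars R).comp mP)
  have hφ' : ∀ x, mP (φ x) = (s₁ : R) • b.equivFun.symm (mR x) := fun x => LinearMap.congr_fun hφ x
  have hψ' : ∀ x, mR (ψ x) = (s₂ : R) • b.equivFun (mP x) := fun x => LinearMap.congr_fun hψ x
  have h1 : ∀ x, mR (ψ (φ x)) = mR (((s₁ : R) * s₂) • x) := fun x => by
    rw [hψ', hφ', show b.equivFun ((s₁ : R) • b.equivFun.symm (mR x)) = (s₁ : R) • mR x by
      rw [← LinearEquiv.coe_toLinearMap, LinearMap.map_smul_of_tower, LinearEquiv.coe_toLinearMap,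
        LinearEquiv.apply_symm_apply], smul_smul, map_smul, mul_comm]
  have h2 : ∀ x, mP (φ (ψ x)) = mP (((s₁ : R) * s₂) • x) := fun x => by
    rw [hφ', hψ', show b.equivFun.symm ((s₂ : R) • b.equivFun (mP x)) = (s₂ : R) • mP x by
      rw [← LinearEquiv.coe_toLinearMap, LinearMap.map_smul_of_tower, LinearEquiv.coe_toLinearMap,
        LinearEquiv.symm_apply_apply], smul_smul, map_smul]
  obtain ⟨σ, hσ⟩ : ∃ σ : S, ∀ x : Fin r → R, (σ : R) • ψ (φ x) = (σ : R) • ((s₁ : R) * s₂) • x := by
    choose c hc using fun i => IsLocalizedModule.exists_of_eq (S := S) (f := mR) (h1 (Pi.single i 1))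
    refine ⟨∏ i, c i, fun x => ?_⟩
    rw [pi_eq_sum_univ' x, map_sum, map_sum, Finset.smul_sum, Finset.smul_sum, Finset.smul_sum]
    refine Finset.sum_congr rfl fun i _ => ?_
    obtain ⟨d, hd⟩ := Finset.dvd_prod_of_mem c (Finset.mem_univ i)
    rw [hd, map_smul, map_smul, Submonoid.coe_mul, smul_comm _ (x i), smul_comm ((s₁ : R) * s₂) (x i),
      smul_comm ((c i : R) * d) (x i), mul_comm (c i : R), mul_smul, mul_smul (d : R)]
    exact congrArg (fun z => x i • (d : R) • z) (hc i)
  obtain ⟨G, hG⟩ := (inferInstance : Module.Finite R P).fg_top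
  obtain ⟨τ, hτ⟩ : ∃ τ : S, ∀ x : P, (τ : R) • φ (ψ x) = (τ : R) • ((s₁ : R) * s₂) • x := by
    choose c hc using fun i : G => IsLocalizedModule.exists_of_eq (S := S) (f := mP) (h2 i)
    refine ⟨∏ i, c i, fun x => ?_⟩
    have hx : x ∈ Submodule.span R (G : Set P) := hG ▸ Submodule.mem_top
    induction hx using Submodule.span_induction with
    | mem x hx =>
      obtain ⟨d, hd⟩ := Finset.dvd_prod_of_mem c (Finset.mem_univ (⟨x, hx⟩ : G))
      rw [hd, Submonoid.coe_mul, mul_comm (c _ : R), mul_smul, mul_smul (d : R)]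
      exact congrArg (fun z => (d : R) • z) (hc ⟨x, hx⟩)
    | zero => simp
    | add x y _ _ hx hy => simp only [map_add, smul_add, hx, hy]
    | smul a x _ hx =>
      rw [map_smul, map_smul, smul_comm _ a, hx, smul_comm ((s₁ : R) * s₂) a x, smul_comm (_ : R) a]
  refine ⟨(σ : R) * τ * ((s₁ : R) * s₂), φ, ((σ : R) * τ) • ψ, ?_, fun x => ?_, fun x => ?_⟩
  · exact (σ * τ * (s₁ * s₂)).2
  · rw [LinearMap.smul_apply, mul_comm (σ : R), mul_smul, hσ]
    simp only [smul_smul]
    congr 1
    ring
  · rw [LinearMap.smul_apply, map_smul, mul_smul, hτ]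
    simp only [smul_smul]
    congr 1
    ring

theorem pow_class [Module.Finite R P] [Module.Projective R P] (n : ℕ) :
    ∃ (M : Type u) (_ : AddCommGroup M) (_ : Module R M) (_ : Module.Finite R M) (_ : Module.Projective R M),
      cl (R := R) M = cl P ^ n ∧
        ∀ p : PrimeSpectrum R, Module.rankAtStalk (R := R) M p = Module.rankAtStalk (R := R) P p ^ n := by
  induction n with
  | zero =>
    exact ⟨R, inferInstance, inferInstance, inferInstance, inferInstance, (pow_zero _).symm, fun p => by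
      haveI : Nontrivial R := nontrivial_of_ne _ _ (fun h => p.isPrime.ne_top ((Ideal.eq_top_iff_one _).2 (h ▸ zero_mem _)) : (0 : R) ≠ 1)
      rw [Module.rankAtStalk_self, pow_zero]; rfl⟩
  | succ n ih =>
    obtain ⟨M, _, _, _, _, hM, hr⟩ := ih
    exact ⟨M ⊗[R] P, inferInstance, inferInstance, inferInstance, inferInstance,
      by rw [cl_tensor, hM, pow_succ], fun p => by rw [Module.rankAtStalk_tensorProduct, Pi.mul_apply, hr, pow_succ]⟩

instance projective_fin (M : Type u) [AddCommGroup M] [Module R M] [Module.Projective R M] (m : ℕ) :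
    Module.Projective R (Fin m → M) := by
  induction m with
  | zero => exact Module.Projective.of_free
  | succ m ih =>
    let e : (Fin (m + 1) → M) ≃ₗ[R] ((Fin m → M) × M) :=
      { toFun := fun c => (fun i => c i.succ, c 0)
        invFun := fun z => Fin.cons z.2 z.1
        map_add' := fun _ _ => rfl
        map_smul' := fun _ _ => rfl
        left_inv := fun c => Fin.cons_self_tail c
        right_inv := fun z => rfl }
    exact Module.Projective.of_equiv e.symm

theorem ev_class [Module.Finite R P] [Module.Projective R P] (f : Polynomial ℕ) :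
    ∃ (M : Type u) (_ : AddCommGroup M) (_ : Module R M) (_ : Module.Finite R M) (_ : Module.Projective R M),
      cl (R := R) M = ev (cl P) f := by
  induction f using Polynomial.induction_on' with
  | add f g hf hg =>
    obtain ⟨M, _, _, _, _, hM⟩ := hf
    obtain ⟨N, _, _, _, _, hN⟩ := hg
    exact ⟨M × N, inferInstance, inferInstance, inferInstance, inferInstance, by rw [cl_prod, hM, hN, map_add]⟩
  | monomial j m =>
    obtain ⟨M, _, _, _, _, hM, -⟩ := pow_class (R := R) (P := P) j
    exact ⟨Fin m → M, inferInstance, inferInstance, inferInstance, inferInstance, by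
      rw [cl_pi, hM, ← Polynomial.C_mul_X_pow_eq_monomial, map_mul, map_pow, ev_C, ev_X]⟩

theorem exists_pi_free [IsNoetherianRing R] {d : ℕ} (hd : ringKrullDim R ≤ d) [Module.Finite R P]
    [Module.Projective R P] (n : ℕ) (hn : 1 ≤ n) (hfree : Module.Free R (TensorPower R n P)) :
    ∃ N : ℕ, 1 ≤ N ∧ Module.Free R (Fin N → P) := by
  classical
  rcases subsingleton_or_nontrivial R with hR | hR
  · haveI : Subsingleton (Fin 1 → P) := Module.subsingleton R _
    exact ⟨1, le_rfl, Module.Free.of_subsingleton R _⟩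
  obtain ⟨q₀⟩ : Nonempty (PrimeSpectrum R) := inferInstance
  let r := Module.rankAtStalk (R := R) P q₀
  have hrk : ∀ p : PrimeSpectrum R, Module.rankAtStalk (R := R) P p = r := fun p => by
    obtain ⟨M, _, _, _, _, hM, hMr⟩ := pow_class (R := R) (P := P) n
    obtain ⟨e⟩ := exists_equiv (hM.trans (cl_tensorPower P n).symm)
    haveI : Module.Free R M := Module.Free.of_equiv e.symm
    have h := congrFun (Module.rankAtStalk_eq_finrank_of_free (R := R) (M := M)) p
    have h₀ := congrFun (Module.rankAtStalk_eq_finrank_of_free (R := R) (M := M)) q₀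
    rw [hMr] at h h₀
    exact Nat.pow_left_injective (by omega) (h.trans h₀.symm)
  rcases Nat.eq_zero_or_pos r with hr0 | hrpos
  · haveI : Subsingleton P := Module.rankAtStalk_eq_zero_iff_subsingleton.1 (funext fun p => (hrk p).trans hr0)
    exact ⟨1, le_rfl, Module.Free.of_subsingleton R _⟩
  choose g φ ψ hg hψφ hφψ using fun p => exists_local_inverse (P := P) p (hrk p)
  have hspan : Ideal.span (Set.range g) = ⊤ := by
    by_contra hne
    obtain ⟨M, hM, hle⟩ := Ideal.exists_le_maximal _ hne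
    exact hg ⟨M, hM.isPrime⟩ (hle (Ideal.subset_span ⟨_, rfl⟩))
  obtain ⟨c, hc⟩ := Finsupp.mem_ideal_span_range_iff_exists_finsupp.1 (hspan ▸ Submodule.mem_top : (1 : R) ∈ Ideal.span (Set.range g))
  let pts := c.support.toList
  let L := pts.map fun p => (g p, φ p, ψ p)
  obtain ⟨E, O, _, _, _, _, U, V, p, q, hVU, hUV, hp, hq, hpq⟩ := pow_mem_relIdeal L (pts.map c) (by simp [L])
    (fun l hl => by obtain ⟨i, -, rfl⟩ := List.mem_map.1 hl; exact ⟨hψφ i, hφψ i⟩)
  have hsum : (List.zipWith (fun a l => a * l.1) (pts.map c) L).sum = 1 := by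
    rw [List.zipWith_map, List.zipWith_self, Finset.sum_map_toList]
    exact hc
  let e : E ≃ₗ[R] O := LinearEquiv.ofLinearMap U V
    (LinearMap.ext fun x => by rw [LinearMap.comp_apply, hUV, hsum, one_smul]; rfl)
    (LinearMap.ext fun x => by rw [LinearMap.comp_apply, hVU, hsum, one_smul]; rfl)
  let I := relIdeal (cl (R := R) P)
  have hI₁ : (Polynomial.C (r : ℤ) - Polynomial.X) ^ L.length ∈ I :=
    ⟨p, q, hpq.symm, by rw [hp, hq]; exact cl_eq e⟩
  have hI₂ : Polynomial.X ^ n - Polynomial.C ((r : ℤ) ^ n) ∈ I := by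
    refine ⟨Polynomial.X ^ n, Polynomial.C (r ^ n), by simp [toZ], ?_⟩
    rw [map_pow, ev_X, ev_C, ← cl_tensorPower, ← cl_fin]
    obtain ⟨M, _, _, _, _, hM, hMr⟩ := pow_class (R := R) (P := P) n
    obtain ⟨e'⟩ := exists_equiv (hM.trans (cl_tensorPower P n).symm)
    haveI : Module.Free R M := Module.Free.of_equiv e'.symm
    have h₀ := congrFun (Module.rankAtStalk_eq_finrank_of_free (R := R) (M := M)) q₀
    rw [hMr] at h₀
    exact cl_eq (e'.symm.trans (Module.finBasisOfFinrankEq R M h₀.symm).equivFun)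
  let π := Ideal.Quotient.mk I
  obtain ⟨C, hC, hCy⟩ := exists_int_smul_eq_zero (π Polynomial.X - (r : Polynomial ℤ ⧸ I)) L.length r n
    (by
      have h := Ideal.Quotient.eq_zero_iff_mem.2 hI₁
      rw [map_pow, map_sub] at h
      rw [show π Polynomial.X - (r : Polynomial ℤ ⧸ I) = -1 * (π (Polynomial.C (r : ℤ)) - π Polynomial.X) by
        rw [show π (Polynomial.C (r : ℤ)) = (r : Polynomial ℤ ⧸ I) by simp [π]]; ring, mul_pow, h, mul_zero])
    hrpos hn (by
      rw [sub_add_cancel]
      have h := Ideal.Quotient.eq.2 hI₂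
      rw [map_pow, map_pow, map_pow] at h
      rw [h]
      simp [π])
  have hmem : toZ (Polynomial.C C * Polynomial.X) - toZ (Polynomial.C (C * r)) ∈ I := by
    refine Ideal.Quotient.eq_zero_iff_mem.1 ?_
    rw [← hCy]
    simp [toZ, π, mul_sub]
  obtain ⟨u, v, huv, hev⟩ := hmem
  have key : ev (cl (R := R) P) (Polynomial.C C * Polynomial.X + v) = ev (cl P) (Polynomial.C (C * r) + u) :=
    congrArg _ (Polynomial.map_injective (Nat.castRingHom ℤ) (RingHom.injective_nat _) (by
      rw [← Polynomial.coe_mapRingHom, map_add, map_add]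
      linear_combination huv))
  rw [map_add, map_add, map_mul, ev_C, ev_X, ev_C, hev] at key
  obtain ⟨Z, _, _, _, _, hZ⟩ := ev_class (R := R) (P := P) v
  obtain ⟨s, π', hπ'⟩ := Module.Finite.exists_fin' R Z
  obtain ⟨sec, hsec⟩ := Module.projective_lifting_property π' LinearMap.id hπ'
  have eZ : (LinearMap.ker π' × Z) ≃ₗ[R] (Fin s → R) :=
    LinearEquiv.ofBijective ((LinearMap.ker π').subtype.coprod sec) ⟨fun a b hab => by
      have h := congrArg π' hab
      simp only [LinearMap.coprod_apply, map_add, Submodule.subtype_apply] at h hab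
      rw [show π' a.1 = 0 from a.1.2, show π' b.1 = 0 from b.1.2, zero_add, zero_add,
        show π' (sec a.2) = a.2 from LinearMap.congr_fun hsec a.2,
        show π' (sec b.2) = b.2 from LinearMap.congr_fun hsec b.2] at h
      rw [h, add_left_inj] at hab
      exact Prod.ext (Subtype.ext hab) h, fun y => ⟨(⟨y - sec (π' y), by
        rw [LinearMap.mem_ker, map_sub, show π' (sec (π' y)) = π' y from LinearMap.congr_fun hsec _, sub_self]⟩,
        π' y), by simp⟩⟩
  have hs : cl (LinearMap.ker π') + cl (R := R) Z = (s : Cls R) := by rw [← cl_prod, ← cl_fin]; exact cl_eq eZ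
  let N := C * (d + 1)
  have hfin : cl (R := R) ((Fin N → P) × (Fin ((d + 1) * s) → R)) =
      cl (R := R) ((Fin (N * r) → R) × (Fin ((d + 1) * s) → R)) := by
    rw [cl_prod, cl_prod, cl_pi, cl_fin, cl_fin, Nat.cast_mul, Nat.cast_mul, Nat.cast_mul, ← hs, hZ,
      Nat.cast_mul (C) (d + 1)]
    rw [Nat.cast_mul] at key
    calc (C : Cls R) * ((d + 1 : ℕ) : Cls R) * cl P + ((d + 1 : ℕ) : Cls R) * (cl (LinearMap.ker π') + ev (cl P) v)
        = ((d + 1 : ℕ) : Cls R) * (((C : Cls R) * cl P + ev (cl P) v) + cl (LinearMap.ker π')) := by ring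
      _ = ((d + 1 : ℕ) : Cls R) * (((C : Cls R) * (r : Cls R) + ev (cl P) v) + cl (LinearMap.ker π')) := by rw [key]
      _ = _ := by ring
  obtain ⟨eN⟩ := exists_equiv hfin
  have hN : ∀ p, d + 1 ≤ Module.rankAtStalk (R := R) (Fin N → P) p := fun p => by
    rw [Module.rankAtStalk_pi, finsum_eq_sum_of_fintype, Finset.sum_const, Finset.card_univ, Fintype.card_fin,
      hrk, smul_eq_mul]
    exact (Nat.le_mul_of_pos_left _ hC).trans (Nat.le_mul_of_pos_right _ hrpos)
  obtain ⟨e'⟩ := Groth.L02.BassCancel.cancel hd _ hN eN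
  exact ⟨N, Nat.mul_pos hC (Nat.succ_pos d), Module.Free.of_equiv e'.symm⟩

end Groth.L01.ProjTorsion
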