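import Mathlib.RingTheory.Flat.Equalizer
import Mathlib.RingTheory.LocalRing.Module
import Mathlib.RingTheory.LocalRing.ResidueField.Ideal
import Mathlib.RingTheory.LocalProperties.Reduced
import Mathlib.RingTheory.Flat.Localization
import Mathlib.RingTheory.Localization.BaseChange
import Mathlib.RingTheory.Spectrum.Prime.Module
import Mathlib.RingTheory.Spectrum.Prime.FreeLocus
import Mathlib.RingTheory.TensorProduct.Free
import Mathlib.RingTheory.TensorProduct.Finite
import Mathlib.Topology.Semicontinuity.Basic
import Mathlib.LinearAlgebra.Dimension.Constructions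

/-!
Fibre dimensions of finite modules and of maps between them; base change exchange.
-/

set_option autoImplicit false
universe u v v'

open scoped TensorProduct
open Filter Topology

namespace Groth.L01.RankExchange

variable {A : Type u} [CommRing A]

section Split

variable {X : Type v} {Y Z : Type v} [AddCommGroup X] [Module A X] [AddCommGroup Y] [Module A Y]
  [AddCommGroup Z] [Module A Z]

theorem projective_left (f : X →ₗ[A] Y) (g : Y →ₗ[A] Z) (hf : Function.Injective f)
    (hg : Function.Surjective g) (h : Function.Exact f g) [Module.Projective A Y]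
    [Module.Projective A Z] : Module.Projective A X := by
  obtain ⟨s, hs⟩ := Module.projective_lifting_property g LinearMap.id hg
  let r : Y →ₗ[A] LinearMap.range f := (LinearMap.id - s ∘ₗ g).codRestrict _ fun y =>
    (h _).mp (by
      rw [LinearMap.sub_apply, map_sub, LinearMap.id_apply, LinearMap.comp_apply,
        show g (s (g y)) = g y from LinearMap.congr_fun hs (g y), sub_self])
  refine Module.Projective.of_split f ((LinearEquiv.ofInjective f hf).symm.toLinearMap ∘ₗ r) ?_
  ext x
  refine (LinearEquiv.ofInjective f hf).injective (Subtype.ext ?_)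
  show (LinearEquiv.ofInjective f hf ((LinearEquiv.ofInjective f hf).symm (r (f x)))).1 = f x
  rw [LinearEquiv.apply_symm_apply]
  show f x - s (g (f x)) = f x
  rw [(h _).mpr ⟨x, rfl⟩, map_zero, sub_zero]

end Split

section Mu

/-- Fibre dimension. -/
noncomputable abbrev mu (M : Type v) [AddCommGroup M] [Module A M] (x : PrimeSpectrum A) : ℕ :=
  Module.finrank x.asIdeal.ResidueField (x.asIdeal.ResidueField ⊗[A] M)

variable (M : Type v) [AddCommGroup M] [Module A M]

theorem mu_eventually_le [Module.Finite A M] (x : PrimeSpectrum A) :
    ∀ᶠ y in 𝓝 x, mu M y ≤ mu M x := by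
  classical
  let k := x.asIdeal.ResidueField
  let S : Submodule k (k ⊗[A] M) := Submodule.span k (Set.range fun m : M => (1 : k) ⊗ₜ[A] m)
  have hS : S = ⊤ := by
    refine eq_top_iff.mpr fun z htop => ?_
    clear htop
    induction z using TensorProduct.induction_on with
    | zero => exact zero_mem _
    | tmul a m =>
      rw [show a ⊗ₜ[A] m = a • ((1 : k) ⊗ₜ[A] m) by rw [TensorProduct.smul_tmul', smul_eq_mul, mul_one]]
      exact S.smul_mem a (Submodule.subset_span ⟨m, rfl⟩)
    | add a b ha hb => exact add_mem ha hb
  obtain ⟨f, hf, hspan, -⟩ := Submodule.exists_fun_fin_finrank_span_eq k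
    (Set.range fun m : M => (1 : k) ⊗ₜ[A] m)
  choose w hv using hf
  have hspan' : Submodule.span k (Set.range f) = ⊤ := hspan.trans hS
  let N := Submodule.span A (Set.range w)
  have : Module.Finite A N := Module.Finite.span_of_finite A (Set.finite_range w)
  have hx : x ∉ Module.support A (M ⧸ N) := by
    rw [Module.mem_support_iff_nontrivial_residueField_tensorProduct, not_nontrivial_iff_subsingleton]
    refine subsingleton_of_forall_eq 0 fun z => ?_
    obtain ⟨z, rfl⟩ := LinearMap.lTensor_surjective k N.mkQ_surjective z
    have hz : z ∈ Submodule.span k (Set.range f) := hspan'.symm ▸ Submodule.mem_top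
    show N.mkQ.baseChange k z = 0
    refine LinearMap.mem_ker.mp ((Submodule.span_le.mpr ?_ : _ ≤ LinearMap.ker (N.mkQ.baseChange k)) hz)
    rintro _ ⟨i, rfl⟩
    rw [SetLike.mem_coe, LinearMap.mem_ker, ← hv i, LinearMap.baseChange_tmul, Submodule.mkQ_apply,
      (Submodule.Quotient.mk_eq_zero N).mpr (Submodule.subset_span ⟨i, rfl⟩), TensorProduct.tmul_zero]
  filter_upwards [(Module.isClosed_support (R := A) (M := M ⧸ N)).isOpen_compl.mem_nhds hx] with y hy
  let k' := y.asIdeal.ResidueField
  have hsub : Subsingleton (k' ⊗[A] (M ⧸ N)) := by
    rw [← not_nontrivial_iff_subsingleton, ← Module.mem_support_iff_nontrivial_residueField_tensorProduct]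
    exact hy
  have hsurj : Function.Surjective (Fintype.linearCombination k' fun i => (1 : k') ⊗ₜ[A] w i) := by
    rw [← LinearMap.range_eq_top, Fintype.range_linearCombination, eq_top_iff]
    intro z htop
    clear htop
    obtain ⟨q, rfl⟩ := ((lTensor_exact k' (f := N.subtype) (g := N.mkQ)
      (LinearMap.exact_subtype_mkQ N) N.mkQ_surjective) z).mp (Subsingleton.elim _ _)
    induction q using TensorProduct.induction_on with
    | zero => rw [map_zero]; exact zero_mem _
    | tmul a n =>
      rw [LinearMap.lTensor_tmul,
        show a ⊗ₜ[A] N.subtype n = a • ((1 : k') ⊗ₜ[A] (n : M)) by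
          rw [TensorProduct.smul_tmul', smul_eq_mul, mul_one]; rfl]
      refine Submodule.smul_mem _ a ?_
      have h1 : Submodule.span A (Set.range w) ≤ Submodule.comap (TensorProduct.mk A k' M 1)
          ((Submodule.span k' (Set.range fun i => (1 : k') ⊗ₜ[A] w i)).restrictScalars A) :=
        Submodule.span_le.mpr (by rintro _ ⟨i, rfl⟩; exact Submodule.subset_span ⟨i, rfl⟩)
      exact h1 n.2
    | add a b ha hb => rw [map_add]; exact add_mem ha hb
  refine (LinearMap.finrank_le_finrank_of_surjective hsurj).trans (le_of_eq ?_)
  rw [Module.finrank_fin_fun]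
  exact (congrArg (fun S : Submodule k (k ⊗[A] M) => Module.finrank k S) hS).trans (finrank_top _ _)

theorem isLocallyConstant_mu [Module.FinitePresentation A M] [Module.Flat A M] :
    IsLocallyConstant (mu (A := A) M) := by
  rw [show (mu (A := A) M) = Module.rankAtStalk M from funext fun x => (Module.rankAtStalk_eq x).symm]
  exact Module.isLocallyConstant_rankAtStalk

/-- Over a reduced local ring, constant fibre dimension gives freeness. -/
theorem free_of_mu_const [IsLocalRing A] [IsReduced A] [Module.Finite A M]
    (h : ∀ q : PrimeSpectrum A, mu M q =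
      Module.finrank (IsLocalRing.ResidueField A) (IsLocalRing.ResidueField A ⊗[A] M)) :
    Module.Free A M := by
  classical
  let k := IsLocalRing.ResidueField A
  let n := Module.finrank k (k ⊗[A] M)
  let b : Module.Basis (Fin n) k (k ⊗[A] M) := Module.finBasis k (k ⊗[A] M)
  choose x hx using fun i => TensorProduct.mk_surjective A M k IsLocalRing.residue_surjective (b i)
  have hspan : Submodule.span A (Set.range x) = ⊤ := IsLocalRing.span_eq_top_of_tmul_eq_basis x b hx
  let g : (Fin n → A) →ₗ[A] M := Fintype.linearCombination A x
  have hg : Function.Surjective g := by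
    rw [← LinearMap.range_eq_top, Fintype.range_linearCombination, hspan]
  refine Module.Free.of_equiv (LinearEquiv.ofBijective g
    ⟨(injective_iff_map_eq_zero _).mpr fun v hv => funext fun i => ?_, hg⟩)
  refine IsNilpotent.eq_zero (mem_nilradical.mp ?_)
  rw [nilradical_eq_sInf, Submodule.mem_sInf]
  rintro (q : Ideal A) (hq : Ideal.IsPrime _)
  let gq := g.baseChange q.ResidueField
  have hsurj : Function.Surjective gq := LinearMap.lTensor_surjective _ hg
  have hdim : Module.finrank q.ResidueField (q.ResidueField ⊗[A] (Fin n → A)) =
      Module.finrank q.ResidueField (q.ResidueField ⊗[A] M) := by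
    rw [Module.finrank_baseChange, Module.finrank_fin_fun]
    exact (h ⟨q, hq⟩).symm
  have hinj : Function.Injective gq :=
    (LinearMap.injective_iff_surjective_of_finrank_eq_finrank hdim).mpr hsurj
  have hv0 : (1 : q.ResidueField) ⊗ₜ[A] v = 0 :=
    hinj (by rw [LinearMap.baseChange_tmul, hv, TensorProduct.tmul_zero, map_zero])
  have := congrArg ((TensorProduct.rid A q.ResidueField).toLinearMap ∘ₗ
    (LinearMap.proj i : (Fin n → A) →ₗ[A] A).lTensor q.ResidueField) hv0
  simp only [LinearMap.coe_comp, LinearEquiv.coe_coe, Function.comp_apply, LinearMap.lTensor_tmul,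
    LinearMap.proj_apply, map_zero, TensorProduct.rid_tmul, ← Algebra.algebraMap_eq_smul_one,
    Ideal.algebraMap_residueField_eq_zero] at this
  exact this

/-- Fibre dimensions after base change. -/
theorem mu_baseChange (A' : Type u) [CommRing A'] [Algebra A A'] (x' : PrimeSpectrum A') :
    mu (A' ⊗[A] M) x' = mu M (PrimeSpectrum.comap (algebraMap A A') x') := by
  let x := PrimeSpectrum.comap (algebraMap A A') x'
  let k' := x'.asIdeal.ResidueField
  let f : x.asIdeal.ResidueField →+* k' :=
    Ideal.ResidueField.lift _ (algebraMap A k') (fun a ha => by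
      rw [RingHom.mem_ker, IsScalarTower.algebraMap_apply A A' k']
      exact Ideal.algebraMap_residueField_eq_zero.mpr ha) (fun a ha => by
      rw [Submonoid.mem_comap, IsUnit.mem_submonoid_iff, isUnit_iff_ne_zero,
        IsScalarTower.algebraMap_apply A A' k']
      exact fun h => ha (show algebraMap A A' a ∈ x'.asIdeal from
        Ideal.algebraMap_residueField_eq_zero.mp h))
  letI := f.toAlgebra
  haveI : IsScalarTower A x.asIdeal.ResidueField k' :=
    .of_algebraMap_eq fun a => (Ideal.ResidueField.lift_algebraMap _ _ _ _ a).symm
  refine (TensorProduct.AlgebraTensorModule.cancelBaseChange A A' k' k' M).finrank_eq.trans ?_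
  rw [← (TensorProduct.AlgebraTensorModule.cancelBaseChange A x.asIdeal.ResidueField k' k' M).finrank_eq,
    Module.finrank_baseChange]

/-- Over a reduced ring, locally constant fibre dimension is flatness. -/
theorem flat_of_isLocallyConstant [IsReduced A] [Module.Finite A M]
    (h : IsLocallyConstant (mu (A := A) M)) : Module.Flat A M := by
  refine Module.flat_of_localized_maximal M fun P hP => ?_
  let T := Localization.AtPrime P
  have : IsReduced T := isReduced_localizationPreserves P.primeCompl T inferInstance
  have : Module.Free T (T ⊗[A] M) := free_of_mu_const _ fun q => by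
    refine (mu_baseChange M T q).trans ?_
    rw [show Module.finrank (IsLocalRing.ResidueField T) (IsLocalRing.ResidueField T ⊗[T] (T ⊗[A] M)) =
      mu M ⟨P, inferInstance⟩ from
        (TensorProduct.AlgebraTensorModule.cancelBaseChange A T (IsLocalRing.ResidueField T)
          (IsLocalRing.ResidueField T) M).finrank_eq]
    obtain ⟨U, hU, hcU, hconst⟩ := (IsLocallyConstant.iff_exists_open _).mp h ⟨P, inferInstance⟩
    refine hconst _ (((PrimeSpectrum.le_iff_specializes _ _).mp ?_).mem_open hU hcU)
    intro a ha
    by_contra hna
    exact q.2.ne_top (Ideal.eq_top_of_isUnit_mem _ ha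
      (IsLocalization.map_units (M := P.primeCompl) T ⟨a, hna⟩))
  have : Module.Flat A T := IsLocalization.flat T P.primeCompl
  have : Module.Flat A (T ⊗[A] M) := Module.Flat.trans A T _
  exact Module.Flat.of_linearEquiv
    ((LocalizedModule.equivTensorProduct P.primeCompl M).restrictScalars A)

end Mu

section Map

variable {M : Type v} {F : Type v} [AddCommGroup M] [Module A M] [AddCommGroup F] [Module A F]
  (δ : M →ₗ[A] F)

/-- The dimension of the image on the fibre. -/
theorem finrank_range_add_mu_coker [Module.Finite A F] (x : PrimeSpectrum A) :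
    Module.finrank x.asIdeal.ResidueField (LinearMap.range (δ.baseChange x.asIdeal.ResidueField)) +
      mu (F ⧸ LinearMap.range δ) x = mu F x := by
  let q := (LinearMap.range δ).mkQ.baseChange x.asIdeal.ResidueField
  have hs : Function.Surjective q :=
    LinearMap.lTensor_surjective x.asIdeal.ResidueField (Submodule.mkQ_surjective _)
  have hex : Function.Exact δ (LinearMap.range δ).mkQ := LinearMap.exact_iff.mpr (Submodule.ker_mkQ _)
  have hker : LinearMap.ker q = LinearMap.range (δ.baseChange x.asIdeal.ResidueField) := by
    refine Function.Exact.linearMap_ker_eq ?_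
    exact lTensor_exact x.asIdeal.ResidueField hex (Submodule.mkQ_surjective _)
  have h := q.finrank_range_add_finrank_ker
  rw [LinearMap.range_eq_top.mpr hs, finrank_top, hker] at h
  rw [add_comm]
  exact h

theorem finrank_range_add_finrank_ker [Module.Finite A M] (x : PrimeSpectrum A) :
    Module.finrank x.asIdeal.ResidueField (LinearMap.range (δ.baseChange x.asIdeal.ResidueField)) +
      Module.finrank x.asIdeal.ResidueField (LinearMap.ker (δ.baseChange x.asIdeal.ResidueField)) =
        mu M x :=
  (δ.baseChange x.asIdeal.ResidueField).finrank_range_add_finrank_ker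

variable [IsNoetherianRing A]

theorem lowerSemicontinuous_range [Module.Finite A F] [Module.Flat A F] :
    LowerSemicontinuous fun x : PrimeSpectrum A => Module.finrank x.asIdeal.ResidueField
      (LinearMap.range (δ.baseChange x.asIdeal.ResidueField)) := by
  have := Module.finitePresentation_of_finite A F
  intro x c hc
  filter_upwards [mu_eventually_le (F ⧸ LinearMap.range δ) x,
    (isLocallyConstant_mu F).eventually_eq x] with y h1 h2
  have h3 := finrank_range_add_mu_coker δ x
  have h4 := finrank_range_add_mu_coker δ y
  simp only at hc ⊢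
  omega

theorem upperSemicontinuous_ker [Module.Finite A M] [Module.Finite A F] [Module.Flat A F] :
    UpperSemicontinuous fun x : PrimeSpectrum A => Module.finrank x.asIdeal.ResidueField
      (LinearMap.ker (δ.baseChange x.asIdeal.ResidueField)) := by
  have := Module.finitePresentation_of_finite A F
  intro x c hc
  filter_upwards [mu_eventually_le (F ⧸ LinearMap.range δ) x, mu_eventually_le M x,
    (isLocallyConstant_mu F).eventually_eq x] with y h1 h0 h2
  have h3 := finrank_range_add_mu_coker δ x
  have h4 := finrank_range_add_mu_coker δ y
  have h5 := finrank_range_add_finrank_ker δ x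
  have h6 := finrank_range_add_finrank_ker δ y
  simp only at hc ⊢
  omega

theorem projective_of_flat (N : Type v) [AddCommGroup N] [Module A N] [Module.Finite A N]
    [Module.Flat A N] : Module.Projective A N :=
  have := Module.finitePresentation_of_finite A N
  Module.Flat.projective_of_finitePresentation

theorem projective_range_of_projective_coker [Module.Finite A F] [Module.Flat A F]
    [Module.Projective A (F ⧸ LinearMap.range δ)] : Module.Projective A (LinearMap.range δ) :=
  have := projective_of_flat (A := A) F
  projective_left (LinearMap.range δ).subtype (LinearMap.range δ).mkQ (Submodule.injective_subtype _)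
    (Submodule.mkQ_surjective _) (LinearMap.exact_subtype_mkQ _)

theorem exact_ker_rangeRestrict : Function.Exact (LinearMap.ker δ).subtype δ.rangeRestrict :=
  LinearMap.exact_iff.mpr (by rw [LinearMap.ker_rangeRestrict, Submodule.range_subtype])

theorem of_isLocallyConstant_ker [IsReduced A] [Module.Finite A M] [Module.Finite A F]
    [Module.Flat A F]
    (h : IsLocallyConstant fun x : PrimeSpectrum A => Module.finrank x.asIdeal.ResidueField
      (LinearMap.ker (δ.baseChange x.asIdeal.ResidueField))) :
    Module.Projective A M ∧ Module.Projective A (LinearMap.ker δ) ∧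
      Module.Projective A (F ⧸ LinearMap.range δ) ∧
      ∀ (N : Type v') [AddCommGroup N] [Module A N],
        Function.Injective (LinearMap.rTensor N (LinearMap.ker δ).subtype) ∧
        Function.Exact (LinearMap.rTensor N (LinearMap.ker δ).subtype) (LinearMap.rTensor N δ) := by
  have := Module.finitePresentation_of_finite A F
  have key : ∀ x : PrimeSpectrum A, ∀ᶠ y in 𝓝 x,
      mu M y = mu M x ∧ mu (F ⧸ LinearMap.range δ) y = mu (F ⧸ LinearMap.range δ) x := fun x => by
    filter_upwards [mu_eventually_le (F ⧸ LinearMap.range δ) x, mu_eventually_le M x,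
      (isLocallyConstant_mu F).eventually_eq x, h.eventually_eq x] with y h1 h0 h2 h7
    have h3 := finrank_range_add_mu_coker δ x
    have h4 := finrank_range_add_mu_coker δ y
    have h5 := finrank_range_add_finrank_ker δ x
    have h6 := finrank_range_add_finrank_ker δ y
    omega
  have := flat_of_isLocallyConstant M
    ((IsLocallyConstant.iff_eventually_eq _).mpr fun x => (key x).mono fun y hy => hy.1)
  have := flat_of_isLocallyConstant (F ⧸ LinearMap.range δ)
    ((IsLocallyConstant.iff_eventually_eq _).mpr fun x => (key x).mono fun y hy => hy.2)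
  have := projective_of_flat (A := A) M
  have := projective_of_flat (A := A) (F ⧸ LinearMap.range δ)
  have := projective_range_of_projective_coker δ
  refine ⟨inferInstance, projective_left (LinearMap.ker δ).subtype δ.rangeRestrict
    (Submodule.injective_subtype _) δ.surjective_rangeRestrict (exact_ker_rangeRestrict δ),
    inferInstance, fun N _ _ => ?_⟩
  have h1 : Function.Injective ((LinearMap.range δ).subtype.rTensor N) := by
    rw [← LinearMap.lTensor_inj_iff_rTensor_inj]
    exact LinearMap.lTensor_injective_of_exact_of_flat (LinearMap.range δ).mkQ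
      (Submodule.mkQ_surjective _) _ (Submodule.injective_subtype _) (LinearMap.exact_subtype_mkQ _) N
  refine ⟨?_, ?_⟩
  · rw [← LinearMap.lTensor_inj_iff_rTensor_inj]
    exact LinearMap.lTensor_injective_of_exact_of_flat δ.rangeRestrict δ.surjective_rangeRestrict _
      (Submodule.injective_subtype _) (exact_ker_rangeRestrict δ) N
  · intro z
    rw [show δ = (LinearMap.range δ).subtype ∘ₗ δ.rangeRestrict from rfl, LinearMap.rTensor_comp,
      LinearMap.comp_apply, map_eq_zero_iff _ h1]
    exact rTensor_exact N (exact_ker_rangeRestrict δ) δ.surjective_rangeRestrict z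

end Map

section AtPrime

variable {M : Type v} {F : Type v} [AddCommGroup M] [Module A M] [AddCommGroup F] [Module A F]
  (δ : M →ₗ[A] F)

theorem injective_cancel_iff (T : Type u) [CommRing T] [Algebra A T] (k : Type u) [CommRing k]
    [Algebra A k] [Algebra T k] [IsScalarTower A T k] (f : M →ₗ[A] F) :
    Function.Injective ((f.baseChange T).lTensor k) ↔ Function.Injective (f.lTensor k) := by
  let eM := TensorProduct.AlgebraTensorModule.cancelBaseChange A T k k M
  let eF := TensorProduct.AlgebraTensorModule.cancelBaseChange A T k k F
  have h : eF ∘ (f.baseChange T).lTensor k = f.lTensor k ∘ eM := by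
    funext z
    induction z using TensorProduct.induction_on with
    | zero => simp
    | add a b ha hb => simp only [Function.comp_apply, map_add] at ha hb ⊢; rw [ha, hb]
    | tmul a w =>
      induction w using TensorProduct.induction_on with
      | zero => simp
      | add b c hb hc =>
        simp only [Function.comp_apply, TensorProduct.tmul_add, map_add] at hb hc ⊢; rw [hb, hc]
      | tmul t m => simp [eM, eF]
  exact ⟨fun hi => (Function.Injective.of_comp_right (h ▸ eF.injective.comp hi) eM.surjective),
    fun hi => Function.Injective.of_comp (f := eF) (h.symm ▸ hi.comp eM.injective)⟩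

variable [IsNoetherianRing A] [Module.Finite A M] [Module.Finite A F] [Module.Free A F]
  (p : Ideal A) [p.IsPrime]

theorem exchange :
    (Function.Exact (LinearMap.lTensor p.ResidueField (LinearMap.ker δ).subtype)
      (LinearMap.lTensor p.ResidueField δ) ↔
      Module.Free (Localization.AtPrime p) (LocalizedModule p.primeCompl (F ⧸ LinearMap.range δ))) ∧
    (Function.Exact (LinearMap.lTensor p.ResidueField (LinearMap.ker δ).subtype)
      (LinearMap.lTensor p.ResidueField δ) →
      Function.Injective (LinearMap.lTensor p.ResidueField (LinearMap.ker δ).subtype) ∧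
      Module.Free (Localization.AtPrime p) (LocalizedModule p.primeCompl (LinearMap.range δ))) := by
  let T := Localization.AtPrime p
  let k := p.ResidueField
  let I := LinearMap.range δ
  have hflat : Module.Flat A T := IsLocalization.flat T p.primeCompl
  have hexI := lTensor_exact k (exact_ker_rangeRestrict δ) δ.surjective_rangeRestrict
  have hexF : Function.Exact I.subtype I.mkQ := LinearMap.exact_subtype_mkQ I
  have hδ : ∀ z, δ.lTensor k z = I.subtype.lTensor k (δ.rangeRestrict.lTensor k z) :=
    fun z => by rw [← LinearMap.comp_apply, ← LinearMap.lTensor_comp]; rfl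
  have h1 : Function.Exact ((LinearMap.ker δ).subtype.lTensor k) (δ.lTensor k) ↔
      Function.Injective (I.subtype.lTensor k) := by
    refine ⟨fun h => (injective_iff_map_eq_zero _).mpr fun z hz => ?_, fun h z => ?_⟩
    · obtain ⟨z, rfl⟩ := LinearMap.lTensor_surjective k δ.surjective_rangeRestrict z
      exact (hexI z).mpr ((h z).mp ((hδ z).trans hz))
    · rw [hδ, map_eq_zero_iff _ h]
      exact hexI z
  have hexF' : Function.Exact (I.subtype.baseChange T) (I.mkQ.baseChange T) :=
    lTensor_exact T hexF (Submodule.mkQ_surjective _)
  have hinjF' : Function.Injective (I.subtype.baseChange T) :=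
    Module.Flat.lTensor_preserves_injective_linearMap _ (Submodule.injective_subtype _)
  have hsurjF' : Function.Surjective (I.mkQ.baseChange T) :=
    LinearMap.lTensor_surjective T (Submodule.mkQ_surjective _)
  have eN : LocalizedModule p.primeCompl (F ⧸ I) ≃ₗ[T] T ⊗[A] (F ⧸ I) :=
    LocalizedModule.equivTensorProduct p.primeCompl _
  have eI : LocalizedModule p.primeCompl I ≃ₗ[T] T ⊗[A] I :=
    LocalizedModule.equivTensorProduct p.primeCompl _
  have : IsScalarTower A T k := inferInstance
  have h2 : Function.Injective (I.subtype.lTensor k) ↔ Module.Free T (T ⊗[A] (F ⧸ I)) := by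
    rw [← injective_cancel_iff T k I.subtype]
    exact ⟨fun h => Module.free_of_lTensor_residueField_injective (I.subtype.baseChange T)
      (I.mkQ.baseChange T) hsurjF' hexF' h, fun _ => LinearMap.lTensor_injective_of_exact_of_flat
        (I.mkQ.baseChange T) hsurjF' _ hinjF' hexF' _⟩
  refine ⟨h1.trans (h2.trans ⟨fun _ => Module.Free.of_equiv eN.symm, fun _ => Module.Free.of_equiv eN⟩),
    fun h => ?_⟩
  have hfree := h2.mp (h1.mp h)
  have : Module.Projective T (T ⊗[A] I) :=
    projective_left (I.subtype.baseChange T) (I.mkQ.baseChange T) hinjF' hsurjF' hexF'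
  have : Module.Free T (T ⊗[A] I) := Module.free_of_flat_of_isLocalRing
  refine ⟨(injective_cancel_iff T k (LinearMap.ker δ).subtype).mp ?_, Module.Free.of_equiv eI.symm⟩
  exact LinearMap.lTensor_injective_of_exact_of_flat (δ.rangeRestrict.baseChange T)
    (LinearMap.lTensor_surjective T δ.surjective_rangeRestrict) _
    (Module.Flat.lTensor_preserves_injective_linearMap _ (Submodule.injective_subtype _))
    (lTensor_exact T (exact_ker_rangeRestrict δ) δ.surjective_rangeRestrict) _

end AtPrime

end Groth.L01.RankExchange
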