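import Groth.Agent.L01.Regular
import Groth.Agent.L21.Smooth.EtaleRegular
import Mathlib.RingTheory.Etale.StandardEtale
import Mathlib.RingTheory.AdjoinRoot
import Mathlib.RingTheory.Localization.LocalizationLocalization
import Mathlib.Algebra.TrivSqZeroExt.Basic
import Mathlib.RingTheory.RegularLocalRing.Polynomial

/-!
Extensions `A[t]/(t^e - s)`: etale away from `t`, and regular when `A`, `A/(s)` are regular
and `e` is invertible.
-/

set_option autoImplicit false
universe u

open Polynomial

namespace Groth.L01.RootExt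

variable {A : Type u} [CommRing A] (s : A) (e : ℕ)

/-- `A[t]/(t^e - s)` is étale over `A` away from `t` when `e` is invertible. -/
theorem etale_away_root (he : 0 < e) (heu : IsUnit (e : A)) :
    Algebra.Etale A (Localization.Away (AdjoinRoot.mk (X ^ e - C s) X)) := by
  obtain ⟨u, hu⟩ := heu
  let P : StandardEtalePair A :=
    { f := X ^ e - C s
      monic_f := monic_X_pow_sub_C s he.ne'
      g := X
      cond := ⟨C ((u⁻¹ : Aˣ) : A), 0, e - 1, by
        rw [derivative_sub, derivative_X_pow, derivative_C, sub_zero, mul_zero, add_zero, ← hu]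
        rw [mul_comm, ← mul_assoc, ← C_mul, Units.inv_mul, C_1, one_mul]⟩ }
  exact Algebra.Etale.of_equiv P.equivAwayAdjoinRoot

theorem etale_of_isUnit (he : 0 < e) (hes : IsUnit ((e : A) * s)) :
    Algebra.Etale A (AdjoinRoot ((X : A[X]) ^ e - C s)) := by
  haveI := etale_away_root s e he (isUnit_of_mul_isUnit_left hes)
  have hr : IsUnit (AdjoinRoot.mk (X ^ e - C s) X) := by
    refine (isUnit_pow_iff he.ne').mp ?_
    have : AdjoinRoot.mk (X ^ e - C s) (X ^ e) = AdjoinRoot.mk (X ^ e - C s) (C s) := by
      rw [← sub_eq_zero, ← map_sub, AdjoinRoot.mk_self]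
    rw [← map_pow, this]
    exact ((isUnit_of_mul_isUnit_right hes).map C).map _
  exact Algebra.Etale.of_equiv
    ((IsLocalization.atUnits (AdjoinRoot ((X : A[X]) ^ e - C s))
      (Submonoid.powers (AdjoinRoot.mk (X ^ e - C s) X))
      (S := Localization.Away (AdjoinRoot.mk (X ^ e - C s) X))
      (Submonoid.powers_le.mpr hr)).symm.restrictScalars A)

theorem isUnit_of_formallyUnramified (he : 1 < e)
    [Algebra.FormallyUnramified A (AdjoinRoot ((X : A[X]) ^ e - C s))] :
    IsUnit ((e : A) * s) := by
  let f : A[X] := X ^ e - C s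
  let B := AdjoinRoot f
  let r : B := AdjoinRoot.root f
  let d : B := (e : B) * r ^ (e - 1)
  have hroot : r ^ e = algebraMap A B s := by
    have := AdjoinRoot.mk_self (f := f)
    simp only [f, map_sub, map_pow, AdjoinRoot.mk_X, AdjoinRoot.mk_C, sub_eq_zero] at this
    exact this
  have hd : Ideal.span {d} = ⊤ := by
    by_contra hne
    let M := B ⧸ Ideal.span {d}
    haveI : Nontrivial M := Ideal.Quotient.nontrivial_iff.mpr hne
    let i : B →ₐ[A] TrivSqZeroExt B M := TrivSqZeroExt.inlAlgHom A B M
    let r' : TrivSqZeroExt B M := TrivSqZeroExt.inl r + TrivSqZeroExt.inr 1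
    have hr1 : r'.fst = r := by
      show (TrivSqZeroExt.inl r + TrivSqZeroExt.inr (1 : M) : TrivSqZeroExt B M).fst = r
      rw [TrivSqZeroExt.fst_add, TrivSqZeroExt.fst_inl, TrivSqZeroExt.fst_inr, add_zero]
    have hr2 : r'.snd = 1 := by
      show (TrivSqZeroExt.inl r + TrivSqZeroExt.inr (1 : M) : TrivSqZeroExt B M).snd = 1
      rw [TrivSqZeroExt.snd_add, TrivSqZeroExt.snd_inl, TrivSqZeroExt.snd_inr, zero_add]
    have hd0 : (r ^ (e - 1) : B) • ((e : ℕ) • (1 : M)) = 0 := by
      rw [← Nat.cast_smul_eq_nsmul B, smul_smul]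
      refine Ideal.Quotient.eq_zero_iff_mem.mpr ?_
      show (r ^ (e - 1) * (e : B)) • (1 : B) ∈ _
      rw [smul_eq_mul, mul_one, mul_comm]
      exact Ideal.mem_span_singleton_self d
    have hz : Polynomial.aeval r' f = 0 := by
      simp only [f, map_sub, map_pow, aeval_X, aeval_C, sub_eq_zero]
      refine TrivSqZeroExt.ext ?_ ?_
      · rw [TrivSqZeroExt.fst_pow, hr1, hroot, TrivSqZeroExt.algebraMap_eq_inl']
        rfl
      · rw [TrivSqZeroExt.snd_pow, hr1, hr2, TrivSqZeroExt.algebraMap_eq_inl', TrivSqZeroExt.snd_inl,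
          Nat.pred_eq_sub_one, smul_comm, hd0]
    let j : B →ₐ[A] TrivSqZeroExt B M := AdjoinRoot.liftAlgHom f (Algebra.ofId A _) r' hz
    let I : Ideal (TrivSqZeroExt B M) := RingHom.ker (TrivSqZeroExt.fstHom A B M)
    have hI : I ^ 2 = ⊥ := by
      rw [pow_two, eq_bot_iff, Ideal.mul_le]
      intro x hx y hy
      rw [Ideal.mem_bot]
      have hx' : x.fst = 0 := hx
      have hy' : y.fst = 0 := hy
      refine TrivSqZeroExt.ext ?_ ?_
      · rw [TrivSqZeroExt.fst_mul, hx', zero_mul]; rfl
      · rw [TrivSqZeroExt.snd_mul, hx', hy', zero_smul, MulOpposite.op_zero, zero_smul, add_zero]; rfl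
    have hij : i = j := by
      refine Algebra.FormallyUnramified.comp_injective (R := A) (A := B) I hI (AdjoinRoot.algHom_ext ?_)
      show Ideal.Quotient.mk I (i r) = Ideal.Quotient.mk I (j r)
      rw [Ideal.Quotient.eq, RingHom.mem_ker, map_sub, sub_eq_zero]
      have hjr : j r = r' := AdjoinRoot.liftAlgHom_root f _ r' hz
      rw [hjr]
      exact hr1.symm
    have hjr : j r = r' := AdjoinRoot.liftAlgHom_root f _ r' hz
    have h1 : (i r).snd = (j r).snd := by rw [hij]
    rw [hjr, hr2] at h1
    exact one_ne_zero ((TrivSqZeroExt.snd_inl M r).symm.trans h1).symm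
  have hu : IsUnit d := Ideal.span_singleton_eq_top.mp hd
  have hf : f.Monic := monic_X_pow_sub_C s (by omega)
  have hdeg : f.degree ≠ 0 := by
    rcases subsingleton_or_nontrivial A with h | h
    · rw [Subsingleton.elim f 0, degree_zero]; exact WithBot.bot_ne_coe
    · rw [degree_X_pow_sub_C (by omega)]; exact_mod_cast (show e ≠ 0 by omega)
  rcases subsingleton_or_nontrivial A with h | h
  · exact isUnit_of_subsingleton _
  haveI : Module.Free A B := hf.free_adjoinRoot
  haveI : Nontrivial B := Ideal.Quotient.nontrivial_iff.mpr fun h => by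
    rw [Ideal.span_singleton_eq_top] at h
    exact hdeg (by rw [hf.eq_one_of_isUnit h, degree_one])
  haveI : FaithfulSMul A B := inferInstance
  haveI : Module.Finite A B := hf.finite_adjoinRoot
  refine (isUnit_map_iff (algebraMap A B) _).mp ?_
  rw [map_mul, map_natCast, ← hroot]
  exact (isUnit_of_mul_isUnit_left hu).mul ((isUnit_pow_iff (show e ≠ 0 by omega)).mpr
    ((isUnit_pow_iff (show e - 1 ≠ 0 by omega)).mp (isUnit_of_mul_isUnit_right hu)))

/-- Localization commutes with quotients. -/
theorem isRegularLocalRing_quotient_localization {B : Type u} [CommRing B] (J : Ideal B)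
    [IsRegularRing (B ⧸ J)] (P : Ideal B) [P.IsPrime] (hJ : J ≤ P) :
    IsRegularLocalRing (Localization.AtPrime P ⧸ J.map (algebraMap B (Localization.AtPrime P))) := by
  let R := Localization.AtPrime P
  let J' := J.map (algebraMap B R)
  let P' : Ideal (B ⧸ J) := P.map (Ideal.Quotient.mk J)
  haveI : P'.IsPrime := Ideal.map_isPrime_of_surjective Ideal.Quotient.mk_surjective (by rwa [Ideal.mk_ker])
  have hmem : ∀ b : B, Ideal.Quotient.mk J b ∈ P' ↔ b ∈ P := fun b => by
    rw [← Ideal.mem_comap, Ideal.comap_map_of_surjective' _ Ideal.Quotient.mk_surjective, Ideal.mk_ker,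
      sup_eq_left.mpr hJ]
  letI : Algebra (B ⧸ J) (R ⧸ J') := (Ideal.quotientMap J' (algebraMap B R) Ideal.le_comap_map).toAlgebra
  have hmk : ∀ b : B, algebraMap (B ⧸ J) (R ⧸ J') (Ideal.Quotient.mk J b) = Ideal.Quotient.mk J' (algebraMap B R b) :=
    fun b => Ideal.quotientMap_mk
  haveI : IsLocalization.AtPrime (R ⧸ J') P' := by
    refine (isLocalization_iff _ _).mpr ⟨?_, ?_, ?_⟩
    · rintro ⟨x, hx⟩
      obtain ⟨b, rfl⟩ := Ideal.Quotient.mk_surjective x
      rw [hmk]
      exact (IsLocalization.map_units R (⟨b, fun h => hx ((hmem b).mpr h)⟩ : P.primeCompl)).map _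
    · intro z
      obtain ⟨z, rfl⟩ := Ideal.Quotient.mk_surjective z
      obtain ⟨⟨b, t⟩, ht⟩ := IsLocalization.surj P.primeCompl z
      refine ⟨⟨Ideal.Quotient.mk J b, ⟨Ideal.Quotient.mk J t, fun h => t.2 ((hmem _).mp h)⟩⟩, ?_⟩
      rw [hmk, hmk, ← map_mul, ht]
    · intro x y hxy
      obtain ⟨a, rfl⟩ := Ideal.Quotient.mk_surjective x
      obtain ⟨b, rfl⟩ := Ideal.Quotient.mk_surjective y
      rw [hmk, hmk, Ideal.Quotient.eq, ← map_sub,
        IsLocalization.algebraMap_mem_map_algebraMap_iff P.primeCompl] at hxy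
      obtain ⟨t, ht, htj⟩ := hxy
      refine ⟨⟨Ideal.Quotient.mk J t, fun h => ht ((hmem _).mp h)⟩, ?_⟩
      rw [← map_mul, ← map_mul, Ideal.Quotient.eq, ← mul_sub]
      exact htj
  haveI : IsRegularLocalRing (Localization.AtPrime P') := IsRegularRing.isRegularLocalRing_localization P'
  exact IsRegularLocalRing.of_ringEquiv
    (IsLocalization.algEquiv P'.primeCompl (Localization.AtPrime P') (R ⧸ J')).toRingEquiv

/-- Regularity of `A[t]/(t^e - s)`. -/
theorem isRegularRing [IsLocalRing A] [IsRegularRing A] (hs : s ≠ 0)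
    (hreg : IsRegularRing (A ⧸ Ideal.span {s})) (he : 0 < e) (heu : IsUnit (e : A)) :
    IsRegularRing (AdjoinRoot (X ^ e - C s)) := by
  let f : A[X] := X ^ e - C s
  let B := AdjoinRoot f
  have hf : f.Monic := monic_X_pow_sub_C s he.ne'
  haveI : Module.Finite A B := hf.finite_adjoinRoot
  haveI : IsNoetherianRing B := IsNoetherianRing.of_finite A B
  haveI : IsRegularLocalRing A := IsRegularLocalRing.of_isRegularRing_of_isLocalRing A
  haveI : IsDomain A := Groth.L01.isDomain_of_regular A
  haveI : Module.Free A B := hf.free_adjoinRoot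
  let r : B := AdjoinRoot.root f
  have hroot : r ^ e = algebraMap A B s := by
    have := AdjoinRoot.mk_self (f := f)
    simp only [f, map_sub, map_pow, AdjoinRoot.mk_X, AdjoinRoot.mk_C, sub_eq_zero] at this
    exact this
  have hr : r ∈ nonZeroDivisors B := by
    have hsB : algebraMap A B s ∈ nonZeroDivisors B := by
      rw [mem_nonZeroDivisors_iff_right]
      intro x hx
      rw [mul_comm, ← Algebra.smul_def] at hx
      exact (smul_eq_zero.mp hx).resolve_left hs
    rw [← hroot, show r ^ e = r ^ (e - 1) * r by rw [← pow_succ, Nat.sub_add_cancel he]] at hsB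
    exact (mul_mem_nonZeroDivisors.mp hsB).2
  rw [isRegularRing_iff]
  intro P hP
  by_cases hrP : r ∈ P
  · -- the branch locus: quotient by the root
    haveI : IsRegularRing (B ⧸ Ideal.span {r}) := by
      let φ : A[X] →+* A ⧸ Ideal.span {s} := (Ideal.Quotient.mk _).comp (evalRingHom 0)
      have hφ : φ f = 0 := by simp [φ, f, he.ne', zero_pow]
      let ψ : B →+* A ⧸ Ideal.span {s} := Ideal.Quotient.lift _ φ (fun p hp => by
        obtain ⟨q, rfl⟩ := Ideal.mem_span_singleton'.mp hp
        rw [map_mul, hφ, mul_zero])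
      have hψ : ∀ p : A[X], ψ (AdjoinRoot.mk f p) = φ p := fun p => rfl
      have hsur : Function.Surjective ψ := fun z => by
        obtain ⟨a, rfl⟩ := Ideal.Quotient.mk_surjective z
        exact ⟨AdjoinRoot.mk f (C a), by rw [hψ]; simp [φ]⟩
      have hker : RingHom.ker ψ = Ideal.span {r} := by
        refine le_antisymm (fun z hz => ?_) (Ideal.span_le.mpr ?_)
        · obtain ⟨p, rfl⟩ := AdjoinRoot.mk_surjective z
          rw [RingHom.mem_ker, hψ] at hz
          obtain ⟨q, hq⟩ := Ideal.mem_span_singleton'.mp (Ideal.Quotient.eq_zero_iff_mem.mp hz)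
          rw [show AdjoinRoot.mk f p = AdjoinRoot.mk f (X * p.divX + C (p.coeff 0)) by rw [X_mul_divX_add],
            map_add, map_mul, AdjoinRoot.mk_X, AdjoinRoot.mk_C, coeff_zero_eq_eval_zero]
          refine add_mem (Ideal.mul_mem_right _ _ (Ideal.subset_span rfl)) ?_
          rw [coe_evalRingHom] at hq
          rw [← hq, map_mul]
          refine Ideal.mul_mem_left _ _ ?_
          show algebraMap A B s ∈ _
          rw [← hroot, show r ^ e = r ^ (e - 1) * r by rw [← pow_succ, Nat.sub_add_cancel he]]
          exact Ideal.mul_mem_left _ _ (Ideal.subset_span rfl)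
        · rintro _ rfl
          show ψ (AdjoinRoot.mk f X) = 0
          rw [hψ]; simp [φ]
      haveI := hreg
      exact IsRegularRing.of_ringEquiv
        ((RingHom.quotientKerEquivOfSurjective hsur).symm.trans (Ideal.quotEquivOfEq hker))
    have hle : Ideal.span {r} ≤ P := (Ideal.span_singleton_le_iff_mem (I := P)).mpr hrP
    have h := isRegularLocalRing_quotient_localization (Ideal.span {r}) P hle
    rw [Ideal.map_span, Set.image_singleton] at h
    refine Groth.L01.exists_regular_of_quotient (x := algebraMap B (Localization.AtPrime P) r) ?_ ?_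
    · rw [← Localization.AtPrime.map_eq_maximalIdeal]
      exact Ideal.mem_map_of_mem _ hrP
    · exact IsLocalization.map_nonZeroDivisors_le P.primeCompl (Localization.AtPrime P) ⟨r, hr, rfl⟩
  · -- the etale locus
    let t : B := AdjoinRoot.mk f X
    have ht : t = r := AdjoinRoot.mk_X
    haveI : Algebra.Etale A (Localization.Away t) := etale_away_root s e he heu
    let Q : Ideal (Localization.Away t) := P.map (algebraMap B _)
    have hdisj : Disjoint ((Submonoid.powers t : Submonoid B) : Set B) (P : Set B) := by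
      rw [Set.disjoint_left]
      rintro _ ⟨n, rfl⟩ hn
      exact hrP (ht ▸ hP.mem_of_pow_mem n hn)
    haveI : Q.IsPrime := IsLocalization.isPrime_of_isPrime_disjoint (Submonoid.powers t) _ P hP hdisj
    have hQ : Q.comap (algebraMap B (Localization.Away t)) = P :=
      IsLocalization.under_map_of_isPrime_disjoint (Submonoid.powers t) _ hP hdisj
    haveI : IsRegularLocalRing (Localization.AtPrime Q) :=
      (Groth.L21.Smooth.regular_localization_of_etale A (Localization.Away t) Q).1
    have h1 := IsRegularLocalRing.of_ringEquiv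
      (IsLocalization.localizationLocalizationAtPrimeIsoLocalization (Submonoid.powers t) Q).symm.toRingEquiv
    have key : ∀ (P' : Ideal B) [P'.IsPrime], P' = P → IsRegularLocalRing (Localization.AtPrime P') →
        IsRegularLocalRing (Localization.AtPrime P) := by
      rintro P' _ rfl h; exact h
    exact key _ hQ h1

end Groth.L01.RootExt
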