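import Mathlib.RingTheory.Etale.Field
import Mathlib.RingTheory.Etale.Kaehler
import Mathlib.RingTheory.Kaehler.Polynomial
import Mathlib.RingTheory.AlgebraicIndependent.Adjoin
import Mathlib.LinearAlgebra.Dimension.Constructions
import Mathlib.FieldTheory.SeparableClosure

universe u v
open TensorProduct

namespace Groth.L01.SepKaehler

theorem exists_kaehler_basis (K L : Type u) [Field K] [Field L] [Algebra K L] {ι : Type u} (a : ι → L)
    (ha : AlgebraicIndependent K a)
    (hsep : Algebra.IsSeparable ↥(IntermediateField.adjoin K (Set.range a)) L) :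
    ∃ b : Module.Basis ι L Ω[L⁄K], ∀ i, b i = KaehlerDifferential.D K L (a i) := by
  let P := MvPolynomial ι K
  let Q := FractionRing P
  let φ : Q →ₐ[K] L := (IntermediateField.adjoin K (Set.range a)).val.comp ha.aevalEquivField.toAlgHom
  have hφ : ∀ x : P, φ (algebraMap P Q x) = MvPolynomial.aeval a x := fun x =>
    ha.aevalEquivField_algebraMap_apply_coe x
  letI : Algebra Q L := φ.toRingHom.toAlgebra
  letI : Algebra P L := (MvPolynomial.aeval a).toRingHom.toAlgebra
  haveI : IsScalarTower P Q L := IsScalarTower.of_algebraMap_eq fun x => (hφ x).symm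
  haveI : IsScalarTower K P L := IsScalarTower.of_algebraMap_eq fun x => (AlgHom.commutes _ x).symm
  haveI : Algebra.IsSeparable Q L := by
    refine Algebra.IsSeparable.of_equiv_equiv ha.aevalEquivField.symm.toRingEquiv (RingEquiv.refl L) ?_
    ext x
    change φ (ha.aevalEquivField.symm x) = (x : L)
    change ((ha.aevalEquivField (ha.aevalEquivField.symm x) : IntermediateField.adjoin K (Set.range a)) : L) = x
    rw [AlgEquiv.apply_symm_apply]
  haveI : Algebra.FormallyEtale P Q := Algebra.FormallyEtale.of_isLocalization (nonZeroDivisors P)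
  haveI : Algebra.FormallyEtale Q L := Algebra.FormallyEtale.of_isSeparable Q L
  haveI : Algebra.FormallyEtale P L := Algebra.FormallyEtale.comp P Q L
  refine ⟨((KaehlerDifferential.mvPolynomialBasis K ι).baseChange L).map
    (KaehlerDifferential.tensorKaehlerEquivOfFormallyEtale K P L), fun i => ?_⟩
  have hb : KaehlerDifferential.mvPolynomialBasis K ι i = KaehlerDifferential.D K P (MvPolynomial.X i) := by
    apply (KaehlerDifferential.mvPolynomialBasis K ι).repr.injective
    rw [Module.Basis.repr_self, KaehlerDifferential.mvPolynomialBasis_repr_D_X]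
  rw [Module.Basis.map_apply, Module.Basis.baseChange_apply, hb,
    KaehlerDifferential.tensorKaehlerEquivOfFormallyEtale_apply, KaehlerDifferential.mapBaseChange_tmul,
    one_smul, KaehlerDifferential.map_D]
  change KaehlerDifferential.D K L (MvPolynomial.aeval a (MvPolynomial.X i)) = _
  rw [MvPolynomial.aeval_X]

end Groth.L01.SepKaehler
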