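import Groth.Agent.L01.NormalDomain
import Groth.Agent.L01.DepthBasic
import Groth.Agent.L01.Regular
import Mathlib.RingTheory.Ideal.AssociatedPrime.Basic
import Mathlib.RingTheory.Ideal.MinimalPrime.Noetherian
import Mathlib.RingTheory.Localization.LocalizationLocalization
import Mathlib.RingTheory.KrullDimension.Zero
import Mathlib.RingTheory.DiscreteValuationRing.TFAE
import Mathlib.RingTheory.IntegralClosure.IntegrallyClosed
import Mathlib.RingTheory.Regular.RegularSequence

/-!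
The algebra behind Serre's criterion for normality.
-/

universe u v

namespace Groth.L01.Serre

open IsLocalRing
open scoped Pointwise

variable {A : Type u} [CommRing A]

/-- a witness that the depth of a local ring is at most one -/
def Bad (A : Type u) [CommRing A] [IsLocalRing A] : Prop :=
  ∃ s a : A, (∀ c, s * c = 0 → c = 0) ∧ a ∉ Ideal.span {s} ∧ ∀ t ∈ maximalIdeal A, t * a ∈ Ideal.span {s}

theorem mem_smul_top_iff {b c : A} :
    c ∈ (b • ⊤ : Submodule A A) ↔ ∃ d, b * d = c := by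
  rw [Submodule.mem_smul_pointwise_iff_exists]
  simp

theorem two_le_depth [IsLocalRing A] {b y : A} (hb : b ∈ maximalIdeal A) (hy : y ∈ maximalIdeal A)
    (hb0 : ∀ c, b * c = 0 → c = 0) (hy0 : ∀ c, y * c ∈ Ideal.span {b} → c ∈ Ideal.span {b}) :
    2 ≤ LocCoh.depth A A := by
  unfold LocCoh.depth LocCoh.idealDepth
  split
  · exact le_top
  refine le_iSup₂_of_le [b, y] ⟨?_, by rw [List.forall_mem_cons, List.forall_mem_cons]; exact ⟨hb, hy, by simp⟩⟩ (by simp)
  rw [RingTheory.Sequence.isWeaklyRegular_cons_iff, RingTheory.Sequence.isWeaklyRegular_singleton_iff]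
  refine ⟨isSMulRegular_iff_right_eq_zero_of_smul.mpr fun c hc => hb0 c hc, ?_⟩
  refine isSMulRegular_iff_right_eq_zero_of_smul.mpr fun q hq => ?_
  obtain ⟨c, rfl⟩ := Submodule.Quotient.mk_surjective _ q
  rw [← Submodule.Quotient.mk_smul, Submodule.Quotient.mk_eq_zero, mem_smul_top_iff] at hq
  obtain ⟨d, hd⟩ := hq
  obtain ⟨e, he⟩ := Ideal.mem_span_singleton'.mp
    (hy0 c (Ideal.mem_span_singleton'.mpr ⟨d, by rw [mul_comm, hd, smul_eq_mul]⟩))
  rw [Submodule.Quotient.mk_eq_zero, mem_smul_top_iff]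
  exact ⟨e, by rw [mul_comm, he]⟩

theorem not_bad_of_two_le_depth [IsLocalRing A] (h : 2 ≤ LocCoh.depth A A) : ¬ Bad A := by
  rintro ⟨s, a, hs, ha, hm⟩
  unfold LocCoh.depth LocCoh.idealDepth at h
  rw [if_neg (by rw [smul_eq_mul, Ideal.mul_top]; exact (maximalIdeal.isMaximal A).ne_top)] at h
  obtain ⟨rs, hrs, hmem, hlen⟩ : ∃ rs : List A, RingTheory.Sequence.IsWeaklyRegular A rs ∧
      (∀ r ∈ rs, r ∈ maximalIdeal A) ∧ 2 ≤ rs.length := by
    by_contra! hcon
    have h1 := h.trans (iSup₂_le (a := (1 : ℕ∞)) fun rs hrs => by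
      exact_mod_cast Nat.lt_succ_iff.mp (hcon rs hrs.1 hrs.2))
    exact absurd h1 (by decide)
  rcases rs with _ | ⟨y₁, _ | ⟨y₂, rs⟩⟩
  · simp at hlen
  · simp at hlen
  simp only [RingTheory.Sequence.isWeaklyRegular_cons_iff] at hrs
  obtain ⟨h1, h2, -⟩ := hrs
  rw [List.forall_mem_cons, List.forall_mem_cons] at hmem
  obtain ⟨b, hb⟩ := Ideal.mem_span_singleton'.mp (hm y₁ hmem.1)
  have hb' : ¬ b ∈ (y₁ • ⊤ : Submodule A A) := by
    rw [mem_smul_top_iff]
    rintro ⟨d, rfl⟩
    refine ha (Ideal.mem_span_singleton'.mpr ⟨d, h1 (?_ : y₁ • (d * s) = y₁ • a)⟩)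
    simp only [smul_eq_mul]
    rw [← hb]
    ring
  obtain ⟨d, hd⟩ := Ideal.mem_span_singleton'.mp (hm y₂ hmem.2.1)
  refine hb' ((Submodule.Quotient.mk_eq_zero _).mp (h2.right_eq_zero_of_smul ?_))
  rw [← Submodule.Quotient.mk_smul, Submodule.Quotient.mk_eq_zero, mem_smul_top_iff]
  refine ⟨d, ?_⟩
  have he : s * (y₁ * d - y₂ * b) = 0 := by linear_combination y₁ * hd - y₂ * hb
  exact sub_eq_zero.mp (hs _ he)

theorem bad_of_ringEquiv {B : Type v} [CommRing B] [IsLocalRing A] [IsLocalRing B] (e : A ≃+* B)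
    (h : Bad A) : Bad B := by
  obtain ⟨s, a, hs, ha, hm⟩ := h
  refine ⟨e s, e a, fun c hc => e.symm.injective ?_, fun hc => ha ?_, fun t ht => ?_⟩
  · rw [map_zero]
    exact hs _ (e.injective (by rw [map_mul, e.apply_symm_apply, map_zero, hc]))
  · obtain ⟨q, hq⟩ := Ideal.mem_span_singleton'.mp hc
    exact Ideal.mem_span_singleton'.mpr ⟨e.symm q, e.injective (by rw [map_mul, e.apply_symm_apply, hq])⟩
  · have ht' : e.symm t ∈ maximalIdeal A := fun hu => ht (by simpa using hu.map e.toRingHom)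
    obtain ⟨q, hq⟩ := Ideal.mem_span_singleton'.mp (hm _ ht')
    exact Ideal.mem_span_singleton'.mpr ⟨e q, by rw [← map_mul, hq, map_mul, e.apply_symm_apply]⟩

theorem valuationRing_of_regular_dim_le_one [IsRegularLocalRing A] (h : ringKrullDim A ≤ 1) :
    ∃ _ : IsDomain A, ValuationRing A := by
  haveI := Groth.L01.isDomain_of_regular A
  refine ⟨inferInstance, ?_⟩
  have h1 : (maximalIdeal A).spanFinrank ≤ 1 := by
    rw [← IsRegularLocalRing.spanFinrank_maximalIdeal (R := A)] at h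
    exact_mod_cast h
  rw [spanFinrank_maximalIdeal_eq_finrank_cotangentSpace] at h1
  exact ((tfae_of_isNoetherianRing_of_isLocalRing_of_isDomain A).out 5 1).mp h1

/-- an integral dependence relation for `a / s` -/
def Rel (s a : A) : Prop :=
  ∃ (n : ℕ) (c : ℕ → A), a ^ n + ∑ i ∈ Finset.range n, c i * a ^ i * s ^ (n - i) = 0

theorem dvd_of_rel [IsDomain A] [ValuationRing A] {s a : A} (h : Rel s a) : s ∣ a := by
  rcases ValuationRing.dvd_total s a with hsa | ⟨t, rfl⟩
  · exact hsa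
  by_cases hu : IsUnit t
  · exact hu.mul_right_dvd.mpr dvd_rfl
  obtain ⟨n, c, hc⟩ := h
  have ht : t ∈ maximalIdeal A := hu
  have hfac : a ^ n * (1 + ∑ i ∈ Finset.range n, c i * t ^ (n - i)) = 0 := by
    rw [← hc, mul_add, mul_one, Finset.mul_sum]
    refine congrArg _ (Finset.sum_congr rfl fun i hi => ?_)
    rw [Finset.mem_range] at hi
    have hai : a ^ n = a ^ i * a ^ (n - i) := by rw [← pow_add, Nat.add_sub_cancel' hi.le]
    rw [mul_pow, hai]
    ring
  have hmem : ∑ i ∈ Finset.range n, c i * t ^ (n - i) ∈ maximalIdeal A :=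
    Ideal.sum_mem _ fun i hi => Ideal.mul_mem_left _ _
      (Ideal.pow_mem_of_mem _ ht _ (by rw [Finset.mem_range] at hi; omega))
  have hunit : IsUnit (1 + ∑ i ∈ Finset.range n, c i * t ^ (n - i)) := by
    by_contra hne
    exact (maximalIdeal.isMaximal A).ne_top ((Ideal.eq_top_iff_one _).mpr
      (by simpa using sub_mem (show _ ∈ maximalIdeal A from hne) hmem))
  rw [hunit.mul_left_eq_zero] at hfac
  exact pow_eq_zero_iff'.mp hfac |>.1 ▸ dvd_zero _

theorem mem_span_of_rel [IsNoetherianRing A]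
    (H : ∀ (P : Ideal A) [P.IsPrime], (IsRegularLocalRing (Localization.AtPrime P) ∧
      ringKrullDim (Localization.AtPrime P) ≤ 1) ∨ ¬ Bad (Localization.AtPrime P))
    {s a : A} (hs : ∀ c, s * c = 0 → c = 0) (hr : Rel s a) : a ∈ Ideal.span {s} := by
  by_contra ha
  obtain ⟨P, hP, hle⟩ := exists_le_isAssociatedPrime_of_isNoetherianRing A
    (Ideal.Quotient.mk (Ideal.span {s}) a) (by rwa [Ne, Ideal.Quotient.eq_zero_iff_mem])
  obtain ⟨hPp, w, hw⟩ := isAssociatedPrime_iff.mp hP
  obtain ⟨c, rfl⟩ := Ideal.Quotient.mk_surjective w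
  have hmem : ∀ t, t ∈ P ↔ t * c ∈ Ideal.span {s} := fun t => by
    rw [hw, Submodule.mem_colon_singleton, Submodule.mem_bot, ← Ideal.Quotient.eq_zero_iff_mem]
    rfl
  let f := algebraMap A (Localization.AtPrime P)
  have hkey : ∀ x, f x ∈ Ideal.span {f s} → ∃ v ∉ P, v * x ∈ Ideal.span {s} := by
    intro x hx
    rw [← Set.image_singleton, ← Ideal.map_span] at hx
    exact (IsLocalization.algebraMap_mem_map_algebraMap_iff P.primeCompl (Localization.AtPrime P) _ _).mp hx
  rcases H P with ⟨hreg, hdim⟩ | hnb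
  · obtain ⟨_, _⟩ := valuationRing_of_regular_dim_le_one hdim
    have hr' : Rel (f s) (f a) := by
      obtain ⟨n, d, hd⟩ := hr
      refine ⟨n, fun i => f (d i), ?_⟩
      have := congrArg f hd
      simpa [map_sum] using this
    obtain ⟨v, hv, hva⟩ := hkey a (Ideal.mem_span_singleton.mpr (dvd_of_rel hr'))
    refine hv (hle (Submodule.mem_colon_singleton.mpr ?_))
    rw [Submodule.mem_bot]
    exact (Ideal.Quotient.eq_zero_iff_mem (I := Ideal.span {s})).mpr hva
  · refine hnb ⟨f s, f c, fun x hx => ?_, fun hc => ?_, fun t ht => ?_⟩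
    · obtain ⟨d, u, rfl⟩ := IsLocalization.exists_mk'_eq P.primeCompl x
      rw [IsLocalization.mul_mk'_eq_mk'_of_mul, IsLocalization.mk'_eq_zero_iff] at hx
      obtain ⟨v, hv⟩ := hx
      rw [IsLocalization.mk'_eq_zero_iff]
      exact ⟨v, hs _ (by rw [← hv]; ring)⟩
    · obtain ⟨v, hv, hvc⟩ := hkey c hc
      exact hv ((hmem v).mpr hvc)
    · obtain ⟨d, u, rfl⟩ := IsLocalization.exists_mk'_eq P.primeCompl t
      have hd : d ∈ P := (IsLocalization.AtPrime.mk'_mem_maximal_iff _ P d u).mp ht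
      obtain ⟨q, hq⟩ := Ideal.mem_span_singleton'.mp ((hmem d).mp hd)
      refine Ideal.mem_span_singleton'.mpr ⟨IsLocalization.mk' _ q u, ?_⟩
      rw [mul_comm, IsLocalization.mul_mk'_eq_mk'_of_mul, mul_comm _ (f c),
        IsLocalization.mul_mk'_eq_mk'_of_mul, mul_comm c d, ← hq, mul_comm s q]

theorem isDomain_and_isIntegrallyClosed [IsNoetherianRing A] [IsLocalRing A] [IsReduced A]
    (H : ∀ (P : Ideal A) [P.IsPrime], (IsRegularLocalRing (Localization.AtPrime P) ∧
      ringKrullDim (Localization.AtPrime P) ≤ 1) ∨ ¬ Bad (Localization.AtPrime P)) :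
    IsDomain A ∧ IsIntegrallyClosed A := by
  classical
  have hnil : ∀ x : A, (∀ q ∈ minimalPrimes A, x ∈ q) → x = 0 := fun x hx => by
    have : x ∈ nilradical A := by
      rw [nilradical, Ideal.zero_eq_bot, ← Ideal.sInf_minimalPrimes]
      exact Submodule.mem_sInf.mpr hx
    rwa [nilradical_eq_bot_iff.mpr ‹IsReduced A›, Submodule.mem_bot] at this
  let M := (minimalPrimes.finite_of_isNoetherianRing A).toFinset
  have hM : ∀ q, q ∈ M ↔ q ∈ minimalPrimes A := fun q => Set.Finite.mem_toFinset _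
  have sep : ∀ S₁ S₂ : Finset (Ideal A), S₁ ⊆ M → S₂ ⊆ M → Disjoint S₁ S₂ → S₂.Nonempty →
      ∃ x, (∀ q ∈ S₁, x ∈ q) ∧ ∀ q ∈ S₂, x ∉ q := by
    intro S₁ S₂ h1 h2 hd hne
    obtain ⟨q₀, hq₀⟩ := hne
    by_contra! hcon
    obtain ⟨q, hq, hle⟩ := (Ideal.subset_union_prime (f := id) (s := S₂) q₀ q₀
      (fun q hq _ _ => ((hM q).mp (h2 hq)).1.1) (I := S₁.inf id)).mp (fun x hx => by
        have hx' : ∀ q ∈ S₁, x ∈ q := fun q hq => Finset.inf_le (f := id) hq hx
        obtain ⟨q, hq, hxq⟩ := hcon x hx'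
        exact Set.mem_biUnion hq hxq)
    obtain ⟨q', hq', hle'⟩ := ((hM q).mp (h2 hq)).1.1.inf_le'.mp hle
    exact Finset.disjoint_left.mp hd (((hM q).mp (h2 hq)).2 ((hM q').mp (h1 hq')).1 hle'
      |>.antisymm hle' ▸ hq') hq
  have hnzd : NoZeroDivisors A := ⟨fun {u v} huv => by
    by_contra! hcon
    let S₁ := M.filter fun q => u ∉ q
    let S₂ := M.filter fun q => u ∈ q
    have hne1 : S₁.Nonempty := by
      by_contra hh
      exact hcon.1 (hnil u fun q hq => by
        by_contra hu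
        exact hh ⟨q, Finset.mem_filter.mpr ⟨(hM q).mpr hq, hu⟩⟩)
    have hne2 : S₂.Nonempty := by
      by_contra hh
      exact hcon.2 (hnil v fun q hq => ((hq.1.1.mem_or_mem (huv ▸ zero_mem q)).resolve_left fun hu =>
        hh ⟨q, Finset.mem_filter.mpr ⟨(hM q).mpr hq, hu⟩⟩))
    have hd : Disjoint S₁ S₂ := (Finset.disjoint_filter_filter_not M M _).symm
    obtain ⟨a, ha1, ha2⟩ := sep S₁ S₂ (Finset.filter_subset _ _) (Finset.filter_subset _ _) hd hne2
    obtain ⟨b, hb2, hb1⟩ := sep S₂ S₁ (Finset.filter_subset _ _) (Finset.filter_subset _ _) hd.symm hne1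
    have hsplit : ∀ q ∈ minimalPrimes A, q ∈ S₁ ∨ q ∈ S₂ := fun q hq => by
      by_cases hu : u ∈ q
      · exact .inr (Finset.mem_filter.mpr ⟨(hM q).mpr hq, hu⟩)
      · exact .inl (Finset.mem_filter.mpr ⟨(hM q).mpr hq, hu⟩)
    have hab : a * b = 0 := hnil _ fun q hq => (hsplit q hq).elim
      (fun h => q.mul_mem_right _ (ha1 q h)) fun h => q.mul_mem_left _ (hb2 q h)
    have hs : ∀ c, (a + b) * c = 0 → c = 0 := fun c hc => hnil c fun q hq => by
      refine (hq.1.1.mem_or_mem (hc ▸ zero_mem q)).resolve_left ?_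
      rcases hsplit q hq with h | h
      · exact fun hh => hb1 q h (by simpa using sub_mem hh (ha1 q h))
      · exact fun hh => ha2 q h (by simpa using sub_mem hh (hb2 q h))
    obtain ⟨c, hc⟩ := Ideal.mem_span_singleton'.mp (mem_span_of_rel H (a := a) hs
      ⟨2, fun i => if i = 1 then -1 else 0, by
        simp [Finset.sum_range_succ]
        linear_combination -hab⟩)
    have hcc : c * c = c := by
      refine sub_eq_zero.mp (hs _ (hs _ ?_))
      linear_combination (c * (a + b) + a - (a + b)) * hc - hab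
    rcases IsLocalRing.isUnit_or_isUnit_one_sub_self c with hu | hu
    · have : c = 1 := IsUnit.mul_left_cancel hu (by rw [hcc, mul_one])
      rw [this, one_mul] at hc
      obtain ⟨q, hq⟩ := hne1
      refine hb1 q hq ?_
      rw [show b = 0 by simpa using hc]
      exact zero_mem q
    · have hc0 : c = 0 := hu.mul_left_eq_zero.mp (by rw [mul_sub, mul_one, hcc, sub_self])
      rw [hc0, zero_mul] at hc
      obtain ⟨q, hq⟩ := hne2
      exact ha2 q hq (hc ▸ zero_mem q)⟩
  haveI : IsDomain A := NoZeroDivisors.to_isDomain A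
  refine ⟨inferInstance, (isIntegrallyClosed_iff (FractionRing A)).mpr fun {x} hx => ?_⟩
  obtain ⟨a, ⟨s, hs⟩, rfl⟩ := IsLocalization.exists_mk'_eq (nonZeroDivisors A) x
  have hrel : Rel s a := by
    obtain ⟨f, hf, hf0⟩ := hx
    refine ⟨f.natDegree, f.coeff, IsFractionRing.injective A (FractionRing A) ?_⟩
    rw [map_zero, map_add, map_pow, map_sum]
    have h0 : ∑ i ∈ Finset.range (f.natDegree + 1), algebraMap A (FractionRing A) (f.coeff i) *
        (IsLocalization.mk' (FractionRing A) a ⟨s, hs⟩) ^ i = 0 := by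
      rw [← hf0, Polynomial.eval₂_eq_sum_range]
    rw [Finset.sum_range_succ, hf.coeff_natDegree, map_one, one_mul] at h0
    have h1 := congrArg (· * algebraMap A (FractionRing A) s ^ f.natDegree) h0
    simp only [zero_mul, add_mul, Finset.sum_mul, ← mul_pow, IsLocalization.mk'_spec'_mk,
      IsLocalization.mk'_spec_mk] at h1
    rw [add_comm, ← h1]
    refine congrArg (· + _) (Finset.sum_congr rfl fun i hi => ?_)
    rw [Finset.mem_range] at hi
    have hpow : algebraMap A (FractionRing A) s ^ f.natDegree =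
        algebraMap A (FractionRing A) s ^ i * algebraMap A (FractionRing A) s ^ (f.natDegree - i) := by
      rw [← pow_add, Nat.add_sub_cancel' hi.le]
    have ha' : algebraMap A (FractionRing A) a =
        IsLocalization.mk' (FractionRing A) a ⟨s, hs⟩ * algebraMap A (FractionRing A) s :=
      (IsLocalization.mk'_spec_mk (FractionRing A) a s hs).symm
    rw [map_mul, map_mul, map_pow, map_pow, hpow, ha', mul_pow]
    ring
  obtain ⟨c, hc⟩ := Ideal.mem_span_singleton'.mp (mem_span_of_rel H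
    (fun c hc => (mem_nonZeroDivisors_iff.mp hs).1 c hc) hrel)
  exact ⟨c, (IsLocalization.eq_mk'_iff_mul_eq.mpr (by rw [← map_mul, hc]))⟩

end Groth.L01.Serre
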