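import Groth.Agent.L17.ThickRing
import Mathlib.RingTheory.AdicCompletion.Basic
import Mathlib.RingTheory.Filtration
import Mathlib.RingTheory.Ideal.Maps
import Mathlib.LinearAlgebra.Finsupp.LinearCombination

/-!
Completeness of square-zero thickenings of complete Noetherian local rings.
-/

set_option autoImplicit false
universe u v

namespace Groth.L01.SqZeroComplete

variable {A : Type u} {E : Type v} [CommRing A] [CommRing E] [IsNoetherianRing A] [IsLocalRing A]
  [IsAdicComplete (IsLocalRing.maximalIdeal A) A]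

local notation "𝔪" => IsLocalRing.maximalIdeal A

theorem isAdicComplete_comap (f : E →+* A) (hf : Function.Surjective f)
    (hsq : RingHom.ker f ^ 2 = ⊥) (hfg : (RingHom.ker f).FG) :
    IsAdicComplete ((IsLocalRing.maximalIdeal A).comap f) E := by
  classical
  set N := RingHom.ker f
  set J : Ideal E := Ideal.comap f 𝔪
  have hN0 : ∀ a ∈ N, ∀ b ∈ N, a * b = 0 := fun a ha b hb =>
    Ideal.mem_bot.mp (hsq ▸ (pow_two N).symm ▸ Ideal.mul_mem_mul ha hb)
  have : IsNoetherianRing E := Groth.L17.ThickRing.isNoetherianRing_of_ker f hf hfg fun a ha =>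
    ⟨2, by rw [pow_two]; exact hN0 a ha a ha⟩
  have hJmap : ∀ n, (J ^ n).map f = 𝔪 ^ n := fun n => by
    rw [Ideal.map_pow, Ideal.map_comap_of_surjective f hf]
  have hlift : ∀ n, ∀ a ∈ 𝔪 ^ n, ∃ x ∈ J ^ n, f x = a := fun n a ha =>
    (Ideal.mem_map_iff_of_surjective f hf).mp ((hJmap n).symm ▸ ha)
  have hdown : ∀ n, ∀ x ∈ J ^ n, f x ∈ 𝔪 ^ n := fun n x hx => hJmap n ▸ Ideal.mem_map_of_mem f hx
  have hsep : ∀ a : A, (∀ n, a ∈ 𝔪 ^ n) → a = 0 := fun a ha =>
    IsHausdorff.haus (inferInstance : IsHausdorff 𝔪 A) a fun n => by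
      rw [SModEq.zero, smul_eq_mul, Ideal.mul_top]; exact ha n
  obtain ⟨c, hc⟩ := J.exists_pow_inf_eq_pow_smul (N : Submodule E E)
  have hAR : ∀ n, J ^ (n + c) ⊓ N ≤ J ^ n * N := fun n => by
    intro x hx
    have h := hc (n + c) (Nat.le_add_left c n)
    simp only [smul_eq_mul, Ideal.mul_top, Nat.add_sub_cancel] at h
    rw [h] at hx
    exact Ideal.mul_mono le_rfl inf_le_right hx
  obtain ⟨s, hs⟩ := hfg
  have hcoef : ∀ n, ∀ x ∈ J ^ n * N, ∃ e : E → E,
      (∀ a ∈ s, e a ∈ J ^ n) ∧ x = ∑ a ∈ s, e a * a := fun n x hx => by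
    refine Submodule.mul_induction_on hx (fun b hb y hy => ?_) (fun y z hy hz => ?_)
    · obtain ⟨e, -, he⟩ := Submodule.mem_span_finset.mp (show y ∈ Ideal.span (s : Set E) by rw [hs]; exact hy)
      refine ⟨fun a => b * e a, fun a _ => Ideal.mul_mem_right _ _ hb, ?_⟩
      rw [← he, Finset.mul_sum]
      exact Finset.sum_congr rfl fun a _ => by simp only [smul_eq_mul, mul_assoc]
    · obtain ⟨e₁, h₁, rfl⟩ := hy
      obtain ⟨e₂, h₂, rfl⟩ := hz
      refine ⟨e₁ + e₂, fun a ha => add_mem (h₁ a ha) (h₂ a ha), ?_⟩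
      rw [← Finset.sum_add_distrib]
      exact Finset.sum_congr rfl fun a _ => by simp only [Pi.add_apply, add_mul]
  have hmemN : ∀ a ∈ s, a ∈ N := fun a ha => hs ▸ Submodule.subset_span ha
  refine { haus' := fun x hx => ?_, prec' := fun x hx => ?_ }
  · simp only [SModEq.zero, smul_eq_mul, Ideal.mul_top] at hx
    have hxN : x ∈ N := hsep _ fun n => hdown n x (hx n)
    have hkey : x ∈ (⨅ i : ℕ, J ^ i • ⊤ : Submodule E E) := by
      simp only [Submodule.mem_iInf, smul_eq_mul, Ideal.mul_top]; exact hx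
    obtain ⟨⟨r, hr⟩, hrx⟩ := (J.mem_iInf_smul_pow_eq_bot_iff x).mp hkey
    have hu : IsUnit (f (1 - r)) := by
      rw [map_sub, map_one]
      exact IsLocalRing.isUnit_one_sub_self_of_mem_nonunits _ hr
    obtain ⟨w, hw⟩ := hf (↑hu.unit⁻¹ : A)
    have h1 : 1 - w * (1 - r) ∈ N := by
      show f _ = 0
      rw [map_sub, map_one, map_mul, hw, IsUnit.val_inv_mul, sub_self]
    have h2 := hN0 _ h1 x hxN
    have h3 : (1 - r) * x = 0 := by rw [sub_mul, one_mul]; exact sub_eq_zero.mpr hrx.symm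
    rw [sub_mul, one_mul, mul_assoc, h3, mul_zero, sub_zero] at h2
    exact h2
  · have hx' : ∀ {m n : ℕ}, m ≤ n → x m - x n ∈ J ^ m := fun h => by
      have := SModEq.sub_mem.mp (hx h)
      rwa [smul_eq_mul, Ideal.mul_top] at this
    obtain ⟨a, ha⟩ := IsPrecomplete.prec (inferInstance : IsPrecomplete 𝔪 A) (f := fun n => f (x n)) fun {m n} h => by
      rw [SModEq.sub_mem, smul_eq_mul, Ideal.mul_top, ← map_sub]
      exact hdown m _ (hx' h)
    obtain ⟨b, hb⟩ := hf a
    have hν : ∀ n, ∃ ν ∈ N, x n - b - ν ∈ J ^ n := fun n => by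
      have h1 : f (x n - b) ∈ 𝔪 ^ n := by
        have := SModEq.sub_mem.mp (ha n)
        rwa [smul_eq_mul, Ideal.mul_top, ← hb, ← map_sub] at this
      obtain ⟨j, hj, hjf⟩ := hlift n _ h1
      refine ⟨x n - b - j, ?_, by rwa [sub_sub_cancel]⟩
      show f _ = 0
      rw [map_sub, hjf, sub_self]
    choose ν hνN hνJ using hν
    have hstep : ∀ n, ∃ e : E → E, (∀ a ∈ s, e a ∈ J ^ n) ∧
        ν (n + c + 1) - ν (n + c) = ∑ a ∈ s, e a * a := fun n => by
      refine hcoef n _ (hAR n ⟨?_, N.sub_mem (hνN _) (hνN _)⟩)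
      have h1 := Ideal.pow_le_pow_right (Nat.le_succ (n + c)) (hνJ (n + c + 1))
      have h2 := hνJ (n + c)
      have h3 := hx' (show n + c ≤ n + c + 1 by omega)
      show ν (n + c + 1) - ν (n + c) ∈ J ^ (n + c)
      rw [show ν (n + c + 1) - ν (n + c) = x (n + c) - b - ν (n + c) - (x (n + c + 1) - b - ν (n + c + 1)) -
        (x (n + c) - x (n + c + 1)) by ring]
      exact Ideal.sub_mem _ (Ideal.sub_mem _ h2 h1) h3
    choose e he hsum using hstep
    have hlim : ∀ a : s, ∃ β : E, ∀ n, f (β - ∑ i ∈ Finset.range n, e i a) ∈ 𝔪 ^ n := fun a => by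
      obtain ⟨L, hL⟩ := IsPrecomplete.prec (inferInstance : IsPrecomplete 𝔪 A)
        (f := fun n => f (∑ i ∈ Finset.range n, e i a)) fun {m n} h => by
        rw [SModEq.sub_mem, smul_eq_mul, Ideal.mul_top, ← neg_sub, Submodule.neg_mem_iff, ← map_sub,
          ← Finset.sum_Ico_eq_sub _ h]
        exact hdown m _ (Ideal.sum_mem _ fun i hi =>
          Ideal.pow_le_pow_right (Finset.mem_Ico.mp hi).1 (he i a a.2))
      obtain ⟨β, hβ⟩ := hf L
      refine ⟨β, fun n => ?_⟩
      have := SModEq.sub_mem.mp (hL n)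
      rw [smul_eq_mul, Ideal.mul_top, ← hβ, ← map_sub] at this
      rw [← neg_sub, map_neg, Submodule.neg_mem_iff]
      exact this
    choose β hβ using hlim
    have htail : ∀ n, ν (n + c) - ν c = ∑ a ∈ s, (∑ i ∈ Finset.range n, e i a) * a := fun n => by
      induction n with
      | zero => simp
      | succ n ih =>
        simp only [Finset.sum_range_succ, add_mul, Finset.sum_add_distrib, ← ih, ← hsum n]
        rw [Nat.add_right_comm]
        ring
    refine ⟨b + ν c + ∑ a : s, β a * (a : E), fun n => ?_⟩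
    rw [SModEq.sub_mem, smul_eq_mul, Ideal.mul_top]
    have h1 : x n - x (n + c) ∈ J ^ n := hx' (Nat.le_add_right n c)
    have h2 : x (n + c) - b - ν (n + c) ∈ J ^ n :=
      Ideal.pow_le_pow_right (Nat.le_add_right n c) (hνJ (n + c))
    have h3 : ∑ a : s, (β a - ∑ i ∈ Finset.range n, e i a) * (a : E) ∈ J ^ n :=
      Ideal.sum_mem _ fun a _ => by
        obtain ⟨j, hj, hjf⟩ := hlift n _ (hβ a n)
        have hd : β a - ∑ i ∈ Finset.range n, e i a - j ∈ N := by
          show f _ = 0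
          rw [map_sub f, hjf, sub_self]
        have := hN0 _ hd _ (hmemN a a.2)
        rw [sub_mul, sub_eq_zero] at this
        rw [this]
        exact Ideal.mul_mem_right _ _ hj
    have h4 : ν (n + c) - ν c = ∑ a : s, (∑ i ∈ Finset.range n, e i a) * (a : E) := by
      rw [htail n]
      exact (Finset.sum_coe_sort s fun a => (∑ i ∈ Finset.range n, e i a) * a).symm
    have := Ideal.sub_mem _ (Ideal.add_mem _ h1 h2) h3
    convert this using 1
    simp only [sub_mul, Finset.sum_sub_distrib, ← h4]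
    ring

end Groth.L01.SqZeroComplete
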