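import Mathlib.RingTheory.Flat.Tensor
import Mathlib.LinearAlgebra.TensorProduct.RightExactness
import Mathlib.LinearAlgebra.TensorProduct.Quotient
import Mathlib.LinearAlgebra.TensorProduct.Tower
import Mathlib.Algebra.Module.Torsion.Basic
import Mathlib.RingTheory.Ideal.Quotient.Operations

/-!
Flatness across a square-zero ideal.
-/

universe u v
open TensorProduct

namespace Groth.L01.SqZeroFlat

variable {A : Type u} [CommRing A] (I : Ideal A) {B : Type v} [AddCommGroup B] [Module A B]

theorem rTensor_injective_of_killed [Module.Flat (A ⧸ I) ((A ⧸ I) ⊗[A] B)]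
    {X Y : Type u} [AddCommGroup X] [Module A X] [AddCommGroup Y] [Module A Y]
    (hX : Module.IsTorsionBySet A X I) (hY : Module.IsTorsionBySet A Y I)
    (f : X →ₗ[A] Y) (hf : Function.Injective f) : Function.Injective (f.rTensor B) := by
  letI := hX.module
  letI := hY.module
  haveI : IsScalarTower A (A ⧸ I) X := hX.isScalarTower
  haveI : IsScalarTower A (A ⧸ I) Y := hY.isScalarTower
  let g : X →ₗ[A ⧸ I] Y := f.extendScalarsOfSurjective Ideal.Quotient.mk_surjective
  have h1 : Function.Injective (g.rTensor ((A ⧸ I) ⊗[A] B)) :=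
    Module.Flat.rTensor_preserves_injective_linearMap g hf
  let eX : X ⊗[A ⧸ I] ((A ⧸ I) ⊗[A] B) ≃ₗ[A ⧸ I] X ⊗[A] B :=
    AlgebraTensorModule.cancelBaseChange A (A ⧸ I) (A ⧸ I) X B
  let eY : Y ⊗[A ⧸ I] ((A ⧸ I) ⊗[A] B) ≃ₗ[A ⧸ I] Y ⊗[A] B :=
    AlgebraTensorModule.cancelBaseChange A (A ⧸ I) (A ⧸ I) Y B
  have hnat : ∀ z, f.rTensor B (eX z) = eY (g.rTensor _ z) := by
    intro z
    induction z using TensorProduct.induction_on with
    | zero => simp
    | tmul x w =>
      induction w using TensorProduct.induction_on with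
      | zero => simp
      | tmul a b =>
        obtain ⟨a, rfl⟩ := Ideal.Quotient.mk_surjective a
        simp [eX, eY, g, ← Ideal.Quotient.algebraMap_eq, algebraMap_smul]
      | add w₁ w₂ h₁ h₂ => simp only [tmul_add, map_add, h₁, h₂]
    | add z₁ z₂ h₁ h₂ => simp only [map_add, h₁, h₂]
  intro a b hab
  obtain ⟨a, rfl⟩ := eX.surjective a
  obtain ⟨b, rfl⟩ := eX.surjective b
  rw [hnat, hnat] at hab
  exact congrArg eX (h1 (eY.injective hab))

theorem flat (hI : I * I = ⊥) [Module.Flat (A ⧸ I) ((A ⧸ I) ⊗[A] B)]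
    (hinj : Function.Injective (I.subtype.rTensor B)) : Module.Flat A B := by
  rw [Module.Flat.iff_rTensor_injective']
  intro J
  rw [injective_iff_map_eq_zero]
  intro z hz
  let K : Submodule A J := Submodule.comap J.subtype I
  have hJK : Module.IsTorsionBySet A (J ⧸ K) I := by
    intro q a
    obtain ⟨j, rfl⟩ := Submodule.Quotient.mk_surjective _ q
    rw [← Submodule.Quotient.mk_smul, Submodule.Quotient.mk_eq_zero]
    exact I.mul_mem_right _ a.2
  have hQ : Module.IsTorsionBySet A (A ⧸ I) I := by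
    intro q a
    obtain ⟨j, rfl⟩ := Submodule.Quotient.mk_surjective _ q
    rw [← Submodule.Quotient.mk_smul, Submodule.Quotient.mk_eq_zero]
    exact I.mul_mem_right _ a.2
  let f : (J ⧸ K) →ₗ[A] A ⧸ I := Submodule.mapQ K I J.subtype le_rfl
  have hf : Function.Injective f := by
    rw [← LinearMap.ker_eq_bot]
    exact Submodule.ker_liftQ_eq_bot _ _ _ (by rw [LinearMap.ker_comp, Submodule.ker_mkQ])
  have hzq : K.mkQ.rTensor B z = 0 := by
    apply rTensor_injective_of_killed I hJK hQ f hf
    rw [map_zero, ← LinearMap.comp_apply, ← LinearMap.rTensor_comp, show f ∘ₗ K.mkQ = I.mkQ ∘ₗ J.subtype from rfl,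
      LinearMap.rTensor_comp, LinearMap.comp_apply, hz, map_zero]
  obtain ⟨y, rfl⟩ := ((rTensor_exact B (LinearMap.exact_subtype_mkQ K) K.mkQ_surjective) z).mp hzq
  let g : K →ₗ[A] I := (J.subtype ∘ₗ K.subtype).codRestrict I fun x => x.2
  have hKI : Module.IsTorsionBySet A K I := fun x a => by
    apply Subtype.ext
    apply Subtype.ext
    have hmem : (a : A) * ((x : J) : A) ∈ I * I := Ideal.mul_mem_mul a.2 x.2
    rw [hI, Submodule.mem_bot] at hmem
    simpa using hmem
  have hII : Module.IsTorsionBySet A I I := fun x a => by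
    apply Subtype.ext
    have hmem : (a : A) * (x : A) ∈ I * I := Ideal.mul_mem_mul a.2 x.2
    rw [hI, Submodule.mem_bot] at hmem
    simpa using hmem
  have hg : Function.Injective g := fun a b h => by
    apply Subtype.ext
    apply Subtype.ext
    exact congrArg (Subtype.val : I → A) h
  have hy : g.rTensor B y = 0 := by
    apply hinj
    rw [map_zero, ← LinearMap.comp_apply, ← LinearMap.rTensor_comp,
      show I.subtype ∘ₗ g = J.subtype ∘ₗ K.subtype from rfl, LinearMap.rTensor_comp, LinearMap.comp_apply, hz]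
  rw [(injective_iff_map_eq_zero _).mp (rTensor_injective_of_killed I hKI hII g hg) y hy, map_zero]

end Groth.L01.SqZeroFlat
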