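import Mathlib.LinearAlgebra.Quotient.Basic
import Mathlib.RingTheory.Ideal.Quotient.Defs
import Mathlib.LinearAlgebra.FreeModule.Basic
import Mathlib.RingTheory.Finiteness.Basic
import Mathlib.Algebra.Module.Projective

/-!
Independence of the second cotangent module `T²` of the presentation of an ideal.
-/

universe u

namespace Groth.L01.T2Indep

variable {P : Type u} [CommRing P] (J : Ideal P)
variable {F : Type u} [AddCommGroup F] [Module P F]
variable {F' : Type u} [AddCommGroup F'] [Module P F']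
variable {F'' : Type u} [AddCommGroup F''] [Module P F'']

abbrev triv (j : F →ₗ[P] P) : Submodule P (LinearMap.ker j) :=
  Submodule.comap (LinearMap.ker j).subtype (Submodule.span P {y : F | ∃ u v : F, y = j u • v - j v • u})

abbrev homTr (j : F →ₗ[P] P) : Submodule P (LinearMap.ker j →ₗ[P] P ⧸ J) :=
  LinearMap.ker (LinearMap.lcomp P (P ⧸ J) (triv j).subtype)

abbrev restr (j : F →ₗ[P] P) : Submodule P (LinearMap.ker j →ₗ[P] P ⧸ J) :=
  LinearMap.range (LinearMap.lcomp P (P ⧸ J) (LinearMap.ker j).subtype)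

variable {j : F →ₗ[P] P} {j' : F' →ₗ[P] P}

def onKer (φ : F →ₗ[P] F') (h : j'.comp φ = j) : LinearMap.ker j →ₗ[P] LinearMap.ker j' :=
  φ.restrict fun x hx => by
    show j' (φ x) = 0
    rw [← LinearMap.comp_apply, h]; exact hx

theorem onKer_coe (φ : F →ₗ[P] F') (h : j'.comp φ = j) (x : LinearMap.ker j) :
    ((onKer φ h x : LinearMap.ker j') : F') = φ x := rfl

theorem mapsTo (φ : F →ₗ[P] F') (h : j'.comp φ = j) :
    homTr J j' ≤ (homTr J j).comap (LinearMap.lcomp P (P ⧸ J) (onKer φ h)) := by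
  intro f hf
  rw [Submodule.mem_comap, LinearMap.mem_ker]
  refine LinearMap.ext fun x => ?_
  have hx : (onKer φ h x.1) ∈ triv j' := by
    show φ (x.1 : F) ∈ Submodule.span P {y : F' | ∃ u v : F', y = j' u • v - j' v • u}
    have hx2 : (x.1 : F) ∈ Submodule.span P {y : F | ∃ u v : F, y = j u • v - j v • u} := x.2
    refine (Submodule.span_le.mpr ?_ : Submodule.span P {y : F | ∃ u v : F, y = j u • v - j v • u} ≤
      (Submodule.span P {y : F' | ∃ u v : F', y = j' u • v - j' v • u}).comap φ) hx2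
    rintro _ ⟨u, v, rfl⟩
    refine Submodule.subset_span ⟨φ u, φ v, ?_⟩
    rw [map_sub, map_smul, map_smul, ← h]
    rfl
  exact LinearMap.congr_fun (LinearMap.mem_ker.mp hf) ⟨_, hx⟩

theorem mapsTo_restr (φ : F →ₗ[P] F') (h : j'.comp φ = j) :
    restr J j' ≤ (restr J j).comap (LinearMap.lcomp P (P ⧸ J) (onKer φ h)) := by
  rintro _ ⟨g, rfl⟩
  exact ⟨g.comp φ, rfl⟩

def mapQ (φ : F →ₗ[P] F') (h : j'.comp φ = j) :
    ((LinearMap.ker j' →ₗ[P] P ⧸ J) ⧸ restr J j') →ₗ[P] ((LinearMap.ker j →ₗ[P] P ⧸ J) ⧸ restr J j) :=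
  (restr J j').mapQ (restr J j) _ (mapsTo_restr J φ h)

theorem mapQ_mem (φ : F →ₗ[P] F') (h : j'.comp φ = j) :
    ∀ x ∈ (homTr J j').map (restr J j').mkQ, mapQ J φ h x ∈ (homTr J j).map (restr J j).mkQ := by
  rintro _ ⟨f, hf, rfl⟩
  exact ⟨_, mapsTo J φ h hf, rfl⟩

theorem mapQ_endo (φ : F →ₗ[P] F) (h : j.comp φ = j) : mapQ J φ h = LinearMap.id := by
  refine Submodule.linearMap_qext _ (LinearMap.ext fun f => ?_)
  refine (Submodule.Quotient.eq _).mpr ⟨f.comp ((φ - LinearMap.id).codRestrict (LinearMap.ker j) fun x => ?_),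
    LinearMap.ext fun x => ?_⟩
  swap
  · show j (φ x - x) = 0
    rw [map_sub, ← LinearMap.comp_apply, h, sub_self]
  · show f _ = f (onKer φ h x) - f x
    rw [← map_sub]
    rfl

theorem mapQ_comp {j'' : F'' →ₗ[P] P} (φ : F →ₗ[P] F') (h : j'.comp φ = j) (ψ : F' →ₗ[P] F'')
    (h' : j''.comp ψ = j') (h'' : j''.comp (ψ.comp φ) = j) :
    (mapQ J φ h).comp (mapQ J ψ h') = mapQ J (ψ.comp φ) h'' :=
  Submodule.linearMap_qext _ (LinearMap.ext fun _ => rfl)

theorem equiv_T2 (hφ : ∃ φ : F →ₗ[P] F', j'.comp φ = j) (hψ : ∃ ψ : F' →ₗ[P] F, j.comp ψ = j') :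
    Nonempty (((homTr J j).map (restr J j).mkQ) ≃ₗ[P] ((homTr J j').map (restr J j').mkQ)) := by
  obtain ⟨φ, hφ⟩ := hφ
  obtain ⟨ψ, hψ⟩ := hψ
  have h1 : j.comp (ψ.comp φ) = j := by rw [← LinearMap.comp_assoc, hψ, hφ]
  have h2 : j'.comp (φ.comp ψ) = j' := by rw [← LinearMap.comp_assoc, hφ, hψ]
  refine ⟨LinearEquiv.ofLinear ((mapQ J ψ hψ).restrict (mapQ_mem J ψ hψ))
    ((mapQ J φ hφ).restrict (mapQ_mem J φ hφ)) (LinearMap.ext fun x => Subtype.ext ?_)
    (LinearMap.ext fun x => Subtype.ext ?_)⟩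
  · exact LinearMap.congr_fun ((mapQ_comp J ψ hψ φ hφ h2).trans (mapQ_endo J _ h2)) x.1
  · exact LinearMap.congr_fun ((mapQ_comp J φ hφ ψ hψ h1).trans (mapQ_endo J _ h1)) x.1

theorem exists_lift [Module.Free P F] (j : F →ₗ[P] P) (j' : F' →ₗ[P] P)
    (h : LinearMap.range j ≤ LinearMap.range j') : ∃ φ : F →ₗ[P] F', j'.comp φ = j := by
  obtain ⟨φ, hφ⟩ := Module.projective_lifting_property j'.rangeRestrict
    (j.codRestrict (LinearMap.range j') fun x => h ⟨x, rfl⟩) j'.surjective_rangeRestrict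
  refine ⟨φ, LinearMap.ext fun x => ?_⟩
  exact congrArg Subtype.val (LinearMap.congr_fun hφ x)

end Groth.L01.T2Indep
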