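import Groth.Agent.S0505
import Mathlib.RingTheory.AdjoinRoot
import Mathlib.RingTheory.Polynomial.Eisenstein.Basic
import Mathlib.RingTheory.Polynomial.GaussLemma
import Mathlib.RingTheory.DiscreteValuationRing.Basic
import Mathlib.FieldTheory.IsAlgClosed.Basic
import Mathlib.FieldTheory.SplittingField.Construction
import Mathlib.FieldTheory.KummerExtension
import Mathlib.RingTheory.RootsOfUnity.AlgebraicallyClosed

/-!
Tame Kummer theory over a strictly henselian DVR.
-/

set_option autoImplicit false
universe u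

open Polynomial

namespace Groth.L01.TameKummer

/-- In a henselian local ring with algebraically closed residue field, units have `n`-th roots for
`n` invertible in the residue field. -/
theorem exists_pow_eq {R : Type u} [CommRing R] [HenselianLocalRing R]
    [IsAlgClosed (IsLocalRing.ResidueField R)] (n : ℕ) (hn : (n : IsLocalRing.ResidueField R) ≠ 0)
    (v : R) (hv : IsUnit v) : ∃ w : R, w ^ n = v := by
  have hn0 : n ≠ 0 := fun h => hn (by rw [h, Nat.cast_zero])
  obtain ⟨c, hc⟩ := IsAlgClosed.exists_pow_nat_eq (IsLocalRing.residue R v) (Nat.pos_of_ne_zero hn0)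
  obtain ⟨a, rfl⟩ := IsLocalRing.residue_surjective c
  obtain ⟨w, hw, -⟩ := HenselianLocalRing.is_henselian (X ^ n - C v) (monic_X_pow_sub_C v hn0) a
    (by
      rw [eval_sub, eval_pow, eval_X, eval_C, ← IsLocalRing.residue_eq_zero_iff, map_sub, map_pow, hc, sub_self])
    (by
      rw [derivative_sub, derivative_X_pow, derivative_C, sub_zero, eval_mul, eval_C, eval_pow, eval_X]
      refine (IsLocalRing.residue_ne_zero_iff_isUnit _).mp ?_
      rw [map_mul, map_natCast, map_pow]
      refine mul_ne_zero hn (pow_ne_zero _ fun h => ?_)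
      rw [h, zero_pow hn0] at hc
      exact (IsLocalRing.residue_ne_zero_iff_isUnit _).mpr hv hc.symm)
  exact ⟨w, by simpa [Polynomial.IsRoot, sub_eq_zero] using hw⟩

/-- The residue field of an algebra finite over a local ring, when it is local, is algebraically
closed if the base residue field is. -/
theorem isAlgClosed_residueField {R S : Type u} [CommRing R] [IsLocalRing R] [CommRing S] [IsLocalRing S]
    [Algebra R S] [Module.Finite R S] [IsAlgClosed (IsLocalRing.ResidueField R)]
    (h : ∀ s : S, ∃ r : R, s - algebraMap R S r ∈ IsLocalRing.maximalIdeal S) :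
    IsAlgClosed (IsLocalRing.ResidueField S) := by
  have hle : ∀ r ∈ IsLocalRing.maximalIdeal R, algebraMap R S r ∈ IsLocalRing.maximalIdeal S := by
    intro r hr
    have hmax : ((IsLocalRing.maximalIdeal S).comap (algebraMap R S)).IsMaximal :=
      Ideal.isMaximal_comap_of_isIntegral_of_isMaximal _
    rw [← IsLocalRing.eq_maximalIdeal hmax] at hr
    exact hr
  let φ : IsLocalRing.ResidueField R →+* IsLocalRing.ResidueField S :=
    Ideal.Quotient.lift _ ((IsLocalRing.residue S).comp (algebraMap R S)) fun r hr =>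
      (IsLocalRing.residue_eq_zero_iff _).mpr (hle r hr)
  have hφ : Function.Surjective φ := fun z => by
    obtain ⟨s, rfl⟩ := IsLocalRing.residue_surjective z
    obtain ⟨r, hr⟩ := h s
    refine ⟨IsLocalRing.residue R r, ?_⟩
    show IsLocalRing.residue S (algebraMap R S r) = _
    rw [eq_comm, ← sub_eq_zero, ← map_sub, IsLocalRing.residue_eq_zero_iff]
    exact hr
  exact IsAlgClosed.of_ringEquiv _ _ (RingEquiv.ofBijective φ ⟨φ.injective, hφ⟩)

variable (O : Type u) [CommRing O] [IsDomain O] [IsDiscreteValuationRing O]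

local notation "K" => FractionRing O

theorem eisenstein_irreducible {f : O[X]} (hmon : f.Monic) (hpos : 0 < f.natDegree)
    (hf : f.IsEisensteinAt (IsLocalRing.maximalIdeal O)) :
    Irreducible (f.map (algebraMap O K)) :=
  hmon.irreducible_iff_irreducible_map_fraction_map.mp
    (hf.irreducible (IsLocalRing.maximalIdeal.isMaximal O).isPrime hmon.isPrimitive hpos)

theorem X_pow_sub_irreducible {ϖ : O} (hϖ : Irreducible ϖ) {n : ℕ} (hn : 0 < n) :
    Irreducible ((X : K[X]) ^ n - C (algebraMap O K ϖ)) := by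
  have h : ((X : O[X]) ^ n - C ϖ).IsEisensteinAt (IsLocalRing.maximalIdeal O) :=
    { leading := by
        rw [(monic_X_pow_sub_C ϖ hn.ne').leadingCoeff]
        exact (Ideal.ne_top_iff_one _).mp (IsLocalRing.maximalIdeal.isMaximal O).ne_top
      mem := fun {i} hi => by
        rw [natDegree_X_pow_sub_C] at hi
        rw [coeff_sub, coeff_X_pow, if_neg hi.ne, zero_sub, coeff_C]
        split_ifs
        · exact neg_mem (hϖ.not_isUnit)
        · simp
      notMem := by
        rw [coeff_sub, coeff_X_pow, if_neg hn.ne, zero_sub, coeff_C_zero, hϖ.maximalIdeal_eq, Ideal.span_singleton_pow,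
          Ideal.mem_span_singleton, dvd_neg]
        rintro ⟨c, hc⟩
        exact hϖ.not_isUnit (IsUnit.of_mul_eq_one c (mul_left_cancel₀ hϖ.ne_zero (by linear_combination -hc))) }
  have := eisenstein_irreducible O (monic_X_pow_sub_C ϖ hn.ne') (by rw [natDegree_X_pow_sub_C]; exact hn) h
  simpa using this

variable [HenselianLocalRing O] [IsAlgClosed (IsLocalRing.ResidueField O)]

/-- An element of the residue field is a primitive root of unity lifting to one of `O`. -/
theorem primitiveRoots_nonempty (n : ℕ) (hn : (n : IsLocalRing.ResidueField O) ≠ 0) :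
    (primitiveRoots n K).Nonempty := by
  haveI : NeZero (n : IsLocalRing.ResidueField O) := ⟨hn⟩
  have hn0 : n ≠ 0 := fun h => hn (by rw [h, Nat.cast_zero])
  obtain ⟨c, hc⟩ := HasEnoughRootsOfUnity.exists_primitiveRoot (IsLocalRing.ResidueField O) n
  obtain ⟨a, rfl⟩ := IsLocalRing.residue_surjective c
  have hau : IsUnit a := (IsLocalRing.residue_ne_zero_iff_isUnit a).mp (hc.ne_zero hn0)
  obtain ⟨w, hw, hwa⟩ := HenselianLocalRing.is_henselian (X ^ n - C (1 : O)) (monic_X_pow_sub_C 1 hn0) a
    (by rw [eval_sub, eval_pow, eval_X, eval_C, ← IsLocalRing.residue_eq_zero_iff, map_sub, map_pow, hc.pow_eq_one, map_one, sub_self])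
    (by
      rw [derivative_sub, derivative_X_pow, derivative_C, sub_zero, eval_mul, eval_C, eval_pow, eval_X]
      exact ((IsLocalRing.residue_ne_zero_iff_isUnit _).mp (by rwa [map_natCast])).mul (hau.pow _))
  have hwn : w ^ n = 1 := by simpa [Polynomial.IsRoot, sub_eq_zero] using hw
  have hres : IsLocalRing.residue O w = IsLocalRing.residue O a :=
    sub_eq_zero.mp (by rw [← map_sub, IsLocalRing.residue_eq_zero_iff]; exact hwa)
  refine ⟨algebraMap O K w, (mem_primitiveRoots (Nat.pos_of_ne_zero hn0)).mpr ?_⟩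
  refine IsPrimitiveRoot.map_of_injective ?_ (IsFractionRing.injective O K)
  refine IsPrimitiveRoot.iff_def w n |>.mpr ⟨hwn, fun l hl => hc.dvd_of_pow_eq_one l ?_⟩
  rw [← hres, ← map_pow, hl, map_one]

/-- A root of `X^n - ϖ` generates a splitting field of degree `n` with cyclic group. -/
theorem finrank_adjoin {F : Type u} [Field F] [Algebra K F] {ϖ : O} (hϖ : Irreducible ϖ) {n : ℕ}
    (hn : 0 < n) (z : F) (hz : z ^ n = algebraMap K F (algebraMap O K ϖ)) :
    Module.finrank K (IntermediateField.adjoin K {z}) = n := by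
  have hint : IsIntegral K z := IsIntegral.of_pow hn (by rw [hz]; exact isIntegral_algebraMap)
  rw [IntermediateField.adjoin.finrank hint, ← minpoly.eq_of_irreducible_of_monic (X_pow_sub_irreducible O hϖ hn)
    (by simp [hz]) (monic_X_pow_sub_C _ hn.ne'), natDegree_X_pow_sub_C]

end Groth.L01.TameKummer

namespace Groth.L01.TameKummer

variable (O : Type u) [CommRing O] [IsDomain O] [IsDiscreteValuationRing O]
  [HenselianLocalRing O] [IsAlgClosed (IsLocalRing.ResidueField O)]

local notation "K" => FractionRing O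

open IntermediateField

omit [IsAlgClosed (IsLocalRing.ResidueField O)] [HenselianLocalRing O] in
theorem mem_adjoin_of_pow_eq {F : Type u} [Field F] [Algebra K F] {n : ℕ} (hn : 0 < n)
    (hμ : (primitiveRoots n K).Nonempty) (z y : F) (hz : z ≠ 0) (h : y ^ n = z ^ n) :
    y ∈ IntermediateField.adjoin K {z} := by
  obtain ⟨ζ, hζ⟩ := hμ
  rw [mem_primitiveRoots hn] at hζ
  haveI : NeZero n := ⟨hn.ne'⟩
  obtain ⟨i, -, hi⟩ := (hζ.map_of_injective (algebraMap K F).injective).eq_pow_of_pow_eq_one (ξ := y / z)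
    (by rw [div_pow, h, div_self (pow_ne_zero n hz)])
  rw [show y = algebraMap K F ζ ^ i * z by rw [hi, div_mul_cancel₀ _ hz]]
  exact mul_mem (pow_mem (IntermediateField.algebraMap_mem _ _) i) (IntermediateField.mem_adjoin_simple_self K z)

omit [HenselianLocalRing O] [IsAlgClosed (IsLocalRing.ResidueField O)] in
theorem natCast_residue_ne_zero (p : ℕ) [CharP (IsLocalRing.ResidueField O) p] (n : ℕ) (h : ¬ p ∣ n) :
    (n : IsLocalRing.ResidueField O) ≠ 0 := fun h0 => h ((CharP.cast_eq_zero_iff _ p n).mp h0)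

/-- A root of an Eisenstein polynomial of degree `e` generates `K(ϖ^(1/e))`, `ϖ` its constant term. -/
theorem exists_pow_eq_of_root {F : Type u} [Field F] [Algebra K F] {f : O[X]} (hmon : f.Monic)
    {e : ℕ} (hdeg : f.natDegree = e) (he : 1 ≤ e) (hf : f.IsEisensteinAt (IsLocalRing.maximalIdeal O))
    (hek : (e : IsLocalRing.ResidueField O) ≠ 0) (β : F) (hβ : Polynomial.aeval β (f.map (algebraMap O K)) = 0) :
    Irreducible (f.coeff 0) ∧ ∃ z : F, z ^ e = algebraMap K F (algebraMap O K (f.coeff 0)) ∧
      IntermediateField.adjoin K {β} = IntermediateField.adjoin K {z} := by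
  subst hdeg
  classical
  have ha0 : Irreducible (f.coeff 0) := by
    obtain ⟨π, hπ⟩ := IsDiscreteValuationRing.exists_irreducible O
    have h0 : f.coeff 0 ∈ IsLocalRing.maximalIdeal O := hf.mem he
    have h2 := hf.notMem
    rw [hπ.maximalIdeal_eq, Ideal.mem_span_singleton'] at h0
    obtain ⟨c, hc⟩ := h0
    have hcu : IsUnit c := by
      by_contra hcu
      refine h2 ?_
      rw [← hc, pow_two]
      exact Ideal.mul_mem_mul hcu (hπ.maximalIdeal_eq ▸ Ideal.mem_span_singleton_self π)
    rw [← hc]
    exact (irreducible_isUnit_mul hcu).mpr hπ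
  refine ⟨ha0, ?_⟩
  let B := AdjoinRoot f
  let x : B := AdjoinRoot.root f
  haveI : Module.Finite O B := hmon.finite_adjoinRoot
  haveI : Nontrivial B := Ideal.Quotient.nontrivial_iff.mpr fun h => by
    rw [Ideal.span_singleton_eq_top] at h
    rw [hmon.eq_one_of_isUnit h, natDegree_one] at he
    omega
  have hmB : ∀ M : Ideal B, M.IsMaximal → M.comap (algebraMap O B) = IsLocalRing.maximalIdeal O := fun M hM =>
    IsLocalRing.eq_maximalIdeal (Ideal.isMaximal_comap_of_isIntegral_of_isMaximal M)
  -- the relation `x ^ e = a₀ * U`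
  have hdiv : ∀ i, ∃ c : O, i < f.natDegree → f.coeff i = f.coeff 0 * c := fun i => by
    by_cases hi : i < f.natDegree
    · have := hf.mem hi
      rw [ha0.maximalIdeal_eq, Ideal.mem_span_singleton'] at this
      obtain ⟨c, hc⟩ := this
      exact ⟨c, fun _ => by rw [← hc, mul_comm]⟩
    · exact ⟨0, fun h => absurd h hi⟩
  choose c hc using hdiv
  have hc0 : c 0 = 1 := (mul_eq_left₀ ha0.ne_zero).mp (hc 0 he).symm
  let U : B := -∑ i ∈ Finset.range f.natDegree, algebraMap O B (c i) * x ^ i
  have hxU : x ^ f.natDegree = algebraMap O B (f.coeff 0) * U := by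
    have h0 : Polynomial.aeval x f = 0 := by rw [AdjoinRoot.aeval_eq, AdjoinRoot.mk_self]
    rw [Polynomial.aeval_eq_sum_range, Finset.sum_range_succ, hmon.coeff_natDegree, one_smul] at h0
    rw [eq_neg_of_add_eq_zero_right h0, mul_neg, Finset.mul_sum]
    congr 1
    refine Finset.sum_congr rfl fun i hi => ?_
    rw [Algebra.smul_def, hc i (Finset.mem_range.mp hi), map_mul, mul_assoc]
  have hxM : ∀ M : Ideal B, M.IsMaximal → x ∈ M := fun M hM => by
    refine hM.isPrime.mem_of_pow_mem f.natDegree ?_
    rw [hxU]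
    refine Ideal.mul_mem_right _ _ ?_
    rw [← Ideal.mem_comap, hmB M hM]
    exact hf.mem he
  have hsplit : ∀ b : B, ∃ r : O, ∃ t : B, b = algebraMap O B r + x * t := fun b => by
    obtain ⟨g, rfl⟩ := AdjoinRoot.mk_surjective b
    refine ⟨g.coeff 0, AdjoinRoot.mk f g.divX, ?_⟩
    conv_lhs => rw [← g.X_mul_divX_add]
    rw [map_add, map_mul, AdjoinRoot.mk_X, AdjoinRoot.mk_C, add_comm]
    rfl
  haveI : IsLocalRing B := by
    refine IsLocalRing.of_unique_max_ideal ?_
    obtain ⟨M, hM⟩ := Ideal.exists_maximal B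
    refine ⟨M, hM, fun M' hM' => (hM'.eq_of_le hM.ne_top fun b hb => ?_)⟩
    obtain ⟨r, t, rfl⟩ := hsplit b
    have hr : r ∈ M'.comap (algebraMap O B) :=
      (Ideal.add_mem_iff_left _ (M'.mul_mem_right t (hxM M' hM'))).mp hb
    rw [hmB M' hM', ← hmB M hM] at hr
    exact add_mem hr (M.mul_mem_right t (hxM M hM))
  haveI : HenselianLocalRing B := Groth.Agent.S0505.result O B
  haveI : IsAlgClosed (IsLocalRing.ResidueField B) := isAlgClosed_residueField (R := O) fun b => by
    obtain ⟨r, t, rfl⟩ := hsplit b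
    exact ⟨r, by rw [add_sub_cancel_left]; exact Ideal.mul_mem_right _ _ (hxM _ (IsLocalRing.maximalIdeal.isMaximal B))⟩
  have hU : IsUnit U := by
    refine IsUnit.neg ?_
    rw [← IsLocalRing.notMem_maximalIdeal]
    intro h
    rw [← Finset.insert_erase (Finset.mem_range.mpr he), Finset.sum_insert (Finset.notMem_erase _ _)] at h
    rw [Ideal.add_mem_iff_left _ (Ideal.sum_mem _ fun i hi => Ideal.mul_mem_left _ _
      (Ideal.pow_mem_of_mem _ (hxM _ (IsLocalRing.maximalIdeal.isMaximal B)) i
        (Nat.pos_of_ne_zero (Finset.mem_erase.mp hi).1))), hc0, map_one, pow_zero, one_mul] at h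
    exact (IsLocalRing.maximalIdeal.isMaximal B).ne_top ((Ideal.eq_top_iff_one _).mpr h)
  have heB : (f.natDegree : IsLocalRing.ResidueField B) ≠ 0 := by
    intro h
    rw [← map_natCast (IsLocalRing.residue B), IsLocalRing.residue_eq_zero_iff,
      ← map_natCast (algebraMap O B), ← Ideal.mem_comap, hmB _ (IsLocalRing.maximalIdeal.isMaximal B),
      ← IsLocalRing.residue_eq_zero_iff, map_natCast] at h
    exact hek h
  obtain ⟨w, hw⟩ := exists_pow_eq f.natDegree heB U hU
  have hwu : IsUnit w := (isUnit_pow_iff (show f.natDegree ≠ 0 by omega)).mp (hw ▸ hU)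
  letI : Algebra O F := ((algebraMap K F).comp (algebraMap O K)).toAlgebra
  haveI : IsScalarTower O K F := IsScalarTower.of_algebraMap_eq fun _ => rfl
  have hβ' : Polynomial.aeval β f = 0 := by rwa [aeval_map_algebraMap] at hβ
  let ψ : B →ₐ[O] F := AdjoinRoot.liftAlgHom f (Algebra.ofId O F) β hβ'
  have hψ : ∀ b, ψ b ∈ IntermediateField.adjoin K {β} := fun b => by
    obtain ⟨g, rfl⟩ := AdjoinRoot.mk_surjective b
    have : ψ (AdjoinRoot.mk f g) = Polynomial.aeval β g := AdjoinRoot.liftAlgHom_mk (p := f) (Algebra.ofId O F) β hβ' (f := g)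
    rw [this, ← aeval_map_algebraMap K]
    exact (IntermediateField.algebra_adjoin_le_adjoin K {β}) (Polynomial.aeval_mem_adjoin_singleton K β)
  have hψw : ψ w ≠ 0 := (hwu.map ψ).ne_zero
  have hψx : ψ x = β := AdjoinRoot.liftAlgHom_root f _ β hβ'
  refine ⟨β / ψ w, ?_, ?_⟩
  · rw [div_pow, ← hψx, ← map_pow, ← map_pow, hw, hxU, map_mul, AlgHom.commutes,
      mul_div_cancel_right₀ _ ((hU.map ψ).ne_zero)]
    rfl
  · have hz : (β / ψ w) ^ f.natDegree = algebraMap K F (algebraMap O K (f.coeff 0)) := by
      rw [div_pow, ← hψx, ← map_pow, ← map_pow, hw, hxU, map_mul, AlgHom.commutes,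
        mul_div_cancel_right₀ _ ((hU.map ψ).ne_zero)]
      rfl
    have hirr := eisenstein_irreducible O hmon he hf
    have hint : IsIntegral K β := ⟨f.map (algebraMap O K), hmon.map _, hβ⟩
    haveI : FiniteDimensional K (IntermediateField.adjoin K {β}) := IntermediateField.adjoin.finiteDimensional hint
    refine (IntermediateField.eq_of_le_of_finrank_eq ?_ ?_).symm
    · rw [IntermediateField.adjoin_simple_le_iff]
      exact div_mem (IntermediateField.mem_adjoin_simple_self K β) (hψ w)
    · rw [finrank_adjoin O ha0 he _ hz, IntermediateField.adjoin.finrank hint,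
        ← minpoly.eq_of_irreducible_of_monic hirr hβ (hmon.map _), hmon.natDegree_map]

end Groth.L01.TameKummer
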