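import Groth.Agent.L01.N2Basic
import Groth.Agent.S0544
import Mathlib.FieldTheory.IsAlgClosed.AlgebraicClosure
import Mathlib.Algebra.CharP.Lemmas

/-!
Tate's theorem: a normal Noetherian domain complete along a prime principal ideal with N-2 quotient is N-2.
-/

universe u

namespace Groth.L01.Tate

open IntermediateField

/-- a finite purely inseparable extension, with a chosen `q`-th root of an element adjoined -/
theorem exists_root_extension {K K' : Type u} [Field K] [Field K'] [Algebra K K'] [FiniteDimensional K K']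
    [IsPurelyInseparable K K'] (a : K) :
    ∃ (M : Type u) (_ : Field M) (_ : Algebra K M) (_ : FiniteDimensional K M) (_ : K' →ₐ[K] M) (q : ℕ) (y : M),
      1 ≤ q ∧ (∀ z : M, z ^ q ∈ (algebraMap K M).range) ∧ y ^ q = algebraMap K M a := by
  classical
  obtain ⟨p, hp⟩ := ExpChar.exists K
  choose n hn using fun i => IsPurelyInseparable.pow_mem K p (Module.finBasis K K' i)
  let N := Finset.univ.sup n
  let q := p ^ N
  have hq : 1 ≤ q := Nat.one_le_pow _ _ (expChar_pos K p)
  haveI : ExpChar K' p := expChar_of_injective_algebraMap (algebraMap K K').injective p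
  have hK' : ∀ z : K', z ^ q ∈ (algebraMap K K').range := by
    intro z
    rw [← (Module.finBasis K K').sum_repr z, sum_pow_char_pow]
    refine Subring.sum_mem _ fun i _ => ?_
    rw [Algebra.smul_def, mul_pow]
    refine Subring.mul_mem _ ⟨_ ^ q, map_pow _ _ _⟩ ?_
    have h := Finset.le_sup (f := n) (Finset.mem_univ i)
    obtain ⟨d, hd⟩ := Nat.exists_eq_add_of_le h
    rw [show p ^ N = p ^ n i * p ^ d by rw [show N = n i + d from hd, pow_add], pow_mul]
    exact Subring.pow_mem _ (hn i) _
  let C := AlgebraicClosure K'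
  haveI : ExpChar C p := expChar_of_injective_algebraMap (algebraMap K C).injective p
  obtain ⟨y, hy⟩ := IsAlgClosed.exists_pow_nat_eq (algebraMap K C a) hq
  let M := K'⟮y⟯
  haveI : FiniteDimensional K' M := adjoin.finiteDimensional (Algebra.IsIntegral.isIntegral y)
  haveI : FiniteDimensional K M := Module.Finite.trans K' M
  have hC : ∀ z ∈ M, z ^ q ∈ (algebraMap K C).range := by
    intro z hz
    induction hz using IntermediateField.adjoin_induction with
    | mem w hw =>
      rw [Set.mem_singleton_iff.mp hw, hy]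
      exact ⟨a, rfl⟩
    | algebraMap w =>
      obtain ⟨v, hv⟩ := hK' w
      exact ⟨v, by rw [← map_pow, ← hv, ← IsScalarTower.algebraMap_apply]⟩
    | add v w _ _ hv hw => rw [add_pow_expChar_pow]; exact Subring.add_mem _ hv hw
    | inv w _ hw =>
      obtain ⟨v, hv⟩ := hw
      exact ⟨v⁻¹, by rw [map_inv₀, hv, inv_pow]⟩
    | mul v w _ _ hv hw => rw [mul_pow]; exact Subring.mul_mem _ hv hw
  refine ⟨M, inferInstance, inferInstance, inferInstance, IsScalarTower.toAlgHom K K' M, q,
    ⟨y, mem_adjoin_simple_self K' y⟩, hq, fun z => ?_, Subtype.ext hy⟩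
  obtain ⟨v, hv⟩ := hC z z.2
  exact ⟨v, Subtype.ext hv⟩

/-- an integral domain extension of an N-2 domain with bounded rank is finite -/
theorem finite_of_isIntegral_of_rank_le (A B : Type u) [CommRing A] [IsDomain A] [IsNoetherianRing A]
    [CommRing B] [IsDomain B] [Algebra A B] [FaithfulSMul A B] [Algebra.IsIntegral A B]
    (h2 : CAlg.IsN2 A) (d : ℕ) (hd : ∀ {m : ℕ} (w : Fin m → B), LinearIndependent A w → m ≤ d) :
    Module.Finite A B := by
  classical
  let F := FractionRing B
  let k0 := FractionRing A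
  letI := FractionRing.liftAlgebra A F
  haveI := FractionRing.isScalarTower_liftAlgebra A F
  haveI : Algebra.IsAlgebraic A B := inferInstance
  haveI : IsLocalization (Algebra.algebraMapSubmonoid B (nonZeroDivisors A)) F := inferInstance
  have hspan : Submodule.span k0 (Set.range (algebraMap B F)) = ⊤ := by
    refine eq_top_iff.mpr fun f _ => ?_
    obtain ⟨a, c, rfl⟩ := IsLocalization.exists_mk'_eq (Algebra.algebraMapSubmonoid B (nonZeroDivisors A)) f
    obtain ⟨c0, hc0, hc⟩ := c.2
    have hne : algebraMap A k0 c0 ≠ 0 :=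
      (map_ne_zero_iff _ (IsFractionRing.injective A k0)).mpr (nonZeroDivisors.ne_zero hc0)
    have heq : IsLocalization.mk' F a c = (algebraMap A k0 c0)⁻¹ • algebraMap B F a := by
      rw [eq_inv_smul_iff₀ hne, IsScalarTower.algebraMap_smul, Algebra.smul_def,
        IsScalarTower.algebraMap_apply A B F, hc, mul_comm]
      exact IsLocalization.mk'_spec F a c
    rw [heq]
    exact Submodule.smul_mem _ _ (Submodule.subset_span ⟨a, rfl⟩)
  haveI : FiniteDimensional k0 F := by
    obtain ⟨b, hb, hbs, hbli⟩ := exists_linearIndependent k0 (Set.range (algebraMap B F))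
    rw [hspan] at hbs
    have hfin : b.Finite := by
      by_contra hinf
      obtain ⟨t, htb, htc⟩ := Set.Infinite.exists_subset_card_eq hinf (d + 1)
      choose w hw using fun i : Fin t.card => hb (htb (t.equivFin.symm i).2)
      have h1 : LinearIndependent k0 (fun i : Fin t.card => algebraMap B F (w i)) := by
        simp only [hw]
        exact hbli.comp (fun i => (⟨_, htb (t.equivFin.symm i).2⟩ : b))
          (fun i j h => t.equivFin.symm.injective (Subtype.ext (congrArg Subtype.val h :)))
      have h3 : LinearIndependent A (fun i : Fin t.card => algebraMap B F (w i)) :=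
        (LinearIndependent.iff_fractionRing A k0).mpr h1
      have := hd w (LinearIndependent.of_comp (IsScalarTower.toAlgHom A B F).toLinearMap h3)
      omega
    exact ⟨⟨hfin.toFinset, by rw [hfin.coe_toFinset]; exact hbs⟩⟩
  haveI := h2 F inferInstance
  let g : B →ₗ[A] integralClosure A F :=
    { toFun := fun t => ⟨algebraMap B F t, (Algebra.IsIntegral.isIntegral t).map (IsScalarTower.toAlgHom A B F)⟩
      map_add' := fun a b => Subtype.ext (map_add _ a b)
      map_smul' := fun c a => Subtype.ext ((IsScalarTower.toAlgHom A B F).toLinearMap.map_smul c a) }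
  exact Module.Finite.of_injective g fun a b h => IsFractionRing.injective B F (congrArg Subtype.val h)

variable {R : Type u} [CommRing R] [IsDomain R] [IsNoetherianRing R] [IsIntegrallyClosed R]

/-- the key finiteness in Tate's theorem -/
theorem finite_of_pow_mem (x : R) [hxp : (Ideal.span ({x} : Set R)).IsPrime] (hx0 : x ≠ 0)
    (h2 : CAlg.IsN2 (R ⧸ Ideal.span ({x} : Set R))) [IsAdicComplete (Ideal.span ({x} : Set R)) R]
    (K M : Type u) [Field K] [Field M] [Algebra R K] [IsFractionRing R K] [Algebra K M] [Algebra R M]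
    [IsScalarTower R K M] [FiniteDimensional K M] (q : ℕ) (hq : 1 ≤ q)
    (hM : ∀ z : M, z ^ q ∈ (algebraMap K M).range) (y : M) (hy : y ^ q = algebraMap R M x) :
    Module.Finite R (integralClosure R M) := by
  classical
  have hq0 : q ≠ 0 := by omega
  let I := Ideal.span ({x} : Set R)
  let S := integralClosure R M
  have hinj : Function.Injective (algebraMap R M) := by
    rw [IsScalarTower.algebraMap_eq R K M]
    exact (algebraMap K M).injective.comp (IsFractionRing.injective R K)
  have hS : ∀ z : M, z ∈ S ↔ z ^ q ∈ (algebraMap R M).range := by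
    refine fun z => ⟨fun hz => ?_, fun ⟨r, hr⟩ => IsIntegral.of_pow hq (hr ▸ isIntegral_algebraMap)⟩
    obtain ⟨c, hc⟩ := hM z
    have hc' : IsIntegral R (algebraMap K M c) := hc ▸ (IsIntegral.pow hz q)
    rw [isIntegral_algebraMap_iff (algebraMap K M).injective] at hc'
    obtain ⟨r, hr⟩ := IsIntegrallyClosed.isIntegral_iff.mp hc'
    exact ⟨r, by rw [IsScalarTower.algebraMap_apply R K M, hr, hc]⟩
  have hy0 : y ≠ 0 := fun h => hx0 (hinj (by rw [← hy, h, zero_pow hq0, map_zero]))
  let yS : S := ⟨y, (hS y).mpr ⟨x, hy.symm⟩⟩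
  let P : Ideal S := Ideal.span {yS}
  have hxy : algebraMap R S x = yS ^ q := Subtype.ext hy.symm
  have hP : ∀ z : S, z ∈ P ↔ ∃ r ∈ I, algebraMap R M r = (z : M) ^ q := by
    refine fun z => ⟨fun hz => ?_, fun ⟨r, hr, hrz⟩ => ?_⟩
    · obtain ⟨w, rfl⟩ := Ideal.mem_span_singleton'.mp hz
      obtain ⟨s, hs⟩ := (hS w).mp w.2
      exact ⟨s * x, Ideal.mem_span_singleton'.mpr ⟨s, rfl⟩, by rw [map_mul, hs, ← hy, ← mul_pow]; rfl⟩
    · obtain ⟨s, rfl⟩ := Ideal.mem_span_singleton'.mp hr
      refine Ideal.mem_span_singleton'.mpr ⟨⟨z / y, (hS _).mpr ⟨s, ?_⟩⟩, Subtype.ext ?_⟩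
      · rw [div_pow, eq_div_iff (pow_ne_zero _ hy0), hy, ← map_mul, hrz]
      · exact div_mul_cancel₀ _ hy0
  haveI hPp : P.IsPrime := by
    refine ⟨fun h => ?_, fun {v w} hvw => ?_⟩
    · obtain ⟨r, hr, hr1⟩ := (hP 1).mp (h ▸ Submodule.mem_top)
      rw [OneMemClass.coe_one, one_pow, ← map_one (algebraMap R M)] at hr1
      exact hxp.ne_top ((Ideal.eq_top_iff_one _).mpr (hinj hr1 ▸ hr))
    · obtain ⟨r, hr, hrz⟩ := (hP _).mp hvw
      obtain ⟨s, hs⟩ := (hS v).mp v.2
      obtain ⟨t, ht⟩ := (hS w).mp w.2
      have hrst : r = s * t := hinj (by rw [hrz, map_mul, hs, ht, MulMemClass.coe_mul, mul_pow])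
      rw [hrst] at hr
      exact (hxp.mem_or_mem hr).imp (fun h => (hP v).mpr ⟨s, h, hs⟩) (fun h => (hP w).mpr ⟨t, h, ht⟩)
  have hPI : ∀ r : R, algebraMap R S r ∈ P ↔ r ∈ I := by
    refine fun r => ⟨fun h => ?_, fun h => (hP _).mpr ⟨r ^ q, Ideal.pow_mem_of_mem _ h _ hq, map_pow _ _ _⟩⟩
    obtain ⟨s, hs, hsr⟩ := (hP _).mp h
    have : s = r ^ q := hinj (by rw [hsr, map_pow]; rfl)
    exact hxp.mem_of_pow_mem q (this ▸ hs)
  let R0 := R ⧸ I
  let T := S ⧸ P
  letI : Algebra R0 T := (Ideal.quotientMap P (algebraMap R S) fun r hr => (hPI r).mpr hr).toAlgebra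
  have hmap : ∀ r : R, algebraMap R0 T (Ideal.Quotient.mk I r) = Ideal.Quotient.mk P (algebraMap R S r) :=
    fun r => rfl
  haveI : FaithfulSMul R0 T := (faithfulSMul_iff_algebraMap_injective _ _).mpr <| by
    rw [injective_iff_map_eq_zero]
    intro a ha
    obtain ⟨r, rfl⟩ := Ideal.Quotient.mk_surjective a
    rw [hmap, Ideal.Quotient.eq_zero_iff_mem, hPI] at ha
    exact Ideal.Quotient.eq_zero_iff_mem.mpr ha
  haveI : Algebra.IsIntegral R0 T := ⟨fun t => by
    obtain ⟨z, rfl⟩ := Ideal.Quotient.mk_surjective t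
    obtain ⟨r, hr⟩ := (hS z).mp z.2
    refine IsIntegral.of_pow hq ?_
    rw [← map_pow, show z ^ q = algebraMap R S r from Subtype.ext hr.symm, ← hmap]
    exact isIntegral_algebraMap⟩
  haveI : Algebra.IsAlgebraic R0 T := inferInstance
  -- linear independent families lift
  have key : ∀ {m : ℕ} (z : Fin m → S),
      LinearIndependent R0 (fun i => Ideal.Quotient.mk P (z i)) → m ≤ Module.finrank K M := by
    intro m z hz
    have hR : LinearIndependent R (fun i => (z i : M)) := by
      rw [Fintype.linearIndependent_iff]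
      intro g hg
      have hall : ∀ k, ∀ g : Fin m → R, ∑ i, g i • (z i : M) = 0 → ∀ i, g i ∈ I ^ k := by
        intro k
        induction k with
        | zero => intro g _ i; simp
        | succ k ih =>
          intro g hg
          have hgI : ∀ i, g i ∈ I := by
            have h0 : ∑ i, Ideal.Quotient.mk I (g i) • Ideal.Quotient.mk P (z i) = 0 := by
              have h1 : ∑ i, g i • z i = 0 := Subtype.ext (by simpa using hg)
              have h2 := congrArg (Ideal.Quotient.mk P) h1
              rw [map_sum, map_zero] at h2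
              rw [← h2]
              refine Finset.sum_congr rfl fun i _ => ?_
              rw [Algebra.smul_def, Algebra.smul_def, map_mul, hmap]
            exact fun i => Ideal.Quotient.eq_zero_iff_mem.mp (Fintype.linearIndependent_iff.mp hz _ h0 i)
          choose g' hg' using fun i => Ideal.mem_span_singleton'.mp (hgI i)
          have hg2 : ∑ i, g' i • (z i : M) = 0 := by
            have hne : algebraMap R M x ≠ 0 := (map_ne_zero_iff _ hinj).mpr hx0
            refine (mul_eq_zero.mp ?_).resolve_left hne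
            rw [Finset.mul_sum, ← hg]
            refine Finset.sum_congr rfl fun i _ => ?_
            rw [Algebra.smul_def, Algebra.smul_def, ← hg' i, map_mul]
            ring
          intro i
          rw [← hg' i, pow_succ]
          exact Ideal.mul_mem_mul (ih g' hg2 i) (Ideal.mem_span_singleton_self x)
      exact fun i => IsHausdorff.haus (I := I) inferInstance (g i) fun k => by
        rw [SModEq.zero, smul_eq_mul, Ideal.mul_top]; exact hall k g hg i
    have h := (LinearIndependent.iff_fractionRing R K).mp hR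
    simpa using h.fintype_card_le_finrank
  have hT : Module.Finite R0 T := by
    refine finite_of_isIntegral_of_rank_le R0 T h2 (Module.finrank K M) fun {m} w hw => ?_
    choose z hz using fun i => Ideal.Quotient.mk_surjective (w i)
    exact key z (by simpa only [hz] using hw)
  obtain ⟨G, hG⟩ := hT.fg_top
  choose l hl using fun t : T => Ideal.Quotient.mk_surjective t
  let s : Set S := l '' (G : Set T)
  have hstep : ∀ z : S, ∃ v ∈ Submodule.span R s, z - v ∈ P := by
    intro z
    have hz : Ideal.Quotient.mk P z ∈ Submodule.span R0 (G : Set T) := hG ▸ Submodule.mem_top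
    have : ∀ t ∈ Submodule.span R0 (G : Set T), ∃ v ∈ Submodule.span R s, Ideal.Quotient.mk P v = t := by
      intro t ht
      induction ht using Submodule.span_induction with
      | mem g hg => exact ⟨l g, Submodule.subset_span ⟨g, hg, rfl⟩, hl g⟩
      | zero => exact ⟨0, zero_mem _, map_zero _⟩
      | add a b _ _ ha hb =>
        obtain ⟨v, hv, rfl⟩ := ha
        obtain ⟨w, hw, rfl⟩ := hb
        exact ⟨v + w, add_mem hv hw, map_add _ _ _⟩
      | smul c a _ ha =>
        obtain ⟨v, hv, rfl⟩ := ha
        obtain ⟨r, rfl⟩ := Ideal.Quotient.mk_surjective c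
        refine ⟨r • v, Submodule.smul_mem _ _ hv, ?_⟩
        rw [Algebra.smul_def, Algebra.smul_def, map_mul, hmap]
    obtain ⟨v, hv, hvz⟩ := this _ hz
    exact ⟨v, hv, Ideal.Quotient.eq.mp hvz.symm⟩
  let U : Set S := ⋃ j ∈ Finset.range q, (fun v => yS ^ j * v) '' s
  have hiter : ∀ k ≤ q, ∀ z : S, ∃ v ∈ Submodule.span R U, ∃ w : S, z = v + yS ^ k * w := by
    intro k hk
    induction k with
    | zero => exact fun z => ⟨0, zero_mem _, z, by simp⟩
    | succ k ih =>
      intro z
      obtain ⟨v, hv, w, rfl⟩ := ih (by omega) z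
      obtain ⟨v', hv', hw⟩ := hstep w
      obtain ⟨w', hw'⟩ := Ideal.mem_span_singleton'.mp hw
      refine ⟨v + yS ^ k * v', add_mem hv ?_, w', ?_⟩
      · have hmem := Submodule.mem_map_of_mem (f := LinearMap.mulLeft R (yS ^ k)) hv'
        rw [Submodule.map_span] at hmem
        refine Submodule.span_mono ?_ hmem
        rintro _ ⟨g, hg, rfl⟩
        exact Set.mem_iUnion₂.mpr ⟨k, Finset.mem_range.mpr (by omega), g, hg, rfl⟩
      · rw [pow_succ, mul_assoc, mul_comm yS w', hw']
        ring
  have hU : U.Finite := Set.Finite.biUnion (Finset.finite_toSet _) fun _ _ => (G.finite_toSet.image _).image _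
  haveI : IsHausdorff I S := by
    refine ⟨fun z hz => ?_⟩
    obtain ⟨r, hr⟩ := (hS z).mp z.2
    have hr0 : r = 0 := IsHausdorff.haus (I := I) inferInstance r fun k => by
      have h1 := SModEq.zero.mp (hz k)
      rw [Ideal.smul_top_eq_map, Submodule.restrictScalars_mem, Ideal.map_pow, Ideal.map_span,
        Set.image_singleton, Ideal.span_singleton_pow, Ideal.mem_span_singleton'] at h1
      obtain ⟨w, hw⟩ := h1
      obtain ⟨s', hs'⟩ := (hS w).mp w.2
      rw [SModEq.zero, smul_eq_mul, Ideal.mul_top, Ideal.span_singleton_pow, Ideal.mem_span_singleton']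
      refine ⟨s' * x ^ (k * (q - 1)), hinj ?_⟩
      rw [hr, ← hw, MulMemClass.coe_mul, mul_pow, map_mul, map_mul, hs', mul_assoc]
      congr 1
      simp only [map_pow, SubmonoidClass.coe_pow, Subalgebra.coe_algebraMap, ← pow_mul, ← pow_add]
      congr 1
      obtain ⟨q', rfl⟩ := Nat.exists_eq_add_of_le hq
      simp only [Nat.add_sub_cancel_left]
      ring
    refine Subtype.ext (pow_eq_zero_iff hq0 |>.mp ?_)
    rw [← hr, hr0, map_zero]
  refine Groth.Agent.S0544.result R I S ?_
  let Q : Submodule R S := I • ⊤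
  refine ⟨Submodule.fg_def.mpr ⟨Q.mkQ '' U, hU.image _, eq_top_iff.mpr fun t _ => ?_⟩⟩
  obtain ⟨z, rfl⟩ := Q.mkQ_surjective t
  obtain ⟨v, hv, w, hz⟩ := hiter q le_rfl z
  have hQ : Q.mkQ z = Q.mkQ v := by
    refine (Submodule.Quotient.eq Q).mpr ?_
    rw [hz, add_sub_cancel_left, ← hxy, ← Algebra.smul_def]
    exact Submodule.smul_mem_smul (Ideal.mem_span_singleton_self x) Submodule.mem_top
  rw [hQ, Submodule.span_image]
  exact Submodule.mem_map_of_mem hv

/-- Tate's theorem -/
theorem isN2 (x : R) [(Ideal.span ({x} : Set R)).IsPrime]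
    (h2 : CAlg.IsN2 (R ⧸ Ideal.span ({x} : Set R))) [IsAdicComplete (Ideal.span ({x} : Set R)) R] :
    CAlg.IsN2 R := by
  rcases eq_or_ne x 0 with rfl | hx0
  · let e : (R ⧸ Ideal.span ({0} : Set R)) ≃+* R :=
      (Ideal.quotEquivOfEq (Ideal.span_singleton_eq_bot.mpr rfl)).trans (RingEquiv.quotientBot R)
    letI : Algebra (R ⧸ Ideal.span ({0} : Set R)) R := e.toRingHom.toAlgebra
    exact Groth.L03.Japanese.isN2_of_bijective e.bijective h2
  refine Groth.L01.N2.isN2_of_purelyInseparable R fun K' _ _ _ _ hfd hpi => ?_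
  haveI := hfd
  haveI := hpi
  let K := FractionRing R
  obtain ⟨M, _, _, _, g, q, y, hq, hM, hy⟩ := exists_root_extension (K' := K') (algebraMap R K x)
  letI : Algebra R M := Algebra.compHom M (algebraMap R K)
  haveI : IsScalarTower R K M := IsScalarTower.of_algebraMap_eq fun _ => rfl
  exact Groth.L01.N2.finite_integralClosure_of_algHom (g.restrictScalars R) g.injective
    (finite_of_pow_mem x hx0 h2 K M q hq hM y hy)

end Groth.L01.Tate
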