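import Groth.Agent.S6316
import Mathlib.Algebra.Homology.HomologySequence
import Mathlib.Algebra.Homology.HomologicalComplexAbelian
import Mathlib.Algebra.Category.ModuleCat.Abelian
import Mathlib.Algebra.Category.ModuleCat.Projective
import Mathlib.Algebra.Category.ModuleCat.Monoidal.Closed
import Mathlib.RingTheory.Flat.Basic

/-!
The long exact sequence of `Tor` in the second variable.
-/

set_option autoImplicit false
universe u

open CategoryTheory MonoidalCategory
open scoped TensorProduct

namespace Groth.L01.TorLES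

variable {A : Type u} [CommRing A]

/-- `N ↦ N ⊗ C` for a chain complex `C`. -/
noncomputable def cx (C : ChainComplex (ModuleCat.{u} A) ℕ) :
    ModuleCat.{u} A ⥤ ChainComplex (ModuleCat.{u} A) ℕ where
  obj N := (((tensoringLeft (ModuleCat.{u} A)).obj N).mapHomologicalComplex _).obj C
  map f := (NatTrans.mapHomologicalComplex ((tensoringLeft (ModuleCat.{u} A)).map f) _).app C
  map_id N := by ext n : 1; simp
  map_comp f g := by ext n : 1; simp

theorem nonempty_flip_iso {M : ModuleCat.{u} A} (Q : ProjectiveResolution M) (i : ℕ) :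
    Nonempty ((Tor (ModuleCat.{u} A) i).flip.obj M ≅
      cx Q.complex ⋙ HomologicalComplex.homologyFunctor _ _ i) :=
  ⟨NatIso.ofComponents (fun N => Q.isoLeftDerivedObj ((tensoringLeft _).obj N) i) (fun {N N'} f => by
    change (NatTrans.leftDerived ((tensoringLeft (ModuleCat.{u} A)).map f) i).app M ≫ _ = _
    rw [Q.leftDerived_app_eq]
    exact (Category.assoc _ _ _).trans (congrArg _ ((Category.assoc _ _ _).trans
      ((congrArg _ (Iso.inv_hom_id _)).trans (Category.comp_id _)))))⟩

theorem nonempty_tor_iso {M : ModuleCat.{u} A} (Q : ProjectiveResolution M) (i : ℕ) :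
    Nonempty ((Tor (ModuleCat.{u} A) i).obj M ≅
      cx Q.complex ⋙ HomologicalComplex.homologyFunctor _ _ i) := by
  obtain ⟨e⟩ := Groth.Agent.S6316.result A i
  obtain ⟨e'⟩ := nonempty_flip_iso Q i
  exact ⟨e.app M ≪≫ e'⟩

instance (C : ChainComplex (ModuleCat.{u} A) ℕ) : (cx C).PreservesZeroMorphisms where
  map_zero X Y := by
    ext n : 1
    apply ModuleCat.hom_ext
    exact LinearMap.rTensor_zero (R := A) (N := X) (P := Y) (C.X n)

theorem shortExact_cx (C : ChainComplex (ModuleCat.{u} A) ℕ) (hC : ∀ n, Module.Flat A (C.X n))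
    {S : ShortComplex (ModuleCat.{u} A)} (hS : S.ShortExact) : (S.map (cx C)).ShortExact := by
  refine HomologicalComplex.shortExact_of_degreewise_shortExact _ fun n => ?_
  haveI := hC n
  have hex : Function.Exact S.f.hom S.g.hom :=
    (ShortComplex.ShortExact.moduleCat_exact_iff_function_exact S).1 hS.exact
  refine
    { exact := (ShortComplex.ShortExact.moduleCat_exact_iff_function_exact _).2 ?_
      mono_f := (ModuleCat.mono_iff_injective _).2 ?_
      epi_g := (ModuleCat.epi_iff_surjective _).2 ?_ }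
  · exact rTensor_exact (C.X n) hex hS.moduleCat_surjective_g
  · exact Module.Flat.rTensor_preserves_injective_linearMap S.f.hom hS.moduleCat_injective_f
  · exact LinearMap.rTensor_surjective (C.X n) hS.moduleCat_surjective_g

theorem flat_complex {M : ModuleCat.{u} A} (Q : ProjectiveResolution M) (n : ℕ) :
    Module.Flat A (Q.complex.X n) := by
  haveI : Module.Projective A (Q.complex.X n) :=
    (IsProjective.iff_projective _).mpr (Q.projective n)
  infer_instance

/-- If `Tor_{i+1}(M, S.X₂)` and `Tor_i(M, S.X₁)` vanish then so does `Tor_{i+1}(M, S.X₃)`. -/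
theorem isZero_three (M : ModuleCat.{u} A) {S : ShortComplex (ModuleCat.{u} A)} (hS : S.ShortExact)
    (i : ℕ) (h₂ : Limits.IsZero (((Tor (ModuleCat.{u} A) (i + 1)).obj M).obj S.X₂))
    (h₁ : Limits.IsZero (((Tor (ModuleCat.{u} A) i).obj M).obj S.X₁)) :
    Limits.IsZero (((Tor (ModuleCat.{u} A) (i + 1)).obj M).obj S.X₃) := by
  let Q := projectiveResolution M
  obtain ⟨e⟩ := nonempty_tor_iso Q i
  obtain ⟨e'⟩ := nonempty_tor_iso Q (i + 1)
  have h := shortExact_cx Q.complex (flat_complex Q) hS
  refine Limits.IsZero.of_iso ?_ (e'.app S.X₃)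
  exact (h.homology_exact₃ (i + 1) i rfl).isZero_X₂
    ((h₂.of_iso (e'.app S.X₂).symm).eq_of_src _ _)
    ((h₁.of_iso (e.app S.X₁).symm).eq_of_tgt _ _)

/-- The long exact sequence. -/
theorem tor_longExact (M : ModuleCat.{u} A) (S : ShortComplex (ModuleCat.{u} A)) (hS : S.ShortExact)
    (i : ℕ) :
    (∃ w₀ : ((Tor (ModuleCat.{u} A) i).obj M).map S.f ≫ ((Tor (ModuleCat.{u} A) i).obj M).map S.g = 0,
        (ShortComplex.mk (((Tor (ModuleCat.{u} A) i).obj M).map S.f) (((Tor (ModuleCat.{u} A) i).obj M).map S.g) w₀).Exact) ∧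
      Epi (((Tor (ModuleCat.{u} A) 0).obj M).map S.g) ∧
      ∃ (δ : ((Tor (ModuleCat.{u} A) (i + 1)).obj M).obj S.X₃ ⟶ ((Tor (ModuleCat.{u} A) i).obj M).obj S.X₁)
        (w₁ : ((Tor (ModuleCat.{u} A) (i + 1)).obj M).map S.g ≫ δ = 0)
        (w₂ : δ ≫ ((Tor (ModuleCat.{u} A) i).obj M).map S.f = 0),
        (ShortComplex.mk (((Tor (ModuleCat.{u} A) (i + 1)).obj M).map S.g) δ w₁).Exact ∧
          (ShortComplex.mk δ (((Tor (ModuleCat.{u} A) i).obj M).map S.f) w₂).Exact := by
  let Q := projectiveResolution M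
  obtain ⟨e⟩ := nonempty_tor_iso Q i
  obtain ⟨e₀⟩ := nonempty_tor_iso Q 0
  obtain ⟨e'⟩ := nonempty_tor_iso Q (i + 1)
  have h := shortExact_cx Q.complex (flat_complex Q) hS
  let T := cx Q.complex ⋙ HomologicalComplex.homologyFunctor (ModuleCat.{u} A) (ComplexShape.down ℕ) i
  have w₀ : T.map S.f ≫ T.map S.g = 0 := by
    have := (S.map (cx Q.complex)).zero
    exact ((HomologicalComplex.homologyMap_comp _ _ _).symm.trans
      (congrArg (fun φ => HomologicalComplex.homologyMap φ i) this)).trans
      (HomologicalComplex.homologyMap_zero _ _ _)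
  have hw : ((Tor (ModuleCat.{u} A) i).obj M).map S.f ≫ ((Tor (ModuleCat.{u} A) i).obj M).map S.g = 0 := by
    rw [← cancel_mono (e.hom.app S.X₃), Category.assoc, e.hom.naturality, e.hom.naturality_assoc, w₀,
      Limits.comp_zero, Limits.zero_comp]
  refine ⟨⟨hw, ?_⟩, ?_, ?_⟩
  · refine (ShortComplex.exact_iff_of_iso ?_).2 (h.homology_exact₂ i)
    exact ShortComplex.isoMk (e.app _) (e.app _) (e.app _) (e.hom.naturality _).symm
      (e.hom.naturality _).symm
  · haveI : Epi ((S.map (cx Q.complex)).g.f 0) := by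
      haveI := h.epi_g
      infer_instance
    haveI : Epi ((cx Q.complex ⋙ HomologicalComplex.homologyFunctor (ModuleCat.{u} A)
        (ComplexShape.down ℕ) 0).map S.g) :=
      HomologicalComplex.epi_homologyMap_of_epi_of_not_rel (S.map (cx Q.complex)).g 0
        (fun j (hj : j + 1 = 0) => by omega)
    rw [← NatIso.naturality_2 e₀ S.g]
    infer_instance
  · refine ⟨(e'.app S.X₃).hom ≫ h.δ (i + 1) i rfl ≫ (e.app S.X₁).inv, ?_, ?_, ?_, ?_⟩
    · rw [← Category.assoc, e'.app_hom, e'.hom.naturality, Category.assoc]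
      erw [← Category.assoc _ (h.δ (i + 1) i rfl) _, h.comp_δ (i + 1) i rfl]
      exact (congrArg _ Limits.zero_comp).trans Limits.comp_zero
    · erw [Category.assoc, Category.assoc, e.app_inv, ← e.inv.naturality]
      have := h.δ_comp (i + 1) i rfl
      exact (congrArg _ ((Category.assoc _ _ _).symm.trans
        ((congrArg (fun t => t ≫ e.inv.app S.X₂) this).trans Limits.zero_comp))).trans Limits.comp_zero
    · refine (ShortComplex.exact_iff_of_iso ?_).2 (h.homology_exact₃ (i + 1) i rfl)
      exact ShortComplex.isoMk (e'.app _) (e'.app _) (e.app _) (e'.hom.naturality _).symm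
        (((Category.assoc _ _ _).trans (congrArg _ ((Category.assoc _ _ _).trans
          ((congrArg _ (Iso.inv_hom_id _)).trans (Category.comp_id _))))).symm)
    · refine (ShortComplex.exact_iff_of_iso ?_).2 (h.homology_exact₁ (i + 1) i rfl)
      exact ShortComplex.isoMk (e'.app _) (e.app _) (e.app _)
        (((Category.assoc _ _ _).trans (congrArg _ ((Category.assoc _ _ _).trans
          ((congrArg _ (Iso.inv_hom_id _)).trans (Category.comp_id _))))).symm)
        (e.hom.naturality _).symm

end Groth.L01.TorLES
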