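import Groth.Agent.L01.PdRes
import Mathlib.RingTheory.Flat.Basic
import Mathlib.RingTheory.TensorProduct.Quotient
import Mathlib.RingTheory.Flat.Equalizer

/-! Vanishing of `Tor_1` against modules killed by a power of an ideal. -/

set_option autoImplicit false
universe u

open scoped TensorProduct

namespace Groth.L01.TorNilp

variable {R : Type u} [CommRing R] (I : Ideal R)
variable {K G M : Type u} [AddCommGroup K] [Module R K] [AddCommGroup G] [Module R G]
  [AddCommGroup M] [Module R M]
variable (e : K →ₗ[R] G) (π : G →ₗ[R] M)

theorem injective_of_killed_one (hex : Function.Exact e π) (hπ : Function.Surjective π)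
    [Module.Flat (R ⧸ I) ((R ⧸ I) ⊗[R] M)] (he : Function.Injective (e.lTensor (R ⧸ I)))
    (N : Type u) [AddCommGroup N] [Module R N] (hN : ∀ a ∈ I, ∀ x : N, a • x = 0) :
    Function.Injective (e.lTensor N) := by
  letI : Module (R ⧸ I) N := Module.IsTorsionBySet.module (I := I) (fun x a => hN a a.2 x)
  haveI : IsScalarTower R (R ⧸ I) N := Module.IsTorsionBySet.isScalarTower _
  have hex' : Function.Exact (e.baseChange (R ⧸ I)) (π.baseChange (R ⧸ I)) := lTensor_exact _ hex hπ
  have h := LinearMap.lTensor_injective_of_exact_of_flat (π.baseChange (R ⧸ I)) (LinearMap.lTensor_surjective _ hπ)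
    (e.baseChange (R ⧸ I)) he hex' N
  let cK := TensorProduct.AlgebraTensorModule.cancelBaseChange R (R ⧸ I) (R ⧸ I) N K
  let cG := TensorProduct.AlgebraTensorModule.cancelBaseChange R (R ⧸ I) (R ⧸ I) N G
  have hnat : ∀ z, cG ((e.baseChange (R ⧸ I)).lTensor N z) = e.lTensor N (cK z) := fun z => by
    induction z using TensorProduct.induction_on with
    | zero => simp
    | tmul n y =>
      induction y using TensorProduct.induction_on with
      | zero => simp
      | tmul a k => simp [cK, cG]
      | add u v hu hv => simp only [TensorProduct.tmul_add, map_add, hu, hv]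
    | add u v hu hv => simp only [map_add, hu, hv]
  intro a b hab
  obtain ⟨a, rfl⟩ := cK.surjective a
  obtain ⟨b, rfl⟩ := cK.surjective b
  rw [← hnat, ← hnat] at hab
  rw [h (cG.injective hab)]

theorem injective_of_killed_pow [Module.Flat R G] (hex : Function.Exact e π) (hπ : Function.Surjective π)
    [Module.Flat (R ⧸ I) ((R ⧸ I) ⊗[R] M)] (he : Function.Injective (e.lTensor (R ⧸ I))) :
    ∀ (m : ℕ) (N : Type u) [AddCommGroup N] [Module R N], (∀ a ∈ I ^ m, ∀ x : N, a • x = 0) →
      Function.Injective (e.lTensor N) := by
  intro m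
  induction m with
  | zero =>
    intro N _ _ hN
    haveI : Subsingleton N := ⟨fun a b => by
      rw [← one_smul R a, ← one_smul R b, hN 1 (by simp), hN 1 (by simp)]⟩
    exact Function.injective_of_subsingleton _
  | succ m ih =>
    intro N _ _ hN
    let S : Submodule R N := I • (⊤ : Submodule R N)
    have hS : Function.Injective (e.lTensor S) := ih S fun a ha x => Subtype.ext (by
      show a • (x : N) = 0
      refine Submodule.smul_induction_on x.2 (fun r hr y _ => ?_) (fun u v hu hv => by rw [smul_add, hu, hv, add_zero])
      rw [smul_smul]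
      exact hN _ (by rw [pow_succ]; exact Ideal.mul_mem_mul ha hr) y)
    have hQ : Function.Injective (e.lTensor (N ⧸ S)) := injective_of_killed_one I e π hex hπ he (N ⧸ S) fun a ha x => by
      obtain ⟨y, rfl⟩ := Submodule.mkQ_surjective S x
      rw [← map_smul, Submodule.mkQ_apply, Submodule.Quotient.mk_eq_zero]
      exact Submodule.smul_mem_smul ha trivial
    rw [injective_iff_map_eq_zero]
    intro z hz
    have hz' : S.mkQ.rTensor K z = 0 := hQ (by
      rw [map_zero, ← LinearMap.comp_apply, LinearMap.lTensor_comp_rTensor, ← LinearMap.rTensor_comp_lTensor,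
        LinearMap.comp_apply, hz, map_zero])
    obtain ⟨w, rfl⟩ := (rTensor_exact K (LinearMap.exact_subtype_mkQ S) (Submodule.mkQ_surjective _) z).mp hz'
    have : w = 0 := hS (by
      refine Module.Flat.rTensor_preserves_injective_linearMap (M := G) S.subtype Subtype.val_injective ?_
      rw [map_zero, map_zero, ← LinearMap.comp_apply, LinearMap.rTensor_comp_lTensor, ← LinearMap.lTensor_comp_rTensor,
        LinearMap.comp_apply, hz])
    rw [this, map_zero]

end Groth.L01.TorNilp
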