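import Groth.Agent.L01.TorLES
import Mathlib.Algebra.Homology.HomologySequenceLemmas
import Mathlib.CategoryTheory.Monoidal.Tor
import Mathlib.RingTheory.Ideal.AssociatedPrime.Finiteness
import Mathlib.RingTheory.Filtration
import Mathlib.CategoryTheory.Abelian.Projective.Resolution
import Mathlib.Algebra.Category.ModuleCat.Projective

/-!
The system `Iⁿ M` is essentially zero for `Tor` against modules killed by `I`, uniformly in the degree.
-/

set_option autoImplicit false
set_option linter.style.haveILetI false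
universe u

open CategoryTheory MonoidalCategory
open scoped TensorProduct

namespace Groth.L01.TorProZero

open Groth.L01.TorLES

variable {A : Type u} [CommRing A] (I : Ideal A)
variable {X Y W : Type u} [AddCommGroup X] [Module A X] [AddCommGroup Y] [Module A Y] [AddCommGroup W] [Module A W]

/-- The map on `Tor` against the modules killed by `I` vanishes. -/
def Z (φ : X →ₗ[A] Y) : Prop :=
  ∀ (N : Type u) [AddCommGroup N] [Module A N], (∀ a ∈ I, ∀ y : N, a • y = 0) →
    ∀ (Q : ProjectiveResolution (ModuleCat.of A N)) (i : ℕ),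
      HomologicalComplex.homologyMap ((cx Q.complex).map (ModuleCat.ofHom φ)) i = 0

variable {I}

theorem Z.zero : Z I (0 : X →ₗ[A] Y) := fun N _ _ _ Q i => by
  rw [ModuleCat.ofHom_zero, Functor.map_zero, HomologicalComplex.homologyMap_zero]

theorem Z.comp_left {φ : X →ₗ[A] Y} (h : Z I φ) (ψ : Y →ₗ[A] W) : Z I (ψ ∘ₗ φ) := fun N _ _ hN Q i => by
  rw [ModuleCat.ofHom_comp, Functor.map_comp, HomologicalComplex.homologyMap_comp, h N hN Q i,
    Limits.zero_comp]

theorem Z.comp_right {φ : Y →ₗ[A] W} (h : Z I φ) (ψ : X →ₗ[A] Y) : Z I (φ ∘ₗ ψ) := fun N _ _ hN Q i => by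
  rw [ModuleCat.ofHom_comp, Functor.map_comp, HomologicalComplex.homologyMap_comp, h N hN Q i,
    Limits.comp_zero]

theorem Z.lsmul {f : A} (hf : f ∈ I) : Z I (LinearMap.lsmul A X f) := fun N _ _ hN Q i => by
  have hcomm : (f • 𝟙 Q.complex : Q.complex ⟶ Q.complex) ≫ Q.π = 0 := by
    rw [Linear.smul_comp, Category.id_comp]
    refine HomologicalComplex.hom_ext _ _ fun n => ?_
    cases n with
    | zero =>
      ext x
      exact hN f hf _
    | succ n =>
      exact (HomologicalComplex.isZero_single_obj_X (ComplexShape.down ℕ) 0 _ (n + 1) (Nat.succ_ne_zero n)).eq_of_tgt _ _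
  let G : ModuleCat.{u} A ⥤ ModuleCat.{u} A := (tensoringLeft (ModuleCat.{u} A)).obj (ModuleCat.of A X)
  let h := G.mapHomotopy (ProjectiveResolution.liftHomotopyZero (f • 𝟙 Q.complex : Q.complex ⟶ Q.complex) hcomm)
  have heq : (cx Q.complex).map (ModuleCat.ofHom (LinearMap.lsmul A X f)) =
      (G.mapHomologicalComplex (ComplexShape.down ℕ)).map (f • 𝟙 Q.complex : Q.complex ⟶ Q.complex) := by
    refine HomologicalComplex.hom_ext _ _ fun n => ModuleCat.hom_ext ?_
    refine TensorProduct.ext' fun x c => ?_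
    show (f • x) ⊗ₜ[A] c = x ⊗ₜ[A] (f • c)
    exact TensorProduct.smul_tmul f x c
  rw [heq]
  have h' := h.homologyMap_eq i
  rw [Functor.map_zero, HomologicalComplex.homologyMap_zero] at h'
  exact h'

/-- Cancelling the quotient by an element of `I` acting injectively. -/
theorem Z.of_quotient {f : A} (hf : f ∈ I) (hinj : Function.Injective (LinearMap.lsmul A Y f))
    (φ : X →ₗ[A] Y) (h : Z I ((LinearMap.range (LinearMap.lsmul A Y f)).mkQ ∘ₗ φ)) : Z I φ := fun N _ _ hN Q i => by
  let S : ShortComplex (ModuleCat.{u} A) := ShortComplex.mk (ModuleCat.ofHom (LinearMap.lsmul A Y f))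
    (ModuleCat.ofHom (LinearMap.range (LinearMap.lsmul A Y f)).mkQ) (by
      ext y; exact (Submodule.Quotient.mk_eq_zero _).2 ⟨y, rfl⟩)
  have hS : S.ShortExact :=
    { exact := (ShortComplex.ShortExact.moduleCat_exact_iff_function_exact S).2
        (LinearMap.exact_iff.2 (Submodule.ker_mkQ _))
      mono_f := (ModuleCat.mono_iff_injective _).2 hinj
      epi_g := (ModuleCat.epi_iff_surjective _).2 (Submodule.mkQ_surjective _) }
  have hex := (shortExact_cx Q.complex (flat_complex Q) hS).homology_exact₂ i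
  haveI : Mono (HomologicalComplex.homologyMap ((cx Q.complex).map (ModuleCat.ofHom (LinearMap.range (LinearMap.lsmul A Y f)).mkQ)) i) :=
    hex.mono_g (Z.lsmul hf N hN Q i)
  have h' := h N hN Q i
  rw [ModuleCat.ofHom_comp, Functor.map_comp, HomologicalComplex.homologyMap_comp] at h'
  exact Limits.zero_of_comp_mono _ h'

/-- Composition through an extension. -/
theorem Z.of_extension {Y₁ Y₃ V : Type u} [AddCommGroup Y₁] [Module A Y₁] [AddCommGroup Y₃] [Module A Y₃]
    [AddCommGroup V] [Module A V] (f : Y₁ →ₗ[A] Y) (g : Y →ₗ[A] Y₃) (hf : Function.Injective f)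
    (hg : Function.Surjective g) (hfg : Function.Exact f g) (a : X →ₗ[A] Y) (b : Y →ₗ[A] V)
    (ha : Z I (g ∘ₗ a)) (hb : Z I (b ∘ₗ f)) : Z I (b ∘ₗ a) := fun N _ _ hN Q i => by
  let S : ShortComplex (ModuleCat.{u} A) := ShortComplex.mk (ModuleCat.ofHom f) (ModuleCat.ofHom g) (by
    ext y; exact hfg.apply_apply_eq_zero y)
  have hS : S.ShortExact :=
    { exact := (ShortComplex.ShortExact.moduleCat_exact_iff_function_exact S).2 hfg
      mono_f := (ModuleCat.mono_iff_injective _).2 hf
      epi_g := (ModuleCat.epi_iff_surjective _).2 hg }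
  have hex := (ShortComplex.moduleCat_exact_iff _).1 ((shortExact_cx Q.complex (flat_complex Q) hS).homology_exact₂ i)
  have ha' := ha N hN Q i
  have hb' := hb N hN Q i
  rw [ModuleCat.ofHom_comp, Functor.map_comp, HomologicalComplex.homologyMap_comp] at ha' hb' ⊢
  refine ModuleCat.hom_ext (LinearMap.ext fun x => ?_)
  obtain ⟨y, hy⟩ := hex _ (ConcreteCategory.congr_hom ha' x)
  exact (congrArg _ hy.symm).trans (ConcreteCategory.congr_hom hb' y)

variable (I)

/-- the inclusion of `Iⁿ M` into `Iᵐ M` -/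
def incl (M : Type u) [AddCommGroup M] [Module A M] {m n : ℕ} (h : m ≤ n) :
    (I ^ n • ⊤ : Submodule A M) →ₗ[A] (I ^ m • ⊤ : Submodule A M) :=
  Submodule.inclusion (Submodule.smul_mono (Ideal.pow_le_pow_right h) le_rfl)

/-- `Iⁿ M` is essentially zero for `Tor`, with a uniform shift. -/
def P (M : Type u) [AddCommGroup M] [Module A M] : Prop :=
  ∃ c, ∀ m, Z I (incl I M (Nat.le_add_right m c))

theorem Z.incl_mono {M : Type u} [AddCommGroup M] [Module A M] {m n m' n' : ℕ} {h : m ≤ n}
    (hZ : Z I (incl I M h)) (hm : m' ≤ m) (hn : n ≤ n') : Z I (incl I M (hm.trans (h.trans hn))) := by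
  rw [show incl I M (hm.trans (h.trans hn)) = incl I M hm ∘ₗ (incl I M h ∘ₗ incl I M hn) from rfl]
  exact (hZ.comp_right _).comp_left _

variable {I}

/-- Functoriality of `I^n •`. -/
def resSmul {M M' : Type u} [AddCommGroup M] [Module A M] [AddCommGroup M'] [Module A M'] (g : M →ₗ[A] M') (n : ℕ) :
    (I ^ n • ⊤ : Submodule A M) →ₗ[A] (I ^ n • ⊤ : Submodule A M') :=
  g.restrict fun x hx => by
    have := Submodule.mem_map_of_mem (f := g) hx
    rw [Submodule.map_smul''] at this
    exact Submodule.smul_mono le_rfl le_top this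

theorem resSmul_surjective {M M' : Type u} [AddCommGroup M] [Module A M] [AddCommGroup M'] [Module A M']
    (g : M →ₗ[A] M') (hg : Function.Surjective g) (n : ℕ) : Function.Surjective (resSmul (I := I) g n) := fun y => by
  have hy : (y : M') ∈ (I ^ n • ⊤ : Submodule A M).map g := by
    rw [Submodule.map_smul'', Submodule.map_top, LinearMap.range_eq_top.2 hg]
    exact y.2
  obtain ⟨x, hx, hxy⟩ := hy
  exact ⟨⟨x, hx⟩, Subtype.ext hxy⟩

theorem incl_extension {M₁ M₂ M₃ : Type u} [AddCommGroup M₁] [Module A M₁] [AddCommGroup M₂]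
    [Module A M₂] [AddCommGroup M₃] [Module A M₃] (f : M₁ →ₗ[A] M₂) (g : M₂ →ₗ[A] M₃)
    (hf : Function.Injective f) (hg : Function.Surjective g) (hfg : Function.Exact f g)
    {c : ℕ} (hc : ∀ n ≥ c, I ^ n • ⊤ ⊓ LinearMap.range f = I ^ (n - c) • (I ^ c • ⊤ ⊓ LinearMap.range f))
    {m n₁ n : ℕ} (hn₁ : m ≤ n₁) (hZ₁ : Z I (incl I M₁ hn₁)) (hn : n₁ + c ≤ n) (hZ₃ : Z I (incl I M₃ hn)) :
    Z I (incl I M₂ ((hn₁.trans (Nat.le_add_right n₁ c)).trans hn)) := by
  have hml : m ≤ n₁ + c := hn₁.trans (Nat.le_add_right _ _)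
  let g' := resSmul (I := I) g (n₁ + c)
  let K := LinearMap.ker g'
  have hK : ∀ x : K, ((x : (I ^ (n₁ + c) • ⊤ : Submodule A M₂)) : M₂) ∈ (I ^ n₁ • ⊤ : Submodule A M₁).map f := fun x => by
    have h1 : ((x : (I ^ (n₁ + c) • ⊤ : Submodule A M₂)) : M₂) ∈ I ^ (n₁ + c) • ⊤ ⊓ LinearMap.range f :=
      ⟨x.1.2, (hfg _).1 (congrArg Subtype.val x.2)⟩
    rw [hc (n₁ + c) (Nat.le_add_left _ _), Nat.add_sub_cancel] at h1
    rw [Submodule.map_smul'', Submodule.map_top]
    exact Submodule.smul_mono le_rfl inf_le_right h1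
  let e := (Submodule.equivMapOfInjective f hf (I ^ n₁ • ⊤ : Submodule A M₁)).symm
  let w : K →ₗ[A] (I ^ n₁ • ⊤ : Submodule A M₁) :=
    e.toLinearMap ∘ₗ (((I ^ (n₁ + c) • ⊤ : Submodule A M₂).subtype ∘ₗ K.subtype).codRestrict _ hK)
  have hw : ∀ x, f (w x) = ((x : (I ^ (n₁ + c) • ⊤ : Submodule A M₂)) : M₂) := fun x => by
    have := Submodule.coe_equivMapOfInjective_apply f hf (I ^ n₁ • ⊤ : Submodule A M₁) (w x)
    rw [← this]
    simp [w, e]
  have hb : Z I (incl I M₂ hml ∘ₗ K.subtype) := by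
    have heq : incl I M₂ hml ∘ₗ K.subtype = resSmul (I := I) f m ∘ₗ (incl I M₁ hn₁ ∘ₗ w) :=
      LinearMap.ext fun x => Subtype.ext (hw x).symm
    rw [heq]
    exact (hZ₁.comp_right w).comp_left _
  have ha : Z I (g' ∘ₗ incl I M₂ hn) := by
    rw [show g' ∘ₗ incl I M₂ hn = incl I M₃ hn ∘ₗ resSmul (I := I) g n from LinearMap.ext fun x => Subtype.ext rfl]
    exact hZ₃.comp_right _
  have key := Z.of_extension K.subtype g' K.injective_subtype (resSmul_surjective g hg _)
    (LinearMap.exact_subtype_ker_map g') (incl I M₂ hn) (incl I M₂ hml) ha hb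
  exact key

theorem P.exact [IsNoetherianRing A] {M₁ M₂ M₃ : Type u} [AddCommGroup M₁] [Module A M₁] [AddCommGroup M₂]
    [Module A M₂] [Module.Finite A M₂] [AddCommGroup M₃] [Module A M₃] (f : M₁ →ₗ[A] M₂) (g : M₂ →ₗ[A] M₃)
    (hf : Function.Injective f) (hg : Function.Surjective g) (hfg : Function.Exact f g)
    (h₁ : P I M₁) (h₃ : P I M₃) : P I M₂ := by
  obtain ⟨c₁, hc₁⟩ := h₁
  obtain ⟨c₃, hc₃⟩ := h₃
  obtain ⟨c, hc⟩ := Ideal.exists_pow_inf_eq_pow_smul I (LinearMap.range f)
  refine ⟨c₁ + c + c₃, fun m => ?_⟩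
  have hn : m + c₁ + c + c₃ ≤ m + (c₁ + c + c₃) := by omega
  have h := incl_extension (I := I) f g hf hg hfg hc (Nat.le_add_right m c₁) (hc₁ m)
    (Nat.le_add_right (m + c₁ + c) c₃) (hc₃ (m + c₁ + c))
  exact Z.incl_mono (I := I) (hZ := h) (le_refl m) hn

theorem P.of_killed [IsNoetherianRing A] (J : Ideal A) (M : Type u) [AddCommGroup M] [Module A M] [Module.Finite A M]
    (hJ : ∀ a ∈ J, ∀ x : M, a • x = 0) : P I M := by
  induction J using IsNoetherian.induction generalizing M with
  | hgt J ih =>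
    revert hJ
    refine IsNoetherianRing.induction_on_isQuotientEquivQuotientPrime A ‹Module.Finite A M›
      (motive := fun N _ _ _ => (∀ a ∈ J, ∀ x : N, a • x = 0) → P I N) ?_ ?_ ?_
    · intro N _ _ _ _ _
      refine ⟨0, fun m => ?_⟩
      rw [show incl I N (Nat.le_add_right m 0) = 0 from LinearMap.ext fun x => Subsingleton.elim _ _]
      exact Z.zero
    · intro N _ _ _ p e hJ
      have hp : ∀ a ∈ p.asIdeal, ∀ x : N, a • x = 0 := fun a ha x => e.injective (by
        rw [map_smul, map_zero]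
        obtain ⟨y, hy⟩ := Ideal.Quotient.mk_surjective (e x)
        rw [← hy]
        show Ideal.Quotient.mk p.asIdeal (a * y) = 0
        exact Ideal.Quotient.eq_zero_iff_mem.2 (p.asIdeal.mul_mem_right y ha))
      by_cases hI : I ≤ p.asIdeal
      · refine ⟨1, fun m => ?_⟩
        rw [show incl I N (Nat.le_add_right m 1) = 0 from LinearMap.ext fun x => Subtype.ext (by
          show (x : N) = 0
          refine Submodule.smul_induction_on x.2 (fun r hr y _ => hp r ?_ y) fun u v hu hv => by rw [hu, hv, add_zero]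
          exact hI (Ideal.pow_le_self (Nat.succ_ne_zero m) hr))]
        exact Z.zero
      · obtain ⟨f, hfI, hfp⟩ := SetLike.not_le_iff_exists.1 hI
        have hnzd : ∀ x : N, f • x = 0 → x = 0 := fun x h0 => by
          refine e.injective ?_
          have h1 : f • e x = 0 := by rw [← map_smul, h0, map_zero]
          obtain ⟨y, hy⟩ := Ideal.Quotient.mk_surjective (e x)
          rw [← hy] at h1
          rw [map_zero, ← hy]
          exact Ideal.Quotient.eq_zero_iff_mem.2
            ((p.isPrime.mem_or_mem (Ideal.Quotient.eq_zero_iff_mem.1 h1)).resolve_left hfp)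
        have hJp : J ≤ p.asIdeal := fun a ha => Ideal.Quotient.eq_zero_iff_mem.1 (by
          have h1 : a • e.symm (Ideal.Quotient.mk p.asIdeal 1) = 0 := hJ a ha _
          rw [← map_smul, ← map_zero e.symm] at h1
          have h2 := e.symm.injective h1
          rwa [show a • Ideal.Quotient.mk p.asIdeal 1 = Ideal.Quotient.mk p.asIdeal (a * 1) from rfl, mul_one] at h2)
        have hlt : J < p.asIdeal ⊔ Ideal.span {f} := lt_of_le_of_lt hJp (lt_of_le_of_ne le_sup_left fun h =>
          hfp (h ▸ Submodule.mem_sup_right (Ideal.mem_span_singleton_self f)))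
        let fN := LinearMap.range (LinearMap.lsmul A N f)
        obtain ⟨c', hc'⟩ := ih _ hlt (N ⧸ fN) (fun a ha x => by
          obtain ⟨b, hb, c, hc, rfl⟩ := Submodule.mem_sup.1 ha
          obtain ⟨c, rfl⟩ := Ideal.mem_span_singleton'.1 hc
          obtain ⟨x, rfl⟩ := Submodule.Quotient.mk_surjective _ x
          rw [← Submodule.Quotient.mk_smul, Submodule.Quotient.mk_eq_zero, add_smul, mul_smul]
          refine ⟨c • x, ?_⟩
          rw [LinearMap.lsmul_apply, hp b hb x, zero_add, smul_comm])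
        obtain ⟨c₀, hc₀⟩ := Ideal.exists_pow_inf_eq_pow_smul I fN
        refine ⟨c₀ + c', fun m => ?_⟩
        let Y := (I ^ m • ⊤ : Submodule A N)
        have hinj : Function.Injective (LinearMap.lsmul A Y f) := by
          rw [injective_iff_map_eq_zero]
          exact fun x hx => Subtype.ext (hnzd x (congrArg Subtype.val hx))
        refine Z.of_quotient hfI hinj _ ?_
        let π := (LinearMap.range (LinearMap.lsmul A Y f)).mkQ
        let g := resSmul (I := I) fN.mkQ (m + c₀)
        let φ := π ∘ₗ incl I N (Nat.le_add_right m c₀)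
        have hker : LinearMap.ker g ≤ LinearMap.ker φ := fun x hx => by
          have h1 : (x : N) ∈ I ^ (m + c₀) • ⊤ ⊓ fN :=
            ⟨x.2, (Submodule.Quotient.mk_eq_zero fN).1 (congrArg Subtype.val hx)⟩
          rw [hc₀ (m + c₀) (Nat.le_add_left _ _), Nat.add_sub_cancel] at h1
          have h2 : (x : N) ∈ (I ^ m • ⊤ : Submodule A N).map (LinearMap.lsmul A N f) := by
            rw [Submodule.map_smul'', Submodule.map_top]
            exact Submodule.smul_mono le_rfl inf_le_right h1
          obtain ⟨y, hy, hyx⟩ := h2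
          exact (Submodule.Quotient.mk_eq_zero _).2 ⟨⟨y, hy⟩, Subtype.ext hyx⟩
        let eg := g.quotKerEquivOfSurjective (resSmul_surjective _ fN.mkQ_surjective _)
        let ψ := (LinearMap.ker g).liftQ φ hker ∘ₗ eg.symm.toLinearMap
        have hψ : ∀ x, ψ (g x) = φ x := fun x => by
          have : eg.symm (g x) = Submodule.Quotient.mk x := by rw [LinearEquiv.symm_apply_eq]; rfl
          simp [ψ, this]
        have h2 : m + c₀ + c' = m + (c₀ + c') := Nat.add_assoc _ _ _
        have hfac : π ∘ₗ incl I N (Nat.le_add_right m (c₀ + c')) =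
            ψ ∘ₗ (incl I (N ⧸ fN) (Nat.le_add_right (m + c₀) c') ∘ₗ
              (resSmul (I := I) fN.mkQ (m + c₀ + c') ∘ₗ incl I N h2.le)) :=
          LinearMap.ext fun x => (hψ (incl I N (h2 ▸ Nat.le_add_right (m + c₀) c') x)).symm
        rw [hfac]
        exact Z.comp_left (Z.comp_right (hc' (m + c₀)) _) _
    · intro N₁ _ _ _ N₂ _ _ _ N₃ _ _ _ f g hf hg hfg h₁ h₃ hJ
      exact P.exact f g hf hg hfg (h₁ fun a ha x => hf (by rw [map_smul, hJ a ha, map_zero]))
        (h₃ fun a ha x => by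
          obtain ⟨y, rfl⟩ := hg x
          rw [← map_smul, hJ a ha, map_zero])

theorem exists_tor_map_eq_zero [IsNoetherianRing A] (M : Type u) [AddCommGroup M] [Module A M] [Module.Finite A M]
    (N : Type u) [AddCommGroup N] [Module A N] (hN : ∀ a ∈ I, ∀ y : N, a • y = 0) :
    ∃ n : ℕ, 0 < n ∧ ∀ p : ℕ,
      ((Tor (ModuleCat.{u} A) p).map (ModuleCat.ofHom (I ^ n • ⊤ : Submodule A M).subtype)).app
        (ModuleCat.of A N) = 0 := by
  obtain ⟨c, hc⟩ := P.of_killed (I := I) ⊥ M (fun a ha x => by rw [Ideal.mem_bot.1 ha, zero_smul])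
  let n := 1 + c
  have hn : 1 ≤ n := Nat.le_add_right 1 c
  have hZ : Z I (incl I M hn) := hc 1
  have hZ' : Z I (I ^ n • ⊤ : Submodule A M).subtype := by
    rw [show (I ^ n • ⊤ : Submodule A M).subtype = (I ^ 1 • ⊤ : Submodule A M).subtype ∘ₗ incl I M hn from rfl]
    exact hZ.comp_left _
  refine ⟨n, hn, fun p => ?_⟩
  let Q := projectiveResolution (ModuleCat.of A N)
  obtain ⟨e⟩ := nonempty_flip_iso Q p
  have := e.hom.naturality (ModuleCat.ofHom (I ^ n • ⊤ : Submodule A M).subtype)
  rw [Functor.comp_map, show (HomologicalComplex.homologyFunctor (ModuleCat.{u} A) (ComplexShape.down ℕ) p).map _ = _ from hZ' N hN Q p,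
    ] at this
  exact (cancel_mono (e.hom.app (ModuleCat.of A M))).1 ((this.trans Limits.comp_zero).trans Limits.zero_comp.symm)

theorem Z.of_inclusion {F : Type u} [AddCommGroup F] [Module A F] {a b a' b' : Submodule A F}
    (hab : a ≤ b) (ha : a' ≤ a) (hb : b ≤ b') (h : Z I (Submodule.inclusion hab)) :
    Z I (Submodule.inclusion (ha.trans (hab.trans hb))) := by
  rw [show Submodule.inclusion (ha.trans (hab.trans hb)) =
    Submodule.inclusion hb ∘ₗ (Submodule.inclusion hab ∘ₗ Submodule.inclusion ha) from rfl]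
  exact (h.comp_right _).comp_left _

/-- The pro-system `R/Iⁿ` is essentially zero for positive `Tor`, uniformly in `n` and the killed module. -/
theorem exists_tor_quotient_map_eq_zero [IsNoetherianRing A] (I : Ideal A) (m i : ℕ) (hi : 0 < i) :
    ∃ c : ℕ, ∀ (M : Type u) [AddCommGroup M] [Module A M], (∀ a ∈ I ^ m, ∀ x : M, a • x = 0) →
      ∀ n : ℕ, c ≤ n →
        (((Tor (ModuleCat.{u} A) i).obj (ModuleCat.of A M)).map (ModuleCat.ofHom
          (Submodule.mapQ (I ^ n) (I ^ (n - c)) LinearMap.id (Ideal.pow_le_pow_right (Nat.sub_le n c))))) = 0 := by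
  obtain ⟨k, rfl⟩ : ∃ k, i = k + 1 := ⟨i - 1, by omega⟩
  obtain ⟨c', hc'⟩ := P.of_killed (I := I ^ (m + 1)) ⊥ A (fun a ha x => by rw [Ideal.mem_bot.1 ha, zero_smul])
  refine ⟨(m + 1) * (c' + 1), fun M _ _ hM n hn => ?_⟩
  suffices H : ∀ (d : ℕ) (h : d ≤ n), n - (m + 1) * (c' + 1) = d →
      ((Tor (ModuleCat.{u} A) (k + 1)).obj (ModuleCat.of A M)).map (ModuleCat.ofHom
        (Submodule.mapQ (I ^ n) (I ^ d) LinearMap.id (Ideal.pow_le_pow_right h))) = 0 from
    H _ (Nat.sub_le _ _) rfl
  intro d hdn hd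
  let j := n / (m + 1) - c'
  have hq : c' ≤ n / (m + 1) := by
    refine (Nat.le_div_iff_mul_le (Nat.succ_pos m)).2 ?_
    nlinarith
  have hjn : (m + 1) * (j + c') ≤ n := by
    rw [Nat.sub_add_cancel hq]; exact Nat.mul_div_le n (m + 1)
  have hdj : d ≤ (m + 1) * j := by
    have h1 := Nat.div_add_mod n (m + 1)
    have h2 := Nat.mod_lt n (show m + 1 > 0 by omega)
    have h3 : (m + 1) * (j + c') = (m + 1) * (n / (m + 1)) := by rw [Nat.sub_add_cancel hq]
    rw [mul_add] at h3
    rw [mul_add, mul_one] at hn hd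
    omega
  have key : Z (I ^ (m + 1)) (Submodule.inclusion (Ideal.pow_le_pow_right hdn : I ^ n ≤ I ^ d)) := by
    have h : Z (I ^ (m + 1)) (Submodule.inclusion (Submodule.smul_mono (Ideal.pow_le_pow_right (Nat.le_add_right j c')) le_rfl :
        ((I ^ (m + 1)) ^ (j + c') • ⊤ : Submodule A A) ≤ (I ^ (m + 1)) ^ j • ⊤)) := hc' j
    exact Z.of_inclusion (a' := I ^ n) (b' := I ^ d) _
      (by rw [Ideal.smul_top_eq_map, Algebra.algebraMap_self, Ideal.map_id, ← pow_mul]
          exact Ideal.pow_le_pow_right hjn)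
      (by rw [Ideal.smul_top_eq_map, Algebra.algebraMap_self, Ideal.map_id, ← pow_mul]
          exact Ideal.pow_le_pow_right hdj) h
  let Q := projectiveResolution (ModuleCat.of A M)
  let S : ℕ → ShortComplex (ModuleCat.{u} A) := fun a =>
    ShortComplex.mk (ModuleCat.ofHom (Submodule.subtype (I ^ a))) (ModuleCat.ofHom (Submodule.mkQ (I ^ a))) (by
      ext x; exact (Submodule.Quotient.mk_eq_zero _).2 x.2)
  have hS : ∀ a, (S a).ShortExact := fun a =>
    { exact := (ShortComplex.ShortExact.moduleCat_exact_iff_function_exact _).2 (LinearMap.exact_subtype_mkQ _)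
      mono_f := (ModuleCat.mono_iff_injective _).2 (Submodule.injective_subtype _)
      epi_g := (ModuleCat.epi_iff_surjective _).2 (Submodule.mkQ_surjective _) }
  have hC : ∀ a, ((S a).map (cx Q.complex)).ShortExact := fun a => shortExact_cx Q.complex (flat_complex Q) (hS a)
  let φ : S n ⟶ S d := ShortComplex.homMk (ModuleCat.ofHom (Submodule.inclusion (Ideal.pow_le_pow_right hdn))) (𝟙 _)
    (ModuleCat.ofHom (Submodule.mapQ (I ^ n) (I ^ d) LinearMap.id (Ideal.pow_le_pow_right hdn)))
    (by ext x; rfl) (by ext x; rfl)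
  let φ' : (S n).map (cx Q.complex) ⟶ (S d).map (cx Q.complex) := ((cx Q.complex).mapShortComplex).map φ
  have hnat := HomologicalComplex.HomologySequence.δ_naturality φ' (hC n) (hC d) (k + 1) k rfl
  have hz : HomologicalComplex.homologyMap φ'.τ₁ k = 0 :=
    key M (fun a ha x => hM a (Ideal.pow_le_pow_right (Nat.le_succ m) ha) x) Q k
  rw [hz, Limits.comp_zero] at hnat
  obtain ⟨e⟩ := nonempty_tor_iso Q (k + 1)
  haveI : CategoryTheory.Projective (ModuleCat.of A A) := (IsProjective.iff_projective A).1 inferInstance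
  have hA : Limits.IsZero (((S d).map (cx Q.complex)).X₂.homology (k + 1)) :=
    (isZero_Tor_succ_of_projective (ModuleCat.{u} A) (ModuleCat.of A M) (ModuleCat.of A A) k).of_iso (e.app (ModuleCat.of A A)).symm
  haveI : Mono ((hC d).δ (k + 1) k rfl) :=
    ((hC d).homology_exact₃ (k + 1) k rfl).mono_g (hA.eq_of_src _ _)
  have h3 : HomologicalComplex.homologyMap φ'.τ₃ (k + 1) = 0 :=
    (cancel_mono ((hC d).δ (k + 1) k rfl)).1 (hnat.symm.trans Limits.zero_comp.symm)
  have he := e.hom.naturality φ.τ₃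
  haveI : Mono (e.hom.app (S d).X₃) := inferInstance
  refine (cancel_mono (e.hom.app (S d).X₃)).1 (Eq.trans he ?_)
  have h3' : (cx Q.complex ⋙ HomologicalComplex.homologyFunctor (ModuleCat.{u} A) (ComplexShape.down ℕ) (k + 1)).map φ.τ₃ = 0 := h3
  exact ((congrArg (e.hom.app (S n).X₃ ≫ ·) h3').trans Limits.comp_zero).trans Limits.zero_comp.symm

end Groth.L01.TorProZero
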