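import Groth.Agent.L01.DerTau
import Groth.Agent.L04.LC.ExtLoc
import Groth.Prelude.Def_Wider
import Mathlib.Algebra.Homology.DerivedCategory.Ext.ExactSequences
import Mathlib.Algebra.Homology.DerivedCategory.Ext.EnoughInjectives
import Mathlib.Algebra.Category.ModuleCat.EnoughInjectives
import Mathlib.RingTheory.TensorProduct.Basic
import Mathlib.RingTheory.Noetherian.Defs
import Mathlib.RingTheory.Ideal.Operations
import Mathlib.Algebra.DirectSum.Module

/-!
# Flat base change is invisible on power-torsion modules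
-/

set_option autoImplicit false
universe w u

open CategoryTheory Category Limits Abelian MonoidalCategory
open scoped TensorProduct

namespace Groth.L01.TorsionBC

variable {A B : Type u} [CommRing A] [CommRing B] [Algebra A B]

section Unit

/-- `X → B ⊗ X`. -/
noncomputable abbrev eta (A B : Type u) [CommRing A] [CommRing B] [Algebra A B] (X : Type u)
    [AddCommGroup X] [Module A X] : X →ₗ[A] B ⊗[A] X := TensorProduct.mk A B X 1

theorem eta_natural {X Y : Type u} [AddCommGroup X] [Module A X] [AddCommGroup Y] [Module A Y]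
    (f : X →ₗ[A] Y) (x : X) : LinearMap.lTensor B f (eta A B X x) = eta A B Y (f x) := rfl

variable {I : Ideal A}
  (hs : Function.Surjective ((Ideal.Quotient.mk (I.map (algebraMap A B))).comp (algebraMap A B)))
  (hk : RingHom.ker ((Ideal.Quotient.mk (I.map (algebraMap A B))).comp (algebraMap A B)) = I)

include hs hk in
theorem bijective_of_killed (X : Type u) [AddCommGroup X] [Module A X]
    (hX : ∀ a ∈ I, ∀ x : X, a • x = 0) : Function.Bijective (eta A B X) := by
  choose s hs' using fun b : B => hs (Ideal.Quotient.mk _ b)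
  have hs'' : ∀ b, algebraMap A B (s b) - b ∈ I.map (algebraMap A B) := fun b =>
    Ideal.Quotient.eq.1 (hs' b)
  have key : ∀ (a : A) (b : B), algebraMap A B a - b ∈ I.map (algebraMap A B) →
      ∀ x : X, s b • x = a • x := fun a b h x => by
    rw [← sub_eq_zero, ← sub_smul]
    refine hX _ ?_ x
    rw [← hk, RingHom.mem_ker, RingHom.comp_apply, Ideal.Quotient.eq_zero_iff_mem, map_sub]
    simpa using sub_mem (hs'' b) h
  have hzero : ∀ z ∈ I.map (algebraMap A B), ∀ x : X, z ⊗ₜ[A] x = 0 := fun z hz x => by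
    rw [Ideal.map] at hz
    induction hz using Submodule.span_induction with
    | mem y hy =>
      obtain ⟨a, ha, rfl⟩ := hy
      rw [Algebra.algebraMap_eq_smul_one, TensorProduct.smul_tmul, hX a ha, TensorProduct.tmul_zero]
    | zero => exact TensorProduct.zero_tmul _ _
    | add y z _ _ hy hz => rw [TensorProduct.add_tmul, hy, hz, add_zero]
    | smul c y _ hy =>
      have := congrArg (LinearMap.rTensor X (LinearMap.mulLeft A c)) hy
      rw [LinearMap.rTensor_tmul, map_zero] at this
      exact this
  let ψ : B ⊗[A] X →ₗ[A] X := TensorProduct.lift (LinearMap.mk₂ A (fun b x => s b • x)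
    (fun b b' x => by
      rw [← add_smul]
      exact key _ _ (by
        convert add_mem (hs'' b) (hs'' b') using 1
        rw [map_add]; ring) x)
    (fun c b x => by
      rw [smul_smul]
      exact key _ _ (by
        convert Ideal.mul_mem_left _ (algebraMap A B c) (hs'' b) using 1
        rw [map_mul, Algebra.smul_def]; ring) x)
    (fun b x y => smul_add _ _ _) (fun c b x => smul_comm _ _ _))
  constructor
  · intro x y hxy
    have h : ∀ z : X, ψ (eta A B X z) = z := fun z => (key 1 1 (by simp) z).trans (one_smul A z)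
    exact (h x).symm.trans ((congrArg ψ hxy).trans (h y))
  · intro t
    induction t using TensorProduct.induction_on with
    | zero => exact ⟨0, map_zero _⟩
    | add a b ha hb =>
      obtain ⟨x, rfl⟩ := ha
      obtain ⟨y, rfl⟩ := hb
      exact ⟨x + y, map_add _ _ _⟩
    | tmul b x =>
      refine ⟨s b • x, ?_⟩
      show (1 : B) ⊗ₜ[A] (s b • x) = b ⊗ₜ[A] x
      rw [← TensorProduct.smul_tmul, ← Algebra.algebraMap_eq_smul_one, ← sub_eq_zero,
        ← TensorProduct.sub_tmul]
      exact hzero _ (hs'' b) x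

variable [Module.Flat A B]

include hs hk in
theorem bijective_of_pow_killed : ∀ (n : ℕ) (X : Type u) [AddCommGroup X] [Module A X],
    (∀ a ∈ I ^ n, ∀ x : X, a • x = 0) → Function.Bijective (eta A B X) := by
  intro n
  induction n with
  | zero =>
    intro X _ _ hX
    have h0 : ∀ x : X, x = 0 := fun x => by
      simpa using hX 1 (by rw [pow_zero]; exact Ideal.one_eq_top (R := A) ▸ Submodule.mem_top) x
    haveI : Subsingleton X := subsingleton_of_forall_eq 0 h0
    haveI : Subsingleton (B ⊗[A] X) := subsingleton_of_forall_eq 0 fun t => by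
      induction t using TensorProduct.induction_on with
      | zero => rfl
      | tmul b x => rw [h0 x, TensorProduct.tmul_zero]
      | add a b ha hb => rw [ha, hb, add_zero]
    exact ⟨Function.injective_of_subsingleton _, fun t => ⟨0, Subsingleton.elim _ _⟩⟩
  | succ n ih =>
    intro X _ _ hX
    let P : Submodule A X := I • ⊤
    have hP : Function.Bijective (eta A B P) := ih P fun a ha y => Subtype.ext (by
      show a • (y : X) = 0
      refine Submodule.smul_induction_on y.2 (fun c hc x _ => ?_) fun p q hp hq => ?_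
      · rw [smul_smul]; exact hX _ (by rw [pow_succ]; exact Ideal.mul_mem_mul ha hc) x
      · rw [smul_add, hp, hq, add_zero])
    have hQ : Function.Bijective (eta A B (X ⧸ P)) := bijective_of_killed hs hk _ fun a ha y => by
      obtain ⟨x, rfl⟩ := P.mkQ_surjective y
      rw [← map_smul, Submodule.mkQ_apply, Submodule.Quotient.mk_eq_zero]
      exact Submodule.smul_mem_smul ha trivial
    constructor
    · rw [injective_iff_map_eq_zero]
      intro x hx
      have h1 : P.mkQ x = 0 := hQ.1 (by rw [← eta_natural, hx, map_zero, map_zero])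
      rw [Submodule.mkQ_apply, Submodule.Quotient.mk_eq_zero] at h1
      have h2 : eta A B P ⟨x, h1⟩ = 0 :=
        Module.Flat.lTensor_preserves_injective_linearMap P.subtype P.injective_subtype
          (by rw [eta_natural, map_zero]; exact hx)
      exact congrArg Subtype.val (hP.1 (h2.trans (map_zero _).symm))
    · intro t
      obtain ⟨q, hq⟩ := hQ.2 (LinearMap.lTensor B P.mkQ t)
      obtain ⟨x, rfl⟩ := P.mkQ_surjective q
      rw [← eta_natural] at hq
      obtain ⟨t', ht'⟩ := (lTensor_exact B (LinearMap.exact_subtype_mkQ P) P.mkQ_surjective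
        (t - eta A B X x)).1 (by rw [map_sub, hq, sub_self])
      obtain ⟨p, rfl⟩ := hP.2 t'
      refine ⟨x + p, ?_⟩
      rw [eta_natural] at ht'
      rw [map_add, show eta A B X (p : X) = t - eta A B X x from ht', add_sub_cancel]

include hs hk in
theorem bijective_of_torsion (X : Type u) [AddCommGroup X] [Module A X]
    (hX : LocCoh.IsPowerTorsion I X) : Function.Bijective (eta A B X) := by
  have hspan : ∀ x : X, Function.Bijective (eta A B (Submodule.span A {x})) := fun x => by
    obtain ⟨n, hn⟩ := hX x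
    refine bijective_of_pow_killed hs hk n _ fun a ha y => Subtype.ext ?_
    obtain ⟨c, hc⟩ := Submodule.mem_span_singleton.1 y.2
    show a • (y : X) = 0
    rw [← hc, smul_comm, hn a ha, smul_zero]
  constructor
  · rw [injective_iff_map_eq_zero]
    intro x hx
    have h2 : eta A B (Submodule.span A {x}) ⟨x, Submodule.mem_span_singleton_self x⟩ = 0 :=
      Module.Flat.lTensor_preserves_injective_linearMap (Submodule.span A {x}).subtype
        (Submodule.injective_subtype _) (by rw [eta_natural, map_zero]; exact hx)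
    exact congrArg Subtype.val ((hspan x).1 (h2.trans (map_zero _).symm))
  · intro t
    induction t using TensorProduct.induction_on with
    | zero => exact ⟨0, map_zero _⟩
    | add a b ha hb =>
      obtain ⟨x, rfl⟩ := ha
      obtain ⟨y, rfl⟩ := hb
      exact ⟨x + y, map_add _ _ _⟩
    | tmul b x =>
      obtain ⟨y, hy⟩ := (hspan x).2 (b ⊗ₜ[A] ⟨x, Submodule.mem_span_singleton_self x⟩)
      refine ⟨y, ?_⟩
      have := congrArg (LinearMap.lTensor B (Submodule.span A {x}).subtype) hy
      rwa [eta_natural] at this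

theorem isPowerTorsion_of_span (S : Finset A) (hS : Ideal.span (S : Set A) = I) (X : Type u)
    [AddCommGroup X] [Module A X] (hX : ∀ a ∈ S, ∀ x : X, ∃ k : ℕ, a ^ k • x = 0) :
    LocCoh.IsPowerTorsion I X := fun x => by
  obtain ⟨n, hn⟩ := Ideal.exists_pow_le_of_le_radical_of_fg
    (I := I) (J := LinearMap.ker (LinearMap.toSpanSingleton A X x))
    (by
      rw [← hS, Ideal.span_le]
      intro a ha
      obtain ⟨k, hk⟩ := hX a ha x
      exact Ideal.mem_radical_iff.2 ⟨k, hk⟩)
    (hS ▸ ⟨S, rfl⟩)
  exact ⟨n, fun a ha => hn ha⟩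

theorem subsingleton_ker_eta_tensor (N : Type u) [AddCommGroup N] [Module A N] :
    Subsingleton (B ⊗[A] LinearMap.ker (eta A B N)) := by
  let m : B ⊗[A] (B ⊗[A] N) →ₗ[A] B ⊗[A] N :=
    (LinearMap.rTensor N (LinearMap.mul' A B)) ∘ₗ (TensorProduct.assoc A B B N).symm.toLinearMap
  have hm : ∀ t, m (LinearMap.lTensor B (eta A B N) t) = t := fun t => by
    induction t using TensorProduct.induction_on with
    | zero => simp
    | tmul b x => simp [m]
    | add a b ha hb => rw [map_add, map_add, ha, hb]
  refine subsingleton_of_forall_eq 0 fun t => ?_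
  refine Module.Flat.lTensor_preserves_injective_linearMap (LinearMap.ker (eta A B N)).subtype
    (Submodule.injective_subtype _) ?_
  rw [map_zero, ← hm (LinearMap.lTensor B _ t)]
  have : eta A B N ∘ₗ (LinearMap.ker (eta A B N)).subtype = 0 := LinearMap.ext fun y => y.2
  rw [← LinearMap.comp_apply (LinearMap.lTensor B (eta A B N)), ← LinearMap.lTensor_comp, this]
  simp

end Unit

section Adjunction

theorem quot_congr {R R' G H G' H' : Type u} [CommRing R] [CommRing R'] [AddCommGroup G]
    [AddCommGroup H] [AddCommGroup G'] [AddCommGroup H'] [Module R G] [Module R' H] [Module R G']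
    [Module R' H'] (e : G ≃+ H) (e' : G' ≃+ H') (p : G' →ₗ[R] G) (p' : H' →ₗ[R'] H)
    (h : ∀ x, e (p x) = p' (e' x)) :
    Nonempty ((G ⧸ LinearMap.range p) ≃+ (H ⧸ LinearMap.range p')) := by
  refine ⟨QuotientAddGroup.congr (LinearMap.range p).toAddSubgroup (LinearMap.range p').toAddSubgroup
    e ?_⟩
  ext y
  simp only [AddSubgroup.mem_map, Submodule.mem_toAddSubgroup, LinearMap.mem_range]
  constructor
  · rintro ⟨_, ⟨x, rfl⟩, rfl⟩
    exact ⟨e' x, (h x).symm⟩
  · rintro ⟨z, rfl⟩
    exact ⟨_, ⟨e'.symm z, rfl⟩, (h _).trans (congrArg p' (e'.apply_symm_apply z))⟩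

theorem nonempty_quot_equiv (C : Type u) [AddCommGroup C] [Module B C] [Module A C]
    [IsScalarTower A B C] {K F : Type u} [AddCommGroup K] [Module A K] [AddCommGroup F] [Module A F]
    (f : K →ₗ[A] F) :
    Nonempty (((K →ₗ[A] C) ⧸ LinearMap.range (f.lcomp A C)) ≃+
      ((B ⊗[A] K →ₗ[B] C) ⧸ LinearMap.range ((f.baseChange B).lcomp B C))) :=
  quot_congr (LinearMap.liftBaseChangeEquiv B).toAddEquiv (LinearMap.liftBaseChangeEquiv B).toAddEquiv
    _ _ fun h => TensorProduct.AlgebraTensorModule.ext fun b y => by simp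

variable [Module.Flat A B]

/-- `Ext_A(M, C) ≅ Ext_B(B ⊗ M, C)` for a `B`-module `C`. -/
theorem nonempty_adjunction_equiv (C : Type u) [AddCommGroup C] [Module B C] [Module A C]
    [IsScalarTower A B C] : ∀ (n : ℕ) (M : Type u) [AddCommGroup M] [Module A M],
    Nonempty (Ext (ModuleCat.of A M) (ModuleCat.of A C) n ≃+
      Ext (ModuleCat.of B (B ⊗[A] M)) (ModuleCat.of B C) n) := by
  intro n
  induction n with
  | zero =>
    intro M _ _
    exact ⟨(Ext.linearEquiv₀ (R := A) ≪≫ₗ ModuleCat.homLinearEquiv (S := A)).toAddEquiv.trans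
      ((LinearMap.liftBaseChangeEquiv B).toAddEquiv.trans
        ((ModuleCat.homLinearEquiv (S := B) (M := ModuleCat.of B (B ⊗[A] M))
          (N := ModuleCat.of B C)).symm ≪≫ₗ (Ext.linearEquiv₀ (R := B)).symm).toAddEquiv)⟩
  | succ n ih =>
    intro M _ _
    obtain ⟨P, _, _, hPp, g, hg⟩ : ∃ (P : Type u) (_ : AddCommGroup P) (_ : Module A P)
        (_ : Module.Projective A P) (g : P →ₗ[A] M), Function.Surjective g :=
      ⟨M →₀ A, inferInstance, inferInstance, inferInstance, Finsupp.linearCombination A id,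
        fun x => ⟨Finsupp.single x 1, by simp⟩⟩
    let fB := (LinearMap.ker g).subtype.baseChange B
    let gB := g.baseChange B
    have hfB : Function.Injective fB :=
      Module.Flat.lTensor_preserves_injective_linearMap _ (LinearMap.ker g).injective_subtype
    have hgB : Function.Surjective gB := LinearMap.lTensor_surjective B hg
    have hexB : Function.Exact fB gB := lTensor_exact B g.exact_subtype_ker_map hg
    haveI : Module.Projective B (B ⊗[A] P) := inferInstance
    match n, ih with
    | 0, _ =>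
      obtain ⟨e⟩ := Groth.L04.LC.nonempty_ext_one_equiv (LinearMap.ker g).subtype g
        (LinearMap.ker g).injective_subtype hg g.exact_subtype_ker_map C
      obtain ⟨e'⟩ := Groth.L04.LC.nonempty_ext_one_equiv (A := B) (K := B ⊗[A] (LinearMap.ker g))
        (F := B ⊗[A] P) fB gB hfB hgB hexB C
      obtain ⟨c⟩ := nonempty_quot_equiv (B := B) C (LinearMap.ker g).subtype
      exact ⟨(e.toAddEquiv.trans c).trans e'.symm.toAddEquiv⟩
    | k + 1, ih =>
      obtain ⟨e⟩ := Groth.L04.LC.nonempty_ext_succ_equiv (LinearMap.ker g).subtype g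
        (LinearMap.ker g).injective_subtype hg g.exact_subtype_ker_map C k
      obtain ⟨e'⟩ := Groth.L04.LC.nonempty_ext_succ_equiv (A := B) (K := B ⊗[A] (LinearMap.ker g))
        (F := B ⊗[A] P) fB gB hfB hgB hexB C k
      obtain ⟨c⟩ := ih (LinearMap.ker g)
      exact ⟨(e.toAddEquiv.trans c).trans e'.symm.toAddEquiv⟩

end Adjunction

section Vanish

/-- All `Ext` from modules killed by `I` to `D` vanish. -/
def Van (I : Ideal A) (D : ModuleCat.{u} A) : Prop :=
  ∀ (X : Type u) [AddCommGroup X] [Module A X], (∀ a ∈ I, ∀ x : X, a • x = 0) →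
    ∀ n, Subsingleton (Ext (ModuleCat.of A X) D n)

theorem subsingleton_ext_pow {I : Ideal A} {D : ModuleCat.{u} A} (hD : Van I D) :
    ∀ (m : ℕ) (X : Type u) [AddCommGroup X] [Module A X], (∀ a ∈ I ^ m, ∀ x : X, a • x = 0) →
      ∀ n, Subsingleton (Ext (ModuleCat.of A X) D n) := by
  intro m
  induction m with
  | zero =>
    intro X _ _ hX n
    refine hD X (fun a _ x => ?_) n
    have h1 := hX 1 (by rw [pow_zero]; exact Ideal.one_eq_top (R := A) ▸ Submodule.mem_top) x
    rw [one_smul] at h1
    rw [h1, smul_zero]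
  | succ m ih =>
    intro X _ _ hX n
    let P : Submodule A X := I • ⊤
    let S : ShortComplex (ModuleCat.{u} A) :=
      ShortComplex.mk (ModuleCat.ofHom P.subtype) (ModuleCat.ofHom P.mkQ)
        (ModuleCat.hom_ext (LinearMap.ext fun a => (Submodule.Quotient.mk_eq_zero P).2 a.2))
    have hS : S.ShortExact :=
      { exact := (ShortComplex.ShortExact.moduleCat_exact_iff_function_exact _).2
          (LinearMap.exact_subtype_mkQ P)
        mono_f := (ModuleCat.mono_iff_injective _).2 P.injective_subtype
        epi_g := (ModuleCat.epi_iff_surjective _).2 P.mkQ_surjective }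
    haveI h₁ : Subsingleton (Ext S.X₁ D n) := ih P (fun a ha y => Subtype.ext (by
      show a • (y : X) = 0
      refine Submodule.smul_induction_on y.2 (fun c hc x _ => ?_) fun p q hp hq => ?_
      · rw [smul_smul]; exact hX _ (by rw [pow_succ]; exact Ideal.mul_mem_mul ha hc) x
      · rw [smul_add, hp, hq, add_zero])) n
    haveI h₃ : Subsingleton (Ext S.X₃ D n) := hD (X ⧸ P) (fun a ha y => by
      obtain ⟨x, rfl⟩ := P.mkQ_surjective y
      rw [← map_smul, Submodule.mkQ_apply, Submodule.Quotient.mk_eq_zero]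
      exact Submodule.smul_mem_smul ha trivial) n
    refine subsingleton_of_forall_eq 0 fun x => ?_
    obtain ⟨y, hy⟩ := Ext.contravariant_sequence_exact₂ hS D x (Subsingleton.elim _ _)
    rw [← hy, Subsingleton.elim y 0, Ext.comp_zero]

theorem subsingleton_ext_directSum {κ : Type u} (X : κ → Type u) [∀ i, AddCommGroup (X i)]
    [∀ i, Module A (X i)] : ∀ (n : ℕ) (D : ModuleCat.{u} A),
    (∀ i, Subsingleton (Ext (ModuleCat.of A (X i)) D n)) →
      Subsingleton (Ext (ModuleCat.of A (DirectSum κ X)) D n) := by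
  classical
  let j : ∀ i, ModuleCat.of A (X i) ⟶ ModuleCat.of A (DirectSum κ X) := fun i =>
    ModuleCat.ofHom (DirectSum.lof A κ X i)
  intro n
  induction n with
  | zero =>
    intro D h
    refine subsingleton_of_forall_eq 0 fun x => ?_
    obtain ⟨f, rfl⟩ := Ext.homEquiv₀.symm.surjective x
    have : f = 0 := ModuleCat.hom_ext (DirectSum.linearMap_ext A fun i => by
      have h1 := (h i).elim (Ext.mk₀ (j i ≫ f)) (Ext.mk₀ 0)
      have h2 := (Ext.mk₀_bijective _ _).1 h1
      exact (congrArg ModuleCat.Hom.hom h2).trans (LinearMap.zero_comp _).symm)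
    subst this
    exact Ext.mk₀_zero _ _
  | succ n ih =>
    intro D h
    let E := Injective.under D
    let Q := cokernel (Injective.ι D)
    let S : ShortComplex (ModuleCat.{u} A) :=
      ShortComplex.mk (Injective.ι D) (cokernel.π (Injective.ι D)) (cokernel.condition _)
    have hS : S.ShortExact := { exact := ShortComplex.exact_cokernel _ }
    refine subsingleton_of_forall_eq 0 fun x => ?_
    obtain ⟨z, rfl⟩ := Ext.covariant_sequence_exact₁ _ hS x (Ext.eq_zero_of_injective _) rfl
    cases n with
    | zero =>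
      obtain ⟨f, rfl⟩ := Ext.homEquiv₀.symm.surjective z
      have hz : ∀ i, ∃ e : ModuleCat.of A (X i) ⟶ E, e ≫ cokernel.π (Injective.ι D) = j i ≫ f := by
        intro i
        obtain ⟨y, hy⟩ := Ext.covariant_sequence_exact₃ _ hS (Ext.mk₀ (j i ≫ f)) rfl
          ((h i).elim _ _)
        obtain ⟨e, rfl⟩ := Ext.homEquiv₀.symm.surjective y
        change (Ext.mk₀ e).comp (Ext.mk₀ _) (add_zero 0) = _ at hy
        rw [Ext.mk₀_comp_mk₀] at hy
        exact ⟨e, (Ext.mk₀_bijective _ _).1 hy⟩
      choose e he using hz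
      let e' : ModuleCat.of A (DirectSum κ X) ⟶ E :=
        ModuleCat.ofHom (DirectSum.toModule A κ E fun i => (e i).hom)
      have he' : f = e' ≫ S.g := by
        refine ModuleCat.hom_ext (DirectSum.linearMap_ext A fun i => LinearMap.ext fun y => ?_)
        refine ((ConcreteCategory.congr_hom (he i) y).symm).trans ?_
        exact congrArg (cokernel.π (Injective.ι D)).hom
          (DirectSum.toModule_lof (R := A) (φ := fun i => (e i).hom) i y).symm
      change (Ext.mk₀ f).comp hS.extClass _ = 0
      rw [he', ← Ext.mk₀_comp_mk₀, Ext.comp_assoc_of_second_deg_zero, hS.comp_extClass,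
        Ext.comp_zero]
    | succ k =>
      haveI : Subsingleton (Ext (ModuleCat.of A (DirectSum κ X)) S.X₃ (k + 1)) := ih S.X₃ fun i => by
        haveI := h i
        refine subsingleton_of_forall_eq 0 fun y => ?_
        obtain ⟨w, hw⟩ := Ext.covariant_sequence_exact₃ _ hS y rfl (Subsingleton.elim _ _)
        rw [← hw, Ext.eq_zero_of_injective w, Ext.zero_comp]
      rw [Subsingleton.elim z 0, Ext.zero_comp]

theorem exists_cover {I : Ideal A} {D : ModuleCat.{u} A} (hD : Van I D) (M : Type u) [AddCommGroup M]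
    [Module A M] (hM : LocCoh.IsPowerTorsion I M) :
    ∃ (P : Type u) (_ : AddCommGroup P) (_ : Module A P) (g : P →ₗ[A] M), Function.Surjective g ∧
      LocCoh.IsPowerTorsion I P ∧ ∀ n, Subsingleton (Ext (ModuleCat.of A P) D n) := by
  classical
  choose k hk using hM
  let X : M → Type u := fun m => A ⧸ (I ^ k m)
  let q : ∀ m, X m →ₗ[A] M := fun m => Submodule.liftQ (I ^ k m) (LinearMap.toSpanSingleton A M m)
    fun a ha => hk m a ha
  have hq : ∀ m, q m (Submodule.Quotient.mk (1 : A)) = m := fun m => one_smul A m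
  refine ⟨DirectSum M X, inferInstance, inferInstance, DirectSum.toModule A M M q,
    fun m => ⟨DirectSum.lof A M X m (Submodule.Quotient.mk (1 : A)),
      (DirectSum.toModule_lof (R := A) (φ := q) m _).trans (hq m)⟩, ?_,
    fun n => subsingleton_ext_directSum X n D fun m => subsingleton_ext_pow hD (k m) _ (fun a ha y => by
      obtain ⟨b, rfl⟩ := Submodule.Quotient.mk_surjective _ y
      rw [← Submodule.Quotient.mk_smul, Submodule.Quotient.mk_eq_zero, smul_eq_mul]
      exact Ideal.mul_mem_right _ _ ha) n⟩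
  intro t
  induction t using DirectSum.induction_on with
  | zero => exact ⟨0, fun a _ => smul_zero a⟩
  | of m y =>
    refine ⟨k m, fun a ha => ?_⟩
    have h0 : a • y = 0 := by
      obtain ⟨b, rfl⟩ := Submodule.Quotient.mk_surjective _ y
      exact (Submodule.Quotient.mk_eq_zero (I ^ k m)).2 (Ideal.mul_mem_right b _ ha)
    rw [← DirectSum.lof_eq_of A, ← map_smul, h0, map_zero]
  | add p q hp hq =>
    obtain ⟨N, hN⟩ := hp
    obtain ⟨N', hN'⟩ := hq
    exact ⟨N + N', fun a ha => by
      rw [smul_add, hN a (Ideal.pow_le_pow_right (Nat.le_add_right N N') ha),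
        hN' a (Ideal.pow_le_pow_right (Nat.le_add_left N' N) ha), add_zero]⟩

theorem subsingleton_ext_torsion {I : Ideal A} {D : ModuleCat.{u} A} (hD : Van I D) :
    ∀ (n : ℕ) (M : Type u) [AddCommGroup M] [Module A M], LocCoh.IsPowerTorsion I M →
      Subsingleton (Ext (ModuleCat.of A M) D n) := by
  classical
  intro n
  induction n with
  | zero => ?_
  | succ n ih => ?_
  all_goals
    intro M _ _ hM
    obtain ⟨P, _, _, g, hg, hPt, hP⟩ := exists_cover hD M hM
    let S : ShortComplex (ModuleCat.{u} A) :=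
      ShortComplex.mk (ModuleCat.ofHom (LinearMap.ker g).subtype) (ModuleCat.ofHom g)
        (ModuleCat.hom_ext (LinearMap.ext fun y => y.2))
    have hS : S.ShortExact :=
      { exact := (ShortComplex.ShortExact.moduleCat_exact_iff_function_exact _).2 g.exact_subtype_ker_map
        mono_f := (ModuleCat.mono_iff_injective _).2 (Submodule.injective_subtype _)
        epi_g := (ModuleCat.epi_iff_surjective _).2 hg }
    refine subsingleton_of_forall_eq 0 fun x => ?_
  · obtain ⟨f, rfl⟩ := Ext.homEquiv₀.symm.surjective x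
    have h0 := (Ext.mk₀_bijective _ _).1 ((hP 0).elim (Ext.mk₀ (S.g ≫ f)) (Ext.mk₀ 0))
    haveI := hS.epi_g
    have : f = 0 := (cancel_epi S.g).1 (h0.trans comp_zero.symm)
    subst this
    exact Ext.mk₀_zero _ _
  · have hK : LocCoh.IsPowerTorsion I (LinearMap.ker g) := fun y =>
      (hPt y.1).imp fun N hN a ha => Subtype.ext (hN a ha)
    haveI : Subsingleton (Ext S.X₁ D n) := ih _ hK
    haveI : Subsingleton (Ext S.X₂ D (n + 1)) := hP (n + 1)
    obtain ⟨y, hy⟩ := Ext.contravariant_sequence_exact₃ hS D x (Subsingleton.elim _ _)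
      (by omega : 1 + n = n + 1)
    rw [← hy, Subsingleton.elim y 0, Ext.comp_zero]

end Vanish

section Main

variable [Module.Flat A B] {I : Ideal A} (hI : I.FG)
  (hs : Function.Surjective ((Ideal.Quotient.mk (I.map (algebraMap A B))).comp (algebraMap A B)))
  (hk : RingHom.ker ((Ideal.Quotient.mk (I.map (algebraMap A B))).comp (algebraMap A B)) = I)

attribute [local instance] HasDerivedCategory.standard

local notation "single" => DerivedCategory.singleFunctor _ 0

set_option backward.isDefEq.respectTransparency false in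
theorem tau_single (N : ModuleCat.{u} A) :
    (Groth.L01.DerTau.tau A B).app ((DerivedCategory.singleFunctor _ 0).obj N) ≫
      ((Groth.L01.DerTau.tF A B).mapDerivedCategorySingleFunctor 0).hom.app N =
      (DerivedCategory.singleFunctor _ 0).map ((Groth.L01.DerTau.unit A B).app N) := by
  let T := Groth.L01.DerTau.tau A B
  let e := DerivedCategory.singleFunctorIsoCompQ (ModuleCat.{u} A) 0
  simp only [Functor.mapDerivedCategorySingleFunctor, Iso.trans_hom, NatTrans.comp_app,
    Functor.whiskerRight_app, Functor.whiskerLeft_app,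
    Iso.symm_hom, Functor.associator_hom_app, Functor.associator_inv_app, id_comp, comp_id,
    Functor.isoWhiskerRight_hom, Functor.isoWhiskerLeft_hom, Functor.isoWhiskerLeft_inv]
  have h2 : T.app ((DerivedCategory.singleFunctor _ 0).obj N) ≫
      (Groth.L01.DerTau.FD A B).map (e.hom.app N) =
      e.hom.app N ≫ T.app (DerivedCategory.Q.obj ((CochainComplex.singleFunctor _ 0).obj N)) :=
    (T.naturality (e.hom.app N)).symm
  rw [reassoc_of% h2, Groth.L01.DerTau.tau_app_Q]
  simp only [assoc, Iso.inv_hom_id_app_assoc]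
  rw [show (DerivedCategory.singleFunctor (ModuleCat.{u} A) 0).map ((Groth.L01.DerTau.unit A B).app N) =
    e.hom.app N ≫ DerivedCategory.Q.map ((CochainComplex.singleFunctor _ 0).map
      ((Groth.L01.DerTau.unit A B).app N)) ≫ e.inv.app _ by
    rw [← assoc]
    exact (Iso.eq_comp_inv (e.app _)).2 (e.hom.naturality _)]
  congr 1
  rw [← assoc, Groth.L01.DerTau.tauQ, ← Functor.map_comp]
  congr 1
  congr 1
  apply HomologicalComplex.to_single_hom_ext
  simp [HomologicalComplex.singleMapHomologicalComplex, CochainComplex.singleFunctor,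
    CochainComplex.singleFunctors, HomologicalComplex.single_map_f_self]
  exact ModuleCat.hom_ext (LinearMap.ext fun x => rfl)

include hI hs hk in
theorem bijective_postcomp_killed (X : Type u) [AddCommGroup X] [Module A X]
    (hX : ∀ a ∈ I, ∀ x : X, a • x = 0) (N : Type u) [AddCommGroup N] [Module A N] (n : ℕ) :
    Function.Bijective fun x : Ext (ModuleCat.of A X) (ModuleCat.of A N) n =>
      x.comp (Ext.mk₀ (ModuleCat.ofHom (eta A B N))) (add_zero n) := by
  obtain ⟨S, hS⟩ := hI
  have hfix : ∀ H : ModuleCat.{u} A, Groth.L01.DerTau.Nilp S H →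
      IsIso ((Groth.L01.DerTau.unit A B).app H) := fun H hH =>
    (ConcreteCategory.isIso_iff_bijective _).2
      (bijective_of_torsion hs hk H (isPowerTorsion_of_span S hS H hH))
  let SX := (DerivedCategory.singleFunctor (ModuleCat.{u} A) 0).obj (ModuleCat.of A X)
  let Y := SX⟦-(n : ℤ)⟧
  have hY : ∀ a ∈ S, a • 𝟙 Y = 0 := fun a ha => by
    have h0 : a • 𝟙 (ModuleCat.of A X) = 0 :=
      ModuleCat.hom_ext (LinearMap.ext fun x => hX a (hS ▸ Submodule.subset_span ha) x)
    rw [show 𝟙 Y = ((DerivedCategory.singleFunctor (ModuleCat.{u} A) 0) ⋙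
        shiftFunctor _ (-(n : ℤ))).map (𝟙 (ModuleCat.of A X)) from
      (((DerivedCategory.singleFunctor (ModuleCat.{u} A) 0) ⋙
        shiftFunctor (DerivedCategory (ModuleCat.{u} A)) (-(n : ℤ))).map_id (ModuleCat.of A X)).symm, Functor.comp_map, ← Functor.map_smul,
      ← Functor.map_smul, h0, Functor.map_zero, Functor.map_zero]
  have hb := Groth.L01.DerTau.bijective_comp_tau_all S hfix
    ((DerivedCategory.singleFunctor (ModuleCat.{u} A) 0).obj (ModuleCat.of A N)) Y hY
  let f := (DerivedCategory.singleFunctor (ModuleCat.{u} A) 0).map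
    ((Groth.L01.DerTau.unit A B).app (ModuleCat.of A N))
  have hb' : Function.Bijective fun y : Y ⟶ _ => y ≫ f := by
    have : (fun y : Y ⟶ _ => y ≫ f) =
        (fun z => z ≫ ((Groth.L01.DerTau.tF A B).mapDerivedCategorySingleFunctor 0).hom.app _) ∘
          (fun y => y ≫ (Groth.L01.DerTau.tau A B).app _) := funext fun y => by
      rw [Function.comp_apply, assoc, tau_single]
      rfl
    rw [this]
    exact (Iso.homCongr (Iso.refl _) (((Groth.L01.DerTau.tF A B).mapDerivedCategorySingleFunctor 0).app
      (ModuleCat.of A N))).bijective.comp hb |> fun h => by simpa [Function.comp_def] using h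
  let e : Y⟦(n : ℤ)⟧ ≅ SX :=
    (shiftFunctorCompIsoId (DerivedCategory (ModuleCat.{u} A)) (-(n : ℤ)) n (neg_add_cancel _)).app SX
  have hs₁ : ∀ Z, Function.Bijective fun y : Y ⟶ Z => e.inv ≫ y⟦(n : ℤ)⟧' := fun Z =>
    (Iso.homCongr e (Iso.refl (Z⟦(n : ℤ)⟧))).bijective.comp
      ((Functor.FullyFaithful.ofFullyFaithful (shiftFunctor _ (n : ℤ))).map_bijective _ _)
      |> fun h => by simpa [Function.comp_def] using h
  have hb'' : Function.Bijective fun x : SX ⟶ _⟦(n : ℤ)⟧ => x ≫ f⟦(n : ℤ)⟧' := by
    rw [← Function.Bijective.of_comp_iff _ (hs₁ _)]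
    convert (hs₁ _).comp hb' using 1
    funext y
    simp
  have key : ∀ x : Ext (ModuleCat.of A X) (ModuleCat.of A N) n,
      (x.comp (Ext.mk₀ (ModuleCat.ofHom (eta A B N))) (add_zero n)).hom = x.hom ≫ f⟦(n : ℤ)⟧' :=
    fun x => by
      rw [Ext.comp_hom, Ext.mk₀_hom, ShiftedHom.comp_mk₀]
      rfl
  rw [← Function.Bijective.of_comp_iff' (Ext.homEquiv).bijective]
  convert hb''.comp (Ext.homEquiv (X := ModuleCat.of A X) (Y := ModuleCat.of A N) (n := n)).bijective
    using 1
  funext x
  exact key x

include hI hs hk in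
theorem bijective_postcomp_torsion (M : Type u) [AddCommGroup M] [Module A M]
    (hM : LocCoh.IsPowerTorsion I M) (N : Type u) [AddCommGroup N] [Module A N] (n : ℕ) :
    Function.Bijective fun x : Ext (ModuleCat.of A M) (ModuleCat.of A N) n =>
      x.comp (Ext.mk₀ (ModuleCat.ofHom (eta A B N))) (add_zero n) := by
  let K := LinearMap.ker (eta A B N)
  let N' := LinearMap.range (eta A B N)
  let p := ModuleCat.ofHom (X := N) (Y := N') (eta A B N).rangeRestrict
  let ι' := ModuleCat.ofHom (X := N') (Y := B ⊗[A] N) N'.subtype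
  have hfac : ModuleCat.ofHom (eta A B N) = p ≫ ι' := rfl
  let S₁ : ShortComplex (ModuleCat.{u} A) := ShortComplex.mk (ModuleCat.ofHom K.subtype) p
    (ModuleCat.hom_ext (LinearMap.ext fun y => Subtype.ext y.2))
  have hS₁ : S₁.ShortExact :=
    { exact := (ShortComplex.ShortExact.moduleCat_exact_iff_function_exact _).2
        (LinearMap.exact_iff.2 (by
          show LinearMap.ker (eta A B N).rangeRestrict = LinearMap.range K.subtype
          rw [LinearMap.ker_rangeRestrict, Submodule.range_subtype]))
      mono_f := (ModuleCat.mono_iff_injective _).2 K.injective_subtype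
      epi_g := (ModuleCat.epi_iff_surjective _).2 (eta A B N).surjective_rangeRestrict }
  let S₂ : ShortComplex (ModuleCat.{u} A) := ShortComplex.mk ι' (ModuleCat.ofHom (X := B ⊗[A] N) (Y := (B ⊗[A] N) ⧸ N') N'.mkQ)
    (ModuleCat.hom_ext (LinearMap.ext fun a => (Submodule.Quotient.mk_eq_zero N').2 a.2))
  have hS₂ : S₂.ShortExact :=
    { exact := (ShortComplex.ShortExact.moduleCat_exact_iff_function_exact _).2
        (LinearMap.exact_subtype_mkQ N')
      mono_f := (ModuleCat.mono_iff_injective _).2 N'.injective_subtype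
      epi_g := (ModuleCat.epi_iff_surjective _).2 N'.mkQ_surjective }
  have step : ∀ (X : Type u) [AddCommGroup X] [Module A X],
      (∀ m, Subsingleton (Ext (ModuleCat.of A X) S₁.X₁ m)) → ∀ m,
      Function.Bijective fun x : Ext (ModuleCat.of A X) S₁.X₂ m =>
        x.comp (Ext.mk₀ p) (add_zero m) := by
    intro X _ _ h m
    constructor
    · intro a b hab
      obtain ⟨c, hc⟩ := Ext.covariant_sequence_exact₂ _ hS₁ (a - b) (by
        rw [sub_eq_add_neg, Ext.add_comp, Ext.neg_comp, ← sub_eq_add_neg]; exact sub_eq_zero.2 hab)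
      rw [← sub_eq_zero, ← hc, @Subsingleton.elim _ (h m) c 0, Ext.zero_comp]
    · intro y
      exact Ext.covariant_sequence_exact₃ _ hS₁ y rfl (@Subsingleton.elim _ (h (m + 1)) _ _)
  have hK : Van I S₁.X₁ := fun X _ _ hX m => by
    refine subsingleton_of_forall_eq 0 fun x => ?_
    refine (bijective_postcomp_killed hI hs hk X hX K m).1 ?_
    haveI : Subsingleton (B ⊗[A] K) := subsingleton_ker_eta_tensor N
    have h0 : ModuleCat.ofHom (eta A B K) = 0 :=
      ModuleCat.hom_ext (LinearMap.ext fun y => Subsingleton.elim _ _)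
    show x.comp (Ext.mk₀ (ModuleCat.ofHom (eta A B K))) _ =
      (0 : Ext (ModuleCat.of A X) (ModuleCat.of A K) m).comp _ _
    rw [h0, Ext.mk₀_zero, Ext.comp_zero, Ext.comp_zero]
  have hC : Van I S₂.X₃ := fun X _ _ hX m => by
    have hp := step X (hK X hX)
    have hι : ∀ j, Function.Bijective fun x : Ext (ModuleCat.of A X) S₂.X₁ j =>
        x.comp (Ext.mk₀ ι') (add_zero j) := fun j => by
      refine (Function.Bijective.of_comp_iff _ (hp j)).1 ?_
      convert bijective_postcomp_killed hI hs hk X hX N j using 1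
      funext x
      rw [Function.comp_apply, Ext.comp_assoc_of_second_deg_zero, Ext.mk₀_comp_mk₀, ← hfac]
    refine subsingleton_of_forall_eq 0 fun y => ?_
    have hδ : y.comp hS₂.extClass (rfl : m + 1 = m + 1) = 0 := (hι (m + 1)).1 (by
      show Ext.comp _ _ _ = Ext.comp 0 _ _
      rw [Ext.comp_assoc_of_third_deg_zero, hS₂.extClass_comp, Ext.comp_zero, Ext.zero_comp])
    obtain ⟨z, hz⟩ := Ext.covariant_sequence_exact₃ _ hS₂ y rfl hδ
    obtain ⟨w, hw⟩ := (hι m).2 z
    rw [← hz, ← hw]
    show (w.comp (Ext.mk₀ S₂.f) _).comp (Ext.mk₀ S₂.g) _ = 0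
    rw [Ext.comp_assoc_of_second_deg_zero, Ext.mk₀_comp_mk₀, S₂.zero, Ext.mk₀_zero, Ext.comp_zero]
  have hM₁ := step M fun m => subsingleton_ext_torsion hK m M hM
  have hM₂ : Function.Bijective fun x : Ext (ModuleCat.of A M) S₂.X₁ n =>
      x.comp (Ext.mk₀ ι') (add_zero n) := by
    constructor
    · intro a b hab
      have h0 : (a - b).comp (Ext.mk₀ S₂.f) (add_zero n) = 0 := by
        rw [sub_eq_add_neg, Ext.add_comp, Ext.neg_comp, ← sub_eq_add_neg]; exact sub_eq_zero.2 hab
      cases n with
      | zero =>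
        obtain ⟨d, hd⟩ := Ext.homEquiv₀.symm.surjective (a - b)
        rw [← hd] at h0
        change (Ext.mk₀ d).comp (Ext.mk₀ S₂.f) _ = 0 at h0
        rw [Ext.mk₀_comp_mk₀, ← Ext.mk₀_zero] at h0
        have hz := (Ext.mk₀_bijective _ _).1 h0
        haveI := hS₂.mono_f
        have hd0 : d = 0 := (cancel_mono S₂.f).1 (hz.trans zero_comp.symm)
        rw [← sub_eq_zero, ← hd, hd0]
        exact Ext.mk₀_zero _ _
      | succ k =>
        obtain ⟨c, hc⟩ := Ext.covariant_sequence_exact₁ _ hS₂ (a - b) h0 rfl
        rw [← sub_eq_zero, ← hc, @Subsingleton.elim _ (subsingleton_ext_torsion hC k M hM) c 0,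
          Ext.zero_comp]
    · intro y
      exact Ext.covariant_sequence_exact₂ _ hS₂ y
        (@Subsingleton.elim _ (subsingleton_ext_torsion hC n M hM) _ _)
  convert hM₂.comp (hM₁ n) using 1
  funext x
  rw [Function.comp_apply, Ext.comp_assoc_of_second_deg_zero, Ext.mk₀_comp_mk₀, ← hfac]

include hI hs hk in
theorem nonempty_ext_equiv (M N : Type u) [AddCommGroup M] [Module A M] [AddCommGroup N]
    [Module A N] (hM : LocCoh.IsPowerTorsion I M) (n : ℕ) :
    Nonempty (Ext (ModuleCat.of A M) (ModuleCat.of A N) n ≃+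
      Ext (ModuleCat.of B (B ⊗[A] M)) (ModuleCat.of B (B ⊗[A] N)) n) := by
  obtain ⟨e⟩ := nonempty_adjunction_equiv (A := A) (B := B) (B ⊗[A] N) n M
  exact ⟨(AddEquiv.ofBijective ((Ext.mk₀ (ModuleCat.ofHom (eta A B N))).postcomp (ModuleCat.of A M)
    (add_zero n)) (bijective_postcomp_torsion hI hs hk M hM N n)).trans e⟩

end Main

end Groth.L01.TorsionBC
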