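import Mathlib.RingTheory.Polynomial.IsIntegral
import Mathlib.RingTheory.PicardGroup
import Mathlib.RingTheory.PrincipalIdealDomain
import Mathlib.LinearAlgebra.FreeModule.PID
import Mathlib.Algebra.Polynomial.FieldDivision
import Groth.Agent.L28.AWN.Key
import Groth.Agent.L28.AWN.Elem
import Groth.Agent.L02.CAlg.Horrocks.Global

/-!
Traverso's theorem for local rings: invertible `R[X]`-modules over a seminormal local ring are free.
-/

set_option autoImplicit false

open Polynomial L02.CAlg.Horrocks TensorProduct Matrix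

namespace L01.Traverso

universe u

/-- A factorization of a rank one idempotent, normalized at `i`. -/
structure Fac {A : Type u} [CommRing A] {n : ℕ} (E : Matrix (Fin n) (Fin n) A[X]) (i : Fin n)
    (f g : Fin n → A[X]) : Prop where
  mul : ∀ a b, f a * g b = E a b
  sum : ∑ a, g a * f a = 1
  norm : (g i).coeff 0 = 1

theorem Fac.map {A B : Type u} [CommRing A] [CommRing B] {n : ℕ} {E : Matrix (Fin n) (Fin n) A[X]} {i : Fin n}
    {f g : Fin n → A[X]} (h : Fac E i f g) (φ : A →+* B) :
    Fac (E.map (Polynomial.map φ)) i (fun a => (f a).map φ) (fun a => (g a).map φ) where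
  mul a b := by rw [← Polynomial.map_mul, h.mul, Matrix.map_apply]
  sum := by simp only [← Polynomial.map_mul, ← Polynomial.map_sum, h.sum, Polynomial.map_one]
  norm := by rw [Polynomial.coeff_map, h.norm, map_one]

theorem Fac.unique {K : Type u} [Field K] {n : ℕ} {E : Matrix (Fin n) (Fin n) K[X]} {i : Fin n}
    (hi : (E i i).coeff 0 ≠ 0) {f g f' g' : Fin n → K[X]} (h : Fac E i f g) (h' : Fac E i f' g') :
    f = f' ∧ g = g' := by
  set l := ∑ a, g a * f' a
  set m := ∑ a, g' a * f a
  have hl : ∀ a, f' a = f a * l := fun a => by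
    calc f' a = ∑ b, f' a * g' b * f' b := by
          conv_lhs => rw [← mul_one (f' a), ← h'.sum, Finset.mul_sum]
          simp only [mul_assoc]
      _ = ∑ b, f a * (g b * f' b) := by simp only [h'.mul, ← h.mul, mul_assoc]
      _ = _ := by rw [Finset.mul_sum]
  have hm : ∀ a, f a = f' a * m := fun a => by
    calc f a = ∑ b, f a * g b * f b := by
          conv_lhs => rw [← mul_one (f a), ← h.sum, Finset.mul_sum]
          simp only [mul_assoc]
      _ = ∑ b, f' a * (g' b * f b) := by simp only [h.mul, ← h'.mul, mul_assoc]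
      _ = _ := by rw [Finset.mul_sum]
  have hne : f i ≠ 0 := fun h0 => hi (by rw [← h.mul, h0, zero_mul, coeff_zero])
  have hlm : l * m = 1 := by
    refine mul_left_cancel₀ hne ?_
    rw [mul_one, ← mul_assoc, ← hl, ← hm]
  obtain ⟨c, -, hc⟩ := Polynomial.isUnit_iff.1 (IsUnit.of_mul_eq_one _ hlm)
  have hgi : l * g' i = g i := by
    refine mul_left_cancel₀ hne ?_
    rw [← mul_assoc, ← hl, h'.mul, h.mul]
  have hl1 : l = 1 := by
    have h1 := congrArg (fun p : K[X] => p.coeff 0) hgi
    simp only [← hc, coeff_C_mul, h'.norm, h.norm, mul_one] at h1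
    rw [← hc, h1, map_one]
  have hf : f = f' := funext fun a => by rw [hl a, hl1, mul_one]
  exact ⟨hf, funext fun b => mul_left_cancel₀ hne (by rw [h.mul, hf, h'.mul])⟩

variable {R : Type u} [CommRing R] {P : Type u} [AddCommGroup P] [Module R[X] P] {n : ℕ}
  {ι : P →ₗ[R[X]] (Fin n → R[X])} {p : (Fin n → R[X]) →ₗ[R[X]] P}

/-- A generator of a base change gives a factorization. -/
theorem exists_mul (hp : p ∘ₗ ι = LinearMap.id) (S : Type u) [CommRing S] [Algebra R[X] S]
    (θ : S ⊗[R[X]] P ≃ₗ[S] S) :
    ∃ f g : Fin n → S, (∀ a b, f a * g b = algebraMap R[X] S (LinearMap.toMatrix' (ι ∘ₗ p) a b)) ∧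
      ∑ a, g a * f a = 1 := by
  classical
  refine ⟨inclS S ι (θ.symm 1), fun b => θ (projS S p (Pi.single b 1)), fun a b => ?_, ?_⟩
  · have h1 : inclS S ι (projS S p (Pi.single b 1)) a =
        θ (projS S p (Pi.single b 1)) * inclS S ι (θ.symm 1) a := by
      conv_lhs => rw [← θ.symm_apply_apply (projS S p (Pi.single b 1))]
      rw [← mul_one (θ (projS S p (Pi.single b 1))), ← smul_eq_mul, map_smul, map_smul, Pi.smul_apply,
        smul_eq_mul, smul_eq_mul, mul_one]
    rw [mul_comm, ← h1, inclS_projS]
    simp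
  · have h1 := congrArg θ (projS_inclS ι p hp (θ.symm 1))
    rw [θ.apply_symm_apply] at h1
    conv_rhs => rw [← h1, ← Finset.univ_sum_single (inclS S ι (θ.symm 1))]
    rw [map_sum, map_sum]
    refine Finset.sum_congr rfl fun a _ => ?_
    rw [show (Pi.single a (inclS S ι (θ.symm 1) a) : Fin n → S) =
      inclS S ι (θ.symm 1) a • Pi.single a 1 by rw [← Pi.single_smul, smul_eq_mul, mul_one],
      map_smul, map_smul, smul_eq_mul, mul_comm]

theorem exists_fac_field [Module.Invertible R[X] P] (hp : p ∘ₗ ι = LinearMap.id) {K : Type u} [Field K]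
    (φ : R →+* K) {i : Fin n} (hi : φ ((LinearMap.toMatrix' (ι ∘ₗ p) i i).coeff 0) ≠ 0) :
    ∃ f g, Fac ((LinearMap.toMatrix' (ι ∘ₗ p)).map (Polynomial.map φ)) i f g := by
  letI : Algebra R[X] K[X] := (Polynomial.mapRingHom φ).toAlgebra
  haveI : Module.Free K[X] (K[X] ⊗[R[X]] P) := inferInstance
  obtain ⟨θ⟩ := Module.Invertible.free_iff_linearEquiv.1 this
  obtain ⟨f, g, hfg, hs⟩ := exists_mul hp K[X] θ
  set d := (g i).coeff 0
  have hd : d ≠ 0 := fun h0 => hi (by
    have h1 := congrArg (fun q : K[X] => q.coeff 0) (hfg i i)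
    simp only [mul_coeff_zero] at h1
    rw [← Polynomial.coeff_map]
    exact h1.symm.trans (by rw [show (g i).coeff 0 = 0 from h0, mul_zero]))
  refine ⟨fun a => C d * f a, fun b => C d⁻¹ * g b, ⟨fun a b => ?_, ?_, ?_⟩⟩
  · rw [mul_mul_mul_comm, ← C_mul, mul_inv_cancel₀ hd, C_1, one_mul, Matrix.map_apply, hfg]
    rfl
  · refine Eq.trans (Finset.sum_congr rfl fun a _ => ?_) hs
    rw [mul_mul_mul_comm, ← C_mul, inv_mul_cancel₀ hd, C_1, one_mul]
  · rw [coeff_C_mul, inv_mul_cancel₀ hd]

/-- Traverso's theorem for seminormal local rings. -/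
theorem free_of_invertible [IsLocalRing R] (hR : HTop.IsSeminormalRing R) [Module.Invertible R[X] P] :
    Module.Free R[X] P := by
  classical
  haveI := Groth.L28.AWN.isReduced_of_isSeminormalRing hR
  obtain ⟨n, ι, p, hp⟩ := exists_retract R[X] P
  set E := LinearMap.toMatrix' (ι ∘ₗ p) with hE
  -- an index with invertible diagonal entry at the origin
  obtain ⟨i, hi⟩ : ∃ i, IsUnit ((E i i).coeff 0) := by
    letI : Algebra R[X] R := (Polynomial.evalRingHom (0 : R)).toAlgebra
    haveI : Module.Free R (R ⊗[R[X]] P) := inferInstance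
    obtain ⟨θ⟩ := Module.Invertible.free_iff_linearEquiv.1 this
    obtain ⟨f, g, hfg, hs⟩ := exists_mul hp R θ
    by_contra hcon
    push Not at hcon
    have hmem : ∑ a, g a * f a ∈ IsLocalRing.maximalIdeal R := Ideal.sum_mem _ fun a _ => by
      rw [IsLocalRing.mem_maximalIdeal, mem_nonunits_iff, mul_comm, hfg a a]
      show ¬ IsUnit (Polynomial.eval 0 (E a a))
      rw [← coeff_zero_eq_eval_zero]
      exact hcon a
    rw [hs] at hmem
    exact (IsLocalRing.maximalIdeal.isMaximal R).ne_top ((Ideal.eq_top_iff_one _).2 hmem)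
  have hne : ∀ {K : Type u} [Field K] (φ : R →+* K), φ ((E i i).coeff 0) ≠ 0 := fun φ => (hi.map φ).ne_zero
  let T := ∀ P : PrimeSpectrum R, P.asIdeal.ResidueField
  choose f g hfg using fun P : PrimeSpectrum R =>
    exists_fac_field hp (algebraMap R P.asIdeal.ResidueField) (i := i) (hne _)
  let N := (Finset.univ.sup fun ab : Fin n × Fin n => (E ab.1 ab.2).natDegree) + 1
  have hdeg : ∀ P a, (f P a).natDegree < N ∧ (g P a).natDegree < N := by
    intro P a
    have hfi : f P i * g P i ≠ 0 := fun h0 => hne (algebraMap R P.asIdeal.ResidueField) (by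
      rw [← Polynomial.coeff_map, show (E i i).map _ = f P i * g P i from ((hfg P).mul i i).symm, h0, coeff_zero])
    have hle : ∀ a b, ((E a b).map (algebraMap R P.asIdeal.ResidueField)).natDegree < N := fun a b =>
      Nat.lt_succ_of_le ((natDegree_map_le).trans
        (Finset.le_sup (f := fun ab : Fin n × Fin n => (E ab.1 ab.2).natDegree) (Finset.mem_univ (a, b))))
    constructor
    · rcases eq_or_ne (f P a) 0 with h0 | h0
      · rw [h0, natDegree_zero]; omega
      have := hle a i
      rw [show (E a i).map _ = f P a * g P i from ((hfg P).mul a i).symm,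
        natDegree_mul h0 (right_ne_zero_of_mul hfi)] at this
      omega
    · rcases eq_or_ne (g P a) 0 with h0 | h0
      · rw [h0, natDegree_zero]; omega
      have := hle i a
      rw [show (E i a).map _ = f P i * g P a from ((hfg P).mul i a).symm,
        natDegree_mul (left_ne_zero_of_mul hfi) h0] at this
      omega
  let F : Fin n → T[X] := fun a => ∑ d ∈ Finset.range N, C (fun P => (f P a).coeff d) * X ^ d
  let G : Fin n → T[X] := fun a => ∑ d ∈ Finset.range N, C (fun P => (g P a).coeff d) * X ^ d
  let ev : ∀ P : PrimeSpectrum R, T →+* P.asIdeal.ResidueField := fun P =>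
    Pi.evalRingHom (fun P : PrimeSpectrum R => P.asIdeal.ResidueField) P
  have hF : ∀ P a, (F a).map (ev P) = f P a ∧ (G a).map (ev P) = g P a := by
    intro P a
    constructor
    · conv_rhs => rw [(f P a).as_sum_range' N (hdeg P a).1]
      rw [Polynomial.map_sum]
      exact Finset.sum_congr rfl fun d _ => by
        rw [Polynomial.map_mul, map_C, Polynomial.map_pow, map_X, ← C_mul_X_pow_eq_monomial]; rfl
    · conv_rhs => rw [(g P a).as_sum_range' N (hdeg P a).2]
      rw [Polynomial.map_sum]
      exact Finset.sum_congr rfl fun d _ => by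
        rw [Polynomial.map_mul, map_C, Polynomial.map_pow, map_X, ← C_mul_X_pow_eq_monomial]; rfl
  have hext : ∀ {x y : T[X]}, (∀ P, x.map (ev P) = y.map (ev P)) → x = y := fun {x y} h =>
    Polynomial.ext fun d => funext fun P => by
      have := congrArg (fun q => q.coeff d) (h P)
      simp only [Polynomial.coeff_map] at this
      exact this
  have hcomp : ∀ P, (ev P).comp (algebraMap R T) = algebraMap R P.asIdeal.ResidueField := fun P => rfl
  have hFG : Fac (E.map (Polynomial.map (algebraMap R T))) i F G :=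
    ⟨fun a b => hext fun P => by
      rw [Polynomial.map_mul, (hF P a).1, (hF P b).2, (hfg P).mul, Matrix.map_apply, Matrix.map_apply,
        Polynomial.map_map, hcomp],
     hext fun P => by
      rw [Polynomial.map_sum, Polynomial.map_one, ← (hfg P).sum]
      exact Finset.sum_congr rfl fun a _ => by rw [Polynomial.map_mul, (hF P a).1, (hF P a).2],
     funext fun P => by
      have := congrArg (fun q => q.coeff 0) (hF P i).2
      simp only [Polynomial.coeff_map] at this
      exact this.trans (hfg P).norm⟩
  have hG0 : (G i).coeff 0 = 1 := hFG.norm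
  have hF0 : (F i).coeff 0 = algebraMap R T ((E i i).coeff 0) := by
    have h1 := congrArg (fun q : T[X] => q.coeff 0) (hFG.mul i i)
    simpa [mul_coeff_zero, hG0, Polynomial.coeff_map] using h1
  obtain ⟨iu, hiu⟩ := hi.exists_left_inv
  -- integrality
  have hmon : ∀ (q : T[X]) (M : ℕ), q.natDegree ≤ M → q.coeff 0 = 1 → (reflect M q).Monic := fun q M hM h0 =>
    monic_of_natDegree_le_of_coeff_eq_one M (natDegree_le_iff_coeff_eq_zero.2 fun k hk => by
      rw [coeff_reflect, revAt_eq_self_of_lt hk]
      exact coeff_eq_zero_of_natDegree_lt (lt_of_le_of_lt hM hk))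
      (by rw [coeff_reflect, revAt_le le_rfl, Nat.sub_self, h0])
  set F' := C (algebraMap R T iu) * F i with hF'
  have hF'0 : F'.coeff 0 = 1 := by rw [hF', coeff_C_mul, hF0, ← map_mul, hiu, map_one]
  have hint1 : ∀ d, IsIntegral R (F'.coeff d) ∧ IsIntegral R ((G i).coeff d) := by
    set M := max F'.natDegree (max (G i).natDegree (C iu * E i i).natDegree)
    have hq : F' * G i = (C iu * E i i).map (algebraMap R T) := by
      rw [hF', mul_assoc, hFG.mul, Polynomial.map_mul, map_C, Matrix.map_apply]
    have hm : (reflect (M + M) (C iu * E i i)).Monic :=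
      monic_of_natDegree_le_of_coeff_eq_one (M + M) (natDegree_le_iff_coeff_eq_zero.2 fun k hk => by
        rw [coeff_reflect, revAt_eq_self_of_lt hk]
        exact coeff_eq_zero_of_natDegree_lt (by omega))
        (by rw [coeff_reflect, revAt_le le_rfl, Nat.sub_self, coeff_C_mul, hiu])
    have hdvd : (reflect (M + M) (C iu * E i i)).map (algebraMap R T) = reflect M F' * reflect M (G i) := by
      rw [← reflect_map, ← hq, reflect_mul _ _ (le_max_left _ _) ((le_max_left _ _).trans (le_max_right _ _))]
    have key : ∀ q : T[X], q.natDegree ≤ M → q.coeff 0 = 1 → reflect M q ∣ reflect M F' * reflect M (G i) →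
        ∀ d, IsIntegral R (q.coeff d) := fun q hM h0 hd d => by
      have := Polynomial.isIntegral_coeff_of_dvd _ _ hm (hmon q M hM h0) (hdvd ▸ hd) (revAt M d)
      rwa [coeff_reflect, revAt_invol] at this
    exact fun d => ⟨key F' (le_max_left _ _) hF'0 (dvd_mul_right _ _) d,
      key (G i) ((le_max_left _ _).trans (le_max_right _ _)) hG0 (dvd_mul_left _ _) d⟩
  have hdiv : ∀ q h : T[X], q.coeff 0 = 1 → (∀ d, IsIntegral R (q.coeff d)) →
      (∀ d, IsIntegral R ((q * h).coeff d)) → ∀ d, IsIntegral R (h.coeff d) := by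
    intro q h h0 hq hqh d
    induction d using Nat.strong_induction_on with
    | _ d ih =>
      have h1 : h.coeff d = (q * h).coeff d - ∑ x ∈ Finset.range d, q.coeff (d - x) * h.coeff x := by
        rw [mul_comm q h, coeff_mul, Finset.Nat.sum_antidiagonal_eq_sum_range_succ
          (fun a b => h.coeff a * q.coeff b), Finset.sum_range_succ, Nat.sub_self, h0, mul_one,
          Finset.sum_congr rfl fun x _ => mul_comm (h.coeff x) (q.coeff (d - x)), add_sub_cancel_left]
      rw [h1]
      exact (hqh d).sub (IsIntegral.sum _ fun x hx => (hq _).mul (ih x (Finset.mem_range.1 hx)))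
  have hE' : ∀ a b d, IsIntegral R (((E.map (Polynomial.map (algebraMap R T))) a b).coeff d) := fun a b d => by
    rw [Matrix.map_apply, Polynomial.coeff_map]; exact isIntegral_algebraMap
  have hintF : ∀ a d, IsIntegral R ((F a).coeff d) := fun a => hdiv (G i) (F a) hG0 (fun d => (hint1 d).2)
    fun d => by rw [mul_comm, hFG.mul]; exact hE' a i d
  have hintG : ∀ a d, IsIntegral R ((G a).coeff d) := fun a => hdiv F' (G a) hF'0 (fun d => (hint1 d).1)
    fun d => by
      rw [hF', mul_assoc, hFG.mul, coeff_C_mul]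
      exact isIntegral_algebraMap.mul (hE' i a d)
  -- the generated subalgebra is `R`
  let S : Set T := Set.range (fun x : Fin n × ℕ => (F x.1).coeff x.2) ∪
    Set.range (fun x : Fin n × ℕ => (G x.1).coeff x.2)
  let B : Subalgebra R T := Algebra.adjoin R S
  have hBint : (algebraMap R B).IsIntegral := fun b => by
    refine (isIntegral_algHom_iff B.val Subtype.val_injective).1 ?_
    refine (Algebra.adjoin_le (S := integralClosure R T) ?_) b.2
    rintro _ (⟨x, rfl⟩ | ⟨x, rfl⟩)
    · exact hintF _ _
    · exact hintG _ _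
  haveI : IsReduced B := isReduced_of_injective B.val Subtype.val_injective
  let Fb : Fin n → B[X] := fun a => ∑ d ∈ Finset.range N, C (⟨(F a).coeff d, Algebra.subset_adjoin (Or.inl ⟨(a, d), rfl⟩)⟩ : B) * X ^ d
  let Gb : Fin n → B[X] := fun a => ∑ d ∈ Finset.range N, C (⟨(G a).coeff d, Algebra.subset_adjoin (Or.inr ⟨(a, d), rfl⟩)⟩ : B) * X ^ d
  have hdegF : ∀ a d, N ≤ d → (F a).coeff d = 0 ∧ (G a).coeff d = 0 := fun a d hd => by
    constructor <;> funext P
    · have := congrArg (fun q => q.coeff d) (hF P a).1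
      simp only [Polynomial.coeff_map] at this
      exact this.trans (coeff_eq_zero_of_natDegree_lt ((hdeg P a).1.trans_le hd))
    · have := congrArg (fun q => q.coeff d) (hF P a).2
      simp only [Polynomial.coeff_map] at this
      exact this.trans (coeff_eq_zero_of_natDegree_lt ((hdeg P a).2.trans_le hd))
  have hFb : ∀ a, (Fb a).map B.val.toRingHom = F a ∧ (Gb a).map B.val.toRingHom = G a := fun a => by
    constructor <;> ext d : 1 <;>
      simp only [Fb, Gb, Polynomial.map_sum, Polynomial.map_mul, map_C, Polynomial.map_pow, map_X,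
        finset_sum_coeff, coeff_C_mul_X_pow, Finset.sum_ite_eq, Finset.mem_range] <;>
      split_ifs with hd
    · rfl
    · exact ((hdegF a d (not_lt.1 hd)).1).symm
    · rfl
    · exact ((hdegF a d (not_lt.1 hd)).2).symm
  have hmapinj : Function.Injective (Polynomial.map B.val.toRingHom) :=
    Polynomial.map_injective _ Subtype.val_injective
  have hFbG : Fac (E.map (Polynomial.map (algebraMap R B))) i Fb Gb := by
    refine ⟨fun a b => hmapinj ?_, hmapinj ?_, ?_⟩
    · rw [Polynomial.map_mul, (hFb a).1, (hFb b).2, hFG.mul, Matrix.map_apply, Matrix.map_apply, Polynomial.map_map]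
      rfl
    · rw [Polynomial.map_sum, Polynomial.map_one, ← hFG.sum]
      exact Finset.sum_congr rfl fun a _ => by rw [Polynomial.map_mul, (hFb a).1, (hFb a).2]
    · apply Subtype.ext
      have := congrArg (fun q => q.coeff 0) (hFb i).2
      simp only [Polynomial.coeff_map] at this
      exact this.trans hG0
  -- values at a point of `B` are those of the point of `R` below
  have key : ∀ (Q : Ideal B) [Q.IsPrime] (P : PrimeSpectrum R) (hPQ : P.asIdeal = Q.comap (algebraMap R B)),
      ∃ j : P.asIdeal.ResidueField →+* Q.ResidueField,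
        (∀ r, j (algebraMap R P.asIdeal.ResidueField r) = algebraMap B Q.ResidueField (algebraMap R B r)) ∧
        ∀ b : B, algebraMap B Q.ResidueField b = j (ev P b.1) := by
    intro Q _ P hPQ
    let j : P.asIdeal.ResidueField →+* Q.ResidueField := Ideal.ResidueField.map P.asIdeal Q (algebraMap R B) hPQ
    refine ⟨j, fun r => Ideal.ResidueField.map_algebraMap _ _ _ _ r, fun b => ?_⟩
    have hj : j.comp (algebraMap R P.asIdeal.ResidueField) = (algebraMap B Q.ResidueField).comp (algebraMap R B) :=
      RingHom.ext fun r => Ideal.ResidueField.map_algebraMap _ _ _ _ r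
    have h1 := hFbG.map (algebraMap B Q.ResidueField)
    have h2 := (hfg P).map j
    have hmat : (E.map (Polynomial.map (algebraMap R B))).map (Polynomial.map (algebraMap B Q.ResidueField)) =
        (E.map (Polynomial.map (algebraMap R P.asIdeal.ResidueField))).map (Polynomial.map j) :=
      Matrix.ext fun a b => by simp only [Matrix.map_apply, Polynomial.map_map, hj]
    rw [hmat] at h1
    obtain ⟨e1, e2⟩ := h1.unique (by
      rw [Matrix.map_apply, Matrix.map_apply, Polynomial.coeff_map, Polynomial.coeff_map]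
      exact (hi.map (algebraMap R P.asIdeal.ResidueField) |>.map j).ne_zero) h2
    suffices h : (algebraMap B Q.ResidueField).comp (RingHom.id B) = j.comp ((ev P).comp B.val.toRingHom) from
      RingHom.congr_fun h b
    let χ₁ : B →+* Q.ResidueField := algebraMap B Q.ResidueField
    let χ₂ : B →+* Q.ResidueField := j.comp ((ev P).comp B.val.toRingHom)
    show χ₁ = χ₂
    ext ⟨x, hx⟩
    induction hx using Algebra.adjoin_induction with
    | mem x hx =>
      rcases hx with ⟨⟨a, d⟩, hx⟩ | ⟨⟨a, d⟩, hx⟩ <;> subst hx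
      · by_cases hd : d < N
        · have h3 := congrArg (fun q => q.coeff d) (congrFun e1 a)
          simp only [Polynomial.coeff_map, Fb, finset_sum_coeff, coeff_C_mul_X_pow, Finset.sum_ite_eq,
            Finset.mem_range, if_pos hd] at h3
          rw [← (hF P a).1, Polynomial.coeff_map] at h3
          exact h3
        · exact (congrArg χ₁ (Subtype.ext (hdegF a d (not_lt.1 hd)).1 : _ = (0 : B))).trans
            ((map_zero χ₁).trans ((congrArg χ₂ (Subtype.ext (hdegF a d (not_lt.1 hd)).1 : _ = (0 : B))).trans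
              (map_zero χ₂)).symm)
      · by_cases hd : d < N
        · have h3 := congrArg (fun q => q.coeff d) (congrFun e2 a)
          simp only [Polynomial.coeff_map, Gb, finset_sum_coeff, coeff_C_mul_X_pow, Finset.sum_ite_eq,
            Finset.mem_range, if_pos hd] at h3
          rw [← (hF P a).2, Polynomial.coeff_map] at h3
          exact h3
        · exact (congrArg χ₁ (Subtype.ext (hdegF a d (not_lt.1 hd)).2 : _ = (0 : B))).trans
            ((map_zero χ₁).trans ((congrArg χ₂ (Subtype.ext (hdegF a d (not_lt.1 hd)).2 : _ = (0 : B))).trans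
              (map_zero χ₂)).symm)
    | algebraMap r => exact (RingHom.congr_fun hj r).symm
    | add x y hx hy ihx ihy =>
      exact (map_add χ₁ ⟨x, hx⟩ ⟨y, hy⟩).trans ((congrArg₂ (· + ·) ihx ihy).trans (map_add χ₂ ⟨x, hx⟩ ⟨y, hy⟩).symm)
    | mul x y hx hy ihx ihy =>
      exact (map_mul χ₁ ⟨x, hx⟩ ⟨y, hy⟩).trans ((congrArg₂ (· * ·) ihx ihy).trans (map_mul χ₂ ⟨x, hx⟩ ⟨y, hy⟩).symm)
  have hTinj : Function.Injective (algebraMap R T) := (injective_iff_map_eq_zero _).2 fun r hr => by
    refine IsReduced.eq_zero r (nilpotent_iff_mem_prime.2 fun J hJ => ?_)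
    exact Ideal.algebraMap_residueField_eq_zero.1 (congrFun hr ⟨J, hJ⟩)
  have hsurj : Function.Surjective (algebraMap R B) := by
    refine Groth.L28.AWN.surjective_of_integral (algebraMap R B) hR
      (fun x y h => hTinj (congrArg Subtype.val h)) hBint (fun Q Q' hQ hQ' h => ?_) fun Q hQ c => ?_
    · ext b
      obtain ⟨j, -, hb⟩ := key Q ⟨Q.comap (algebraMap R B), inferInstance⟩ rfl
      obtain ⟨j', -, hb'⟩ := key Q' ⟨Q.comap (algebraMap R B), inferInstance⟩ h
      rw [← Ideal.algebraMap_residueField_eq_zero (I := Q), ← Ideal.algebraMap_residueField_eq_zero (I := Q'),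
        hb b, hb' b]
      exact (map_eq_zero_iff j j.injective).trans (map_eq_zero_iff j' j'.injective).symm
    · let P : PrimeSpectrum R := ⟨Q.comap (algebraMap R B), inferInstance⟩
      obtain ⟨j, hjr, hb⟩ := key Q P rfl
      obtain ⟨b, s, hs, hbs⟩ := Groth.L28.AWN.exists_frac P.asIdeal (ev P c.1)
      refine ⟨1, 0, b, s, Or.inl rfl, hs, ?_⟩
      rw [pow_zero, pow_one, ← Ideal.algebraMap_residueField_eq_zero (I := Q), map_sub, map_mul, sub_eq_zero,
        hb c, ← hjr, ← hjr, ← map_mul, mul_comm]
      exact congrArg j hbs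
  let eR := RingEquiv.ofBijective (algebraMap R B) ⟨fun x y h => hTinj (congrArg Subtype.val h), hsurj⟩
  have hback : Fac E i (fun a => (Fb a).map eR.symm.toRingHom) (fun a => (Gb a).map eR.symm.toRingHom) := by
    have := hFbG.map eR.symm.toRingHom
    rwa [show (E.map (Polynomial.map (algebraMap R B))).map (Polynomial.map eR.symm.toRingHom) = E from
      Matrix.ext fun a b => by
        rw [Matrix.map_apply, Matrix.map_apply, Polynomial.map_map,
          show eR.symm.toRingHom.comp (algebraMap R B) = RingHom.id R from RingHom.ext fun r => eR.symm_apply_apply r,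
          Polynomial.map_id]] at this
  set f₀ := fun a => (Fb a).map eR.symm.toRingHom
  set g₀ := fun a => (Gb a).map eR.symm.toRingHom
  have hfix : E *ᵥ f₀ = f₀ := funext fun a => by
    simp only [Matrix.mulVec, dotProduct, ← hback.mul, mul_assoc, ← Finset.mul_sum, hback.sum, mul_one]
  have hpf : ∀ v, ι (p v) = E *ᵥ v := fun v => by
    rw [← Matrix.toLin'_apply, Matrix.toLin'_toMatrix', LinearMap.comp_apply]
  let θ : P →ₗ[R[X]] R[X] := ∑ a, g₀ a • (LinearMap.proj a ∘ₗ ι)
  have hθ : ∀ x, θ x = ∑ a, g₀ a * ι x a := fun x => by simp [θ, LinearMap.sum_apply]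
  refine Module.Free.of_equiv (LinearEquiv.ofLinearMap (p ∘ₗ LinearMap.toSpanSingleton R[X] _ f₀) θ ?_ ?_)
  · refine LinearMap.ext fun x => ?_
    simp only [LinearMap.comp_apply, LinearMap.toSpanSingleton_apply, LinearMap.id_apply]
    conv_rhs => rw [← LinearMap.id_apply (R := R[X]) x, ← hp, LinearMap.comp_apply, ← LinearMap.id_apply (R := R[X]) x, ← hp,
      LinearMap.comp_apply, hpf]
    congr 1
    funext a
    rw [Pi.smul_apply, smul_eq_mul, hθ, Finset.sum_mul]
    simp only [Matrix.mulVec, dotProduct, ← hback.mul]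
    exact Finset.sum_congr rfl fun b _ => by ring
  · refine LinearMap.ext_ring ?_
    simp only [LinearMap.comp_apply, LinearMap.toSpanSingleton_apply, one_smul, LinearMap.id_apply]
    rw [hθ, hpf, hfix]
    exact hback.sum

end L01.Traverso
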