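import Groth.Agent.S16077
import Groth.Agent.S9405
import Mathlib.RingTheory.MvPowerSeries.Equiv
import Mathlib.RingTheory.MvPowerSeries.Trunc
import Mathlib.RingTheory.MvPowerSeries.Inverse
import Mathlib.RingTheory.LocalRing.Module
import Mathlib.RingTheory.Filtration
import Mathlib.LinearAlgebra.TensorProduct.Basis
import Mathlib.RingTheory.Flat.Basic
import Mathlib.RingTheory.TensorProduct.Free
import Mathlib.RingTheory.OrzechProperty

/-!
# Power series presentations of finite free algebras with truncated special fibre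

If `A` is finite free over a complete noetherian local ring `R` and its special fibre is
`k[X]/(X_i ^ N_i)`, then `A` is `R[[X]]/(X_i ^ N_i + g_i)` with `g_i` small.
-/

set_option autoImplicit false

universe u v

open TensorProduct Finsupp

noncomputable section

namespace Groth.L01.TruncPresent

variable {n : ℕ} (N : Fin n → ℕ)

/-- Exponents in the box. -/
abbrev Box : Type := (i : Fin n) → Fin (N i)

/-- The exponent vector of a point of the box. -/
def exp (e : Box N) : Fin n →₀ ℕ := Finsupp.equivFunOnFinite.symm fun i => (e i : ℕ)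

theorem exp_apply (e : Box N) (i : Fin n) : exp N e i = e i := rfl

theorem exp_injective : Function.Injective (exp N) := fun _ _ h =>
  funext fun i => Fin.ext (by simpa [exp_apply] using DFunLike.congr_fun h i)

theorem exists_exp_eq {d : Fin n →₀ ℕ} (hd : ∀ i, d i < N i) : ∃ e, exp N e = d :=
  ⟨fun i => ⟨d i, hd i⟩, by ext i; rfl⟩

section Poly

variable (S : Type u) [CommRing S]

/-- The box-supported polynomial with given coefficients. -/
def boxPoly : (Box N → S) →ₗ[S] MvPolynomial (Fin n) S :=
  Fintype.linearCombination S fun e => MvPolynomial.monomial (exp N e) (1 : S)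

theorem boxPoly_apply (c : Box N → S) :
    boxPoly N S c = ∑ e, MvPolynomial.monomial (exp N e) (c e) := by
  simp [boxPoly, Fintype.linearCombination_apply, MvPolynomial.smul_monomial]

theorem coeff_boxPoly_exp (c : Box N → S) (e : Box N) :
    (boxPoly N S c).coeff (exp N e) = c e := by
  classical
  simp [boxPoly_apply, MvPolynomial.coeff_sum, MvPolynomial.coeff_monomial, (exp_injective N).eq_iff]

theorem coeff_boxPoly_of_le (c : Box N → S) {d : Fin n →₀ ℕ} {i : Fin n} (h : N i ≤ d i) :
    (boxPoly N S c).coeff d = 0 := by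
  classical
  rw [boxPoly_apply, MvPolynomial.coeff_sum]
  refine Finset.sum_eq_zero fun e _ => ?_
  rw [MvPolynomial.coeff_monomial, if_neg]
  rintro rfl
  exact absurd h (not_le.2 (e i).isLt)

variable {S}

/-- A series supported outside the box is in the ideal of the pure powers. -/
theorem mem_span_of_coeff (s : Finset (Fin n)) : ∀ h : MvPowerSeries (Fin n) S,
    (∀ d, (∀ i ∈ s, d i < N i) → MvPowerSeries.coeff d h = 0) →
    h ∈ Ideal.span (Set.range fun i => (MvPowerSeries.X i : MvPowerSeries (Fin n) S) ^ N i) := by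
  classical
  induction s using Finset.induction_on with
  | empty =>
    intro h hh
    rw [show h = 0 from MvPowerSeries.ext fun d => by simpa using hh d (by simp)]
    exact zero_mem _
  | @insert a s ha IH =>
    intro h hh
    let h1 : MvPowerSeries (Fin n) S := fun d => if N a ≤ d a then MvPowerSeries.coeff d h else 0
    have hc : ∀ d, MvPowerSeries.coeff d h1 = if N a ≤ d a then MvPowerSeries.coeff d h else 0 :=
      fun d => rfl
    obtain ⟨q, hq⟩ := (MvPowerSeries.X_pow_dvd_iff (φ := h1) (s := a) (n := N a)).2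
      fun d hd => by rw [hc, if_neg (not_le.2 hd)]
    have h2 : h - h1 ∈ Ideal.span (Set.range fun i => (MvPowerSeries.X i : MvPowerSeries (Fin n) S) ^ N i) := by
      refine IH _ fun d hd => ?_
      rw [map_sub, hc]
      by_cases hle : N a ≤ d a
      · rw [if_pos hle, sub_self]
      · rw [if_neg hle, sub_zero]
        exact hh d (Finset.forall_mem_insert _ _ _ |>.2 ⟨not_le.1 hle, hd⟩)
    have h1m : h1 ∈ Ideal.span (Set.range fun i => (MvPowerSeries.X i : MvPowerSeries (Fin n) S) ^ N i) := by
      rw [hq]; exact Ideal.mul_mem_right _ _ (Ideal.subset_span ⟨a, rfl⟩)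
    simpa using add_mem h2 h1m

theorem sub_boxPoly_mem (h : MvPowerSeries (Fin n) S) :
    h - ↑(boxPoly N S fun e => MvPowerSeries.coeff (exp N e) h) ∈
      Ideal.span (Set.range fun i => (MvPowerSeries.X i : MvPowerSeries (Fin n) S) ^ N i) := by
  refine mem_span_of_coeff N Finset.univ _ fun d hd => ?_
  obtain ⟨e, rfl⟩ := exists_exp_eq N fun i => hd i (Finset.mem_univ i)
  rw [map_sub, MvPolynomial.coeff_coe, coeff_boxPoly_exp, sub_self]

end Poly

section Trunc

variable (k : Type u) [Field k]

theorem boxPoly_trunc_bijective :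
    Function.Bijective ((Ideal.Quotient.mkₐ k (Ideal.span (Set.range fun i : Fin n =>
      (MvPolynomial.X i : MvPolynomial (Fin n) k) ^ N i))).toLinearMap ∘ₗ boxPoly N k) := by
  classical
  set I := Ideal.span (Set.range fun i : Fin n => (MvPolynomial.X i : MvPolynomial (Fin n) k) ^ N i)
  set T := (Ideal.Quotient.mkₐ k I).toLinearMap ∘ₗ boxPoly N k
  have hmon : ∀ (d : Fin n →₀ ℕ) (c : k), Ideal.Quotient.mk I (MvPolynomial.monomial d c) ∈ LinearMap.range T := by
    intro d c
    by_cases hd : ∀ i, d i < N i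
    · obtain ⟨e, rfl⟩ := exists_exp_eq N hd
      refine ⟨Pi.single e c, ?_⟩
      simp [T, boxPoly_apply, Pi.single_apply, apply_ite (MvPolynomial.monomial _)]
    · push Not at hd
      obtain ⟨i, hi⟩ := hd
      rw [Ideal.Quotient.eq_zero_iff_mem.2]
      · exact zero_mem _
      · have : MvPolynomial.monomial d c =
            MvPolynomial.X i ^ N i * MvPolynomial.monomial (d - Finsupp.single i (N i)) c := by
          rw [MvPolynomial.X_pow_eq_monomial, MvPolynomial.monomial_mul, one_mul,
            add_tsub_cancel_of_le (Finsupp.single_le_iff.2 hi)]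
        rw [this]
        exact Ideal.mul_mem_right _ _ (Ideal.subset_span ⟨i, rfl⟩)
  have hs : Function.Surjective T := by
    intro x
    obtain ⟨P, rfl⟩ := Ideal.Quotient.mk_surjective x
    change Ideal.Quotient.mk I P ∈ LinearMap.range T
    induction P using MvPolynomial.induction_on' with
    | monomial d c => exact hmon d c
    | add a b ha hb => rw [map_add]; exact add_mem ha hb
  haveI : Module.Finite k (MvPolynomial (Fin n) k ⧸ I) := Module.Finite.of_surjective T hs
  refine ⟨(LinearMap.injective_iff_surjective_of_finrank_eq_finrank ?_).2 hs, hs⟩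
  rw [Module.finrank_fintype_fun_eq_card, Groth.Agent.S16077.finrank_trunc k N, Fintype.card_pi]
  simp

end Trunc

variable {R : Type u} [CommRing R] [IsLocalRing R]

local notation "k₀" => IsLocalRing.ResidueField R

variable {A : Type v} [CommRing A] [Algebra R A] [Module.Finite R A]

omit [IsLocalRing R] in
theorem aeval_mem_pow (a : Fin n → A) (M : ℕ) (P : MvPolynomial (Fin n) R)
    (hP : ∀ d : Fin n →₀ ℕ, d.degree < M → P.coeff d = 0) :
    MvPolynomial.aeval a P ∈ Ideal.span (Set.range a) ^ M := by
  classical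
  rw [P.as_sum, map_sum]
  refine Ideal.sum_mem _ fun d hd => ?_
  rw [MvPolynomial.aeval_monomial]
  refine Ideal.mul_mem_left _ _ ?_
  have hM : M ≤ d.degree := not_lt.1 fun h => MvPolynomial.mem_support_iff.1 hd (hP d h)
  refine Ideal.pow_le_pow_right hM ?_
  rw [Finsupp.prod, Finsupp.degree_apply, ← Finset.prod_pow_eq_pow_sum]
  refine Ideal.prod_mem_prod fun i _ => Ideal.pow_mem_pow ?_ _
  exact Ideal.subset_span ⟨i, rfl⟩

theorem exists_present [IsNoetherianRing R] [IsAdicComplete (IsLocalRing.maximalIdeal R) R]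
    [Module.Free R A] (hN : ∀ i, 0 < N i)
    (ψ : (MvPolynomial (Fin n) k₀ ⧸ Ideal.span (Set.range fun i : Fin n =>
      (MvPolynomial.X i : MvPolynomial (Fin n) k₀) ^ N i)) ≃ₐ[k₀] k₀ ⊗[R] A) :
    ∃ g : Fin n → MvPolynomial (Fin n) R,
      (∀ i, (∀ d, (g i).coeff d ∈ IsLocalRing.maximalIdeal R) ∧ (g i).degreeOf i < N i) ∧
      Nonempty (A ≃ₐ[R] (MvPowerSeries (Fin n) R ⧸
        Ideal.span (Set.range fun i => (MvPowerSeries.X i : MvPowerSeries (Fin n) R) ^ N i + ↑(g i)))) := by
  classical
  set m := IsLocalRing.maximalIdeal R with hm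
  set I := Ideal.span (Set.range fun i : Fin n => (MvPolynomial.X i : MvPolynomial (Fin n) k₀) ^ N i) with hI
  let π : A →ₐ[R] k₀ ⊗[R] A := Algebra.TensorProduct.includeRight
  have hπ : Function.Surjective π :=
    TensorProduct.mk_surjective R A k₀ Ideal.Quotient.mk_surjective
  choose a ha using fun i => hπ (ψ (Ideal.Quotient.mk I (MvPolynomial.X i)))
  let θ : MvPolynomial (Fin n) R →ₐ[R] A := MvPolynomial.aeval a
  -- compatibility of `θ` with `ψ`
  have hcomp : ∀ P, π (θ P) = ψ (Ideal.Quotient.mk I (MvPolynomial.map (IsLocalRing.residue R) P)) := by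
    intro P
    induction P using MvPolynomial.induction_on with
    | C r =>
      have h1 : Ideal.Quotient.mk I (MvPolynomial.C (IsLocalRing.residue R r)) =
          algebraMap k₀ (MvPolynomial (Fin n) k₀ ⧸ I) (IsLocalRing.residue R r) := rfl
      rw [show θ (MvPolynomial.C r) = algebraMap R A r from MvPolynomial.aeval_C _ _, π.commutes,
        MvPolynomial.map_C, h1, ψ.commutes]
      rfl
    | add p q hp hq => simp only [map_add, hp, hq]
    | mul_X p i hp =>
      simp only [map_mul, MvPolynomial.map_X, hp]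
      rw [show θ (MvPolynomial.X i) = a i from MvPolynomial.aeval_X _ _, ha]
  have hbox : ∀ c : Box N → R, MvPolynomial.map (IsLocalRing.residue R) (boxPoly N R c) =
      boxPoly N k₀ fun e => IsLocalRing.residue R (c e) := fun c => by
    simp [boxPoly_apply, map_sum, MvPolynomial.map_monomial]
  obtain ⟨hTi, hTs⟩ := boxPoly_trunc_bijective N k₀
  let T : (Box N → R) →ₗ[R] A := θ.toLinearMap ∘ₗ boxPoly N R
  -- `T` is bijective
  have hTsurj : Function.Surjective T := by
    rw [← LinearMap.range_eq_top, ← IsLocalRing.map_tensorProduct_mk_eq_top, eq_top_iff]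
    rintro y -
    obtain ⟨c', hc'⟩ := hTs (ψ.symm y)
    choose c hc using fun e => Ideal.Quotient.mk_surjective (c' e)
    refine ⟨T c, ⟨c, rfl⟩, ?_⟩
    change π (θ (boxPoly N R c)) = y
    rw [hcomp, hbox, show (fun e => IsLocalRing.residue R (c e)) = c' from funext hc]
    exact (congrArg ψ hc').trans (ψ.apply_symm_apply y)
  have hrank : Module.finrank R A = Fintype.card (Box N) := by
    have h1 : Module.finrank k₀ (k₀ ⊗[R] A) = Module.finrank R A := Module.finrank_baseChange
    rw [← h1, ← ψ.toLinearEquiv.finrank_eq, Groth.Agent.S16077.finrank_trunc k₀ N, Fintype.card_pi]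
    simp
  have hTinj : Function.Injective T := by
    let e : A ≃ₗ[R] (Box N → R) := LinearEquiv.ofFinrankEq _ _
      (by rw [hrank, Module.finrank_fintype_fun_eq_card])
    have := OrzechProperty.injective_of_surjective_endomorphism (e.toLinearMap ∘ₗ T)
      (e.surjective.comp hTsurj)
    exact Function.Injective.of_comp (f := e) this
  -- the relations
  choose c hc using fun i => hTsurj (a i ^ N i)
  let g : Fin n → MvPolynomial (Fin n) R := fun i => -boxPoly N R (c i)
  have hθXg : ∀ i, θ (MvPolynomial.X i ^ N i + g i) = 0 := fun i => by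
    rw [map_add, map_pow, show θ (MvPolynomial.X i) = a i from MvPolynomial.aeval_X _ _,
      show θ (g i) = -T (c i) from map_neg θ _, hc, add_neg_cancel]
  have hcm : ∀ i e, c i e ∈ m := by
    intro i e
    have h0 : Ideal.Quotient.mk I (MvPolynomial.map (IsLocalRing.residue R) (boxPoly N R (c i))) = 0 := by
      apply ψ.injective
      rw [← hcomp, show θ (boxPoly N R (c i)) = T (c i) from rfl, hc, map_pow, ha, ← map_pow ψ,
        ← map_pow, map_zero]
      rw [Ideal.Quotient.eq_zero_iff_mem.2
        (show (MvPolynomial.X i : MvPolynomial (Fin n) k₀) ^ N i ∈ I from Ideal.subset_span ⟨i, rfl⟩), map_zero]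
    rw [hbox] at h0
    have h1 : (fun e => IsLocalRing.residue R (c i e)) = 0 := hTi (by simpa using h0)
    exact Ideal.Quotient.eq_zero_iff_mem.1 (congrFun h1 e)
  have hgm : ∀ i d, (g i).coeff d ∈ m := by
    intro i d
    rw [show g i = -boxPoly N R (c i) from rfl, MvPolynomial.coeff_neg, boxPoly_apply,
      MvPolynomial.coeff_sum]
    refine m.neg_mem (Ideal.sum_mem _ fun e _ => ?_)
    rw [MvPolynomial.coeff_monomial]
    split_ifs
    · exact hcm i e
    · exact zero_mem _
  refine ⟨g, fun i => ⟨hgm i, ?_⟩, ?_⟩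
  · rw [MvPolynomial.degreeOf_lt_iff (hN i)]
    intro d hd
    by_contra hle
    rw [MvPolynomial.mem_support_iff, show g i = -boxPoly N R (c i) from rfl, MvPolynomial.coeff_neg,
      coeff_boxPoly_of_le N R (c i) (not_lt.1 hle)] at hd
    exact hd neg_zero
  -- a power of the ideal of the generators lies in `m A`
  obtain ⟨q, hq⟩ : ∃ q, Ideal.span (Set.range a) ^ q ≤ m.map (algebraMap R A) := by
    refine Ideal.exists_pow_le_of_le_radical_of_fg ?_ (Submodule.fg_span (Set.finite_range a))
    rw [Ideal.span_le]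
    rintro _ ⟨i, rfl⟩
    refine ⟨N i, ?_⟩
    rw [← hc i]
    change θ (boxPoly N R (c i)) ∈ _
    rw [boxPoly_apply, map_sum]
    refine Ideal.sum_mem _ fun e _ => ?_
    rw [show θ _ = _ from MvPolynomial.aeval_monomial _ _ _]
    exact Ideal.mul_mem_right _ _ (Ideal.mem_map_of_mem _ (hcm i e))
  set F : Fin n → MvPowerSeries (Fin n) R :=
    fun i => (MvPowerSeries.X i : MvPowerSeries (Fin n) R) ^ N i + ↑(g i) with hF
  set J := Ideal.span (Set.range F) with hJ
  have hFcoe : ∀ i, F i = ↑(MvPolynomial.X i ^ N i + g i : MvPolynomial (Fin n) R) := fun i => by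
    simp [hF]
  -- key: polynomials in `J` vanish in `A`
  have key : ∀ P : MvPolynomial (Fin n) R, (P : MvPowerSeries (Fin n) R) ∈ J → θ P = 0 := by
    intro P hP
    obtain ⟨h, hh⟩ := Ideal.mem_span_range_iff_exists_fun.1 hP
    have hmem : ∀ j : ℕ, θ P ∈ (m ^ j • ⊤ : Submodule R A) := by
      intro j
      let Q := P - ∑ i, MvPowerSeries.truncTotal (q * j) (h i) * (MvPolynomial.X i ^ N i + g i)
      have hQ : θ Q = θ P := by
        simp only [Q, map_sub, map_sum, map_mul, hθXg, mul_zero, Finset.sum_const_zero, sub_zero]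
      have hQ0 : ∀ d : Fin n →₀ ℕ, d.degree < q * j → Q.coeff d = 0 := by
        intro d hd
        rw [← MvPolynomial.coeff_coe]
        have : (Q : MvPowerSeries (Fin n) R) =
            ∑ i, (h i - ↑(MvPowerSeries.truncTotal (q * j) (h i))) * F i := by
          change MvPolynomial.coeToMvPowerSeries.ringHom Q = _
          simp only [Q, map_sub, map_sum, map_mul, MvPolynomial.coeToMvPowerSeries.ringHom_apply,
            ← hFcoe, sub_mul, Finset.sum_sub_distrib, hh]
        rw [this, map_sum]
        refine Finset.sum_eq_zero fun i _ => ?_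
        rw [MvPowerSeries.coeff_mul]
        refine Finset.sum_eq_zero fun x hx => ?_
        rw [Finset.HasAntidiagonal.mem_antidiagonal] at hx
        have hdeg : x.1.degree < q * j := by
          rw [← hx, map_add] at hd; omega
        rw [map_sub, MvPolynomial.coeff_coe, MvPowerSeries.coeff_truncTotal _ hdeg, sub_self, zero_mul]
      have h3 := aeval_mem_pow a (q * j) Q hQ0
      rw [pow_mul] at h3
      have h4 := Ideal.pow_right_mono hq j h3
      rw [← Ideal.map_pow, show MvPolynomial.aeval a Q = θ P from hQ] at h4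
      rw [Ideal.smul_top_eq_map]
      exact h4
    have := (Submodule.mem_iInf _).2 hmem
    rwa [Ideal.iInf_pow_smul_eq_bot_of_isLocalRing (M := A) (I := m)
      (IsLocalRing.maximalIdeal.isMaximal R).ne_top, Submodule.mem_bot] at this
  let Φ : MvPolynomial (Fin n) R →ₐ[R] MvPowerSeries (Fin n) R ⧸ J :=
    (Ideal.Quotient.mkₐ R J).comp ((MvPolynomial.coeToMvPowerSeries.algHom R).restrictScalars R)
  have hΦ : ∀ P, Φ P = Ideal.Quotient.mk J ↑P := fun P => by
    simp [Φ]
  have hker : ∀ P, Φ P = 0 → θ P = 0 := fun P hP =>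
    key P (Ideal.Quotient.eq_zero_iff_mem.1 (by rwa [hΦ] at hP))
  let U : (Box N → R) →ₗ[R] MvPowerSeries (Fin n) R ⧸ J := Φ.toLinearMap ∘ₗ boxPoly N R
  haveI : Nonempty (Box N) := ⟨fun i => ⟨0, hN i⟩⟩
  haveI : Nontrivial (MvPowerSeries (Fin n) R ⧸ J) := by
    refine nontrivial_of_ne (U fun _ => 1) 0 fun h => ?_
    have : T (fun _ => 1) = 0 := hker _ h
    have := congrFun (hTinj (this.trans (map_zero T).symm)) (Classical.arbitrary _)
    exact one_ne_zero this
  haveI : IsLocalRing (MvPowerSeries (Fin n) R ⧸ J) :=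
    IsLocalRing.of_surjective' _ Ideal.Quotient.mk_surjective
  -- `U` is surjective
  have hUsurj : Function.Surjective U := by
    haveI : IsAdicComplete m (Box N → R) := Groth.Agent.S9405.isAdicComplete_of_finite m _
    have hne : m.map (algebraMap R (MvPowerSeries (Fin n) R ⧸ J)) ≠ ⊤ := by
      refine ne_top_of_le_ne_top (IsLocalRing.maximalIdeal.isMaximal _).ne_top (Ideal.map_le_iff_le_comap.2 ?_)
      intro r hr
      rw [Ideal.mem_comap, IsLocalRing.mem_maximalIdeal, mem_nonunits_iff]
      intro hu
      haveI := IsLocalHom.of_surjective (Ideal.Quotient.mk J) Ideal.Quotient.mk_surjective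
      rw [show algebraMap R (MvPowerSeries (Fin n) R ⧸ J) r =
        Ideal.Quotient.mk J (algebraMap R _ r) from rfl] at hu
      have hu' := (IsUnit.of_map (Ideal.Quotient.mk J) _ hu).map MvPowerSeries.constantCoeff
      rw [MvPowerSeries.algebraMap_apply, MvPowerSeries.constantCoeff_C, Algebra.algebraMap_self_apply] at hu'
      exact (IsLocalRing.mem_maximalIdeal r).1 hr hu'
    haveI : IsHausdorff m (MvPowerSeries (Fin n) R ⧸ J) := by
      rw [← IsHausdorff.map_algebraMap_iff (S := MvPowerSeries (Fin n) R ⧸ J)]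
      refine ⟨fun x hx => ?_⟩
      have : x ∈ ⨅ j : ℕ, (m.map (algebraMap R (MvPowerSeries (Fin n) R ⧸ J))) ^ j := by
        refine (Submodule.mem_iInf _).2 fun j => ?_
        have := hx j
        rwa [SModEq.zero, smul_eq_mul, Ideal.mul_top] at this
      exact (Ideal.mem_bot).1 (Ideal.iInf_pow_eq_bot_of_isLocalRing _ hne ▸ this)
    refine surjective_of_mkQ_comp_surjective (I := m) fun y => ?_
    obtain ⟨y, rfl⟩ := Submodule.mkQ_surjective _ y
    obtain ⟨x, rfl⟩ := Ideal.Quotient.mk_surjective y
    refine ⟨fun e => MvPowerSeries.coeff (exp N e) x, ?_⟩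
    rw [LinearMap.comp_apply, eq_comm, Submodule.mkQ_apply, Submodule.mkQ_apply, Submodule.Quotient.eq,
      Ideal.smul_top_eq_map, Submodule.restrictScalars_mem]
    change Ideal.Quotient.mk J x - Φ (boxPoly N R _) ∈ _
    rw [hΦ, ← map_sub]
    obtain ⟨h, hh⟩ := Ideal.mem_span_range_iff_exists_fun.1 (sub_boxPoly_mem N x)
    rw [← hh, map_sum]
    refine Ideal.sum_mem _ fun i _ => ?_
    have hXg : Ideal.Quotient.mk J ((MvPowerSeries.X i : MvPowerSeries (Fin n) R) ^ N i) =
        Φ (-g i) := by
      rw [map_neg, hΦ, eq_neg_iff_add_eq_zero, ← map_add]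
      exact Ideal.Quotient.eq_zero_iff_mem.2 (Ideal.subset_span ⟨i, rfl⟩)
    rw [map_mul, hXg]
    refine Ideal.mul_mem_left _ _ ?_
    rw [(-g i).as_sum, map_sum]
    refine Ideal.sum_mem _ fun d _ => ?_
    rw [show MvPolynomial.monomial d ((-g i).coeff d) =
      algebraMap R _ ((-g i).coeff d) * MvPolynomial.monomial d 1 by
        simp [MvPolynomial.algebraMap_eq, MvPolynomial.C_mul_monomial], map_mul, Φ.commutes]
    refine Ideal.mul_mem_right _ _ (Ideal.mem_map_of_mem _ ?_)
    rw [MvPolynomial.coeff_neg]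
    exact m.neg_mem (hgm i d)
  -- the isomorphism
  have hθsurj : Function.Surjective θ := fun x => by
    obtain ⟨c, rfl⟩ := hTsurj x; exact ⟨_, rfl⟩
  have hΦsurj : Function.Surjective Φ := fun x => by
    obtain ⟨c, rfl⟩ := hUsurj x; exact ⟨_, rfl⟩
  have hkerEq : RingHom.ker θ = RingHom.ker Φ := by
    refine le_antisymm (fun P hP => ?_) (fun P hP => hker P hP)
    obtain ⟨c', hc'⟩ := hUsurj (Φ P)
    have h1 : θ (P - boxPoly N R c') = 0 := hker _ (by rw [map_sub, ← hc']; exact sub_self _)
    rw [map_sub, RingHom.mem_ker.1 hP, zero_sub, neg_eq_zero] at h1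
    have : c' = 0 := hTinj (h1.trans (map_zero T).symm)
    rw [RingHom.mem_ker, ← hc', this, map_zero]
  exact ⟨(Ideal.quotientKerAlgEquivOfSurjective hθsurj).symm.trans
    ((Ideal.quotientEquivAlgOfEq R hkerEq).trans (Ideal.quotientKerAlgEquivOfSurjective hΦsurj))⟩

end Groth.L01.TruncPresent
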