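import Mathlib.RingTheory.RingHom.Etale
import Mathlib.RingTheory.Localization.Away.Basic
import Mathlib.RingTheory.Artinian.Module
import Mathlib.RingTheory.SimpleModule.Basic
import Mathlib.RingTheory.IsTensorProduct
import Mathlib.RingTheory.Etale.Descent
import Mathlib.RingTheory.Unramified.Field
import Mathlib.RingTheory.Flat.Basic
import Mathlib.RingTheory.Localization.BaseChange

/-!
A subring of a product of étale field extensions cut out by one factor is étale iff that factor is.
-/

set_option autoImplicit false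

namespace L01.ValCompletionEtale

universe u

theorem etale_iff {Oh Kh W Lh Bh T : Type u} [CommRing Oh] [CommRing Kh] [CommRing W] [CommRing Lh]
    [CommRing Bh] [CommRing T] [Algebra Oh Kh] [Algebra.Etale Oh Kh] [Algebra Oh W] [Algebra Kh W]
    [IsScalarTower Oh Kh W] [Algebra.Etale Kh W] [IsSemisimpleRing W] [Algebra Oh Bh] [Algebra Oh T]
    (Φ : T →ₐ[Oh] W) (π : W →+* Lh) (j : Bh →+* Lh) (hΦ : Function.Injective Φ)
    (hj : Function.Injective j) (hπ : Function.Surjective π)
    (hcomm : ∀ x : Oh, π (algebraMap Oh W x) = j (algebraMap Oh Bh x))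
    (himg : ∀ z : W, (∃ b, j b = π z) ↔ z ∈ Φ.range) :
    Algebra.Etale Oh T ↔ Algebra.Etale Oh Bh := by
  classical
  obtain ⟨e, he, hker⟩ := IsSemisimpleRing.ideal_eq_span_idempotent (RingHom.ker π)
  have he0 : π e = 0 := RingHom.mem_ker.1 (hker ▸ Ideal.mem_span_singleton_self e)
  obtain ⟨eT, heT⟩ := (himg e).1 ⟨0, by rw [map_zero, he0]⟩
  replace heT : Φ eT = e := heT
  have hI : IsIdempotentElem eT := hΦ (by rw [map_mul, heT]; exact he)
  choose ρ hρ using fun t : T => (himg (Φ t)).2 ⟨t, rfl⟩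
  let ρA : T →ₐ[Oh] Bh :=
    { toFun := ρ
      map_one' := hj (by rw [hρ, map_one, map_one, map_one])
      map_mul' := fun x y => hj (by simp only [map_mul, hρ])
      map_zero' := hj (by rw [hρ, map_zero, map_zero, map_zero])
      map_add' := fun x y => hj (by simp only [map_add, hρ])
      commutes' := fun x => hj (by rw [hρ, AlgHom.commutes, hcomm]) }
  have hρA : ∀ t, j (ρA t) = π (Φ t) := hρ
  have hρs : Function.Surjective ρA := fun b => by
    obtain ⟨z, hz⟩ := hπ (j b)
    obtain ⟨t, rfl⟩ := (himg z).1 ⟨b, hz.symm⟩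
    exact ⟨t, hj ((hρA t).trans hz)⟩
  have hρk : RingHom.ker ρA.toRingHom = Ideal.span {eT} := by
    ext t
    show ρA t = 0 ↔ _
    rw [← hj.eq_iff, hρA, map_zero, Ideal.mem_span_singleton', ← RingHom.mem_ker, hker,
      Ideal.mem_span_singleton']
    constructor
    · rintro ⟨z, hz⟩
      refine ⟨t, hΦ ?_⟩
      rw [map_mul, heT, ← hz, mul_assoc, he.eq]
    · rintro ⟨s, rfl⟩
      exact ⟨Φ s, by rw [map_mul, heT]⟩
  let J : Ideal W := Ideal.span {1 - e}
  let qA : T →ₐ[Oh] W ⧸ J := (Ideal.Quotient.mkₐ Oh J).comp Φ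
  have hqs : Function.Surjective qA := fun z => by
    obtain ⟨w, rfl⟩ := Ideal.Quotient.mk_surjective z
    obtain ⟨t, ht⟩ := (himg (w * e)).1 ⟨0, by rw [map_zero, map_mul, he0, mul_zero]⟩
    refine ⟨t, ?_⟩
    show Ideal.Quotient.mk J (Φ t) = _
    rw [show Φ t = w * e from ht, Ideal.Quotient.eq, Ideal.mem_span_singleton']
    exact ⟨-w, by ring⟩
  have hqk : RingHom.ker qA.toRingHom = Ideal.span {1 - eT} := by
    ext t
    show Ideal.Quotient.mk J (Φ t) = 0 ↔ _
    rw [Ideal.Quotient.eq_zero_iff_mem, Ideal.mem_span_singleton', Ideal.mem_span_singleton']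
    constructor
    · rintro ⟨z, hz⟩
      refine ⟨t, hΦ ?_⟩
      rw [map_mul, map_sub, map_one, heT, ← hz, mul_assoc, he.one_sub.eq]
    · rintro ⟨s, rfl⟩
      exact ⟨Φ s, by rw [map_mul, map_sub, map_one, heT]⟩
  haveI : Algebra.Etale Oh (W ⧸ J) := by
    haveI : Algebra.Etale W (W ⧸ J) := by
      haveI : IsLocalization.Away e (W ⧸ J) :=
        IsLocalization.away_of_isIdempotentElem he Ideal.mk_ker Ideal.Quotient.mk_surjective
      exact Algebra.Etale.of_isLocalizationAway e
    haveI : Algebra.Etale Oh W := Algebra.Etale.comp Oh Kh W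
    exact Algebra.Etale.comp Oh W (W ⧸ J)
  letI := ρA.toRingHom.toAlgebra
  letI := qA.toRingHom.toAlgebra
  haveI : IsScalarTower Oh T Bh := IsScalarTower.of_algebraMap_eq fun x => (ρA.commutes x).symm
  haveI : IsScalarTower Oh T (W ⧸ J) := IsScalarTower.of_algebraMap_eq fun x => (qA.commutes x).symm
  haveI h1 : IsLocalization.Away (1 - eT) Bh :=
    IsLocalization.away_of_isIdempotentElem hI.one_sub (by
      rw [show (1 : T) - (1 - eT) = eT by ring]; exact hρk) hρs
  haveI h2 : IsLocalization.Away eT (W ⧸ J) := IsLocalization.away_of_isIdempotentElem hI hqk hqs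
  constructor
  · intro h
    haveI : Algebra.Etale T Bh := Algebra.Etale.of_isLocalizationAway (1 - eT)
    exact Algebra.Etale.comp Oh T Bh
  · intro h
    rw [← RingHom.etale_algebraMap]
    refine RingHom.Etale.ofLocalizationSpanTarget (algebraMap Oh T) {eT, 1 - eT} ?_ ?_
    · rw [Ideal.eq_top_iff_one]
      have := add_mem (Ideal.subset_span (s := ({eT, 1 - eT} : Set T)) (Or.inl rfl))
        (Ideal.subset_span (s := ({eT, 1 - eT} : Set T)) (Or.inr rfl))
      rwa [add_sub_cancel] at this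
    · rintro ⟨r, rfl | rfl⟩
      · rw [← IsScalarTower.algebraMap_eq, RingHom.etale_algebraMap]
        exact Algebra.Etale.of_equiv
          ((IsLocalization.algEquiv (Submonoid.powers r) (W ⧸ J) (Localization.Away r)).restrictScalars Oh)
      · rw [← IsScalarTower.algebraMap_eq, RingHom.etale_algebraMap]
        exact Algebra.Etale.of_equiv
          ((IsLocalization.algEquiv (Submonoid.powers (1 - eT)) Bh (Localization.Away (1 - eT))).restrictScalars Oh)

open TensorProduct

/-- Comparison of `O → B` with the completed extension `Oh → Bh`. -/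
theorem iff_of_approx {O B K L Oh Kh Lh Bh : Type u} [CommRing O] [CommRing B] [Field K] [Field L]
    [CommRing Oh] [Field Kh] [CommRing Lh] [CommRing Bh] [Algebra O B] [Algebra O K] [Algebra B L]
    [Algebra O L] [Algebra K L] [IsScalarTower O B L] [IsScalarTower O K L] [Algebra O Oh]
    [Algebra O Kh] [Algebra Oh Kh] [Algebra K Kh] [IsScalarTower O K Kh] [IsScalarTower O Oh Kh]
    [FiniteDimensional K L] [Algebra.Etale K L] [Module.Flat O B] [Module.FaithfullyFlat O Oh]
    [Algebra.Etale Oh Kh] [Algebra Kh Lh] [Algebra Oh Bh] {ϖ : O} [IsLocalization.Away ϖ K]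
    (hbc : IsBaseChange K (IsScalarTower.toAlgHom O B L).toLinearMap)
    (hloc : ∀ x : L, ∃ (n : ℕ) (y : B), algebraMap O K ϖ ^ n • x = algebraMap B L y)
    (hOh : Function.Injective (algebraMap Oh Kh))
    (happrox : ∀ c : Kh, ∃ (k : K) (r : Oh), c = algebraMap K Kh k + algebraMap Oh Kh r)
    (π : Kh ⊗[K] L →ₐ[Kh] Lh) (hπ : Function.Surjective π) (j : Bh →+* Lh)
    (hj : Function.Injective j)
    (hcomm : ∀ r : Oh, algebraMap Kh Lh (algebraMap Oh Kh r) = j (algebraMap Oh Bh r))
    (hB : ∀ y : B, ∃ b, π (1 ⊗ₜ algebraMap B L y) = j b)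
    (hrefl : ∀ (l : L) (b : Bh), π (1 ⊗ₜ l) = j b → ∃ y : B, algebraMap B L y = l) :
    Algebra.Etale O B ↔ Algebra.Etale Oh Bh := by
  classical
  haveI : IsReduced (Kh ⊗[K] L) := Algebra.FormallyUnramified.isReduced_of_field Kh _
  haveI : IsArtinianRing (Kh ⊗[K] L) := IsArtinianRing.of_finite Kh _
  haveI : IsSemisimpleRing (Kh ⊗[K] L) := IsArtinianRing.isSemisimpleRing_of_isReduced _
  let g : B →ₐ[O] Kh ⊗[K] L :=
    ((Algebra.TensorProduct.includeRight : L →ₐ[K] Kh ⊗[K] L).restrictScalars O).comp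
      (IsScalarTower.toAlgHom O B L)
  have hg : ∀ y, g y = 1 ⊗ₜ algebraMap B L y := fun _ => rfl
  let Φ : Oh ⊗[O] B →ₐ[Oh] Kh ⊗[K] L :=
    Algebra.TensorProduct.lift (Algebra.ofId Oh _) g fun _ _ => Commute.all _ _
  have hΦ1 : ∀ (r : Oh) (y : B), Φ (r ⊗ₜ y) = algebraMap Oh Kh r ⊗ₜ algebraMap B L y := fun r y => by
    show algebraMap Oh (Kh ⊗[K] L) r * g y = _
    rw [hg, Algebra.TensorProduct.algebraMap_apply, Algebra.TensorProduct.tmul_mul_tmul, mul_one, one_mul]
  have hΦ : Function.Injective Φ := by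
    have e0 : g.toLinearMap = ((TensorProduct.mk K Kh L 1).restrictScalars O).comp
        (IsScalarTower.toAlgHom O B L).toLinearMap := LinearMap.ext hg
    have hb2 : IsBaseChange Kh g.toLinearMap := by
      rw [e0]
      exact IsBaseChange.comp (S := K) (T := Kh) hbc (TensorProduct.isBaseChange K L Kh)
    have e : ⇑Φ = ⇑hb2.equiv ∘ ⇑((IsScalarTower.toAlgHom O Oh Kh).toLinearMap.rTensor B) :=
      funext fun z => by
        induction z using TensorProduct.induction_on with
        | zero => simp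
        | add a b ha hb => simp only [Function.comp_apply, map_add] at ha hb ⊢; rw [ha, hb]
        | tmul a b =>
          rw [hΦ1, Function.comp_apply, LinearMap.rTensor_tmul, hb2.equiv_tmul, AlgHom.toLinearMap_apply,
            AlgHom.toLinearMap_apply, hg, TensorProduct.smul_tmul', smul_eq_mul, mul_one]
          rfl
    rw [e]
    exact hb2.equiv.injective.comp (Module.Flat.rTensor_preserves_injective_linearMap _ hOh)
  have hψ : ∀ t, ∃ b, j b = π (Φ t) := by
    intro t
    induction t using TensorProduct.induction_on with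
    | zero => exact ⟨0, by rw [map_zero, map_zero, map_zero]⟩
    | add a b ha hb =>
      obtain ⟨x, hx⟩ := ha
      obtain ⟨y, hy⟩ := hb
      exact ⟨x + y, by rw [map_add, map_add, map_add, hx, hy]⟩
    | tmul a y =>
      obtain ⟨b, hb⟩ := hB y
      refine ⟨algebraMap Oh Bh a * b, ?_⟩
      rw [hΦ1, map_mul, ← hcomm, ← hb, ← AlgHom.commutes π, ← map_mul,
        Algebra.TensorProduct.algebraMap_apply, Algebra.algebraMap_self, RingHom.id_apply,
        Algebra.TensorProduct.tmul_mul_tmul, mul_one, one_mul]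
  have hdec : ∀ z : Kh ⊗[K] L, ∃ (t : Oh ⊗[O] B) (l : L), z = Φ t + 1 ⊗ₜ l := by
    intro z
    induction z using TensorProduct.induction_on with
    | zero => exact ⟨0, 0, by simp⟩
    | add a b ha hb =>
      obtain ⟨t, l, rfl⟩ := ha
      obtain ⟨t', l', rfl⟩ := hb
      exact ⟨t + t', l + l', by rw [map_add, tmul_add]; abel⟩
    | tmul c x =>
      obtain ⟨n, y, hy⟩ := hloc x
      have hu : algebraMap O K ϖ ^ n ≠ 0 :=
        pow_ne_zero _ (IsLocalization.Away.algebraMap_isUnit ϖ).ne_zero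
      obtain ⟨k, r, hk⟩ := happrox ((algebraMap O K ϖ ^ n)⁻¹ • c)
      refine ⟨r ⊗ₜ y, k • algebraMap B L y, ?_⟩
      rw [hΦ1, ← smul_tmul, ← add_tmul, Algebra.smul_def k, mul_one, add_comm, ← hk, smul_tmul, ← hy,
        inv_smul_smul₀ hu]
  have key := etale_iff (Oh := Oh) (Kh := Kh) (W := Kh ⊗[K] L) (Bh := Bh) Φ π.toRingHom j hΦ hj hπ
    (fun r => by
      show π (algebraMap Oh (Kh ⊗[K] L) r) = _
      rw [IsScalarTower.algebraMap_apply Oh Kh (Kh ⊗[K] L), AlgHom.commutes, hcomm])
    (fun z => by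
      constructor
      · rintro ⟨b, hb⟩
        obtain ⟨t, l, rfl⟩ := hdec z
        obtain ⟨b', hb'⟩ := hψ t
        obtain ⟨y, hy⟩ := hrefl l (b - b') (by
          rw [map_sub, hb, hb']
          show _ = π (Φ t + 1 ⊗ₜ l) - π (Φ t)
          rw [map_add, add_sub_cancel_left])
        refine ⟨t + 1 ⊗ₜ y, ?_⟩
        show Φ (t + 1 ⊗ₜ y) = _
        rw [map_add, hΦ1, map_one, hy]
      · rintro ⟨t, rfl⟩
        exact hψ t)
  rw [← key]
  exact ⟨fun _ => inferInstance, fun _ => Algebra.Etale.of_etale_tensorProduct_of_faithfullyFlat Oh⟩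

end L01.ValCompletionEtale
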