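import Mathlib.Topology.Algebra.Valued.ValuedField
import Mathlib.Topology.Algebra.Valued.NormedValued
import Mathlib.Topology.Algebra.Module.FiniteDimension
import Mathlib.RingTheory.Valuation.Extension
import Mathlib.RingTheory.Valuation.RankOne
import Mathlib.RingTheory.Localization.BaseChange
import Mathlib.RingTheory.Etale.Descent
import Mathlib.RingTheory.Etale.Field
import Mathlib.RingTheory.Unramified.Field
import Mathlib.RingTheory.Flat.TorsionFree
import Groth.Agent.L01.ValCompletionEtale

/-!
Finite extensions of rank one valued fields: étaleness of the valuation rings and completion.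
-/

set_option autoImplicit false

open UniformSpace TensorProduct MonoidWithZeroHom MonoidWithZeroHom.ValueGroup₀

namespace L01.ValCompletionExt

universe u

theorem exists_pow_le {F : Type*} [Field F] {Γ : Type*} [LinearOrderedCommGroupWithZero Γ]
    (v : Valuation F Γ) [v.RankOne] {ϖ : F} (hϖ : v ϖ < 1) (x : F) : ∃ n : ℕ, v (ϖ ^ n * x) ≤ 1 := by
  rcases eq_or_ne x 0 with rfl | hx
  · exact ⟨0, by simp⟩
  have h1 : Valuation.RankOne.hom v (v.restrict ϖ) < 1 := by
    have := Valuation.RankOne.strictMono v ((v.restrict_lt_one_iff (x := ϖ)).2 hϖ)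
    rwa [map_one] at this
  have h2 : 0 < Valuation.RankOne.hom v (v.restrict x) := by
    rw [pos_iff_ne_zero, ne_eq, Valuation.RankOne.hom_eq_zero_iff, v.restrict.zero_iff]
    exact hx
  obtain ⟨n, hn⟩ := exists_pow_lt_of_lt_one (inv_pos.2 h2) h1
  refine ⟨n, ?_⟩
  rw [← v.restrict_le_one_iff, ← (Valuation.RankOne.strictMono v).le_iff_le, map_one, map_mul, map_mul,
    map_pow, map_pow]
  calc _ ≤ (Valuation.RankOne.hom v (v.restrict x))⁻¹ * Valuation.RankOne.hom v (v.restrict x) :=
        mul_le_mul_of_nonneg_right hn.le bot_le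
    _ = 1 := inv_mul_cancel₀ h2.ne'

theorem away {F : Type*} [Field F] {Γ : Type*} [LinearOrderedCommGroupWithZero Γ]
    (v : Valuation F Γ) [v.RankOne] (ϖ : v.valuationSubring) (hϖ : v ϖ < 1) (hϖ0 : (ϖ : F) ≠ 0) :
    IsLocalization.Away ϖ F :=
  IsLocalization.Away.mk ϖ (isUnit_iff_ne_zero.2 hϖ0) (fun x => by
      obtain ⟨n, hn⟩ := exists_pow_le v hϖ x
      exact ⟨n, ⟨(ϖ : F) ^ n * x, hn⟩, mul_comm _ _⟩)
    (fun a b h => ⟨0, by rw [Subtype.ext (show (a : F) = b from h)]⟩)

section

variable {K L Γ₀ Γ₁ : Type u} [Field K] [Field L] [Algebra K L]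
  [LinearOrderedCommGroupWithZero Γ₀] [LinearOrderedCommGroupWithZero Γ₁]
  [hK : Valued K Γ₀] [hL : Valued L Γ₁]

local notation "K̂" => UniformSpace.Completion K
local notation "L̂" => UniformSpace.Completion L

theorem exists_v_eq (x : K̂) : ∃ r : K, Valued.v x = hK.v r := Valued.exists_coe_eq_v x

theorem nonempty_rankOne_completion [hK.v.RankOne] :
    Nonempty (Valued.v : Valuation K̂ Γ₀).RankOne := by
  haveI : (Valued.v : Valuation K̂ Γ₀).IsNontrivial := by
    obtain ⟨x, h0, h1⟩ := Valuation.IsNontrivial.exists_val_nontrivial (v := hK.v)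
    exact ⟨⟨(x : K̂), by rwa [Valued.valuedCompletion_apply], by rwa [Valued.valuedCompletion_apply]⟩⟩
  rw [Valuation.nonempty_rankOne_iff_mulArchimedean]
  haveI : MulArchimedean (ValueGroup₀ (.ofClass hK.v)) :=
    Valuation.nonempty_rankOne_iff_mulArchimedean.1 ⟨inferInstance⟩
  refine ⟨fun x {y} hy => ?_⟩
  obtain ⟨x', rfl⟩ := restrict₀_surjective _ x
  obtain ⟨y', rfl⟩ := restrict₀_surjective _ y
  obtain ⟨r, hr⟩ := exists_v_eq x'
  obtain ⟨s, hs⟩ := exists_v_eq y'
  rw [← Valuation.restrict_def] at hy ⊢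
  have hs1 : 1 < hK.v.restrict s := by
    rw [← embedding_strictMono.lt_iff_lt, Valuation.embedding_restrict, map_one] at hy ⊢
    rwa [← hs]
  obtain ⟨n, hn⟩ := MulArchimedean.arch (hK.v.restrict r) hs1
  refine ⟨n, ?_⟩
  rw [← embedding_strictMono.le_iff_le] at hn ⊢
  simp only [map_pow, Valuation.embedding_restrict, embedding_restrict₀, coe_ofClass] at hn ⊢
  rwa [hr, hs]

theorem exists_approx (x : K̂) : ∃ k : K, Valued.v (x - k) ≤ 1 := by
  have ho : IsOpen {y : K̂ | Valued.v (x - y) ≤ 1} :=
    (Valued.isOpen_integer K̂).preimage (continuous_const.sub continuous_id)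
  obtain ⟨k, hk⟩ := Completion.denseRange_coe.exists_mem_open ho ⟨x, by simp⟩
  exact ⟨k, hk⟩

variable [hK.v.HasExtension hL.v] (hc : Continuous (algebraMap K L))

theorem map_le_one (x : K̂) (hx : Valued.v x ≤ 1) :
    Valued.v (Completion.mapRingHom (algebraMap K L) hc x) ≤ 1 := by
  revert hx
  induction x using Completion.induction_on with
  | hp =>
    have : {a : K̂ | Valued.v a ≤ 1 → Valued.v (Completion.mapRingHom (algebraMap K L) hc a) ≤ 1} =
        {a : K̂ | Valued.v a ≤ 1}ᶜ ∪
          Completion.mapRingHom (algebraMap K L) hc ⁻¹' {b : L̂ | Valued.v b ≤ 1} := by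
      ext a; simp [imp_iff_not_or]
    rw [this]
    exact (Valued.isOpen_integer K̂).isClosed_compl.union
      ((Valued.isClosed_integer L̂).preimage Completion.continuous_extension)
  | ih k =>
    rw [Completion.mapRingHom_coe, Valued.valuedCompletion_apply, Valued.valuedCompletion_apply]
    exact fun h => Valuation.HasExtension.algebraMap_mem_valuationSubring hK.v hL.v ⟨k, h⟩

/-- The homomorphism of valuation rings of the completions. -/
noncomputable def ψ : (Valued.v : Valuation K̂ Γ₀).valuationSubring →+*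
    (Valued.v : Valuation L̂ Γ₁).valuationSubring :=
  ((Completion.mapRingHom (algebraMap K L) hc).comp (Valued.v : Valuation K̂ Γ₀).valuationSubring.subtype).codRestrict
    _ fun x => map_le_one hc x.1 x.2

theorem main [FiniteDimensional K L] [hK.v.RankOne] [hL.v.RankOne] :
    Algebra.Etale hK.v.valuationSubring hL.v.valuationSubring ↔
      Algebra.IsSeparable K L ∧ (ψ (K := K) (L := L) hc).Etale := by
  classical
  let O := hK.v.valuationSubring
  let B := hL.v.valuationSubring
  obtain ⟨ϖ₀, h0, h1⟩ := Valuation.IsNontrivial.exists_val_nontrivial (v := hK.v)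
  obtain ⟨ϖ, hϖ, hϖ0⟩ : ∃ ϖ : O, hK.v ϖ < 1 ∧ (ϖ : K) ≠ 0 := by
    have hne : ϖ₀ ≠ 0 := fun h => h0 (by rw [h, map_zero])
    rcases lt_or_gt_of_ne h1 with h | h
    · exact ⟨⟨ϖ₀, h.le⟩, h, hne⟩
    · have h' : hK.v ϖ₀⁻¹ < 1 := by rw [map_inv₀]; exact inv_lt_one_of_one_lt₀ h
      exact ⟨⟨ϖ₀⁻¹, h'.le⟩, h', inv_ne_zero hne⟩
  haveI hKloc : IsLocalization.Away ϖ K := away hK.v ϖ hϖ hϖ0
  haveI hLloc : IsLocalization (Algebra.algebraMapSubmonoid B (Submonoid.powers ϖ)) L := by
    rw [show Algebra.algebraMapSubmonoid B (Submonoid.powers ϖ) = Submonoid.powers (algebraMap O B ϖ) from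
      Submonoid.map_powers _ _]
    refine away hL.v _ ?_ ((map_ne_zero (algebraMap K L)).2 hϖ0)
    show hL.v (algebraMap K L ϖ) < 1
    rw [← map_one hL.v, ← map_one (algebraMap K L), Valuation.HasExtension.val_map_lt_iff (vR := hK.v),
      map_one]
    exact hϖ
  have hbc : IsBaseChange K (IsScalarTower.toAlgHom O B L).toLinearMap := by
    haveI : IsLocalizedModule (Submonoid.powers ϖ) (IsScalarTower.toAlgHom O B L).toLinearMap :=
      isLocalizedModule_iff_isLocalization.2 hLloc
    exact IsLocalizedModule.isBaseChange (Submonoid.powers ϖ) K _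
  haveI : Module.Flat O B := by
    rw [Module.Flat.flat_iff_torsion_eq_bot_of_isBezout, eq_bot_iff]
    rintro x ⟨⟨a, ha⟩, hax⟩
    replace hax : algebraMap O B a * x = 0 := by rw [← Algebra.smul_def]; exact hax
    exact (Submodule.mem_bot O).2 ((mul_eq_zero.1 hax).resolve_left fun h =>
      nonZeroDivisors.ne_zero ha (Subtype.ext ((algebraMap K L).injective
        ((congrArg Subtype.val h).trans (map_zero (algebraMap K L)).symm))))
  suffices hiff : Algebra.IsSeparable K L →
      (Algebra.Etale O B ↔ (ψ (K := K) (L := L) hc).Etale) by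
    refine ⟨fun h => ?_, fun ⟨hs, h⟩ => (hiff hs).2 h⟩
    have hs : Algebra.IsSeparable K L := by
      haveI : Algebra.Etale K L := Algebra.Etale.of_equiv (AlgEquiv.ofBijective
        (Algebra.TensorProduct.lift (Algebra.ofId K L) (IsScalarTower.toAlgHom O B L)
          fun _ _ => Commute.all _ _) (by
          have e : ⇑(Algebra.TensorProduct.lift (Algebra.ofId K L) (IsScalarTower.toAlgHom O B L)
              fun _ _ => Commute.all _ _) = ⇑hbc.equiv := funext fun z => by
            induction z using TensorProduct.induction_on with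
            | zero => simp
            | add a b ha hb => rw [map_add, map_add, ha, hb]
            | tmul a b =>
              rw [Algebra.TensorProduct.lift_tmul, hbc.equiv_tmul, Algebra.smul_def]
              rfl
          rw [e]
          exact hbc.equiv.bijective))
      exact (Algebra.FormallyEtale.iff_isSeparable K L).1 inferInstance
    exact ⟨hs, (hiff hs).1 h⟩
  intro hs
  haveI : Algebra.Etale K L := ⟨(Algebra.FormallyEtale.iff_isSeparable K L).2 hs, Algebra.FinitePresentation.of_finiteType.1 inferInstance⟩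
  letI : Algebra K̂ L̂ := (Completion.mapRingHom (algebraMap K L) hc).toAlgebra
  haveI : ContinuousConstSMul K L := ⟨fun k => by
    simp only [Algebra.smul_def]; exact continuous_const.mul continuous_id⟩
  haveI : UniformContinuousConstSMul K L := uniformContinuousConstSMul_of_continuousConstSMul K L
  haveI : IsScalarTower K K̂ L̂ := IsScalarTower.of_algebraMap_eq fun k => by
    show ((algebraMap K L k : L) : L̂) = Completion.mapRingHom (algebraMap K L) hc (k : K̂)
    rw [Completion.mapRingHom_coe]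
  let ιL : L →ₐ[K] L̂ := { (Completion.coeRingHom : L →+* L̂) with commutes' := fun _ => rfl }
  let W := K̂ ⊗[K] L
  let π : W →ₐ[K̂] L̂ := Algebra.TensorProduct.lift (Algebra.ofId K̂ L̂) ιL fun _ _ => Commute.all _ _
  haveI : IsReduced W := Algebra.FormallyUnramified.isReduced_of_field K̂ W
  haveI : IsArtinianRing W := IsArtinianRing.of_finite K̂ W
  haveI : IsSemisimpleRing W := IsArtinianRing.isSemisimpleRing_of_isReduced W
  have hπ : Function.Surjective π := by
    obtain ⟨hR⟩ := nonempty_rankOne_completion (K := K) (Γ₀ := Γ₀)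
    letI := hR
    letI : NontriviallyNormedField K̂ := Valued.toNontriviallyNormedField K̂ Γ₀
    haveI : ContinuousSMul K̂ L̂ :=
      ⟨(Completion.continuous_extension.comp continuous_fst).mul continuous_snd⟩
    have hcl := Submodule.closed_of_finiteDimensional (LinearMap.range π.toLinearMap)
    intro y
    refine (hcl.closure_subset_iff.2 ?_) (Completion.denseRange_coe y)
    rintro _ ⟨l, rfl⟩
    exact ⟨1 ⊗ₜ l, by show π (1 ⊗ₜ l) = _; rw [Algebra.TensorProduct.lift_tmul, map_one, one_mul]; rfl⟩
  let Oh := (Valued.v : Valuation K̂ Γ₀).valuationSubring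
  let Bh := (Valued.v : Valuation L̂ Γ₁).valuationSubring
  letI : Algebra O Oh := ((Completion.coeRingHom : K →+* K̂).comp O.subtype).codRestrict _
    (fun x => show Valued.v ((x : K) : K̂) ≤ 1 by rw [Valued.valuedCompletion_apply]; exact x.2) |>.toAlgebra
  haveI : IsScalarTower O K K̂ := IsScalarTower.of_algebraMap_eq fun _ => rfl
  haveI : IsScalarTower O Oh K̂ := IsScalarTower.of_algebraMap_eq fun _ => rfl
  haveI : Module.Flat O Oh := by
    rw [Module.Flat.flat_iff_torsion_eq_bot_of_isBezout, eq_bot_iff]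
    rintro x ⟨⟨a, ha⟩, hax⟩
    replace hax : algebraMap O Oh a * x = 0 := by rw [← Algebra.smul_def]; exact hax
    exact (Submodule.mem_bot O).2 ((mul_eq_zero.1 hax).resolve_left fun h =>
      nonZeroDivisors.ne_zero ha (Subtype.ext ((Completion.coeRingHom : K →+* K̂).injective
        ((congrArg Subtype.val h).trans (map_zero (Completion.coeRingHom : K →+* K̂)).symm))))
  haveI : IsLocalHom (algebraMap O Oh) := ⟨fun a ha => by
    have h2 := (Valuation.integer.integers (v := (Valued.v : Valuation K̂ Γ₀))).one_of_isUnit ha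
    refine (Valuation.integer.integers (v := hK.v)).isUnit_of_one ?_ ?_
    · exact isUnit_iff_ne_zero.2 fun h => by
        have : Valued.v ((a : K) : K̂) = 1 := h2
        rw [Valued.valuedCompletion_apply, show (a : K) = 0 from h, map_zero] at this
        exact zero_ne_one this
    · have : Valued.v ((a : K) : K̂) = 1 := h2
      rwa [Valued.valuedCompletion_apply] at this⟩
  haveI : Module.FaithfullyFlat O Oh := Module.FaithfullyFlat.of_flat_of_isLocalHom
  letI : Algebra Oh Bh := (ψ (K := K) (L := L) hc).toAlgebra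
  haveI : Algebra.Etale Oh K̂ := by
    obtain ⟨hR⟩ := nonempty_rankOne_completion (K := K) (Γ₀ := Γ₀)
    letI := hR
    haveI := away (Valued.v : Valuation K̂ Γ₀) (algebraMap O Oh ϖ)
      (show Valued.v ((ϖ : K) : K̂) < 1 by rw [Valued.valuedCompletion_apply]; exact hϖ)
      ((map_ne_zero (Completion.coeRingHom : K →+* K̂)).2 hϖ0)
    exact Algebra.Etale.of_isLocalizationAway (algebraMap O Oh ϖ)
  have hloc : ∀ x : L, ∃ (n : ℕ) (y : B), algebraMap O K ϖ ^ n • x = algebraMap B L y := fun x => by
    obtain ⟨⟨y, ⟨_, _, ⟨n, rfl⟩, rfl⟩⟩, hy⟩ :=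
      IsLocalization.surj (Algebra.algebraMapSubmonoid B (Submonoid.powers ϖ)) x
    refine ⟨n, y, ?_⟩
    rw [← map_pow, algebraMap_smul, Algebra.smul_def, mul_comm, ← hy]
    rfl
  refine ValCompletionEtale.iff_of_approx (O := O) (B := B) (K := K) (L := L) (Oh := Oh) (Kh := K̂)
    (Lh := L̂) (Bh := Bh) (ϖ := ϖ) hbc hloc Subtype.val_injective ?_ π hπ Bh.subtype Subtype.val_injective
    ?_ ?_ ?_
  · intro c
    obtain ⟨k, hk⟩ := exists_approx c
    exact ⟨k, ⟨_, hk⟩, (add_sub_cancel (k : K̂) c).symm⟩
  · exact fun r => rfl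
  · intro y
    refine ⟨⟨((y : L) : L̂), show Valued.v _ ≤ 1 by rw [Valued.valuedCompletion_apply]; exact y.2⟩, ?_⟩
    rw [Algebra.TensorProduct.lift_tmul, map_one, one_mul]; rfl
  · intro l b hlb
    rw [Algebra.TensorProduct.lift_tmul, map_one, one_mul] at hlb
    have h2 : Valued.v ((l : L) : L̂) ≤ 1 := by
      show Valued.v (ιL l) ≤ 1
      rw [hlb]; exact b.2
    rw [Valued.valuedCompletion_apply] at h2
    exact ⟨⟨l, h2⟩, rfl⟩

end

end L01.ValCompletionExt
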