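import Mathlib.RingTheory.Etale.Basic
import Mathlib.RingTheory.Flat.TorsionFree
import Mathlib.RingTheory.Algebraic.Basic
import Mathlib.RingTheory.Unramified.LocalRing
import Groth.Agent.L05.Rig.Etale
import Groth.Agent.L09.Nagata

/-!
Composites of two étale extensions of valuation rings are étale.
-/

set_option autoImplicit false

open IsLocalRing

namespace L01.ValComposite

universe u

variable {A B : Type u} [CommRing A] [IsDomain A] [ValuationRing A] [CommRing B] [IsDomain B]
  [ValuationRing B] [Algebra A B]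

/-- In a valuation ring a nonzero polynomial is a scalar times a primitive one. -/
theorem exists_primitive (f : Polynomial A) (hf : f ≠ 0) :
    ∃ (c : A) (g : Polynomial A), c ≠ 0 ∧ f = Polynomial.C c * g ∧ ∃ i, g.coeff i = 1 := by
  classical
  have key : ∀ s : Finset ℕ, s.Nonempty → ∃ i ∈ s, ∀ j ∈ s, f.coeff i ∣ f.coeff j := by
    intro s hs
    induction hs using Finset.Nonempty.cons_induction with
    | singleton a => exact ⟨a, Finset.mem_singleton_self a, fun j hj => by rw [Finset.mem_singleton.1 hj]⟩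
    | cons a s ha hs ih =>
      obtain ⟨i, hi, hd⟩ := ih
      rcases ValuationRing.dvd_total (f.coeff a) (f.coeff i) with h | h
      · refine ⟨a, Finset.mem_cons_self a s, fun j hj => ?_⟩
        rcases Finset.mem_cons.1 hj with rfl | hj
        · exact dvd_rfl
        · exact h.trans (hd j hj)
      · refine ⟨i, Finset.mem_cons.2 (Or.inr hi), fun j hj => ?_⟩
        rcases Finset.mem_cons.1 hj with rfl | hj
        · exact h
        · exact hd j hj
  obtain ⟨i, hi, hd⟩ := key f.support (Polynomial.support_nonempty.2 hf)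
  have hci := Polynomial.mem_support_iff.1 hi
  have hall : Polynomial.C (f.coeff i) ∣ f := by
    rw [Polynomial.C_dvd_iff_dvd_coeff]
    intro j
    by_cases hj : j ∈ f.support
    · exact hd j hj
    · rw [Polynomial.notMem_support_iff.1 hj]; exact dvd_zero _
  obtain ⟨g, hg⟩ := hall
  refine ⟨f.coeff i, g, hci, hg, i, mul_left_cancel₀ hci ?_⟩
  rw [mul_one, ← Polynomial.coeff_C_mul, ← hg]

variable (P : Ideal B) [P.IsPrime] (p : Ideal A) [p.IsPrime] [P.LiesOver p]

theorem exists_dvd_algebraMap [Algebra.IsAlgebraic A B] (hinj : Function.Injective (algebraMap A B))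
    (s : B) (hs : s ∉ P) : ∃ a, a ∉ p ∧ s ∣ algebraMap A B a := by
  obtain ⟨f, hf0, hfs⟩ := Algebra.IsAlgebraic.isAlgebraic (R := A) s
  obtain ⟨c, g, hc, rfl, i, hgi⟩ := exists_primitive f hf0
  rw [map_mul, Polynomial.aeval_C, mul_eq_zero, map_eq_zero_iff _ hinj] at hfs
  replace hfs := hfs.resolve_left hc
  have halg : IsAlgebraic (A ⧸ p) (Ideal.Quotient.mk P s) := by
    refine ⟨g.map (Ideal.Quotient.mk p), fun h => ?_, ?_⟩
    · have := congrArg (fun q => Polynomial.coeff q i) h
      simp [hgi] at this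
    · rw [← Ideal.Quotient.algebraMap_eq p, Polynomial.aeval_map_algebraMap, ← Ideal.Quotient.mkₐ_eq_mk A,
        Polynomial.aeval_algHom_apply, hfs, map_zero]
  obtain ⟨r, hr, hdvd⟩ := halg.exists_nonzero_dvd
    (mem_nonZeroDivisors_of_ne_zero fun h => hs (Ideal.Quotient.eq_zero_iff_mem.1 h))
  obtain ⟨a, rfl⟩ := Ideal.Quotient.mk_surjective r
  have ha : a ∉ p := fun h => hr (Ideal.Quotient.eq_zero_iff_mem.2 h)
  refine ⟨a, ha, ?_⟩
  obtain ⟨w', hw⟩ := hdvd
  obtain ⟨w, rfl⟩ := Ideal.Quotient.mk_surjective w'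
  rw [Ideal.Quotient.algebraMap_mk_of_liesOver, ← map_mul, eq_comm, Ideal.Quotient.eq] at hw
  -- `s * w = a * (1 + π / a)`
  have haP : algebraMap A B a ∉ P := fun h => ha ((Ideal.mem_of_liesOver P p a).2 h)
  obtain ⟨π', hπ'⟩ : algebraMap A B a ∣ s * w - algebraMap A B a := by
    rcases ValuationRing.dvd_total (algebraMap A B a) (s * w - algebraMap A B a) with h | h
    · exact h
    · exact absurd (P.mem_of_dvd h hw) haP
  have hu : IsUnit (1 + π') := by
    have hπP : π' ∈ P := ((‹P.IsPrime›).mem_or_mem (hπ' ▸ hw)).resolve_left haP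
    by_contra hnu
    have h1 : π' ∈ maximalIdeal B := le_maximalIdeal (Ideal.IsPrime.ne_top ‹_›) hπP
    have h2 : (1 : B) + π' ∈ maximalIdeal B := hnu
    exact (maximalIdeal B).ne_top_iff_one.1 (maximalIdeal.isMaximal B).ne_top (by simpa using sub_mem h2 h1)
  obtain ⟨v, hv⟩ := hu.exists_right_inv
  refine ⟨w * v, ?_⟩
  rw [← mul_assoc, show s * w = algebraMap A B a * (1 + π') by linear_combination hπ', mul_assoc, hv, mul_one]

/-- Composition of étale extensions. -/
theorem etale (hinj : Function.Injective (algebraMap A B)) [Algebra.IsAlgebraic A B]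
    {Ap T : Type u} [CommRing Ap] [CommRing T] [Algebra A Ap] [IsLocalization.AtPrime Ap p] [Algebra B T]
    [IsLocalization.AtPrime T P] [Algebra Ap T] [Algebra A T] [IsScalarTower A Ap T] [IsScalarTower A B T]
    [IsLocalRing Ap] [IsLocalRing T] [IsLocalHom (algebraMap Ap T)]
    [Algebra.FiniteType Ap T] [Algebra.FormallyUnramified Ap T]
    [Algebra.FiniteType (A ⧸ p) (B ⧸ P)] [Algebra.FormallyUnramified (A ⧸ p) (B ⧸ P)] :
    Algebra.Etale A B := by
  classical
  have hBT : Function.Injective (algebraMap B T) := IsLocalization.injective T P.primeCompl_le_nonZeroDivisors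
  -- elements of `T`
  have hT : ∀ y : T, ∃ a, a ∉ p ∧ ∃ c : B, algebraMap A T a * y = algebraMap B T c := by
    intro y
    obtain ⟨⟨c, s, hs⟩, e⟩ := IsLocalization.surj P.primeCompl y
    obtain ⟨a, ha, w, hw⟩ := exists_dvd_algebraMap P p hinj s hs
    refine ⟨a, ha, w * c, ?_⟩
    rw [IsScalarTower.algebraMap_apply A B T, hw, map_mul, map_mul, ← e]; ring
  obtain ⟨Z, hZ⟩ := Algebra.FiniteType.out (R := Ap) (A := T)
  obtain ⟨X', hX'⟩ := Algebra.FiniteType.out (R := A ⧸ p) (A := B ⧸ P)
  choose α hα γ hγ using hT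
  choose σ hσ using fun x : B ⧸ P => Ideal.Quotient.mk_surjective x
  let G : Finset B := Z.image γ ∪ X'.image σ
  let C : Subalgebra A B := Algebra.adjoin A (G : Set B)
  -- `a * y` lies in `C` for some `a ∉ p`
  have hC : ∀ y : T, ∃ a, a ∉ p ∧ ∃ c ∈ C, algebraMap A T a * y = algebraMap B T c := by
    intro y
    have hy : y ∈ Algebra.adjoin Ap (Z : Set T) := by rw [hZ]; trivial
    induction hy using Algebra.adjoin_induction with
    | mem z hz => exact ⟨α z, hα z, γ z, Algebra.subset_adjoin (Finset.mem_coe.2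
        (Finset.mem_union_left _ (Finset.mem_image_of_mem _ hz))), hγ z⟩
    | algebraMap r =>
      obtain ⟨⟨b, s, hs⟩, e⟩ := IsLocalization.surj p.primeCompl r
      refine ⟨s, hs, algebraMap A B b, C.algebraMap_mem b, ?_⟩
      rw [← IsScalarTower.algebraMap_apply, IsScalarTower.algebraMap_apply A Ap T s,
        IsScalarTower.algebraMap_apply A Ap T b, ← map_mul, ← e, mul_comm]
    | add x z _ _ hx hz =>
      obtain ⟨a, ha, c, hc, e⟩ := hx
      obtain ⟨a', ha', c', hc', e'⟩ := hz
      refine ⟨a * a', fun h => (‹p.IsPrime›.mem_or_mem h).elim ha ha', algebraMap A B a' * c + algebraMap A B a * c',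
        add_mem (mul_mem (C.algebraMap_mem _) hc) (mul_mem (C.algebraMap_mem _) hc'), ?_⟩
      rw [map_add, map_mul, map_mul, map_mul, ← IsScalarTower.algebraMap_apply, ← IsScalarTower.algebraMap_apply, ← e, ← e']
      ring
    | mul x z _ _ hx hz =>
      obtain ⟨a, ha, c, hc, e⟩ := hx
      obtain ⟨a', ha', c', hc', e'⟩ := hz
      refine ⟨a * a', fun h => (‹p.IsPrime›.mem_or_mem h).elim ha ha', c * c', mul_mem hc hc', ?_⟩
      rw [map_mul, map_mul, ← e, ← e']; ring
  have hdiv : ∀ q ∈ p, ∀ a, a ∉ p → ∃ q' ∈ p, q = a * q' := by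
    intro q hq a ha
    rcases ValuationRing.dvd_total a q with h | h
    · obtain ⟨q', rfl⟩ := h
      exact ⟨q', ((‹p.IsPrime›).mem_or_mem hq).resolve_left ha, rfl⟩
    · exact absurd (p.mem_of_dvd h hq) ha
  -- `P = p B` and it is contained in `C`
  have hP : ∀ π ∈ P, π ∈ C ∧ π ∈ p.map (algebraMap A B) := by
    intro π hπ
    have h1 : algebraMap B T π ∈ p.map (algebraMap A T) := by
      haveI : Algebra.EssFiniteType Ap T := inferInstance
      rw [IsScalarTower.algebraMap_eq A Ap T, ← Ideal.map_map, IsLocalization.AtPrime.map_eq_maximalIdeal p Ap,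
        Algebra.FormallyUnramified.map_maximalIdeal, ← IsLocalization.AtPrime.map_eq_maximalIdeal P T]
      exact Ideal.mem_map_of_mem _ hπ
    suffices key : ∀ z ∈ p.map (algebraMap A T),
        ∀ r : T, ∃ c, (c ∈ C ∧ c ∈ p.map (algebraMap A B)) ∧ algebraMap B T c = r * z by
      obtain ⟨c, hc, e⟩ := key _ h1 1
      rw [one_mul] at e
      exact hBT e ▸ hc
    intro z hz
    induction hz using Submodule.span_induction with
    | mem y hy =>
      obtain ⟨q, hq, rfl⟩ := hy
      intro r
      obtain ⟨a, ha, c, hc, e⟩ := hC r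
      obtain ⟨q', hq', rfl⟩ := hdiv q hq a ha
      refine ⟨algebraMap A B q' * c, ⟨mul_mem (C.algebraMap_mem _) hc,
        Ideal.mul_mem_right _ _ (Ideal.mem_map_of_mem _ hq')⟩, ?_⟩
      rw [map_mul (algebraMap B T), ← IsScalarTower.algebraMap_apply, ← e, map_mul]; ring
    | zero => exact fun r => ⟨0, ⟨zero_mem _, zero_mem _⟩, by rw [map_zero, mul_zero]⟩
    | add x y _ _ hx hy =>
      intro r
      obtain ⟨c, hc, e⟩ := hx r
      obtain ⟨d, hd, e'⟩ := hy r
      exact ⟨c + d, ⟨add_mem hc.1 hd.1, add_mem hc.2 hd.2⟩, by rw [map_add, e, e', mul_add]⟩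
    | smul r x _ hx =>
      intro r'
      rw [smul_eq_mul, ← mul_assoc]
      exact hx _
  have hPeq : P = p.map (algebraMap A B) :=
    le_antisymm (fun π hπ => (hP π hπ).2) (Ideal.map_le_iff_le_comap.2 (Ideal.over_def P p).le)
  -- generators
  have htop : C = ⊤ := by
    refine top_unique fun b _ => ?_
    have hb : Ideal.Quotient.mk P b ∈ Algebra.adjoin (A ⧸ p) (X' : Set (B ⧸ P)) := by rw [hX']; trivial
    obtain ⟨c, hc, e⟩ : ∃ c ∈ C, Ideal.Quotient.mk P c = Ideal.Quotient.mk P b := by
      generalize Ideal.Quotient.mk P b = y at hb ⊢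
      induction hb using Algebra.adjoin_induction with
      | mem z hz => exact ⟨σ z, Algebra.subset_adjoin (Finset.mem_coe.2
          (Finset.mem_union_right _ (Finset.mem_image_of_mem _ hz))), hσ z⟩
      | algebraMap r =>
        obtain ⟨a, rfl⟩ := Ideal.Quotient.mk_surjective r
        exact ⟨algebraMap A B a, C.algebraMap_mem a, (Ideal.Quotient.algebraMap_mk_of_liesOver P p a).symm⟩
      | add x z _ _ hx hz =>
        obtain ⟨c, hc, rfl⟩ := hx
        obtain ⟨d, hd, rfl⟩ := hz
        exact ⟨c + d, add_mem hc hd, map_add _ _ _⟩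
      | mul x z _ _ hx hz =>
        obtain ⟨c, hc, rfl⟩ := hx
        obtain ⟨d, hd, rfl⟩ := hz
        exact ⟨c * d, mul_mem hc hd, map_mul _ _ _⟩
    simpa using sub_mem hc (hP _ (Ideal.Quotient.eq.1 e)).1
  haveI : Algebra.FiniteType A B := ⟨⟨G, htop⟩⟩
  haveI : Module.Flat A B := by
    rw [Module.Flat.flat_iff_torsion_eq_bot_of_isBezout, eq_bot_iff]
    rintro x ⟨⟨a, ha⟩, hax⟩
    replace hax : algebraMap A B a * x = 0 := by rw [← Algebra.smul_def]; exact hax
    exact (Submodule.mem_bot A).2 ((mul_eq_zero.1 hax).resolve_left fun h =>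
      nonZeroDivisors.ne_zero ha (hinj (by rw [h, map_zero])))
  haveI : Algebra.FormallyUnramified A B := by
    haveI : IsScalarTower A (A ⧸ p) (B ⧸ P) := IsScalarTower.of_algebraMap_eq fun a =>
      (Ideal.Quotient.algebraMap_mk_of_liesOver P p a).symm
    haveI : Algebra.FormallyUnramified A (A ⧸ p) :=
      Algebra.FormallyUnramified.of_surjective (Algebra.ofId A _) Ideal.Quotient.mk_surjective
    haveI : Algebra.FormallyUnramified A (B ⧸ P) := Algebra.FormallyUnramified.comp A (A ⧸ p) _
    haveI : Algebra.FormallyUnramified A (B ⧸ p.map (algebraMap A B)) := by rw [← hPeq]; infer_instance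
    refine Groth.L05.Rig.formallyUnramified_of_quotient p ?_
    rw [← hPeq, IsLocalRing.jacobson_eq_maximalIdeal ⊥ bot_ne_top]
    exact le_maximalIdeal (Ideal.IsPrime.ne_top ‹_›)
  haveI := Groth.L09.Nagata.finitePresentation_of_flat (V := A) (B := B)
  exact Algebra.Etale.of_formallyUnramified_of_flat

end L01.ValComposite
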