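import Groth.Agent.L09.Nagata
import Groth.Agent.L04.RegularPd
import Mathlib.RingTheory.Flat.TorsionFree
import Mathlib.RingTheory.LocalRing.Module
import Mathlib.RingTheory.Valuation.ValuationRing
import Mathlib.LinearAlgebra.Dual.Lemmas

/-!
Projective dimension of finitely presented modules over local rings of flat finitely presented algebras
over valuation rings.
-/

set_option autoImplicit false
set_option linter.style.haveILetI false
set_option linter.unusedSectionVars false

universe u

open CategoryTheory

namespace Groth.L01.ValFibre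

section General

variable {V A : Type u} [CommRing V] [IsDomain V] [ValuationRing V] [CommRing A] [Algebra V A] (p : Ideal V)

/-- elements of `pM` are single multiples -/
theorem exists_smul {M : Type u} [AddCommGroup M] [Module A M] {x : M}
    (hx : x ∈ (p.map (algebraMap V A)) • (⊤ : Submodule A M)) : ∃ a ∈ p, ∃ m : M, x = algebraMap V A a • m := by
  let N : Submodule A M :=
    { carrier := {x | ∃ a ∈ p, ∃ m : M, x = algebraMap V A a • m}
      add_mem' := by
        rintro _ _ ⟨a, ha, m, rfl⟩ ⟨b, hb, m', rfl⟩
        rcases ValuationRing.cond a b with ⟨c, hc | hc⟩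
        · exact ⟨a, ha, m + algebraMap V A c • m', by rw [smul_add, ← mul_smul, ← map_mul, hc]⟩
        · exact ⟨b, hb, algebraMap V A c • m + m', by rw [smul_add, ← mul_smul, ← map_mul, hc]⟩
      zero_mem' := ⟨0, p.zero_mem, 0, by simp⟩
      smul_mem' := by
        rintro r _ ⟨a, ha, m, rfl⟩
        exact ⟨a, ha, r • m, by rw [smul_comm]⟩ }
  suffices h : (p.map (algebraMap V A)) • (⊤ : Submodule A M) ≤ N from h hx
  refine Submodule.smul_le.mpr fun r hr m _ => ?_
  induction hr using Submodule.span_induction generalizing m with
  | mem r hr =>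
    obtain ⟨a, ha, rfl⟩ := hr
    exact ⟨a, ha, m, rfl⟩
  | zero => rw [zero_smul]; exact N.zero_mem
  | add r s _ _ hr hs => rw [add_smul]; exact N.add_mem (hr m trivial) (hs m trivial)
  | smul r s _ hs => rw [smul_assoc]; exact N.smul_mem r (hs m trivial)

variable (A) in
/-- torsion freeness over the valuation ring -/
def TF (M : Type u) [AddCommGroup M] [Module A M] : Prop :=
  ∀ a : V, a ≠ 0 → ∀ m : M, algebraMap V A a • m = 0 → m = 0

variable (A) in
/-- the closed fibre of a module -/
abbrev Fib (M : Type u) [AddCommGroup M] [Module A M] : Type u :=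
  M ⧸ (p.map (algebraMap V A)) • (⊤ : Submodule A M)

/-- the induced map on fibres -/
noncomputable def fibMap {M N : Type u} [AddCommGroup M] [Module A M] [AddCommGroup N] [Module A N] (f : M →ₗ[A] N) :
    Fib A p M →ₗ[A ⧸ p.map (algebraMap V A)] Fib A p N :=
  let g : Fib A p M →ₗ[A] Fib A p N := Submodule.mapQ _ _ f (Submodule.smul_top_le_comap_smul_top _ f)
  { toFun := g
    map_add' := g.map_add
    map_smul' := fun r x => by
      obtain ⟨r, rfl⟩ := Ideal.Quotient.mk_surjective r
      exact g.map_smul r x }

/-- one step of a resolution with its fibre -/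
theorem fibre_exact {K F M : Type u} [AddCommGroup K] [Module A K] [AddCommGroup F] [Module A F] [AddCommGroup M]
    [Module A M] (i : K →ₗ[A] F) (π : F →ₗ[A] M) (hi : Function.Injective i) (hπ : Function.Surjective π)
    (hex : Function.Exact i π) (hM : TF (V := V) A M) :
    Function.Injective (fibMap p i) ∧ Function.Surjective (fibMap p π) ∧ Function.Exact (fibMap p i) (fibMap p π) := by
  refine ⟨?_, ?_, ?_⟩
  · rw [injective_iff_map_eq_zero]
    intro x hx
    obtain ⟨k, rfl⟩ := Submodule.Quotient.mk_surjective _ x
    obtain ⟨a, ha, f, hf⟩ := exists_smul p ((Submodule.Quotient.mk_eq_zero _).mp hx)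
    by_cases ha0 : a = 0
    · subst ha0
      rw [map_zero, zero_smul] at hf
      rw [hi (hf.trans (map_zero i).symm)]
      rfl
    · have h0 : π f = 0 := hM a ha0 _ (by rw [← map_smul, ← hf]; exact hex.apply_apply_eq_zero k)
      obtain ⟨k', rfl⟩ := (hex f).mp h0
      rw [← map_smul] at hf
      rw [hi hf, Submodule.Quotient.mk_eq_zero]
      exact Submodule.smul_mem_smul (Ideal.mem_map_of_mem _ ha) Submodule.mem_top
  · intro x
    obtain ⟨m, rfl⟩ := Submodule.Quotient.mk_surjective _ x
    obtain ⟨f, rfl⟩ := hπ m
    exact ⟨Submodule.Quotient.mk f, rfl⟩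
  · intro x
    obtain ⟨f, rfl⟩ := Submodule.Quotient.mk_surjective _ x
    constructor
    · intro hx
      obtain ⟨a, ha, m, hm⟩ := exists_smul p ((Submodule.Quotient.mk_eq_zero _).mp hx)
      obtain ⟨g, rfl⟩ := hπ m
      obtain ⟨k, hk⟩ := (hex (f - algebraMap V A a • g)).mp (by rw [map_sub, map_smul, hm, sub_self])
      refine ⟨Submodule.Quotient.mk k, (Submodule.Quotient.eq _).mpr ?_⟩
      rw [hk, sub_sub_cancel_left]
      exact neg_mem (Submodule.smul_mem_smul (Ideal.mem_map_of_mem _ ha) Submodule.mem_top)
    · rintro ⟨y, hy⟩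
      obtain ⟨k, rfl⟩ := Submodule.Quotient.mk_surjective _ y
      rw [← hy]
      show Submodule.Quotient.mk (π (i k)) = _
      rw [hex.apply_apply_eq_zero k]
      rfl

theorem shortExact {R : Type u} [CommRing R] {K F M : Type u} [AddCommGroup K] [Module R K] [AddCommGroup F]
    [Module R F] [AddCommGroup M] [Module R M] (i : K →ₗ[R] F) (π : F →ₗ[R] M) (hi : Function.Injective i)
    (hπ : Function.Surjective π) (hex : Function.Exact i π) :
    (ShortComplex.mk (ModuleCat.ofHom i) (ModuleCat.ofHom π)
      (ModuleCat.hom_ext (LinearMap.ext hex.apply_apply_eq_zero))).ShortExact where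
  exact := (ShortComplex.ShortExact.moduleCat_exact_iff_function_exact _).2 hex
  mono_f := (ModuleCat.mono_iff_injective _).2 hi
  epi_g := (ModuleCat.epi_iff_surjective _).2 hπ

theorem pd_succ_iff {R : Type u} [CommRing R] {K F M : Type u} [AddCommGroup K] [Module R K] [AddCommGroup F]
    [Module R F] [Module.Projective R F] [AddCommGroup M] [Module R M] (i : K →ₗ[R] F) (π : F →ₗ[R] M)
    (hi : Function.Injective i) (hπ : Function.Surjective π) (hex : Function.Exact i π) (t : ℕ) :
    HasProjectiveDimensionLE (ModuleCat.of R M) (t + 1) ↔ HasProjectiveDimensionLE (ModuleCat.of R K) t :=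
  (shortExact i π hi hπ hex).hasProjectiveDimensionLT_X₃_iff t
    ((IsProjective.iff_projective (R := R) (ModuleCat.of R F)).mp (inferInstanceAs (Module.Projective R F)))

variable [IsLocalRing A]

theorem pd_zero_iff {R : Type u} [CommRing R] (M : Type u) [AddCommGroup M] [Module R M] :
    HasProjectiveDimensionLE (ModuleCat.of R M) 0 ↔ Module.Projective R M :=
  (projective_iff_hasProjectiveDimensionLE_zero _).symm.trans (IsProjective.iff_projective (R := R) (ModuleCat.of R M)).symm

theorem tf_ker {F M : Type u} [AddCommGroup F] [Module A F] [AddCommGroup M] [Module A M] (π : F →ₗ[A] M)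
    (hF : TF (V := V) A F) : TF (V := V) A (LinearMap.ker π) :=
  fun a ha k hk => Subtype.ext (hF a ha k (congrArg Subtype.val hk))

theorem tf_pi [Module.Flat V A] (r : ℕ) : TF (V := V) A (Fin r → A) := by
  intro a ha m hm
  funext i
  refine Module.Flat.isSMulRegular_of_nonZeroDivisors (M := A) (mem_nonZeroDivisors_of_ne_zero ha) ?_
  show a • m i = a • 0
  rw [smul_zero, Algebra.smul_def]
  exact congrFun hm i

/-- fibres of free modules -/
theorem free_fib (r : ℕ) : Module.Free (A ⧸ p.map (algebraMap V A)) (Fib A p (Fin r → A)) := by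
  let I := p.map (algebraMap V A)
  let b := Pi.basisFun A (Fin r)
  let e : (Fin r → A ⧸ I) →ₗ[A ⧸ I] Fib A p (Fin r → A) :=
    (Pi.basisFun (A ⧸ I) (Fin r)).constr (A ⧸ I) fun i => Submodule.Quotient.mk (b i)
  have hcoord : ∀ x ∈ I • (⊤ : Submodule A (Fin r → A)), ∀ i, x i ∈ I := fun x hx i =>
    Submodule.smul_induction_on hx (fun a ha m _ => I.mul_mem_right _ ha) fun a c ha hc => I.add_mem ha hc
  have he : ∀ v : Fin r → A, e (fun i => Ideal.Quotient.mk I (v i)) = Submodule.Quotient.mk v := fun v => by
    rw [Module.Basis.constr_apply_fintype]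
    conv_rhs => rw [← b.sum_repr v]
    rw [← Submodule.mkQ_apply, map_sum]
    refine Finset.sum_congr rfl fun i _ => ?_
    rw [map_smul, Pi.basisFun_equivFun]
    rfl
  refine Module.Free.of_equiv (LinearEquiv.ofBijective e ⟨?_, fun x => ?_⟩)
  · rw [injective_iff_map_eq_zero]
    intro v hv
    choose w hw using fun i => Ideal.Quotient.mk_surjective (v i)
    obtain rfl : v = fun i => Ideal.Quotient.mk I (w i) := funext fun i => (hw i).symm
    rw [he, Submodule.Quotient.mk_eq_zero] at hv
    exact funext fun i => Ideal.Quotient.eq_zero_iff_mem.mpr (hcoord _ hv i)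
  · obtain ⟨v, rfl⟩ := Submodule.Quotient.mk_surjective _ x
    exact ⟨_, he v⟩

/-- coherence -/
abbrev Coherent (V A : Type u) [CommRing V] [IsDomain V] [CommRing A] [Algebra V A] : Prop :=
  ∀ (M : Type u) [AddCommGroup M] [Module A M] [Module.Finite A M], TF (V := V) A M → Module.FinitePresentation A M

variable [Module.Flat V A] (hc : Coherent V A) (hp : p.map (algebraMap V A) ≤ IsLocalRing.maximalIdeal A)

include hc hp in
theorem pd_of_fibre : ∀ (t : ℕ) (M : Type u) [AddCommGroup M] [Module A M] [Module.Finite A M],
    TF (V := V) A M → HasProjectiveDimensionLE (ModuleCat.of (A ⧸ p.map (algebraMap V A)) (Fib A p M)) t →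
      HasProjectiveDimensionLE (ModuleCat.of A M) t := by
  intro t
  induction t with
  | zero =>
    intro M _ _ _ hM h
    haveI := (pd_zero_iff _).mp h
    let I := p.map (algebraMap V A)
    haveI : Nontrivial (A ⧸ I) :=
      Ideal.Quotient.nontrivial_iff.mpr (ne_top_of_le_ne_top (IsLocalRing.maximalIdeal.isMaximal A).ne_top hp)
    haveI : IsLocalRing (A ⧸ I) := IsLocalRing.of_surjective' (Ideal.Quotient.mk I) Ideal.Quotient.mk_surjective
    haveI : Module.Finite A (Fib A p M) := Module.Finite.of_surjective (Submodule.mkQ _) (Submodule.mkQ_surjective _)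
    haveI : Module.Finite (A ⧸ I) (Fib A p M) := Module.Finite.of_restrictScalars_finite A _ _
    haveI : Module.Free (A ⧸ I) (Fib A p M) := Module.free_of_flat_of_isLocalRing
    obtain ⟨ι, hι, ⟨b⟩⟩ : ∃ (ι : Type u) (_ : Fintype ι), Nonempty (Module.Basis ι (A ⧸ I) (Fib A p M)) :=
      ⟨Module.Free.ChooseBasisIndex (A ⧸ I) (Fib A p M), inferInstance, ⟨Module.Free.chooseBasis _ _⟩⟩
    choose m hm using fun i => Submodule.Quotient.mk_surjective _ (b i)
    let π : (ι → A) →ₗ[A] M := Fintype.linearCombination A m
    have hmk : ∀ v : ι → A, Submodule.Quotient.mk (π v) = ∑ i, Ideal.Quotient.mk I (v i) • b i := fun v => by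
      rw [Fintype.linearCombination_apply, ← Submodule.mkQ_apply, map_sum]
      refine Finset.sum_congr rfl fun i _ => ?_
      rw [map_smul, ← hm i]
      rfl
    have hπ : Function.Surjective π := by
      rw [← LinearMap.range_eq_top, ← top_le_iff]
      refine Submodule.le_of_le_smul_of_le_jacobson_bot (I := I) Module.Finite.fg_top ?_ fun y _ => ?_
      · exact hp.trans (IsLocalRing.maximalIdeal_le_jacobson _)
      · obtain ⟨c, hc'⟩ : ∃ c : ι → A ⧸ I, ∑ i, c i • b i = Submodule.Quotient.mk y := ⟨_, b.sum_repr _⟩
        choose v hv using fun i => Ideal.Quotient.mk_surjective (c i)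
        have h1 : y - π v ∈ I • (⊤ : Submodule A M) := by
          rw [← Submodule.Quotient.eq, hmk, ← hc']
          simp only [hv]
        rw [← add_sub_cancel (π v) y]
        exact Submodule.add_mem_sup ⟨v, rfl⟩ h1
    haveI : Module.FinitePresentation A M := hc M hM
    have hKfg : (LinearMap.ker π).FG := Module.FinitePresentation.fg_ker π hπ
    have hK : LinearMap.ker π = ⊥ := by
      refine Submodule.eq_bot_of_le_smul_of_le_jacobson_bot I _ hKfg (fun k hk => ?_)
        (hp.trans (IsLocalRing.maximalIdeal_le_jacobson _))
      have hcoord : ∀ i, k i ∈ I := fun i => by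
        have h0 := hmk k
        rw [show π k = 0 from hk, Submodule.Quotient.mk_zero] at h0
        exact Ideal.Quotient.eq_zero_iff_mem.mp (Fintype.linearIndependent_iff.mp b.linearIndependent _ h0.symm i)
      classical
      have hkI : k ∈ I • (⊤ : Submodule A (ι → A)) := by
        rw [← (Pi.basisFun A ι).sum_repr k]
        refine Submodule.sum_mem _ fun i _ => Submodule.smul_mem_smul ?_ Submodule.mem_top
        rw [Pi.basisFun_repr]
        exact hcoord i
      obtain ⟨a, ha, f, rfl⟩ := exists_smul p hkI
      by_cases ha0 : a = 0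
      · rw [ha0, map_zero, zero_smul]
        exact Submodule.zero_mem _
      · refine Submodule.smul_mem_smul (Ideal.mem_map_of_mem _ ha) (LinearMap.mem_ker.mpr (hM a ha0 _ ?_))
        rw [← map_smul]
        exact hk
    exact (pd_zero_iff M).mpr (Module.Projective.of_equiv (LinearEquiv.ofBijective π ⟨LinearMap.ker_eq_bot.mp hK, hπ⟩))
  | succ t ih =>
    intro M _ _ _ hM h
    haveI : Module.FinitePresentation A M := hc M hM
    obtain ⟨r, π, hπ⟩ := Module.Finite.exists_fin' A M
    let K := LinearMap.ker π
    haveI : Module.Finite A K := Module.Finite.iff_fg.mpr (Module.FinitePresentation.fg_ker π hπ)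
    obtain ⟨hi', hπ', hex'⟩ := fibre_exact p K.subtype π K.injective_subtype hπ π.exact_subtype_ker_map hM
    haveI := free_fib (A := A) p r
    rw [pd_succ_iff K.subtype π K.injective_subtype hπ π.exact_subtype_ker_map]
    exact ih K (tf_ker π (tf_pi r)) ((pd_succ_iff _ _ hi' hπ' hex' t).mp h)

variable {n : ℕ} (hreg : IsRegularLocalRing (A ⧸ p.map (algebraMap V A)))
  (hn : ringKrullDim (A ⧸ p.map (algebraMap V A)) = n)

include hc hp hreg hn in
theorem pd_flat (M : Type u) [AddCommGroup M] [Module A M] [Module.Finite A M] (hM : TF (V := V) A M) :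
    HasProjectiveDimensionLE (ModuleCat.of A M) n :=
  haveI := hreg
  pd_of_fibre p hc hp n M hM (Groth.L04.hasProjectiveDimensionLE_of_regularLocal hn _)

include hc hp hreg hn in
theorem pd_any (M : Type u) [AddCommGroup M] [Module A M] [Module.FinitePresentation A M] :
    HasProjectiveDimensionLE (ModuleCat.of A M) (n + 1) := by
  obtain ⟨r, π, hπ⟩ := Module.Finite.exists_fin' A M
  let K := LinearMap.ker π
  haveI : Module.Finite A K := Module.Finite.iff_fg.mpr (Module.FinitePresentation.fg_ker π hπ)
  rw [pd_succ_iff K.subtype π K.injective_subtype hπ π.exact_subtype_ker_map]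
  exact pd_flat p hc hp hreg hn K (tf_ker π (tf_pi r))

include hc hp hreg hn in
theorem pd_reflexive (M : Type u) [AddCommGroup M] [Module A M] [Module.FinitePresentation A M]
    [Module.IsReflexive A M] : HasProjectiveDimensionLE (ModuleCat.of A M) (n - 1) := by
  obtain ⟨k, f, hf⟩ := Module.Finite.exists_fin' A M
  -- the dual is finitely presented
  let fd : Module.Dual A M →ₗ[A] (Fin k → A) := LinearMap.pi fun i => LinearMap.applyₗ (f (Pi.single i 1))
  have hfd : Function.Injective fd := fun φ ψ h => LinearMap.ext fun x => by
    obtain ⟨v, rfl⟩ := hf x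
    exact LinearMap.congr_fun ((Pi.basisFun A (Fin k)).ext fun i => by simpa [fd] using congrFun h i :
      φ.comp f = ψ.comp f) v
  obtain ⟨s, hs⟩ := Module.FinitePresentation.fg_ker f hf
  let res : (Fin k → A) →ₗ[A] (s → A) := LinearMap.pi fun z => Fintype.linearCombination A (z : Fin k → A)
  have hrange : LinearMap.range fd = LinearMap.ker res := by
    refine le_antisymm ?_ fun v hv => ?_
    · rintro _ ⟨φ, rfl⟩
      refine funext fun z => ?_
      have hz : f (z : Fin k → A) = 0 := LinearMap.mem_ker.mp (hs ▸ Submodule.subset_span z.2)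
      calc res (fd φ) z = φ (f (z : Fin k → A)) := by
            conv_rhs => rw [← (Pi.basisFun A (Fin k)).sum_repr (z : Fin k → A), map_sum, map_sum]
            simp [res, fd, Fintype.linearCombination_apply, mul_comm]
        _ = 0 := by rw [hz, map_zero]
    · let L : (Fin k → A) →ₗ[A] A := Fintype.linearCombination A v
      have hker : LinearMap.ker f ≤ LinearMap.ker L := by
        rw [← hs, Submodule.span_le]
        intro z hz
        have h0 := congrFun (LinearMap.mem_ker.mp hv) ⟨z, hz⟩
        show L z = 0
        simp only [res, LinearMap.pi_apply, Fintype.linearCombination_apply, Pi.zero_apply] at h0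
        rw [Fintype.linearCombination_apply, ← h0]
        exact Finset.sum_congr rfl fun i _ => mul_comm _ _
      refine ⟨(Submodule.liftQ _ L hker).comp (f.quotKerEquivOfSurjective hf).symm.toLinearMap, funext fun i => ?_⟩
      show Submodule.liftQ _ L hker ((f.quotKerEquivOfSurjective hf).symm (f (Pi.single i 1))) = v i
      rw [show (f.quotKerEquivOfSurjective hf).symm (f (Pi.single i 1)) = Submodule.Quotient.mk (Pi.single i 1) from
        (f.quotKerEquivOfSurjective hf).symm_apply_eq.mpr rfl, Submodule.liftQ_apply,
        Fintype.linearCombination_apply_single, one_smul]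
  have hDfg : Module.Finite A (Module.Dual A M) := by
    have hTF : TF (V := V) A (LinearMap.range res) := fun a ha x hx => by
      refine Subtype.ext (funext fun z => ?_)
      refine Module.Flat.isSMulRegular_of_nonZeroDivisors (M := A) (mem_nonZeroDivisors_of_ne_zero ha) ?_
      show a • (x : s → A) z = a • 0
      rw [smul_zero, Algebra.smul_def]
      exact congrFun (congrArg Subtype.val hx) z
    haveI : Module.FinitePresentation A (LinearMap.range res) := hc _ hTF
    have h1 := Module.FinitePresentation.fg_ker res.rangeRestrict res.surjective_rangeRestrict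
    rw [LinearMap.ker_rangeRestrict, ← hrange] at h1
    haveI : Module.Finite A (LinearMap.range fd) := Module.Finite.iff_fg.mpr h1
    exact Module.Finite.equiv (LinearEquiv.ofInjective fd hfd).symm
  have hDfp : Module.FinitePresentation A (Module.Dual A M) := hc _ fun a ha φ hφ => hfd (by
    rw [map_zero]
    exact tf_pi k a ha _ (by rw [← map_smul, hφ, map_zero]))
  -- the second syzygy
  obtain ⟨r, g, hg⟩ := Module.Finite.exists_fin' A (Module.Dual A M)
  obtain ⟨t, ht⟩ := Module.FinitePresentation.fg_ker g hg
  let e := Pi.basisFun A (Fin r)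
  let i : M →ₗ[A] (Fin r → A) :=
    (LinearMap.pi fun j => LinearMap.applyₗ (g (e j))).comp (Module.Dual.eval A M)
  have hi : Function.Injective i := fun x y h => (Module.bijective_dual_eval A M).1 (LinearMap.ext fun φ => by
    obtain ⟨v, rfl⟩ := hg φ
    exact LinearMap.congr_fun (e.ext fun j => congrFun h j :
      (Module.Dual.eval A M x).comp g = (Module.Dual.eval A M y).comp g) v)
  let δ : (Fin r → A) →ₗ[A] (t → A) := LinearMap.pi fun z => Fintype.linearCombination A (z : Fin r → A)
  have hex : Function.Exact i δ.rangeRestrict := by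
    intro v
    constructor
    · intro hv
      let L : (Fin r → A) →ₗ[A] A := Fintype.linearCombination A v
      have hker : LinearMap.ker g ≤ LinearMap.ker L := by
        rw [← ht, Submodule.span_le]
        intro z hz
        have h0 := congrFun (congrArg Subtype.val hv) ⟨z, hz⟩
        show L z = 0
        simp only [δ, LinearMap.rangeRestrict, LinearMap.codRestrict_apply, LinearMap.pi_apply,
          Fintype.linearCombination_apply, Submodule.coe_zero, Pi.zero_apply] at h0
        rw [Fintype.linearCombination_apply, ← h0]
        exact Finset.sum_congr rfl fun i _ => mul_comm _ _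
      obtain ⟨m, hm⟩ := (Module.bijective_dual_eval A M).2
        ((Submodule.liftQ _ L hker).comp (g.quotKerEquivOfSurjective hg).symm.toLinearMap)
      refine ⟨m, funext fun j => ?_⟩
      show Module.Dual.eval A M m (g (e j)) = v j
      rw [hm, LinearMap.comp_apply, LinearEquiv.coe_coe, show (g.quotKerEquivOfSurjective hg).symm (g (e j)) =
        Submodule.Quotient.mk (e j) from (g.quotKerEquivOfSurjective hg).symm_apply_eq.mpr rfl, Submodule.liftQ_apply,
        Pi.basisFun_apply, Fintype.linearCombination_apply_single, one_smul]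
    · rintro ⟨m, rfl⟩
      refine Subtype.ext (funext fun z => ?_)
      have hz : g (z : Fin r → A) = 0 := LinearMap.mem_ker.mp (ht ▸ Submodule.subset_span z.2)
      calc δ (i m) z = Module.Dual.eval A M m (g (z : Fin r → A)) := by
            conv_rhs => rw [← e.sum_repr (z : Fin r → A), map_sum, map_sum]
            simp [δ, i, e, Fintype.linearCombination_apply, mul_comm]
        _ = 0 := by rw [hz, map_zero]
  have hI : TF (V := V) A (LinearMap.range δ) := fun a ha x hx => by
    refine Subtype.ext (funext fun z => ?_)
    refine Module.Flat.isSMulRegular_of_nonZeroDivisors (M := A) (mem_nonZeroDivisors_of_ne_zero ha) ?_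
    show a • (x : t → A) z = a • 0
    rw [smul_zero, Algebra.smul_def]
    exact congrFun (congrArg Subtype.val hx) z
  have hM : TF (V := V) A M := fun a ha m hm => hi (by
    rw [map_zero]
    exact tf_pi r a ha _ (by rw [← map_smul, hm, map_zero]))
  obtain ⟨hi', hπ', hex'⟩ := fibre_exact p i δ.rangeRestrict hi δ.surjective_rangeRestrict hex hI
  refine pd_of_fibre p hc hp _ M hM ?_
  haveI := hreg
  haveI := free_fib (A := A) p r
  cases n with
  | zero => exact Groth.L04.hasProjectiveDimensionLE_of_regularLocal hn _
  | succ m => exact (pd_succ_iff _ _ hi' hπ' hex' m).mp (Groth.L04.hasProjectiveDimensionLE_of_regularLocal hn _)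

end General

variable {V : Type u} [CommRing V] [IsDomain V] [ValuationRing V] {B : Type u} [CommRing B] [Algebra V B]
  [Module.Flat V B] [Algebra.FiniteType V B] (q : Ideal B) [q.IsPrime]

theorem coherent_atPrime : Coherent V (Localization.AtPrime q) := by
  intro M _ _ _ hM
  letI : Module B M := Module.compHom M (algebraMap B (Localization.AtPrime q))
  haveI : IsScalarTower B (Localization.AtPrime q) M := IsScalarTower.of_algebraMap_smul fun _ _ => rfl
  letI : Module V M := Module.compHom M (algebraMap V B)
  haveI : IsScalarTower V B M := IsScalarTower.of_algebraMap_smul fun _ _ => rfl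
  obtain ⟨k, m, hm⟩ := Module.Finite.exists_fin (R := Localization.AtPrime q) (M := M)
  let N := Submodule.span B (Set.range m)
  haveI : Module.Finite B N := Module.Finite.span_of_finite B (Set.finite_range m)
  haveI : Module.FinitePresentation B N :=
    Groth.L09.Nagata.finitePresentation_of_torsionFree' (V := V) fun a x hx => or_iff_not_imp_left.mpr fun ha =>
      Subtype.ext (hM a ha x (by
        rw [IsScalarTower.algebraMap_apply V B (Localization.AtPrime q)]
        exact congrArg Subtype.val hx))
  haveI : IsLocalizedModule q.primeCompl N.subtype := by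
    refine ⟨fun s => ?_, fun y => ?_, fun {x y} h => ⟨1, by rw [N.injective_subtype h]⟩⟩
    · rw [Module.End.isUnit_iff]
      obtain ⟨u, hu⟩ := IsLocalization.map_units (Localization.AtPrime q) s
      constructor
      · intro x y hxy
        have h1 : (↑u⁻¹ : Localization.AtPrime q) • (u : Localization.AtPrime q) • x =
            (↑u⁻¹ : Localization.AtPrime q) • (u : Localization.AtPrime q) • y := by
          rw [hu]; exact congrArg _ hxy
        simpa [← mul_smul] using h1
      · intro x
        refine ⟨(↑u⁻¹ : Localization.AtPrime q) • x, ?_⟩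
        show algebraMap B (Localization.AtPrime q) (s : B) • _ = x
        rw [← hu, Module.End.one_apply, ← mul_smul, Units.mul_inv, one_smul]
    · have hy : y ∈ Submodule.span (Localization.AtPrime q) (Set.range m) := hm ▸ Submodule.mem_top
      obtain ⟨s, hs⟩ := IsLocalization.exist_integer_multiples_of_finite q.primeCompl
        (S := Localization.AtPrime q) ((Submodule.mem_span_range_iff_exists_fun _).mp hy).choose
      have hsum := ((Submodule.mem_span_range_iff_exists_fun _).mp hy).choose_spec
      choose b hb using hs
      refine ⟨(⟨∑ i, b i • m i, Submodule.sum_mem _ fun i _ => Submodule.smul_mem _ _ (Submodule.subset_span ⟨i, rfl⟩)⟩, s), ?_⟩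
      show s • y = ∑ i, b i • m i
      conv_lhs => rw [← hsum, Submonoid.smul_def, Finset.smul_sum]
      refine Finset.sum_congr rfl fun i _ => ?_
      rw [← smul_assoc, ← show algebraMap B (Localization.AtPrime q) (b i) = (s : B) • _ from hb i]
      rfl
  exact FinitePresentation.of_isBaseChange N.subtype
    (IsLocalizedModule.isBaseChange q.primeCompl (Localization.AtPrime q) N.subtype)

theorem map_le_maximalIdeal : (q.comap (algebraMap V B)).map (algebraMap V (Localization.AtPrime q)) ≤
    IsLocalRing.maximalIdeal (Localization.AtPrime q) := by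
  rw [Ideal.map_le_iff_le_comap]
  intro a ha
  rw [Ideal.mem_comap, IsScalarTower.algebraMap_apply V B (Localization.AtPrime q),
    IsLocalization.AtPrime.to_map_mem_maximal_iff _ q]
  exact ha

theorem tf_of_flat (M : Type u) [AddCommGroup M] [Module (Localization.AtPrime q) M] [Module V M]
    [IsScalarTower V (Localization.AtPrime q) M] [Module.Flat V M] : TF (V := V) (Localization.AtPrime q) M :=
  fun a ha m hm => Module.Flat.isSMulRegular_of_nonZeroDivisors (M := M) (mem_nonZeroDivisors_of_ne_zero ha) (by
    show a • m = a • 0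
    rw [smul_zero, ← algebraMap_smul (Localization.AtPrime q) a m]
    exact hm)

end Groth.L01.ValFibre
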