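import Mathlib.RingTheory.Valuation.ValuationSubring
import Mathlib.RingTheory.AlgebraicIndependent.Basic
import Mathlib.RingTheory.KrullDimension.Basic
import Mathlib.RingTheory.Spectrum.Prime.Basic
import Mathlib.Algebra.Field.Subfield.Basic
import Mathlib.RingTheory.PrincipalIdealDomain
import Mathlib.RingTheory.Int.Basic

/-!
The height of a valuation ring is at most the transcendence degree plus one.
-/

set_option autoImplicit false
set_option linter.style.haveILetI false
universe u

namespace Groth.L01.ValHeight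

variable {K : Type u} [Field K] (A : ValuationSubring K)

theorem ne_zero_of_chain {n : ℕ} (p : Fin (n + 1) → Ideal A) (x : Fin n → A)
    (hnot : ∀ i, x i ∉ p i.castSucc) (i : Fin n) : x i ≠ 0 := fun h => hnot i (h ▸ zero_mem _)

theorem exponent_eq_nat {n : ℕ} (p : Fin (n + 1) → Ideal A) (hp : ∀ i, (p i).IsPrime)
    (hmono : Monotone p) (x : Fin n → A) (hin : ∀ i, x i ∈ p i.succ) (hnot : ∀ i, x i ∉ p i.castSucc)
    (m m' : Fin n → ℕ) (h : Associated (∏ i, x i ^ m i) (∏ i, x i ^ m' i)) : m = m' := by
  classical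
  by_contra hne
  obtain ⟨i, hi, hmin⟩ : ∃ i, m i ≠ m' i ∧ ∀ j, j < i → m j = m' j := by
    have hex : (Finset.univ.filter fun i => m i ≠ m' i).Nonempty := by
      by_contra h0
      exact hne (funext fun i => by
        by_contra hi
        exact h0 ⟨i, by simp [hi]⟩)
    refine ⟨_, (Finset.mem_filter.mp (Finset.min'_mem _ hex)).2, fun j hj => ?_⟩
    by_contra hj'
    exact absurd hj (not_lt.mpr (Finset.min'_le _ j (by simp [hj'])))
  wlog hlt : m' i < m i generalizing m m'
  · exact this m' m h.symm (Ne.symm hne) (Ne.symm hi) (fun j hj => (hmin j hj).symm) (by omega)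
  let g : Fin n → ℕ := fun j => min (m j) (m' j)
  have e1 : (∏ j, x j ^ m j) = (∏ j, x j ^ g j) * ∏ j, x j ^ (m j - g j) := by
    rw [← Finset.prod_mul_distrib]
    exact Finset.prod_congr rfl fun j _ => by rw [← pow_add, Nat.add_sub_cancel' (min_le_left _ _)]
  have e2 : (∏ j, x j ^ m' j) = (∏ j, x j ^ g j) * ∏ j, x j ^ (m' j - g j) := by
    rw [← Finset.prod_mul_distrib]
    exact Finset.prod_congr rfl fun j _ => by rw [← pow_add, Nat.add_sub_cancel' (min_le_right _ _)]
  rw [e1, e2] at h
  have hg : (∏ j, x j ^ g j) ≠ 0 :=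
    Finset.prod_ne_zero_iff.mpr fun j _ => pow_ne_zero _ (ne_zero_of_chain A p x hnot j)
  have h' := Associated.of_mul_left h (Associated.refl _) hg
  have hmem : (∏ j, x j ^ (m j - g j)) ∈ p i.succ := by
    refine Ideal.mem_of_dvd _ (Finset.dvd_prod_of_mem (fun j => x j ^ (m j - g j)) (Finset.mem_univ i)) ?_
    exact Ideal.pow_mem_of_mem _ (hin i) _ (by simp only [g]; omega)
  have hmem' := Ideal.mem_of_dvd _ h'.dvd hmem
  haveI := hp i.succ
  obtain ⟨j, -, hj⟩ := (Ideal.IsPrime.prod_mem_iff).mp hmem'
  rcases Nat.eq_zero_or_pos (m' j - g j) with h0 | h0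
  · rw [h0, pow_zero] at hj
    exact (hp i.succ).ne_top ((Ideal.eq_top_iff_one _).mpr hj)
  have hij : i < j := by
    rcases lt_trichotomy j i with hji | hji | hji
    · simp only [g, hmin j hji, min_self, Nat.sub_self, lt_irrefl] at h0
    · subst hji; simp only [g] at h0; omega
    · exact hji
  refine hnot j (hmono ?_ ((hp i.succ).mem_of_pow_mem _ hj))
  simp only [Fin.le_def, Fin.val_succ, Fin.val_castSucc]
  exact hij

theorem valuation_prod_ne_zero {n : ℕ} (p : Fin (n + 1) → Ideal A) (x : Fin n → A)
    (hnot : ∀ i, x i ∉ p i.castSucc) (i : Fin n) : A.valuation (x i : K) ≠ 0 := by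
  rw [Valuation.ne_zero_iff]
  exact fun h => ne_zero_of_chain A p x hnot i (Subtype.ext h)

theorem exponent_eq {n : ℕ} (p : Fin (n + 1) → Ideal A) (hp : ∀ i, (p i).IsPrime)
    (hmono : Monotone p) (x : Fin n → A) (hin : ∀ i, x i ∈ p i.succ) (hnot : ∀ i, x i ∉ p i.castSucc)
    (z z' : Fin n → ℤ) (h : ∏ i, A.valuation (x i : K) ^ z i = ∏ i, A.valuation (x i : K) ^ z' i) :
    z = z' := by
  classical
  let M : Fin n → ℤ := fun i => -min (z i) (z' i)
  have hnn : ∀ i, 0 ≤ z i + M i ∧ 0 ≤ z' i + M i := fun i => by simp only [M]; omega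
  have hz : ∀ y : Fin n → ℤ, (∀ i, 0 ≤ y i + M i) →
      A.valuation ((∏ i, x i ^ (y i + M i).toNat : A) : K) =
        (∏ i, A.valuation (x i : K) ^ y i) * ∏ i, A.valuation (x i : K) ^ M i := by
    intro y hy
    rw [← Finset.prod_mul_distrib]
    rw [show ((∏ i, x i ^ (y i + M i).toNat : A) : K) = ∏ i, (x i : K) ^ (y i + M i).toNat by
      simp]
    rw [map_prod]
    refine Finset.prod_congr rfl fun i _ => ?_
    rw [map_pow, ← zpow_natCast, Int.toNat_of_nonneg (hy i),
      zpow_add₀ (valuation_prod_ne_zero A p x hnot i)]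
  have h1 := (hz z fun i => (hnn i).1).trans (h ▸ (hz z' fun i => (hnn i).2).symm)
  obtain ⟨u, hu⟩ := (A.valuation_eq_iff _ _).mp h1
  have h2 : Associated (∏ i, x i ^ (z' i + M i).toNat) (∏ i, x i ^ (z i + M i).toNat) :=
    ⟨u, by apply Subtype.ext; rw [← hu]; push_cast; ring⟩
  funext i
  have h3 := congrFun (exponent_eq_nat A p hp hmono x hin hnot _ _ h2) i
  have := hnn i
  omega

theorem algebraicIndependent {n : ℕ} (p : Fin (n + 1) → Ideal A) (hp : ∀ i, (p i).IsPrime)
    (hmono : Monotone p) (x : Fin n → A) (hin : ∀ i, x i ∈ p i.succ) (hnot : ∀ i, x i ∉ p i.castSucc)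
    (J : Set (Fin n))
    (hc : ∀ c : (⊥ : Subfield K), c ≠ 0 → ∃ z : Fin n → ℤ, (∀ i ∈ J, z i = 0) ∧
      A.valuation (c : K) = ∏ i, A.valuation (x i : K) ^ z i) :
    AlgebraicIndependent (⊥ : Subfield K) (fun j : J => (x j : K)) := by
  classical
  rw [algebraicIndependent_iff]
  intro P hP
  by_contra hP0
  have hs : P.support.Nonempty := MvPolynomial.support_nonempty.mpr hP0
  let term : (J →₀ ℕ) → K := fun m => ((P.coeff m : (⊥ : Subfield K)) : K) * ∏ j : J, (x j : K) ^ m j
  have hsum : ∑ m ∈ P.support, term m = 0 := by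
    rw [← hP, MvPolynomial.aeval_def, MvPolynomial.eval₂_eq']
    rfl
  have hx0 : ∀ i, (x i : K) ≠ 0 := fun i h => ne_zero_of_chain A p x hnot i (Subtype.ext h)
  have hval : ∀ m ∈ P.support, ∃ w : Fin n → ℤ, (∀ (i) (hi : i ∈ J), w i = (m ⟨i, hi⟩ : ℤ)) ∧
      A.valuation (term m) = ∏ i, A.valuation (x i : K) ^ w i := by
    intro m hm
    obtain ⟨z, hz, hzv⟩ := hc (P.coeff m) (MvPolynomial.mem_support_iff.mp hm)
    refine ⟨fun i => z i + if h : i ∈ J then (m ⟨i, h⟩ : ℤ) else 0, fun i hi => by simp [hi, hz i hi], ?_⟩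
    simp only [term, map_mul, map_prod, map_pow, hzv]
    simp_rw [zpow_add₀ (valuation_prod_ne_zero A p x hnot _)]
    rw [Finset.prod_mul_distrib]
    congr 1
    symm
    refine Eq.trans (Finset.prod_subset (Finset.subset_univ J.toFinset) (fun i _ hi => by
      rw [dif_neg (by simpa using hi), zpow_zero])).symm ?_
    rw [← Finset.prod_coe_sort J.toFinset]
    refine Fintype.prod_equiv (Equiv.subtypeEquivRight fun i => by simp) _ _ fun j => ?_
    rw [dif_pos (show (j : Fin n) ∈ J from Set.mem_toFinset.mp j.2), zpow_natCast]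
    rfl
  obtain ⟨m₀, hm₀, hmax⟩ := Finset.exists_max_image P.support (fun m => A.valuation (term m)) hs
  have hne : A.valuation (term m₀) ≠ 0 := by
    rw [Valuation.ne_zero_iff]
    exact mul_ne_zero (fun h => MvPolynomial.mem_support_iff.mp hm₀ (Subtype.ext h))
      (Finset.prod_ne_zero_iff.mpr fun j _ => pow_ne_zero _ (hx0 _))
  have hlt : ∀ m ∈ P.support \ {m₀}, A.valuation (term m) < A.valuation (term m₀) := by
    intro m hm
    rw [Finset.mem_sdiff, Finset.mem_singleton] at hm
    refine lt_of_le_of_ne (hmax m hm.1) fun heq => hm.2 ?_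
    obtain ⟨w, hw, hwv⟩ := hval m hm.1
    obtain ⟨w₀, hw₀, hwv₀⟩ := hval m₀ hm₀
    have h2 := exponent_eq A p hp hmono x hin hnot w w₀ (by rw [← hwv, heq, hwv₀])
    ext ⟨i, hi⟩
    have h3 := hw i hi
    rw [h2, hw₀ i hi] at h3
    exact_mod_cast h3.symm
  have := Valuation.map_sum_eq_of_lt A.valuation hm₀ hlt
  rw [hsum, map_zero] at this
  exact hne this.symm

/-- the values of the prime field -/
theorem primeField_values :
    (∀ c : (⊥ : Subfield K), c ≠ 0 → A.valuation (c : K) = 1) ∨
      ∃ q : A, q ≠ 0 ∧ A.valuation (q : K) < 1 ∧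
        ∀ c : (⊥ : Subfield K), c ≠ 0 → ∃ z : ℤ, A.valuation (c : K) = A.valuation (q : K) ^ z := by
  classical
  have hfrac : ∀ c : (⊥ : Subfield K), c ≠ 0 → ∃ a b : ℤ, (a : K) ≠ 0 ∧ (b : K) ≠ 0 ∧ (c : K) = a / b := by
    intro c hc
    have hmem : (c : K) ∈ Subfield.closure (∅ : Set K) := by rw [Subfield.closure_empty]; exact c.2
    obtain ⟨y, hy, w, hw, hyw⟩ := Subfield.mem_closure_iff.mp hmem
    rw [Subring.closure_empty, Subring.mem_bot] at hy hw
    obtain ⟨a, rfl⟩ := hy
    obtain ⟨b, rfl⟩ := hw
    refine ⟨a, b, ?_, ?_, hyw.symm⟩ <;>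
    · intro h
      apply hc
      apply Subtype.ext
      rw [← hyw, h]
      simp
  have hle : ∀ a : ℤ, A.valuation (a : K) ≤ 1 := fun a =>
    (A.valuation_le_one_iff _).mpr (intCast_mem A a)
  let I : Ideal ℤ := (IsLocalRing.maximalIdeal A).comap (Int.castRingHom A)
  have hI : ∀ a : ℤ, a ∈ I ↔ A.valuation (a : K) < 1 := fun a => by
    rw [Ideal.mem_comap, A.valuation_lt_one_iff]
    simp
  have hnI : ∀ a : ℤ, a ∉ I → A.valuation (a : K) = 1 := fun a ha =>
    le_antisymm (hle a) (not_lt.mp (mt (hI a).mpr ha))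
  obtain ⟨q, hq⟩ := (IsPrincipalIdealRing.principal I).principal
  by_cases hq0 : (q : K) = 0
  · refine Or.inl fun c hc => ?_
    obtain ⟨a, b, ha, hb, hab⟩ := hfrac c hc
    have h1 : ∀ a : ℤ, (a : K) ≠ 0 → A.valuation (a : K) = 1 := fun a ha => hnI a fun hmem => ha (by
      rw [hq] at hmem
      obtain ⟨k, rfl⟩ := Submodule.mem_span_singleton.mp hmem
      rw [smul_eq_mul, Int.cast_mul, hq0, mul_zero])
    rw [hab, map_div₀, h1 a ha, h1 b hb, div_one]
  · refine Or.inr ⟨(q : A), fun h => hq0 (by simpa using congrArg Subtype.val h), ?_, fun c hc => ?_⟩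
    · have hqI : q ∈ I := by rw [hq]; exact Submodule.mem_span_singleton_self q
      simpa using (hI q).mp hqI
    · have hqI : q ∈ I := by rw [hq]; exact Submodule.mem_span_singleton_self q
      have key : ∀ (N : ℕ) (a : ℤ), a.natAbs = N → (a : K) ≠ 0 →
          ∃ e : ℤ, A.valuation (a : K) = A.valuation (q : K) ^ e := by
        intro N
        induction N using Nat.strong_induction_on with
        | _ N ih =>
          intro a haN ha
          by_cases hmem : a ∈ I
          · rw [hq] at hmem
            obtain ⟨k, rfl⟩ := Submodule.mem_span_singleton.mp hmem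
            rw [smul_eq_mul, Int.cast_mul] at ha
            have hk : (k : K) ≠ 0 := (mul_ne_zero_iff.mp ha).1
            have hq1 : q.natAbs ≠ 1 := by
              intro h1
              haveI : I.IsPrime := Ideal.IsPrime.comap _
              exact Ideal.IsPrime.ne_top inferInstance
                (Ideal.eq_top_of_isUnit_mem I hqI (Int.isUnit_iff_natAbs_eq.mpr h1))
            have hq2 : q.natAbs ≠ 0 := fun h => hq0 (by rw [Int.natAbs_eq_zero.mp h, Int.cast_zero])
            have hk2 : k.natAbs ≠ 0 := fun h => hk (by rw [Int.natAbs_eq_zero.mp h, Int.cast_zero])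
            have hlt : k.natAbs < N := by
              rw [← haN, smul_eq_mul, Int.natAbs_mul]
              exact lt_mul_of_one_lt_right (by omega) (by omega)
            obtain ⟨e, he⟩ := ih _ hlt k rfl hk
            refine ⟨e + 1, ?_⟩
            rw [smul_eq_mul, Int.cast_mul, map_mul, he, zpow_add₀ ((Valuation.ne_zero_iff _).mpr hq0), zpow_one]
          · exact ⟨0, by rw [hnI a hmem, zpow_zero]⟩
      obtain ⟨a, b, ha, hb, hab⟩ := hfrac c hc
      obtain ⟨e, he⟩ := key _ a rfl ha
      obtain ⟨f, hf⟩ := key _ b rfl hb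
      refine ⟨e - f, ?_⟩
      rw [show (((q : A) : K)) = (q : K) by simp, hab, map_div₀, he, hf, zpow_sub₀ ((Valuation.ne_zero_iff _).mpr hq0)]

theorem ringKrullDim_le {d : ℕ} (hd : Algebra.trdeg (⊥ : Subfield K) K = d) :
    ringKrullDim A ≤ ((d + 1 : ℕ) : WithBot ℕ∞) := by
  classical
  refine iSup_le fun l => ?_
  norm_cast
  set n := l.length
  rcases Nat.eq_zero_or_pos n with hn | hn
  · omega
  let p : Fin (n + 1) → Ideal A := Function.update (fun i => (l i).asIdeal) 0 ⊥
  have hp : ∀ i, (p i).IsPrime := fun i => by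
    by_cases h : i = 0
    · subst h; simp only [p, Function.update_self]; exact Ideal.isPrime_bot
    · simp only [p, Function.update_of_ne h]; exact (l i).isPrime
  have hstrict : StrictMono p := by
    refine Fin.strictMono_iff_lt_succ.mpr fun i => ?_
    have h1 : l i.castSucc < l i.succ := l.step i
    simp only [p, Function.update_of_ne (Fin.succ_ne_zero i)]
    by_cases h : i.castSucc = 0
    · rw [h, Function.update_self]
      exact lt_of_le_of_lt bot_le (show (l i.castSucc).asIdeal < (l i.succ).asIdeal from h1)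
    · rw [Function.update_of_ne h]; exact h1
  have hex : ∀ i : Fin n, ∃ x : A, x ∈ p i.succ ∧ x ∉ p i.castSucc := fun i =>
    SetLike.exists_of_lt (hstrict Fin.castSucc_lt_succ)
  choose x hin hnot using hex
  have bound : ∀ (J : Set (Fin n)) (y : Fin n → A), (∀ i, y i ∈ p i.succ) → (∀ i, y i ∉ p i.castSucc) →
      (∀ c : (⊥ : Subfield K), c ≠ 0 → ∃ z : Fin n → ℤ, (∀ i ∈ J, z i = 0) ∧
        A.valuation (c : K) = ∏ i, A.valuation (y i : K) ^ z i) → Fintype.card J ≤ d := by
    intro J y h1 h2 h3
    have hai := algebraicIndependent A p hp hstrict.monotone y h1 h2 J h3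
    have h4 := hai.lift_cardinalMk_le_trdeg
    rw [hd, Cardinal.mk_fintype] at h4
    simp only [Cardinal.lift_natCast] at h4
    exact_mod_cast h4
  rcases primeField_values A with h | ⟨q, hq0, hqlt, hq⟩
  · have h5 := bound Set.univ x hin hnot fun c hc => ⟨0, fun _ _ => rfl, by simp [h c hc]⟩
    rw [Fintype.card_setUniv, Fintype.card_fin] at h5
    omega
  · have hqm : q ∈ IsLocalRing.maximalIdeal A := (A.valuation_lt_one_iff q).mpr hqlt
    by_cases hlast : q ∈ p (Fin.last n)
    · have hex' : (Finset.univ.filter fun i : Fin (n + 1) => q ∈ p i).Nonempty :=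
        ⟨Fin.last n, by simp [hlast]⟩
      set i₁ := Finset.min' _ hex' with hi₁
      have hi₁mem : q ∈ p i₁ := (Finset.mem_filter.mp (Finset.min'_mem _ hex')).2
      have hi0 : i₁ ≠ 0 := fun h => hq0 (by
        rw [h] at hi₁mem; simpa [p] using hi₁mem)
      obtain ⟨i₀, hi₀⟩ := Fin.exists_succ_eq.mpr hi0
      have hq' : q ∉ p i₀.castSucc := fun h => by
        have h6 := Finset.min'_le (Finset.univ.filter fun i : Fin (n + 1) => q ∈ p i) i₀.castSucc
          (by simp [h])
        rw [← hi₁, ← hi₀] at h6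
        exact absurd Fin.castSucc_lt_succ (not_lt.mpr h6)
      let y := Function.update x i₀ q
      have h5 := bound {i | i ≠ i₀} y (fun i => by
          by_cases h : i = i₀
          · subst h; simp only [y, Function.update_self]; rwa [hi₀]
          · simp only [y, Function.update_of_ne h]; exact hin i) (fun i => by
          by_cases h : i = i₀
          · subst h; simp only [y, Function.update_self]; exact hq'
          · simp only [y, Function.update_of_ne h]; exact hnot i) (fun c hc => by
          obtain ⟨z, hz⟩ := hq c hc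
          refine ⟨Pi.single i₀ z, fun i hi => by simp [Pi.single_apply, show i ≠ i₀ from hi], ?_⟩
          rw [Finset.prod_eq_single i₀ (fun i _ hi => by rw [Pi.single_eq_of_ne hi, zpow_zero])
            (fun h => absurd (Finset.mem_univ _) h)]
          simp only [Pi.single_eq_same, y, Function.update_self]
          exact hz)
      rw [Fintype.card_eq_nat_card, Nat.card_coe_set_eq,
        show ({i : Fin n | i ≠ i₀} : Set (Fin n)) = {i₀}ᶜ from rfl, Set.ncard_compl,
        Set.ncard_singleton, Nat.card_fin] at h5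
      omega
    · -- extend the chain by the maximal ideal
      let p' : Fin (n + 2) → Ideal A := Fin.snoc p (IsLocalRing.maximalIdeal A)
      have hp' : ∀ i, (p' i).IsPrime := fun i => by
        induction i using Fin.lastCases with
        | last => simp only [p', Fin.snoc_last]; exact (IsLocalRing.maximalIdeal.isMaximal A).isPrime
        | cast i => simp only [p', Fin.snoc_castSucc]; exact hp i
      have hmono' : Monotone p' := by
        refine Fin.monotone_iff_le_succ.mpr fun i => ?_
        simp only [p', Fin.snoc_castSucc]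
        induction i using Fin.lastCases with
        | last => rw [Fin.succ_last, Fin.snoc_last]; exact IsLocalRing.le_maximalIdeal (hp _).ne_top
        | cast i => rw [Fin.succ_castSucc, Fin.snoc_castSucc]; exact hstrict.monotone (le_of_lt Fin.castSucc_lt_succ)
      let y : Fin (n + 1) → A := Fin.snoc x q
      have h5 := algebraicIndependent A p' hp' hmono' y (fun i => by
          induction i using Fin.lastCases with
          | last => simp only [y, p', Fin.snoc_last, Fin.succ_last]; exact hqm
          | cast i => simp only [y, p', Fin.succ_castSucc, Fin.snoc_castSucc]; exact hin i) (fun i => by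
          induction i using Fin.lastCases with
          | last => simp only [y, p', Fin.snoc_last, Fin.snoc_castSucc]; exact hlast
          | cast i => simp only [y, p', Fin.snoc_castSucc]; exact hnot i) (Set.range Fin.castSucc) (fun c hc => by
          obtain ⟨z, hz⟩ := hq c hc
          refine ⟨Pi.single (Fin.last n) z, fun i hi => ?_, ?_⟩
          · obtain ⟨j, rfl⟩ := hi; simp [Pi.single_apply, (Fin.castSucc_lt_last j).ne]
          rw [Finset.prod_eq_single (Fin.last n) (fun i _ hi => by rw [Pi.single_eq_of_ne hi, zpow_zero])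
            (fun h => absurd (Finset.mem_univ _) h)]
          simp only [Pi.single_eq_same, y, Fin.snoc_last]
          exact hz)
      have h4 := h5.lift_cardinalMk_le_trdeg
      rw [hd, Cardinal.mk_range_eq _ (Fin.castSucc_injective n), Cardinal.mk_fin] at h4
      simp only [Cardinal.lift_natCast] at h4
      have : n ≤ d := by exact_mod_cast h4
      omega

end Groth.L01.ValHeight
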