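import Groth.Agent.L03.StablyFree
import Groth.Agent.S2049
import Mathlib.RingTheory.Flat.TorsionFree
import Mathlib.RingTheory.Nakayama
import Mathlib.RingTheory.TensorProduct.Quotient
import Mathlib.RingTheory.Valuation.ValuationRing
import Mathlib.RingTheory.RegularLocalRing.Defs

/-!
Invertible modules on the generic fibre of an algebra with regular special fibre over a valuation ring.
-/

set_option autoImplicit false
set_option linter.style.haveILetI false
universe u

open CategoryTheory IsLocalRing

namespace Groth.L01.ValPic

variable {R A : Type u} [CommRing R] [IsDomain R] [ValuationRing R] [CommRing A] [IsLocalRing A]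
  [Algebra R A] [IsLocalHom (algebraMap R A)]

variable (R A) in
/-- The ideal of the special fibre. -/
abbrev J : Ideal A := (maximalIdeal R).map (algebraMap R A)

theorem exists_eq_smul {F : Type u} [AddCommGroup F] [Module R F] [Module A F] [IsScalarTower R A F]
    {x : F} (hx : x ∈ J R A • (⊤ : Submodule A F)) : ∃ a ∈ maximalIdeal R, ∃ y : F, x = a • y := by
  induction hx using Submodule.smul_induction_on' with
  | smul r hr m _ =>
    suffices ∃ a ∈ maximalIdeal R, ∃ c : A, r = algebraMap R A a * c by
      obtain ⟨a, ha, c, rfl⟩ := this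
      exact ⟨a, ha, c • m, by rw [mul_smul, IsScalarTower.algebraMap_smul]⟩
    induction hr using Submodule.span_induction with
    | mem z hz =>
      obtain ⟨a, ha, rfl⟩ := hz
      exact ⟨a, ha, 1, (mul_one _).symm⟩
    | zero => exact ⟨0, zero_mem _, 0, by simp⟩
    | add z w _ _ hz hw =>
      obtain ⟨a, ha, c, rfl⟩ := hz
      obtain ⟨b, hb, d, rfl⟩ := hw
      rcases ValuationRing.cond a b with ⟨e, he | he⟩
      · exact ⟨a, ha, c + algebraMap R A e * d, by rw [← he, map_mul]; ring⟩
      · exact ⟨b, hb, algebraMap R A e * c + d, by rw [← he, map_mul]; ring⟩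
    | smul s z _ hz =>
      obtain ⟨a, ha, c, rfl⟩ := hz
      exact ⟨a, ha, s * c, by rw [smul_eq_mul]; ring⟩
  | add z _ w _ hz hw =>
    obtain ⟨a, ha, c, rfl⟩ := hz
    obtain ⟨b, hb, d, rfl⟩ := hw
    rcases ValuationRing.cond a b with ⟨e, he | he⟩
    · exact ⟨a, ha, c + e • d, by rw [← he, smul_add, mul_smul]⟩
    · exact ⟨b, hb, e • c + d, by rw [← he, smul_add, mul_smul]⟩

/-- A submodule with torsion-free quotient stays injective on the special fibre. -/
theorem mem_smul_of_mem {F N : Type u} [AddCommGroup F] [Module R F] [Module A F] [IsScalarTower R A F]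
    [AddCommGroup N] [Module R N] [Module A N] [IsScalarTower R A N] (π : F →ₗ[A] N)
    (htfN : ∀ (a : R) (x : N), a • x = 0 → a = 0 ∨ x = 0)
    (x : LinearMap.ker π) (hx : (x : F) ∈ J R A • (⊤ : Submodule A F)) :
    x ∈ J R A • (⊤ : Submodule A (LinearMap.ker π)) := by
  obtain ⟨a, ha, y, hy⟩ := exists_eq_smul (R := R) hx
  have h0 : a • π y = 0 := by rw [← LinearMap.map_smul_of_tower, ← hy]; exact x.2
  rcases htfN a (π y) h0 with rfl | h
  · rw [zero_smul] at hy
    rw [show x = 0 from Subtype.ext hy]
    exact zero_mem _
  · have : x = algebraMap R A a • (⟨y, h⟩ : LinearMap.ker π) := Subtype.ext (by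
      rw [IsScalarTower.algebraMap_smul]; exact hy)
    rw [this]
    exact Submodule.smul_mem_smul (Ideal.mem_map_of_mem _ ha) trivial

theorem J_le : J R A ≤ maximalIdeal A :=
  Ideal.map_le_iff_le_comap.2 fun _ ha hu => ha (IsUnit.of_map (algebraMap R A) _ hu)

instance : IsLocalRing (A ⧸ J R A) :=
  haveI : Nontrivial (A ⧸ J R A) :=
    Ideal.Quotient.nontrivial_iff.2 fun h => (maximalIdeal.isMaximal A).ne_top (top_le_iff.1 (h ▸ J_le))
  IsLocalRing.of_surjective' _ Ideal.Quotient.mk_surjective

/-- A torsion-free module with free special fibre is free. -/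
theorem free_of_projective {N : Type u} [AddCommGroup N] [Module R N] [Module A N] [IsScalarTower R A N]
    [Module.FinitePresentation A N] (htf : ∀ (a : R) (x : N), a • x = 0 → a = 0 ∨ x = 0)
    [Module.Projective (A ⧸ J R A) (N ⧸ J R A • (⊤ : Submodule A N))] : Module.Free A N := by
  classical
  haveI : Module.Finite (A ⧸ J R A) (N ⧸ J R A • (⊤ : Submodule A N)) :=
    Module.Finite.of_restrictScalars_finite A _ _
  haveI : Module.Free (A ⧸ J R A) (N ⧸ J R A • (⊤ : Submodule A N)) := Module.free_of_flat_of_isLocalRing
  let bb := Module.Free.chooseBasis (A ⧸ J R A) (N ⧸ J R A • (⊤ : Submodule A N))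
  choose x hx using fun i => Submodule.Quotient.mk_surjective (J R A • (⊤ : Submodule A N)) (bb i)
  let π := Fintype.linearCombination A x
  have hJ : J R A ≤ Ideal.jacobson ⊥ := by
    rw [IsLocalRing.jacobson_eq_maximalIdeal ⊥ bot_ne_top]; exact J_le
  have hs : Function.Surjective π := by
    rw [← LinearMap.range_eq_top]
    refine top_le_iff.1 (Submodule.le_of_le_smul_of_le_jacobson_bot Module.Finite.fg_top hJ ?_)
    intro n _
    let c := bb.repr (Submodule.Quotient.mk n)
    choose c' hc' using fun i => Ideal.Quotient.mk_surjective (c i)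
    refine Submodule.mem_sup.2 ⟨π c', ⟨c', rfl⟩, n - π c', ?_, add_sub_cancel _ _⟩
    rw [← Submodule.Quotient.eq]
    rw [Fintype.linearCombination_apply, ← Submodule.mkQ_apply, ← Submodule.mkQ_apply, map_sum]
    conv_lhs => rw [Submodule.mkQ_apply, ← bb.sum_repr (Submodule.Quotient.mk n)]
    refine Finset.sum_congr rfl fun i _ => ?_
    rw [map_smul, Submodule.mkQ_apply, hx, ← IsScalarTower.algebraMap_smul (A ⧸ J R A) (c' i) (bb i),
      Ideal.Quotient.algebraMap_eq, hc']
  have hK : LinearMap.ker π ≤ J R A • LinearMap.ker π := by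
    intro z hz
    have hzJ : z ∈ J R A • (⊤ : Submodule A (Module.Free.ChooseBasisIndex (A ⧸ J R A) (N ⧸ J R A • (⊤ : Submodule A N)) → A)) := by
      have h0 : ∑ i, Ideal.Quotient.mk (J R A) (z i) • bb i = 0 := by
        have h1 := congrArg (Submodule.mkQ (J R A • (⊤ : Submodule A N))) (LinearMap.mem_ker.1 hz)
        rw [map_zero, Fintype.linearCombination_apply, map_sum] at h1
        rw [← h1]
        refine Finset.sum_congr rfl fun i _ => ?_
        rw [map_smul, Submodule.mkQ_apply, hx, ← IsScalarTower.algebraMap_smul (A ⧸ J R A) (z i) (bb i),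
          Ideal.Quotient.algebraMap_eq]
      have h2 : ∀ i, z i ∈ J R A := fun i => Ideal.Quotient.eq_zero_iff_mem.1
        (Fintype.linearIndependent_iff.1 bb.linearIndependent _ h0 i)
      rw [pi_eq_sum_univ' z]
      exact Submodule.sum_mem _ fun i _ => Submodule.smul_mem_smul (h2 i) trivial
    have h := mem_smul_of_mem (R := R) π htf ⟨z, hz⟩ hzJ
    have h' := Submodule.mem_map_of_mem (f := (LinearMap.ker π).subtype) h
    rwa [Submodule.map_smul'', Submodule.map_subtype_top] at h'
  have hfg : (LinearMap.ker π).FG := Module.FinitePresentation.fg_ker π hs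
  have hbot := Submodule.eq_bot_of_le_smul_of_le_jacobson_bot _ _ hfg hK hJ
  exact Module.Free.of_equiv (LinearEquiv.ofBijective π ⟨LinearMap.ker_eq_bot.1 hbot, hs⟩)

variable [Algebra.EssFiniteType R A]

open Groth.L03.StablyFree in
/-- Projective generic fibres of torsion-free modules are stably free. -/
theorem isStablyFree_localizedModule [Module.Flat R A] [IsNoetherianRing (A ⧸ J R A)] (S : Submonoid A)
    [Nontrivial (Localization S)] :
    ∀ (d : ℕ) (N : Type u) [AddCommGroup N] [Module R N] [Module A N] [IsScalarTower R A N]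
      [Module.FinitePresentation A N], (∀ (a : R) (x : N), a • x = 0 → a = 0 ∨ x = 0) →
      HasProjectiveDimensionLE (ModuleCat.of (A ⧸ J R A) (N ⧸ J R A • (⊤ : Submodule A N))) d →
      Module.Projective (Localization S) (LocalizedModule S N) →
      IsStablyFree (Localization S) (LocalizedModule S N) := by
  intro d
  induction d with
  | zero =>
    intro N _ _ _ _ _ htf h _
    haveI : CategoryTheory.Projective (ModuleCat.of (A ⧸ J R A) (N ⧸ J R A • (⊤ : Submodule A N))) :=
      projective_iff_hasProjectiveDimensionLT_one.2 h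
    haveI : Module.Projective (A ⧸ J R A) (N ⧸ J R A • (⊤ : Submodule A N)) :=
      (IsProjective.iff_projective _).2 inferInstance
    haveI : Module.Free A N := free_of_projective htf
    haveI : Module.Free (Localization S) (LocalizedModule S N) :=
      Module.free_of_isLocalizedModule S (LocalizedModule.mkLinearMap S N)
    haveI : Module.Finite (Localization S) (LocalizedModule S N) :=
      Module.Finite.of_isLocalizedModule S (LocalizedModule.mkLinearMap S N)
    exact isStablyFree_of_basis
  | succ d ih =>
    intro N _ _ _ _ _ htf h hproj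
    obtain ⟨n, π, hπ⟩ := Module.Finite.exists_fin' A N
    let K := LinearMap.ker π
    have htfA : ∀ (a : R) (x : A), a • x = 0 → a = 0 ∨ x = 0 := fun a x hax => by
      by_cases ha : a = 0
      · exact Or.inl ha
      · exact Or.inr ((Module.Flat.isSMulRegular_of_isRegular (M := A) (IsRegular.of_ne_zero ha)).right_eq_zero_of_smul hax)
    have htfK : ∀ (a : R) (x : K), a • x = 0 → a = 0 ∨ x = 0 := fun a x hax => by
      by_cases ha : a = 0
      · exact Or.inl ha
      · refine Or.inr (Subtype.ext (funext fun i => ?_))
        exact (htfA a ((x : Fin n → A) i) (congrFun (congrArg Subtype.val hax) i)).resolve_left ha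
    haveI : Module.Finite A K := Module.Finite.iff_fg.2 (Module.FinitePresentation.fg_ker π hπ)
    haveI : Module.Flat R K := by
      rw [Module.Flat.flat_iff_torsion_eq_bot_of_isBezout, eq_bot_iff]
      rintro x ⟨⟨a, ha⟩, hax⟩
      exact (htfK a x hax).resolve_left (nonZeroDivisors.ne_zero ha)
    haveI : Module.FinitePresentation A K := Groth.Agent.S2049.result (A := R)
    let f : (K ⧸ J R A • (⊤ : Submodule A K)) →ₗ[A ⧸ J R A]
        ((Fin n → A) ⧸ J R A • (⊤ : Submodule A (Fin n → A))) :=
      LinearMap.extendScalarsOfSurjective Ideal.Quotient.mk_surjective (Submodule.mapQ _ _ K.subtype (by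
        rw [← Submodule.map_le_iff_le_comap, Submodule.map_smul'']
        exact Submodule.smul_mono le_rfl le_top))
    let g : ((Fin n → A) ⧸ J R A • (⊤ : Submodule A (Fin n → A))) →ₗ[A ⧸ J R A]
        (N ⧸ J R A • (⊤ : Submodule A N)) :=
      LinearMap.extendScalarsOfSurjective Ideal.Quotient.mk_surjective (Submodule.mapQ _ _ π (by
        rw [← Submodule.map_le_iff_le_comap, Submodule.map_smul'']
        exact Submodule.smul_mono le_rfl le_top))
    have hf : Function.Injective f := by
      rw [injective_iff_map_eq_zero]
      intro z hz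
      obtain ⟨z, rfl⟩ := Submodule.Quotient.mk_surjective _ z
      exact (Submodule.Quotient.mk_eq_zero _).2 (mem_smul_of_mem (R := R) π htf z ((Submodule.Quotient.mk_eq_zero _).1 hz))
    have hfg0 : ∀ z, g (f z) = 0 := fun z => by
      obtain ⟨z, rfl⟩ := Submodule.Quotient.mk_surjective _ z
      show Submodule.Quotient.mk (π z) = 0
      rw [show π z = 0 from z.2]; rfl
    let sc : ShortComplex (ModuleCat.{u} (A ⧸ J R A)) :=
      ShortComplex.mk (ModuleCat.ofHom f) (ModuleCat.ofHom g) (by ext x; exact hfg0 x)
    have hsc : sc.ShortExact :=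
      { exact := (ShortComplex.ShortExact.moduleCat_exact_iff_function_exact sc).2 (fun z => by
          refine ⟨fun hz => ?_, by rintro ⟨w, rfl⟩; exact hfg0 w⟩
          obtain ⟨z, rfl⟩ := Submodule.Quotient.mk_surjective _ z
          have h1 : π z ∈ J R A • (⊤ : Submodule A N) := (Submodule.Quotient.mk_eq_zero _).1 hz
          rw [← LinearMap.range_eq_top.2 hπ, LinearMap.range_eq_map, ← Submodule.map_smul''] at h1
          obtain ⟨w, hw, hwz⟩ := h1
          refine ⟨Submodule.Quotient.mk ⟨z - w, ?_⟩, (Submodule.Quotient.eq _).2 ?_⟩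
          · show π (z - w) = 0
            rw [map_sub, hwz, sub_self]
          · show z - w - z ∈ _
            rw [sub_sub_cancel_left]; exact neg_mem hw)
        mono_f := (ModuleCat.mono_iff_injective _).2 hf
        epi_g := (ModuleCat.epi_iff_surjective _).2 fun z => by
          obtain ⟨z, rfl⟩ := Submodule.Quotient.mk_surjective _ z
          obtain ⟨w, rfl⟩ := hπ z
          exact ⟨Submodule.Quotient.mk w, rfl⟩ }
    haveI : CategoryTheory.Projective sc.X₂ := by
      haveI : Module.Projective (A ⧸ J R A) ((Fin n → A) ⧸ J R A • (⊤ : Submodule A (Fin n → A))) :=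
        Module.Projective.of_equiv (LinearEquiv.extendScalarsOfSurjective Ideal.Quotient.mk_surjective
          (TensorProduct.quotTensorEquivQuotSMul (Fin n → A) (J R A)))
      exact (IsProjective.iff_projective _).1 inferInstance
    have hK : HasProjectiveDimensionLE (ModuleCat.of (A ⧸ J R A) (K ⧸ J R A • (⊤ : Submodule A K))) d :=
      hsc.hasProjectiveDimensionLT_X₁ (d + 1) (hasProjectiveDimensionLT_of_ge _ 1 _ (by omega)) h
    let i' := LocalizedModule.map S K.subtype
    let p' := LocalizedModule.map S π
    have hi : Function.Injective i' := LocalizedModule.map_injective S _ K.injective_subtype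
    have hp : Function.Surjective p' := LocalizedModule.map_surjective S _ hπ
    have hex : Function.Exact i' p' := LocalizedModule.map_exact S _ _ (LinearMap.exact_subtype_ker_map π)
    obtain ⟨s, hs⟩ := Module.projective_lifting_property p' LinearMap.id hp
    have h1 : ∀ x, p' (s x) = x := LinearMap.congr_fun hs
    have h2 : ∀ x, p' (i' x) = 0 := fun x => (hex (i' x)).2 ⟨x, rfl⟩
    let e0 := LinearEquiv.ofBijective (i'.coprod s) ⟨fun x y hxy => by
        rw [LinearMap.coprod_apply, LinearMap.coprod_apply] at hxy
        have h3 := congrArg p' hxy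
        rw [map_add, map_add, h1, h1, h2, h2, zero_add, zero_add] at h3
        rw [h3, add_left_inj] at hxy
        exact Prod.ext (hi hxy) h3,
      fun y => by
        obtain ⟨x, hx⟩ := (hex (y - s (p' y))).1 (by rw [map_sub, h1, sub_self])
        exact ⟨(x, p' y), by rw [LinearMap.coprod_apply, hx, sub_add_cancel]⟩⟩
    let e := e0.symm
    haveI : Module.Free (Localization S) (LocalizedModule S (Fin n → A)) :=
      Module.free_of_isLocalizedModule S (LocalizedModule.mkLinearMap S (Fin n → A))
    haveI : Module.Finite (Localization S) (LocalizedModule S (Fin n → A)) :=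
      Module.Finite.of_isLocalizedModule S (LocalizedModule.mkLinearMap S (Fin n → A))
    haveI : Module.Projective (Localization S) (LocalizedModule S K) :=
      Module.Projective.of_split i' (LinearMap.fst _ _ _ ∘ₗ e.toLinearMap) (by
        ext x
        have : e (i' x) = (x, 0) := by
          rw [LinearEquiv.symm_apply_eq]; show i' x = (i'.coprod s) (x, 0); rw [LinearMap.coprod_apply, map_zero, add_zero]
        simp [this])
    exact IsStablyFree.of_prod (e.symm.trans ((Module.Free.chooseBasis (Localization S) _).reindex (Fintype.equivFin _)).equivFun) (ih K htfK hK inferInstance)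

/-- The Picard group of the generic fibre is trivial. -/
theorem subsingleton_pic [Module.Flat R A] [IsRegularLocalRing (A ⧸ J R A)] :
    Subsingleton (CommRing.Pic (Localization (Algebra.algebraMapSubmonoid A (nonZeroDivisors R)))) := by
  classical
  generalize hS : Algebra.algebraMapSubmonoid A (nonZeroDivisors R) = S
  rw [CommRing.Pic.subsingleton_iff]
  intro M _ _ hinv
  rcases subsingleton_or_nontrivial (Localization S) with hA | hA
  · haveI : Subsingleton M := Module.subsingleton (Localization S) M
    exact Module.Free.of_subsingleton _ M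
  letI : Module A M := Module.compHom M (algebraMap A (Localization S))
  haveI : IsScalarTower A (Localization S) M := IsScalarTower.of_compHom A _ M
  obtain ⟨G, hG⟩ := (inferInstance : Module.Finite (Localization S) M).fg_top
  let N : Submodule A M := Submodule.span A (G : Set M)
  haveI : Module.Finite A N := Module.Finite.iff_fg.2 ⟨G, rfl⟩
  have hu : ∀ x : S, IsUnit (algebraMap A (Module.End A M) x) := fun x => by
    rw [Module.End.isUnit_iff]
    obtain ⟨u, hu⟩ := IsLocalization.map_units (Localization S) x
    constructor
    · intro a b hab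
      simp only [Module.algebraMap_end_apply] at hab
      rw [← IsScalarTower.algebraMap_smul (Localization S), ← IsScalarTower.algebraMap_smul (Localization S) (x : A) b, ← hu,
        ← Units.smul_def, ← Units.smul_def] at hab
      exact MulAction.injective u hab
    · intro a
      refine ⟨(↑u⁻¹ : Localization S) • a, ?_⟩
      rw [Module.algebraMap_end_apply, ← IsScalarTower.algebraMap_smul (Localization S), ← hu, smul_smul, u.mul_inv, one_smul]
  haveI hloc : IsLocalizedModule S N.subtype := by
    refine ⟨hu, fun y => ?_, fun {a b} hab => ⟨1, by rw [N.injective_subtype hab]⟩⟩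
    have hy : y ∈ Submodule.span (Localization S) (G : Set M) := hG ▸ Submodule.mem_top
    obtain ⟨⟨s, hs⟩, hsy⟩ : ∃ s : S, (s : A) • y ∈ N := by
      induction hy using Submodule.span_induction with
      | mem g hg => exact ⟨1, by rw [Submonoid.coe_one, one_smul]; exact Submodule.subset_span hg⟩
      | zero => exact ⟨1, by rw [smul_zero]; exact zero_mem _⟩
      | add a b _ _ ha hb =>
        obtain ⟨s, hs⟩ := ha
        obtain ⟨t, ht⟩ := hb
        refine ⟨s * t, ?_⟩
        rw [Submonoid.coe_mul, smul_add]
        refine add_mem ?_ ?_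
        · rw [mul_comm, mul_smul]; exact N.smul_mem _ hs
        · rw [mul_smul]; exact N.smul_mem _ ht
      | smul c a _ ha =>
        obtain ⟨s, hs⟩ := ha
        obtain ⟨⟨r, t⟩, hrt⟩ := IsLocalization.surj S c
        refine ⟨t * s, ?_⟩
        have : ((t : A) * s) • c • a = r • ((s : A) • a) := by
          rw [← IsScalarTower.algebraMap_smul (Localization S), ← IsScalarTower.algebraMap_smul (Localization S) r,
            ← IsScalarTower.algebraMap_smul (Localization S) (s : A), smul_smul, smul_smul, ← hrt, map_mul]
          congr 1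
          ring
        rw [Submonoid.coe_mul, this]
        exact N.smul_mem _ hs
    exact ⟨⟨⟨_, hsy⟩, ⟨s, hs⟩⟩, rfl⟩
  let e : LocalizedModule S N ≃ₗ[Localization S] M :=
    (IsLocalizedModule.iso S N.subtype).extendScalarsOfIsLocalization S (Localization S)
  haveI : Module.Projective (Localization S) (LocalizedModule S N) := Module.Projective.of_equiv e.symm
  letI : Module R N := Module.compHom N (algebraMap R A)
  haveI : IsScalarTower R A N := IsScalarTower.of_compHom R A N
  have htf : ∀ (a : R) (x : N), a • x = 0 → a = 0 ∨ x = 0 := fun a x hax => by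
    by_cases ha : a = 0
    · exact Or.inl ha
    · refine Or.inr (Subtype.ext ?_)
      have hmem : algebraMap R A a ∈ S := hS ▸ ⟨a, mem_nonZeroDivisors_of_ne_zero ha, rfl⟩
      refine ((Module.End.isUnit_iff _).1 (hu ⟨_, hmem⟩)).1 ?_
      rw [Module.algebraMap_end_apply, Module.algebraMap_end_apply]
      show algebraMap R A a • (x : M) = algebraMap R A a • (0 : M)
      rw [smul_zero]
      exact congrArg Subtype.val hax
  haveI : Module.Flat R N := by
    rw [Module.Flat.flat_iff_torsion_eq_bot_of_isBezout, eq_bot_iff]
    rintro x ⟨⟨a, ha⟩, hax⟩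
    exact (htf a x hax).resolve_left (nonZeroDivisors.ne_zero ha)
  haveI : Module.FinitePresentation A N := Groth.Agent.S2049.result (A := R)
  obtain ⟨d, hd⟩ := Groth.L01.exists_dim_eq_nat (R := A ⧸ J R A)
  have h := isStablyFree_localizedModule (R := R) S d N htf
    (Groth.L04.hasProjectiveDimensionLE_of_regularLocal hd _) inferInstance
  exact Groth.L03.StablyFree.free_of_invertible (A := Localization S) (M := M) (h.congr e)

end Groth.L01.ValPic
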