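import Mathlib.RingTheory.TensorProduct.IncludeLeftSubRight
import Mathlib.RingTheory.Flat.Basic
import Mathlib.RingTheory.Flat.FaithfullyFlat.Algebra

/-! Equalisers: faithfully flat descent of elements, and tensoring with a flat module. -/

set_option autoImplicit false
universe u v w

open scoped TensorProduct

namespace Groth.L01.WittEq

theorem exists_algebraMap_eq {R S : Type u} [CommRing R] [CommRing S] [Algebra R S] [Module.FaithfullyFlat R S] (s : S)
    (h : s ⊗ₜ[R] (1 : S) = (1 : S) ⊗ₜ[R] s) : ∃ r : R, algebraMap R S r = s :=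
  ((Algebra.IsEffective.of_faithfullyFlat R (S := S)) s).mp (by simp [h])

theorem equalizer_tensor {A : Type u} [CommRing A] {B C : Type v} [AddCommGroup B] [Module A B] [AddCommGroup C]
    [Module A C] (f : A →ₗ[A] B) (g h : B →ₗ[A] C) (hf : Function.Injective f) (hcomp : ∀ a, g (f a) = h (f a))
    (heq : ∀ b, g b = h b → ∃ a, f a = b) (M : Type w) [AddCommGroup M] [Module A M] [Module.Flat A M] :
    Function.Injective (fun m : M => m ⊗ₜ[A] f 1) ∧
      ∀ x : M ⊗[A] B, g.lTensor M x = h.lTensor M x → ∃ m : M, m ⊗ₜ[A] f 1 = x := by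
  have hinj : Function.Injective (f.lTensor M) := Module.Flat.lTensor_preserves_injective_linearMap f hf
  have hone : ∀ z : M ⊗[A] A, f.lTensor M z = TensorProduct.rid A M z ⊗ₜ f 1 := fun z => by
    induction z using TensorProduct.induction_on with
    | zero => simp
    | tmul m a => rw [LinearMap.lTensor_tmul, TensorProduct.rid_tmul, TensorProduct.smul_tmul, ← map_smul, smul_eq_mul, mul_one]
    | add u v hu hv => rw [map_add, map_add, hu, hv, TensorProduct.add_tmul]
  refine ⟨fun m m' hm => ?_, fun x hx => ?_⟩
  · have h1 : f.lTensor M ((TensorProduct.rid A M).symm m) = f.lTensor M ((TensorProduct.rid A M).symm m') := by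
      rw [hone, hone, LinearEquiv.apply_symm_apply, LinearEquiv.apply_symm_apply]
      exact hm
    exact (TensorProduct.rid A M).symm.injective (hinj h1)
  · have hex : Function.Exact f (g - h) := fun b => by
      rw [LinearMap.sub_apply, sub_eq_zero]
      exact ⟨fun hb => heq b hb, fun ⟨a, ha⟩ => ha ▸ hcomp a⟩
    have h1 := Module.Flat.lTensor_exact M hex x
    rw [LinearMap.lTensor_sub, LinearMap.sub_apply, sub_eq_zero] at h1
    obtain ⟨z, rfl⟩ := h1.mp hx
    exact ⟨TensorProduct.rid A M z, (hone z).symm⟩

end Groth.L01.WittEq
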