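import Groth.Prelude.Def_W4c3truncdispsmoothDesc
import Groth.Agent.L01.WittEq
import Mathlib.Algebra.Category.ModuleCat.ChangeOfRings
import Mathlib.RingTheory.Flat.Basic

/-! Morphisms of canonical descent data of `W_n`-modules. -/

set_option autoImplicit false

open CategoryTheory Opposite TensorProduct ChangeOfRings

namespace L01.WittDescentFF

universe u

section Elements

variable {A B : Type u} [CommRing A] [CommRing B]

/-- The element `s ⊗ m` of an extension of scalars. -/
noncomputable def el (f : A →+* B) (M : ModuleCat.{u} A) (s : B) (m : M) :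
    (ModuleCat.extendScalars f).obj M :=
  s ⊗ₜ[A,f] m

theorem smul_el (f : A →+* B) (M : ModuleCat.{u} A) (r s : B) (m : M) : r • el f M s m = el f M (r * s) m :=
  rfl

theorem map_el (f : A →+* B) {M N : ModuleCat.{u} A} (g : M ⟶ N) (s : B) (m : M) :
    (ModuleCat.extendScalars f).map g (el f M s m) = el f N s (g m) :=
  rfl

theorem el_smul (f : A →+* B) (M : ModuleCat.{u} A) (r : A) (s : B) (m : M) :
    el f M s (r • m) = el f M (f r * s) m := by
  letI := f.toAlgebra
  show s ⊗ₜ[A] (r • m) = (r • s) ⊗ₜ[A] m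
  rw [TensorProduct.tmul_smul, TensorProduct.smul_tmul']

theorem el_induction (f : A →+* B) (M : ModuleCat.{u} A) {P : (ModuleCat.extendScalars f).obj M → Prop}
    (h0 : P 0) (ht : ∀ s m, P (el f M s m)) (ha : ∀ x y, P x → P y → P (x + y))
    (x : (ModuleCat.extendScalars f).obj M) : P x :=
  TensorProduct.induction_on x h0 ht ha

theorem el_add (f : A →+* B) (M : ModuleCat.{u} A) (s : B) (m m' : M) :
    el f M s (m + m') = el f M s m + el f M s m' :=
  TensorProduct.tmul_add _ _ _

theorem el_zero (f : A →+* B) (M : ModuleCat.{u} A) (s : B) : el f M s 0 = 0 :=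
  TensorProduct.tmul_zero _ _

end Elements

section Comp

variable {A B C : CommRingCat.{u}} (f : LocallyDiscrete.mk A ⟶ LocallyDiscrete.mk B)
  (g : LocallyDiscrete.mk B ⟶ LocallyDiscrete.mk C) (fg : LocallyDiscrete.mk A ⟶ LocallyDiscrete.mk C)
  (h : f ≫ g = fg) (M : ModuleCat.{u} A)

/-- The comparison of the iterated with the composite extension of scalars. -/
noncomputable def cmp : (ModuleCat.extendScalars fg.as.hom).obj M ≅
    (ModuleCat.extendScalars g.as.hom).obj ((ModuleCat.extendScalars f.as.hom).obj M) :=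
  (Cat.Hom.toNatIso (CommRingCat.moduleCatExtendScalarsPseudofunctor.mapComp' f g fg h)).app M

theorem cmp_hom (m : M) :
    (cmp f g fg h M).hom (el fg.as.hom M 1 m) = el g.as.hom _ 1 (el f.as.hom M 1 m) := by
  subst h
  have e := Pseudofunctor.mapComp'_eq_mapComp CommRingCat.moduleCatExtendScalarsPseudofunctor f g
  unfold cmp
  rw [e]
  exact ModuleCat.extendScalarsComp_hom_app_one_tmul f.as.hom g.as.hom M m

theorem cmp_inv (b : B) (m : M) :
    (cmp f g fg h M).inv (el g.as.hom _ 1 (el f.as.hom M b m)) = el fg.as.hom M (g.as.hom b) m := by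
  have h1 : (cmp f g fg h M).hom (el fg.as.hom M (g.as.hom b) m) = el g.as.hom _ 1 (el f.as.hom M b m) := by
    rw [show el fg.as.hom M (g.as.hom b) m = (g.as.hom b) • el fg.as.hom M 1 m by rw [smul_el, mul_one],
      map_smul, cmp_hom, smul_el, mul_one, ← mul_one (g.as.hom b), ← el_smul, smul_el, mul_one]
  rw [← h1]
  exact (cmp f g fg h M).toLinearEquiv.symm_apply_apply _

end Comp

open W4c3truncdispsmooth

variable (p : ℕ) [Fact p.Prime] (n : ℕ)

/-- `W_n` as a pseudofunctor of locally discrete bicategories. -/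
noncomputable abbrev wittLoc : Pseudofunctor (LocallyDiscrete (CommRingCat.{u}ᵒᵖ)ᵒᵖ) (LocallyDiscrete CommRingCat.{u}) :=
  ((unopUnop CommRingCat.{u}) ⋙ wittTrunc p n).toPseudofunctor

theorem mapComp'_eq {a b c : LocallyDiscrete (CommRingCat.{u}ᵒᵖ)ᵒᵖ} (φ : a ⟶ b) (ψ : b ⟶ c) (φψ : a ⟶ c)
    (h : φ ≫ ψ = φψ) (h' : (wittLoc p n).map φ ≫ (wittLoc p n).map ψ = (wittLoc p n).map φψ) :
    (wittModPF p n).mapComp' φ ψ φψ h =
      CommRingCat.moduleCatExtendScalarsPseudofunctor.mapComp' ((wittLoc p n).map φ) ((wittLoc p n).map ψ)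
        ((wittLoc p n).map φψ) h' := by
  subst h
  rw [Pseudofunctor.mapComp'_eq_mapComp]
  show CommRingCat.moduleCatExtendScalarsPseudofunctor.map₂Iso ((wittLoc p n).mapComp φ ψ) ≪≫
    CommRingCat.moduleCatExtendScalarsPseudofunctor.mapComp _ _ = _
  unfold Pseudofunctor.mapComp'
  congr 1

section Core

variable {A B C : CommRingCat.{u}} (α : LocallyDiscrete.mk A ⟶ LocallyDiscrete.mk B)
  (γ δ : LocallyDiscrete.mk B ⟶ LocallyDiscrete.mk C) (π : LocallyDiscrete.mk A ⟶ LocallyDiscrete.mk C)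
  (h1 : α ≫ γ = π) (h2 : α ≫ δ = π)
  (hinj : Function.Injective α.as.hom) (heq : ∀ b, γ.as.hom b = δ.as.hom b → ∃ a, α.as.hom a = b)
  (M N : ModuleCat.{u} A) [Module.Flat A N]

include h1 h2 hinj heq

theorem equalizer :
    (∀ a b : N, el α.as.hom N 1 a = el α.as.hom N 1 b → a = b) ∧
      ∀ x, (cmp α γ π h1 N).inv (el γ.as.hom _ 1 x) = (cmp α δ π h2 N).inv (el δ.as.hom _ 1 x) →
        ∃ y : N, x = el α.as.hom N 1 y := by
  letI : Algebra A B := α.as.hom.toAlgebra
  letI : Algebra A C := π.as.hom.toAlgebra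
  have hγα : γ.as.hom.comp α.as.hom = π.as.hom := by subst h1; rfl
  have hδα : δ.as.hom.comp α.as.hom = π.as.hom := by subst h2; rfl
  let γl : B →ₗ[A] C :=
    { toFun := γ.as.hom
      map_add' := map_add _
      map_smul' := fun a b => by
        show γ.as.hom (α.as.hom a * b) = π.as.hom a * γ.as.hom b
        rw [map_mul, ← hγα]; rfl }
  let δl : B →ₗ[A] C :=
    { toFun := δ.as.hom
      map_add' := map_add _
      map_smul' := fun a b => by
        show δ.as.hom (α.as.hom a * b) = π.as.hom a * δ.as.hom b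
        rw [map_mul, ← hδα]; rfl }
  have key := Groth.L01.WittEq.equalizer_tensor (Algebra.linearMap A B) γl δl hinj
    (fun a => (RingHom.congr_fun hγα a).trans (RingHom.congr_fun hδα a).symm) heq N
  refine ⟨fun a b hab => ?_, fun x hx => ?_⟩
  · have e3 := congrArg (TensorProduct.comm A B N) (show ((1 : B) ⊗ₜ[A] a) = 1 ⊗ₜ b from hab)
    exact key.1 (by simpa [Algebra.linearMap_apply] using e3)
  · have hL : ∀ z, (cmp α γ π h1 N).inv (el γ.as.hom _ 1 z) = LinearMap.rTensor N γl z := fun z => by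
      induction z using el_induction α.as.hom N with
      | h0 => rw [el_zero, map_zero]; exact (map_zero (LinearMap.rTensor N γl)).symm
      | ht s k => exact cmp_inv α γ π h1 N s k
      | ha a b ha hb => rw [el_add, map_add, ha, hb]; exact (map_add (LinearMap.rTensor N γl) a b).symm
    have hR : ∀ z, (cmp α δ π h2 N).inv (el δ.as.hom _ 1 z) = LinearMap.rTensor N δl z := fun z => by
      induction z using el_induction α.as.hom N with
      | h0 => rw [el_zero, map_zero]; exact (map_zero (LinearMap.rTensor N δl)).symm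
      | ht s k => exact cmp_inv α δ π h2 N s k
      | ha a b ha hb => rw [el_add, map_add, ha, hb]; exact (map_add (LinearMap.rTensor N δl) a b).symm
    rw [hL, hR] at hx
    have h6 : ∀ (k : B →ₗ[A] C) (z : B ⊗[A] N),
        k.lTensor N (TensorProduct.comm A B N z) = TensorProduct.comm A C N (k.rTensor N z) := fun k z => by
      induction z using TensorProduct.induction_on with
      | zero => simp
      | tmul a b => simp
      | add a b ha hb => simp only [map_add, ha, hb]
    let x' : B ⊗[A] N := x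
    obtain ⟨y, hy⟩ := key.2 (TensorProduct.comm A B N x') (by rw [h6, h6]; exact congrArg _ hx)
    refine ⟨y, show x' = (1 : B) ⊗ₜ[A] y from (TensorProduct.comm A B N).injective ?_⟩
    rw [← hy]
    simp [Algebra.linearMap_apply]

theorem map_injective {φ φ' : M ⟶ N}
    (e : (ModuleCat.extendScalars α.as.hom).map φ = (ModuleCat.extendScalars α.as.hom).map φ') : φ = φ' := by
  ext m
  have e2 := congrArg (fun k => (ConcreteCategory.hom k) (el α.as.hom M 1 m)) e
  simp only [map_el] at e2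
  exact (equalizer α γ δ π h1 h2 hinj heq N).1 _ _ e2

theorem exists_map_eq (e : (ModuleCat.extendScalars α.as.hom).obj M ⟶ (ModuleCat.extendScalars α.as.hom).obj N)
    (hc : (ModuleCat.extendScalars γ.as.hom).map e ≫ (cmp α γ π h1 N).inv ≫ (cmp α δ π h2 N).hom =
      ((cmp α γ π h1 M).inv ≫ (cmp α δ π h2 M).hom) ≫ (ModuleCat.extendScalars δ.as.hom).map e) :
    ∃ φ : M ⟶ N, (ModuleCat.extendScalars α.as.hom).map φ = e := by
  obtain ⟨hinj', hsurj'⟩ := equalizer α γ δ π h1 h2 hinj heq N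
  have hx : ∀ m : M, ∃ y : N, e (el α.as.hom M 1 m) = el α.as.hom N 1 y := fun m => by
    have h5 := congrArg (fun k => (ConcreteCategory.hom k) (el γ.as.hom _ 1 (el α.as.hom M 1 m))) hc
    simp only [ConcreteCategory.comp_apply, map_el] at h5
    rw [cmp_inv α γ π h1 M, map_one, cmp_hom, map_el] at h5
    refine hsurj' _ ?_
    have h6 := congrArg (fun z => (cmp α δ π h2 N).inv z) h5
    simp only [Iso.hom_inv_id_apply] at h6
    exact h6
  choose y hy using hx
  refine ⟨ModuleCat.ofHom { toFun := y, map_add' := fun a b => hinj' _ _ ?_, map_smul' := fun r a => hinj' _ _ ?_ }, ?_⟩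
  · rw [← hy, el_add, el_add, map_add, hy, hy]
  · rw [RingHom.id_apply, ← hy, el_smul, el_smul,
      ← smul_el α.as.hom M (α.as.hom r) 1 a, map_smul, hy, smul_el]
  · refine ModuleCat.hom_ext (LinearMap.ext fun x => ?_)
    induction x using el_induction α.as.hom M with
    | h0 => rw [map_zero, map_zero]
    | ht s k =>
      rw [show el α.as.hom M s k = s • el α.as.hom M 1 k by rw [smul_el, mul_one], map_smul, map_smul, hy]
      rfl
    | ha a b ha hb => rw [map_add, map_add, ha, hb]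

end Core

section Generic

variable {𝒞 : Type*} [Category* 𝒞] (F : Pseudofunctor (LocallyDiscrete 𝒞ᵒᵖ) Cat) {ι : Type*} {S : 𝒞}
  {X : ι → 𝒞} (g : ∀ i, X i ⟶ S)

theorem comm_ofObj {M N : F.obj (.mk (op S))} (ψ : (F.toDescentData g).obj M ⟶ (F.toDescentData g).obj N)
    {Y : 𝒞} (q : Y ⟶ S) (i₁ i₂ : ι) (f₁ : Y ⟶ X i₁) (f₂ : Y ⟶ X i₂) (hf₁ : f₁ ≫ g i₁ = q)
    (hf₂ : f₂ ≫ g i₂ = q) (e1 : (g i₁).op.toLoc ≫ f₁.op.toLoc = q.op.toLoc)
    (e2 : (g i₂).op.toLoc ≫ f₂.op.toLoc = q.op.toLoc) :
    (F.map f₁.op.toLoc).toFunctor.map (ψ.hom i₁) ≫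
        ((Cat.Hom.toNatIso (F.mapComp' (g i₁).op.toLoc f₁.op.toLoc q.op.toLoc e1)).app N).inv ≫
          ((Cat.Hom.toNatIso (F.mapComp' (g i₂).op.toLoc f₂.op.toLoc q.op.toLoc e2)).app N).hom =
      (((Cat.Hom.toNatIso (F.mapComp' (g i₁).op.toLoc f₁.op.toLoc q.op.toLoc e1)).app M).inv ≫
          ((Cat.Hom.toNatIso (F.mapComp' (g i₂).op.toLoc f₂.op.toLoc q.op.toLoc e2)).app M).hom) ≫
        (F.map f₂.op.toLoc).toFunctor.map (ψ.hom i₂) :=
  ψ.comm q f₁ f₂ hf₁ hf₂

end Generic

theorem bijective (R R' : Type u) [CommRing R] [CommRing R'] [Algebra R R'] [Module.FaithfullyFlat R R']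
    (M N : ModuleCat.{u} ((wittTrunc.{u} p n).obj (CommRingCat.of R)))
    [Module.Flat ((wittTrunc.{u} p n).obj (CommRingCat.of R)) N] :
    Function.Bijective (fun φ : M ⟶ N =>
      ((wittModPF.{u} p n).toDescentData (fun _ : PUnit.{u + 1} => (CommRingCat.ofHom (algebraMap R R')).op)).map φ) := by
  classical
  let T := R' ⊗[R] R'
  let f0 : (op (CommRingCat.of R') : CommRingCat.{u}ᵒᵖ) ⟶ op (CommRingCat.of R) :=
    (CommRingCat.ofHom (algebraMap R R')).op
  let f₁ : (op (CommRingCat.of T) : CommRingCat.{u}ᵒᵖ) ⟶ op (CommRingCat.of R') :=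
    (CommRingCat.ofHom (Algebra.TensorProduct.includeLeftRingHom : R' →+* T)).op
  let f₂ : (op (CommRingCat.of T) : CommRingCat.{u}ᵒᵖ) ⟶ op (CommRingCat.of R') :=
    (CommRingCat.ofHom ((Algebra.TensorProduct.includeRight : R' →ₐ[R] T).toRingHom)).op
  let q := f₁ ≫ f0
  have hf₂ : f₂ ≫ f0 = q := Quiver.Hom.unop_inj (CommRingCat.hom_ext (RingHom.ext fun r => by
    show (1 : R') ⊗ₜ[R] algebraMap R R' r = algebraMap R R' r ⊗ₜ 1
    exact (Algebra.TensorProduct.algebraMap_apply' r).symm.trans (Algebra.TensorProduct.algebraMap_apply r)))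
  let WF := wittTrunc.{u} p n
  let α : LocallyDiscrete.mk (WF.obj (CommRingCat.of R)) ⟶ LocallyDiscrete.mk (WF.obj (CommRingCat.of R')) :=
    (WF.map f0.unop).toLoc
  let γ : LocallyDiscrete.mk (WF.obj (CommRingCat.of R')) ⟶ LocallyDiscrete.mk (WF.obj (CommRingCat.of T)) :=
    (WF.map f₁.unop).toLoc
  let δ : LocallyDiscrete.mk (WF.obj (CommRingCat.of R')) ⟶ LocallyDiscrete.mk (WF.obj (CommRingCat.of T)) :=
    (WF.map f₂.unop).toLoc
  let π : LocallyDiscrete.mk (WF.obj (CommRingCat.of R)) ⟶ LocallyDiscrete.mk (WF.obj (CommRingCat.of T)) :=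
    (WF.map q.unop).toLoc
  have h1 : α ≫ γ = π := congrArg Quiver.Hom.toLoc (WF.map_comp f0.unop f₁.unop).symm
  have h2 : α ≫ δ = π := congrArg Quiver.Hom.toLoc
    ((WF.map_comp f0.unop f₂.unop).symm.trans (congrArg (fun k => WF.map k.unop) hf₂))
  have hinj : Function.Injective α.as.hom := fun a a' haa => TruncatedWittVector.ext fun i => by
    have h3 : (WittGrp.truncMap p n (algebraMap R R') a).coeff i =
        (WittGrp.truncMap p n (algebraMap R R') a').coeff i :=
      congrArg (fun x : TruncatedWittVector p n R' => x.coeff i) haa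
    rw [WittGrp.coeff_truncMap, WittGrp.coeff_truncMap] at h3
    exact (FaithfulSMul.algebraMap_injective R R') h3
  have heq : ∀ b, γ.as.hom b = δ.as.hom b → ∃ a, α.as.hom a = b := fun b hb => by
    have h3 : ∀ i, ∃ r : R, algebraMap R R' r = TruncatedWittVector.coeff i (b : TruncatedWittVector p n R') := fun i => by
      have h4 : (WittGrp.truncMap p n (Algebra.TensorProduct.includeLeftRingHom : R' →+* T) b).coeff i =
          (WittGrp.truncMap p n (Algebra.TensorProduct.includeRight : R' →ₐ[R] T).toRingHom b).coeff i :=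
        congrArg (fun x : TruncatedWittVector p n T => x.coeff i) hb
      rw [WittGrp.coeff_truncMap, WittGrp.coeff_truncMap] at h4
      exact Groth.L01.WittEq.exists_algebraMap_eq _ h4
    choose r hr using h3
    refine ⟨TruncatedWittVector.mk p r, show (WittGrp.truncMap p n (algebraMap R R') (TruncatedWittVector.mk p r) : TruncatedWittVector p n R') = b from TruncatedWittVector.ext fun i => ?_⟩
    rw [WittGrp.coeff_truncMap, TruncatedWittVector.coeff_mk, hr]
  constructor
  · intro φ φ' hφ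
    exact map_injective α γ δ π h1 h2 hinj heq M N (congrArg (fun d => d.hom PUnit.unit) hφ)
  · intro ψ
    obtain ⟨φ, hφ⟩ := exists_map_eq α γ δ π h1 h2 hinj heq M N (ψ.hom PUnit.unit) (by
      have e1 : f0.op.toLoc ≫ f₁.op.toLoc = q.op.toLoc := rfl
      have e2 : f0.op.toLoc ≫ f₂.op.toLoc = q.op.toLoc := congrArg (fun k => k.op.toLoc) hf₂
      have key : ∀ X, cmp α γ π h1 X =
          (Cat.Hom.toNatIso ((wittModPF.{u} p n).mapComp' f0.op.toLoc f₁.op.toLoc q.op.toLoc e1)).app X := fun X => by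
        rw [mapComp'_eq p n f0.op.toLoc f₁.op.toLoc q.op.toLoc e1 h1]; rfl
      have key' : ∀ X, cmp α δ π h2 X =
          (Cat.Hom.toNatIso ((wittModPF.{u} p n).mapComp' f0.op.toLoc f₂.op.toLoc q.op.toLoc e2)).app X := fun X => by
        rw [mapComp'_eq p n f0.op.toLoc f₂.op.toLoc q.op.toLoc e2 h2]; rfl
      rw [key N, key' N, key M, key' M]
      exact comm_ofObj (wittModPF.{u} p n) (fun _ : PUnit.{u + 1} => f0) ψ q PUnit.unit PUnit.unit f₁ f₂ rfl hf₂ e1 e2)
    exact ⟨φ, Pseudofunctor.DescentData.hom_ext fun i => hφ⟩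

end L01.WittDescentFF
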