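import Groth.Agent.S14855
import Mathlib.RingTheory.WittVector.IsPoly
import Mathlib.RingTheory.WittVector.Truncated
import Mathlib.Tactic.LinearCombination

/-!
Divisibility by powers of `p` in Witt vectors of a `p`-torsion-free ring, coefficientwise.
-/

set_option autoImplicit false
set_option linter.style.haveILetI false
universe u

namespace Groth.L01.WittTorsFree

variable {p : ℕ} [hp : Fact p.Prime] {R : Type u} [CommRing R]

theorem ghost_eq_sum (w : WittVector p R) (i : ℕ) :
    WittVector.ghostComponent i w = ∑ j ∈ Finset.range (i + 1), (p : R) ^ j * w.coeff j ^ p ^ (i - j) := by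
  rw [WittVector.ghostComponent_apply, wittPolynomial_eq_sum_C_mul_X_pow, map_sum]
  refine Finset.sum_congr rfl fun j _ => ?_
  simp

theorem ghost_mem {w : WittVector p R} {e m : ℕ} (hw : ∀ j < m, w.coeff j ∈ Ideal.span {(p : R) ^ e})
    {i : ℕ} (hi : i < m) : WittVector.ghostComponent i w ∈ Ideal.span {(p : R) ^ e} := by
  rw [ghost_eq_sum]
  refine Ideal.sum_mem _ fun j hj => Ideal.mul_mem_left _ _ ?_
  exact Ideal.pow_mem_of_mem _ (hw j (lt_of_le_of_lt (Nat.lt_succ_iff.mp (Finset.mem_range.mp hj)) hi)) _
    (pow_pos hp.out.pos _)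

theorem truncate_eq_iff {m : ℕ} {x y : WittVector p R} :
    WittVector.truncate (p := p) (R := R) m x = WittVector.truncate m y ↔ ∀ i < m, x.coeff i = y.coeff i := by
  rw [TruncatedWittVector.ext_iff]
  simp only [WittVector.coeff_truncate]
  exact ⟨fun h i hi => h ⟨i, hi⟩, fun h i => h i i.2⟩

theorem truncate_eq_iff_sub {m : ℕ} {x y : WittVector p R} :
    WittVector.truncate (p := p) (R := R) m x = WittVector.truncate m y ↔ ∀ i < m, (x - y).coeff i = 0 := by
  rw [← sub_eq_zero, ← map_sub, ← map_zero (WittVector.truncate (p := p) (R := R) m), truncate_eq_iff]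
  simp only [WittVector.zero_coeff]

variable (htf : ∀ y : R, (p : R) * y = 0 → y = 0)
include htf

theorem mem_of_pow_mul_mem {e f : ℕ} {y : R} (h : (p : R) ^ e * y ∈ Ideal.span {(p : R) ^ f}) :
    y ∈ Ideal.span {(p : R) ^ (f - e)} := by
  induction e generalizing f with
  | zero => simpa using h
  | succ e ih =>
    rcases Nat.eq_zero_or_pos f with hf | hf
    · subst hf; simp
    obtain ⟨c, hc⟩ := Ideal.mem_span_singleton'.mp h
    have h0 : (p : R) * ((p : R) ^ e * y - c * (p : R) ^ (f - 1)) = 0 := by
      have hf' : (p : R) ^ f = (p : R) * (p : R) ^ (f - 1) := by rw [← pow_succ', Nat.sub_add_cancel hf]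
      rw [hf', pow_succ'] at hc
      linear_combination -hc
    rw [show f - (e + 1) = f - 1 - e by omega]
    refine ih (Ideal.mem_span_singleton'.mpr ⟨c, ?_⟩)
    exact (sub_eq_zero.mp (htf _ h0)).symm

/-- coefficientwise cancellation of `p ^ u` -/
theorem coeff_mem_of_pow_mul {w : WittVector p R} {s u m : ℕ}
    (h : ∀ j < m, ((p : WittVector p R) ^ u * w).coeff j ∈ Ideal.span {(p : R) ^ s}) :
    ∀ i < m, w.coeff i ∈ Ideal.span {(p : R) ^ (s - u - m * i)} := by
  have hg : ∀ i < m, WittVector.ghostComponent i w ∈ Ideal.span {(p : R) ^ (s - u)} := fun i hi => by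
    refine mem_of_pow_mul_mem htf (e := u) ?_
    have h1 := ghost_mem h hi
    rwa [map_mul, map_pow, map_natCast] at h1
  intro i
  induction i using Nat.strong_induction_on with
  | _ i ih =>
    intro hi
    have h1 := hg i hi
    rw [ghost_eq_sum, Finset.sum_range_succ, Nat.sub_self, pow_zero, pow_one] at h1
    rcases Nat.eq_zero_or_pos i with rfl | hipos
    · simpa using h1
    set f := s - u - m * (i - 1) with hf
    have hle : ∀ {a b : ℕ}, a ≤ b → Ideal.span {(p : R) ^ b} ≤ Ideal.span {(p : R) ^ a} := fun hab =>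
      Ideal.span_singleton_le_span_singleton.mpr (pow_dvd_pow _ hab)
    have h2 : ∑ j ∈ Finset.range i, (p : R) ^ j * w.coeff j ^ p ^ (i - j) ∈ Ideal.span {(p : R) ^ f} := by
      refine Ideal.sum_mem _ fun j hj => Ideal.mul_mem_left _ _ ?_
      have hj' := Finset.mem_range.mp hj
      refine Ideal.pow_mem_of_mem _ (hle ?_ (ih j hj' (hj'.trans hi))) _ (pow_pos hp.out.pos _)
      have : m * j ≤ m * (i - 1) := Nat.mul_le_mul_left m (by omega)
      omega
    have h3 := (Submodule.add_mem_iff_right _ h2).mp (hle (show f ≤ s - u by omega) h1)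
    refine hle ?_ (mem_of_pow_mul_mem htf h3)
    have : m * i = m * (i - 1) + m := by
      rw [← Nat.mul_succ, Nat.succ_eq_add_one, Nat.sub_add_cancel hipos]
    omega

variable [IsAdicComplete (Ideal.span {(p : R)}) R]

theorem coeff_eq_of_pow_mul {x y : WittVector p R} {u m : ℕ}
    (h : ∀ j < m, ((p : WittVector p R) ^ u * x).coeff j = ((p : WittVector p R) ^ u * y).coeff j) :
    ∀ i < m, x.coeff i = y.coeff i := by
  have h0 : ∀ j < m, ((p : WittVector p R) ^ u * (x - y)).coeff j = 0 := by
    rw [mul_sub]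
    exact truncate_eq_iff_sub.mp (truncate_eq_iff.mpr h)
  have h1 : ∀ i < m, (x - y).coeff i = 0 := fun i hi => by
    refine IsHausdorff.haus (I := Ideal.span {(p : R)}) inferInstance _ fun n => ?_
    rw [SModEq.zero, smul_eq_mul, Ideal.mul_top, Ideal.span_singleton_pow]
    have := coeff_mem_of_pow_mul htf (s := n + u + m * i) (fun j hj => by rw [h0 j hj]; exact zero_mem _) i hi
    rwa [show n + u + m * i - u - m * i = n by omega] at this
  exact truncate_eq_iff.mp (truncate_eq_iff_sub.mpr h1)

theorem exists_solution (a : WittVector p R) (m u : ℕ)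
    (h : ∀ s : ℕ, ∃ z : WittVector p R, ∀ i < m,
      ((p : WittVector p R) ^ u * z - a).coeff i ∈ Ideal.span {(p : R) ^ s}) :
    ∃ x : WittVector p R, ∀ i < m, ((p : WittVector p R) ^ u * x - a).coeff i = 0 := by
  choose z hz using h
  let σ : ℕ → ℕ := fun k => k + u + m * m
  let y : ℕ → WittVector p R := fun k => z (σ k)
  have hred : ∀ s, Groth.Agent.S14855.red p R s m ((p : WittVector p R) ^ u * z s) =
      Groth.Agent.S14855.red p R s m a := by
    intro s
    rw [← sub_eq_zero, ← map_sub, ← map_zero (Groth.Agent.S14855.red p R s m)]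
    refine (Groth.Agent.S14855.red_eq_iff p R).mpr fun i hi => ?_
    rw [WittVector.zero_coeff, sub_zero, Ideal.span_singleton_pow]
    exact hz s i hi
  have hmono : ∀ {s s' : ℕ}, s ≤ s' → ∀ {x x' : WittVector p R},
      Groth.Agent.S14855.red p R s' m x = Groth.Agent.S14855.red p R s' m x' →
      Groth.Agent.S14855.red p R s m x = Groth.Agent.S14855.red p R s m x' := by
    intro s s' hs x x' hx
    refine (Groth.Agent.S14855.red_eq_iff p R).mpr fun i hi => ?_
    exact Ideal.pow_le_pow_right hs ((Groth.Agent.S14855.red_eq_iff p R).mp hx i hi)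
  have hy : ∀ {k l : ℕ}, k ≤ l → Groth.Agent.S14855.red p R k m (y l) = Groth.Agent.S14855.red p R k m (y k) := by
    intro k l hkl
    have hσ : σ k ≤ σ l := by simp only [σ]; omega
    have h1 : ∀ j < m, ((p : WittVector p R) ^ u * (y l - y k)).coeff j ∈ Ideal.span {(p : R) ^ σ k} := by
      have h2 : Groth.Agent.S14855.red p R (σ k) m ((p : WittVector p R) ^ u * (y l - y k)) =
          Groth.Agent.S14855.red p R (σ k) m 0 := by
        rw [mul_sub, map_sub, hmono hσ (hred (σ l)), hred (σ k), sub_self, map_zero]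
      intro j hj
      have := (Groth.Agent.S14855.red_eq_iff p R).mp h2 j hj
      rwa [WittVector.zero_coeff, sub_zero, Ideal.span_singleton_pow] at this
    rw [← sub_eq_zero, ← map_sub, ← map_zero (Groth.Agent.S14855.red p R k m)]
    refine (Groth.Agent.S14855.red_eq_iff p R).mpr fun i hi => ?_
    rw [WittVector.zero_coeff, sub_zero, Ideal.span_singleton_pow]
    refine Ideal.span_singleton_le_span_singleton.mpr (pow_dvd_pow _ ?_) (coeff_mem_of_pow_mul htf h1 i hi)
    have : m * i ≤ m * m := Nat.mul_le_mul_left m hi.le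
    simp only [σ]; omega
  have hlim : ∀ i, ∃ L, i < m → ∀ k, (y k).coeff i - L ∈ Ideal.span {(p : R)} ^ k := by
    intro i
    by_cases hi : i < m
    · obtain ⟨L, hL⟩ := IsPrecomplete.prec' (I := Ideal.span {(p : R)}) (fun k => (y k).coeff i)
        fun {a b} hab => by
          rw [SModEq.sub_mem, smul_eq_mul, Ideal.mul_top]
          simpa using neg_mem ((Groth.Agent.S14855.red_eq_iff p R).mp (hy hab) i hi)
      exact ⟨L, fun _ k => by simpa [SModEq.sub_mem] using hL k⟩
    · exact ⟨0, fun h => absurd h hi⟩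
  choose L hL using hlim
  refine ⟨WittVector.mk p L, fun i hi => ?_⟩
  refine IsHausdorff.haus (I := Ideal.span {(p : R)}) inferInstance _ fun n => ?_
  rw [SModEq.zero, smul_eq_mul, Ideal.mul_top]
  have h1 : Groth.Agent.S14855.red p R n m (WittVector.mk p L) = Groth.Agent.S14855.red p R n m (y n) := by
    refine (Groth.Agent.S14855.red_eq_iff p R).mpr fun j hj => ?_
    rw [WittVector.coeff_mk]
    simpa using neg_mem (hL j hj n)
  have h2 : Groth.Agent.S14855.red p R n m ((p : WittVector p R) ^ u * WittVector.mk p L - a) =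
      Groth.Agent.S14855.red p R n m 0 := by
    have h3 := hmono (show n ≤ σ n by simp only [σ]; omega) (hred (σ n))
    rw [map_mul] at h3
    rw [map_sub, map_mul, h1, h3, sub_self, map_zero]
  simpa using (Groth.Agent.S14855.red_eq_iff p R).mp h2 i hi

theorem exists_global_solution (a : WittVector p R) (u : ℕ)
    (h : ∀ m, ∃ x : WittVector p R, ∀ i < m, ((p : WittVector p R) ^ u * x - a).coeff i = 0) :
    ∃ x, (p : WittVector p R) ^ u * x = a := by
  choose x hx using h
  have htr : ∀ m, WittVector.truncate (p := p) (R := R) m ((p : WittVector p R) ^ u * x m) = WittVector.truncate m a :=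
    fun m => truncate_eq_iff_sub.mpr (hx m)
  have heq : ∀ m m', ∀ i, i < m → i < m' → (x m).coeff i = (x m').coeff i := by
    intro m m' i hi hi'
    refine coeff_eq_of_pow_mul htf (m := min m m') (u := u) (fun j hj => ?_) i (lt_min hi hi')
    exact (truncate_eq_iff.mp (htr m) j (lt_min_iff.mp hj).1).trans
      (truncate_eq_iff.mp (htr m') j (lt_min_iff.mp hj).2).symm
  refine ⟨WittVector.mk p fun i => (x (i + 1)).coeff i, ?_⟩
  ext i
  have h1 : WittVector.truncate (p := p) (R := R) (i + 1) (WittVector.mk p fun j => (x (j + 1)).coeff j) =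
      WittVector.truncate (i + 1) (x (i + 1)) := by
    ext j
    simp only [WittVector.coeff_truncate, WittVector.coeff_mk]
    exact heq _ _ _ (Nat.lt_succ_self _) j.2
  have h2 : WittVector.truncate (p := p) (R := R) (i + 1)
      ((p : WittVector p R) ^ u * WittVector.mk p fun j => (x (j + 1)).coeff j) = WittVector.truncate (i + 1) a := by
    rw [map_mul, h1, ← map_mul, htr]
  exact truncate_eq_iff.mp h2 i (Nat.lt_succ_self i)

end Groth.L01.WittTorsFree
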